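/-
Essential subgroups in metacyclic `2`-groups.
-/
import Cfsg.Agent.Lib.Fusion.Radical
import Cfsg.Agent.Lib.Fusion.Essential
import Cfsg.Agent.Lib.Fusion.Top
import Cfsg.Agent.Lib.Fusion.Inner
import Cfsg.Agent.Lib.ClassSizes.AutFrattini
import Cfsg.Agent.Lib.ClassSizes.Metacyclic
import Cfsg.Agent.Lib.Techniques.MetaAut
import Cfsg.Agent.S0112
import Cfsg.Agent.S0115
import Cfsg.Agent.S4143
import Cfsg.Agent.S4399
import Mathlib

set_option autoImplicit false

namespace Cfsg.Agent.Lib.Fusion.MetaEss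

open Cfsg Cfsg.FusionSystem Cfsg.Agent.Lib.Fusion

/-- A metacyclic `2`-extension of an abelian group. -/
theorem commutator_square {M : Type*} [Group M] [Finite M] (hM2 : IsPGroup 2 M) (hm : IsMetacyclic M)
    (P : Subgroup M) (hcomm : ∀ x ∈ P, ∀ y ∈ P, x * y = y * x) {t : M}
    (hnorm : ∀ x ∈ P, t * x * t⁻¹ ∈ P) (ht2 : t * t ∈ P)
    (hMP : ∀ g : M, g ∈ P ∨ g * t⁻¹ ∈ P)
    (H1 : ∀ x ∈ P, x * x = 1 → ∃ y ∈ P, x = y * y)
    {a : M} (ha : a ∈ P) : ∃ y ∈ P, t * a * t⁻¹ * a⁻¹ = y * y := by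
  haveI : Fact (Nat.Prime 2) := ⟨Nat.prime_two⟩
  by_contra hd
  obtain ⟨N, hNn, hNc, hMc⟩ := hm
  set d := t * a * t⁻¹ * a⁻¹ with hdd
  have hdP : d ∈ P := P.mul_mem (hnorm a ha) (P.inv_mem ha)
  have hdN : d ∈ N := by
    letI := IsCyclic.commGroup (α := M ⧸ N)
    apply (QuotientGroup.eq_one_iff d).1
    rw [hdd, QuotientGroup.mk_mul, QuotientGroup.mk_mul, QuotientGroup.mk_mul, QuotientGroup.mk_inv, QuotientGroup.mk_inv]
    exact (by
      have e : ∀ x y : M ⧸ N, x * y * x⁻¹ * y⁻¹ = 1 := fun x y => by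
        rw [mul_comm x y]
        simp
      exact e _ _)
  obtain ⟨⟨c, hcN⟩, hgen⟩ := hNc.exists_generator
  have hNz : ∀ y ∈ N, ∃ k : ℤ, y = c ^ k := by
    intro y hy
    obtain ⟨k, hk⟩ := Subgroup.mem_zpowers_iff.1 (hgen ⟨y, hy⟩)
    have h1 := congrArg Subtype.val hk
    refine ⟨k, ?_⟩
    rw [← show ((⟨c, hcN⟩ : N) ^ k : N).1 = y from h1]
    simp
  obtain ⟨k, hk⟩ := hNz d hdN
  by_cases hcP : c ∈ P
  · -- `N` lies in the Frattini subgroup
    rcases Int.even_or_odd' k with ⟨m, rfl | rfl⟩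
    · refine hd ⟨c ^ m, P.zpow_mem hcP m, ?_⟩
      rw [hk, ← zpow_add, two_mul]
    · have hc1 : c ∈ frattini M := by
        have e : c = d * ((c ^ (-m)) * (c ^ (-m))) := by
          rw [hk, ← zpow_add, ← zpow_add]
          have : 2 * m + 1 + (-m + -m) = 1 := by ring
          rw [this, zpow_one]
        rw [e]
        refine Subgroup.mul_mem _ ?_ (Cfsg.Agent.Lib.Techniques.MetaAut.sq_mem_frattini hM2 _)
        apply (Cfsg.Agent.Lib.Core.frattini_pgroup 2 hM2).1
        exact Subgroup.commutator_mem_commutator (Subgroup.mem_top t) (Subgroup.mem_top a)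
      have hNF : N ≤ frattini M := by
        intro y hy
        obtain ⟨j, rfl⟩ := hNz y hy
        exact Subgroup.zpow_mem _ hc1 j
      obtain ⟨⟨g⟩, hg⟩ := hMc.exists_generator
      have htop : Subgroup.zpowers g = ⊤ := by
        apply frattini_nongenerating
        rw [eq_top_iff]
        intro x _
        obtain ⟨j, hj⟩ := Subgroup.mem_zpowers_iff.1 (hg (x : M ⧸ N))
        have hj' : ((g ^ j : M) : M ⧸ N) = x := by
          rw [QuotientGroup.mk_zpow]
          exact hj
        have hx : (g ^ j)⁻¹ * x ∈ N := QuotientGroup.eq.1 hj'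
        have e : x = g ^ j * ((g ^ j)⁻¹ * x) := by group
        rw [e]
        exact Subgroup.mul_mem_sup (Subgroup.zpow_mem_zpowers _ _) (hNF hx)
      have hcyc : ∀ x y : M, x * y = y * x := by
        intro x y
        have hx : x ∈ Subgroup.zpowers g := by rw [htop]; trivial
        have hy : y ∈ Subgroup.zpowers g := by rw [htop]; trivial
        obtain ⟨i, rfl⟩ := Subgroup.mem_zpowers_iff.1 hx
        obtain ⟨j, rfl⟩ := Subgroup.mem_zpowers_iff.1 hy
        rw [← zpow_add, ← zpow_add, add_comm]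
      refine hd ⟨1, P.one_mem, ?_⟩
      rw [hdd, hcyc t a]
      group
  · -- the generator acts as `t`
    have hx := (hMP c).resolve_left hcP
    set x := c * t⁻¹ with hxd
    have hcx : c = x * t := by rw [hxd]; group
    have hact : ∀ y ∈ P, c * y * c⁻¹ = t * y * t⁻¹ := by
      intro y hy
      have h1 := hcomm _ hx _ (hnorm y hy)
      calc c * y * c⁻¹ = x * (t * y * t⁻¹) * x⁻¹ := by rw [hcx]; group
        _ = t * y * t⁻¹ * x * x⁻¹ := by rw [h1]
        _ = t * y * t⁻¹ := by group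
    have hcc : c * c ∈ P := by
      have e : c * c = x * (t * x * t⁻¹) * (t * t) := by rw [hcx]; group
      rw [e]
      exact P.mul_mem (P.mul_mem hx (hnorm x hx)) ht2
    -- the exponent is even
    have hdev : ∃ m : ℤ, d = (c * c) ^ m := by
      rcases Int.even_or_odd' k with ⟨m, rfl | rfl⟩
      · refine ⟨m, ?_⟩
        have e : c * c = c ^ (2 : ℤ) := by rw [zpow_two]
        rw [hk, e, zpow_mul]
      · exfalso
        apply hcP
        have e : c = ((c * c) ^ m)⁻¹ * d := by
          have e2 : c * c = c ^ (2 : ℤ) := by rw [zpow_two]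
          rw [hk, e2, ← zpow_mul, ← zpow_neg, ← zpow_add]
          have : -(2 * m) + (2 * m + 1) = 1 := by ring
          rw [this, zpow_one]
        rw [e]
        exact P.mul_mem (P.inv_mem (P.zpow_mem hcc m)) hdP
    obtain ⟨m, hm⟩ := hdev
    have h1 : t * d * t⁻¹ = d := by
      rw [← hact d hdP]
      have e2 : c * c = c ^ (2 : ℤ) := by rw [zpow_two]
      rw [hm, e2, ← zpow_mul]
      group
    have h2 : t * d * t⁻¹ = d⁻¹ := by
      have h3 := hcomm _ ht2 _ ha
      have e3 : t * d * t⁻¹ = (t * t) * a * (t * t)⁻¹ * (t * a⁻¹ * t⁻¹) := by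
        rw [hdd]; group
      rw [e3, h3]
      rw [hdd]; group
    have h3 : d * d = 1 := by
      have : d = d⁻¹ := h1.symm.trans h2
      calc d * d = d * d⁻¹ := by rw [← this]
        _ = 1 := by group
    exact hd (H1 d hdP h3)

/-- Elements of an abstract homocyclic group. -/
theorem homocyclic_inv {n : ℕ} (hn : 2 ≤ n) (u : Multiplicative (ZMod (2 ^ n))) (hu : u * u = 1) :
    ∃ v, u = v * v := by
  haveI : NeZero (2 ^ n) := ⟨by positivity⟩
  set w : ZMod (2 ^ n) := Multiplicative.toAdd u with hw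
  have h1 : w + w = 0 := by
    have := congrArg Multiplicative.toAdd hu
    simpa using this
  have h2 : ((2 * w.val : ℕ) : ZMod (2 ^ n)) = 0 := by
    push_cast
    rw [ZMod.natCast_val, ZMod.cast_id', id, two_mul, h1]
  have h3 : 2 ^ n ∣ 2 * w.val := (ZMod.natCast_eq_zero_iff _ _).1 h2
  have h4 : 2 ∣ w.val := by
    obtain ⟨q, hq⟩ := h3
    refine ⟨2 ^ (n - 2) * q, ?_⟩
    have e : 2 ^ n = 2 * (2 * 2 ^ (n - 2)) := by
      conv_lhs => rw [show n = (n - 2) + 2 by omega]
      ring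
    generalize w.val = v at hq ⊢
    rw [e] at hq
    nlinarith
  obtain ⟨m, hm⟩ := h4
  refine ⟨Multiplicative.ofAdd (m : ZMod (2 ^ n)), ?_⟩
  apply Multiplicative.toAdd.injective
  show w = (m : ZMod (2 ^ n)) + (m : ZMod (2 ^ n))
  rw [← ZMod.natCast_zmod_val w, hm]
  push_cast
  ring

/-- Involutions of homocyclic groups of exponent at least `4` are squares. -/
theorem homocyclic_prod_inv {n : ℕ} (hn : 2 ≤ n) (u : Multiplicative (ZMod (2 ^ n)) × Multiplicative (ZMod (2 ^ n)))
    (hu : u * u = 1) : ∃ v, u = v * v := by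
  obtain ⟨v1, h1⟩ := homocyclic_inv hn u.1 (congrArg Prod.fst hu)
  obtain ⟨v2, h2⟩ := homocyclic_inv hn u.2 (congrArg Prod.snd hu)
  exact ⟨(v1, v2), Prod.ext h1 h2⟩

variable {Ω : Type*} [Group Ω] {S : Subgroup Ω} {F : FusionSystem S} {p : ℕ} [Fact p.Prime]

/-- A radical subgroup: an `F`-automorphism acting trivially on the Frattini quotient is inner. -/
theorem mem_inn_of_frattini [Finite S] (hS : IsPGroup p S) {P : Subgroup Ω} (hR : F.IsRadical p P) {α : MulAut P}
    (hα : α ∈ F.autGroup P) (hfr : ∀ x : P, α x * x⁻¹ ∈ frattini P) : α ∈ Inn P := by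
  have hp := (Fact.out : p.Prime)
  have hPS := hR.1
  have := finite_of_le hPS
  have := finite_autGroup F hPS
  have hPp : IsPGroup p P := hS.to_le hPS
  -- the trivial action on the Frattini quotient
  let K₀ : Subgroup (MulAut P) :=
    { carrier := {β | ∀ x : P, β x * x⁻¹ ∈ frattini P}
      one_mem' := fun x => by simp [Subgroup.one_mem]
      mul_mem' := fun {β γ} hβ hγ x => by
        have e : (β * γ) x * x⁻¹ = (β (γ x) * (γ x)⁻¹) * (γ x * x⁻¹) := by
          simp [MulAut.mul_apply]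
        rw [e]
        exact Subgroup.mul_mem _ (hβ _) (hγ _)
      inv_mem' := fun {β} hβ x => by
        have e : β⁻¹ x * x⁻¹ = (β (β⁻¹ x) * (β⁻¹ x)⁻¹)⁻¹ := by
          simp
        rw [e]
        exact Subgroup.inv_mem _ (hβ _) }
  let K : Subgroup (F.autGroup P) := K₀.subgroupOf (F.autGroup P)
  have hKn : K.Normal := by
    refine ⟨fun κ hκ γ => ?_⟩
    refine Subgroup.mem_subgroupOf.2 fun x => ?_
    have h1 : (κ : MulAut P) ((γ : MulAut P)⁻¹ x) * ((γ : MulAut P)⁻¹ x)⁻¹ ∈ frattini P := Subgroup.mem_subgroupOf.1 hκ _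
    have h2 := (Subgroup.characteristic_iff_le_comap.mp (inferInstance : (frattini P).Characteristic) (γ : MulAut P)) h1
    have e : (((γ * κ * γ⁻¹ : F.autGroup P) : MulAut P) x) * x⁻¹ =
        (γ : MulAut P) ((κ : MulAut P) ((γ : MulAut P)⁻¹ x) * ((γ : MulAut P)⁻¹ x)⁻¹) := by
      simp [MulAut.mul_apply]
    rw [e]
    exact h2
  have hKp : IsPGroup p K := by
    obtain ⟨n, hn⟩ := IsPGroup.iff_card.1 hPp
    obtain ⟨r, hr⟩ : ∃ r, (frattini P).index = p ^ r := by
      have h1 : (frattini P).index ∣ p ^ n := by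
        rw [← hn]
        exact Subgroup.index_dvd_card _
      obtain ⟨r, -, hr⟩ := (Nat.dvd_prime_pow hp).1 h1
      exact ⟨r, hr⟩
    have h2 := Cfsg.Agent.Lib.ClassSizes.AutFrattini.card_dvd_of_trivial_on_frattini hn hr K₀ (fun β hβ x => hβ x)
    have h3 : IsPGroup p K₀ := by
      obtain ⟨e, -, he⟩ := (Nat.dvd_prime_pow hp).1 h2
      exact IsPGroup.of_card he
    intro x
    obtain ⟨k, hk⟩ := h3 ⟨x.1.1, x.2⟩
    have h4 : ((x.1 : F.autGroup P) : MulAut P) ^ p ^ k = 1 := congrArg Subtype.val hk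
    exact ⟨k, Subtype.ext (Subtype.ext h4)⟩
  have h1 : (⟨α, hα⟩ : F.autGroup P) ∈ K := Subgroup.mem_subgroupOf.2 hfr
  have h2 := Cfsg.Agent.Lib.Core.le_pCore hKn hKp h1
  rw [← hR.2]
  exact ⟨_, h2, rfl⟩

/-- Groups of maximal class are dihedral, semidihedral or quaternion. -/
theorem false_of_maxClass {X : Type*} [Group X] [Finite X] (n : ℕ) (hn : 3 ≤ n) (hX : Nat.card X = 2 ^ n)
    (hcl : Group.nilpotencyClass X = n - 1) (hd : ¬ ∃ m : ℕ, Nonempty (X ≃* DihedralGroup m))
    (hq : ¬ ∃ m : ℕ, Nonempty (X ≃* QuaternionGroup m)) (hsd : ¬ IsQuasiDihedral X) : False := by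
  have hK := (Cfsg.Agent.S0115.result n hn hX).1 hcl
  have hX2 : IsPGroup 2 X := IsPGroup.of_card hX
  have hcard : Nat.card (Abelianization X) = 4 := hK.card_four
  have hexp : ∀ x : Abelianization X, x ^ 2 = 1 := fun x => by
    have := Monoid.pow_exponent_eq_one (G := X ⧸ commutator X) x
    rwa [hK.exponent_two] at this
  rcases Cfsg.Agent.S4399.result hX2 hcard hexp with h | (⟨k, ⟨e⟩⟩ | ⟨k, hc, a, b, ha, hb, hab⟩ | ⟨k, ⟨e⟩⟩)
  · rw [hX] at h
    have : 2 ^ 3 ≤ 2 ^ n := Nat.pow_le_pow_right (by norm_num) hn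
    omega
  · exact hd ⟨_, ⟨e⟩⟩
  · refine hsd ⟨k + 3, by omega, ?_, a, b, ha, hb, ?_⟩
    · rw [hc]
    · simpa using hab
  · exact hq ⟨_, ⟨e⟩⟩

/-- The square of an element outside a subgroup, in a `p`-group, lands in it eventually. -/
theorem exists_sq_mem {G : Type*} [Group G] {P : Subgroup G} {t₀ : G} (ht₀ : t₀ ∉ P) {e : ℕ} (he : t₀ ^ 2 ^ e = 1) :
    ∃ k : ℕ, t₀ ^ 2 ^ k ∉ P ∧ t₀ ^ 2 ^ k * t₀ ^ 2 ^ k ∈ P := by
  classical
  have hex : ∃ k, t₀ ^ 2 ^ k ∈ P := ⟨e, by rw [he]; exact P.one_mem⟩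
  have h0 : Nat.find hex ≠ 0 := by
    intro h
    have := Nat.find_spec hex
    rw [h] at this
    simp at this
    exact ht₀ this
  obtain ⟨k, hk⟩ := Nat.exists_eq_succ_of_ne_zero h0
  refine ⟨k, Nat.find_min hex (by omega), ?_⟩
  have := Nat.find_spec hex
  rw [hk, pow_succ, pow_mul, pow_two] at this
  exact this

/-- The iso between two forms of the homocyclic rank two groups. -/
def homoIso (n : ℕ) : Multiplicative (ZMod (2 ^ n)) × Multiplicative (ZMod (2 ^ n)) ≃* Multiplicative (Fin 2 → ZMod (2 ^ n)) where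
  toFun u := Multiplicative.ofAdd ![Multiplicative.toAdd u.1, Multiplicative.toAdd u.2]
  invFun f := (Multiplicative.ofAdd (Multiplicative.toAdd f 0), Multiplicative.ofAdd (Multiplicative.toAdd f 1))
  left_inv u := by
    simp
  right_inv f := by
    apply Multiplicative.toAdd.injective
    funext i
    fin_cases i <;> simp
  map_mul' u v := by
    apply Multiplicative.toAdd.injective
    funext i
    fin_cases i <;> simp

/-- The subgroup `P ∪ Pt`. -/
def extSub (P : Subgroup Ω) {t : Ω} (hnorm : t ∈ Subgroup.normalizer (P : Set Ω)) (ht2 : t * t ∈ P) : Subgroup Ω where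
  carrier := {g | g ∈ P ∨ g * t⁻¹ ∈ P}
  one_mem' := Or.inl P.one_mem
  mul_mem' := by
    have hn : ∀ x ∈ P, t * x * t⁻¹ ∈ P := fun x hx => (Subgroup.mem_normalizer_iff.1 hnorm x).1 hx
    rintro g h (hg | hg) (hh | hh)
    · exact Or.inl (P.mul_mem hg hh)
    · right
      rw [mul_assoc]
      exact P.mul_mem hg hh
    · right
      have e : g * h * t⁻¹ = (g * t⁻¹) * (t * h * t⁻¹) := by group
      rw [e]
      exact P.mul_mem hg (hn _ hh)
    · left
      have e : g * h = (g * t⁻¹) * (t * (h * t⁻¹) * t⁻¹) * (t * t) := by group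
      rw [e]
      exact P.mul_mem (P.mul_mem hg (hn _ hh)) ht2
  inv_mem' := by
    have hn : ∀ x ∈ P, t⁻¹ * x * t ∈ P := fun x hx => by
      have h1 := (Subgroup.mem_normalizer_iff.1 hnorm (t⁻¹ * x * t)).2
      apply h1
      have e : t * (t⁻¹ * x * t) * t⁻¹ = x := by group
      rw [e]
      exact hx
    rintro g (hg | hg)
    · exact Or.inl (P.inv_mem hg)
    · right
      have e : g⁻¹ * t⁻¹ = (t⁻¹ * (g * t⁻¹)⁻¹ * t) * (t * t)⁻¹ := by group
      rw [e]
      exact P.mul_mem (hn _ (P.inv_mem hg)) (P.inv_mem ht2)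

/-- No essential subgroups in a metacyclic `2`-group outside the exceptions. -/
theorem false_of_essential_meta [Finite S] (hS : IsPGroup 2 S) (hF : F.IsSaturated 2) (hm : IsMetacyclic S)
    (hd : ¬ ∃ m : ℕ, Nonempty (↥S ≃* DihedralGroup m)) (hq : ¬ ∃ m : ℕ, Nonempty (↥S ≃* QuaternionGroup m))
    (hsd : ¬ IsQuasiDihedral ↥S) {P : Subgroup Ω} (he : F.IsEssential 2 P) (hPS : P < S) : False := by
  haveI : Fact (Nat.Prime 2) := ⟨Nat.prime_two⟩
  have hPle := hPS.le
  have := finite_of_le hPle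
  have := finite_autGroup F hPle
  have hc : centralizerIn S P ≤ P := he.1.2 P (IsConj.refl (F := F) hPle)
  have hR : F.IsRadical 2 P := isRadical_of_essential hS he
  have hP2 : IsPGroup 2 P := hS.to_le hPle
  have hPm : IsMetacyclic P := Cfsg.Agent.Lib.ClassSizes.Metacyclic.isMetacyclic_of_equiv
    (Subgroup.subgroupOfEquivOfLe hPle) (Cfsg.Agent.Lib.ClassSizes.Metacyclic.isMetacyclic_subgroup hm (P.subgroupOf S))
  obtain ⟨t₀, ht₀N, ht₀P⟩ := SetLike.exists_of_lt (lt_normalizerIn hS hPS)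
  have ht₀S := (mem_normalizerIn.1 ht₀N).1
  have ht₀n := (mem_normalizerIn.1 ht₀N).2
  have hnotP : ¬ IsPGroup 2 (MulAut P) := by
    intro h2
    have hA : IsPGroup 2 (F.autGroup P) := h2.to_subgroup _
    have h1 : conjAut P t₀ ht₀n ∈ F.autGroup P :=
      autInducedBy_le_autGroup F hPle (conjAut_mem ht₀S ht₀n)
    have h3 : (⟨conjAut P t₀ ht₀n, h1⟩ : F.autGroup P) ∈ Cfsg.pCore 2 (F.autGroup P) :=
      Cfsg.Agent.Lib.Core.le_pCore (N := ⊤) inferInstance (by
        intro x
        obtain ⟨k, hk⟩ := hA x.1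
        have h5 := congrArg Subtype.val hk
        exact ⟨k, Subtype.ext (Subtype.ext h5)⟩) (Subgroup.mem_top _)
    have h4 : conjAut P t₀ ht₀n ∈ Inn P := by
      rw [← hR.2]
      exact ⟨_, h3, rfl⟩
    exact conjAut_not_mem_inn hc ht₀S ht₀n ht₀P hPle h4
  obtain ⟨m, hcardS⟩ := IsPGroup.iff_card.1 hS
  have hcardP : ∀ j, Nat.card P = 2 ^ j → j < m := by
    intro j hj
    have h1 : Nat.card P < Nat.card S := card_lt_of_lt le_rfl hPS
    rw [hj, hcardS] at h1
    exact (Nat.pow_lt_pow_iff_right (by norm_num)).1 h1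
  have hBcard : Nat.card (P.subgroupOf S) = Nat.card P := Nat.card_congr (Subgroup.subgroupOfEquivOfLe hPle).toEquiv
  have hcent : Subgroup.centralizer ((P.subgroupOf S : Subgroup S) : Set S) ≤ P.subgroupOf S := by
    intro x hx
    refine Subgroup.mem_subgroupOf.2 (hc (mem_centralizerIn.2 ⟨x.2, fun y hy => ?_⟩))
    have := Subgroup.mem_centralizer_iff.1 hx ⟨y, hPle hy⟩ (Subgroup.mem_subgroupOf.2 hy)
    exact congrArg Subtype.val this
  rcases Cfsg.Agent.Lib.Techniques.MetaAut.main_meta hP2 hPm hnotP with ⟨⟨e⟩⟩ | ⟨n, ⟨e⟩⟩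
  · -- the quaternion case
    have hcard8 : Nat.card P = 2 ^ 3 := by
      rw [Nat.card_congr e.toEquiv, Nat.card_eq_fintype_card, QuaternionGroup.card]
      norm_num
    have hna : ¬ IsMulCommutative (P.subgroupOf S) := by
      intro hcomm
      have h1 : ∀ x y : QuaternionGroup 2, x * y = y * x := by
        intro x y
        have e1 := (Subgroup.subgroupOfEquivOfLe hPle).trans e
        apply e1.symm.injective
        rw [map_mul, map_mul]
        exact hcomm.is_comm.comm _ _
      exact absurd (h1 (QuaternionGroup.a 1) (QuaternionGroup.xa 0)) (by decide)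
    have hcl := Cfsg.Agent.S4143.result m hcardS (P.subgroupOf S) (by rw [hBcard, hcard8]) hna hcent
    exact false_of_maxClass m (by have := hcardP 3 hcard8; omega) hcardS hcl hd hq hsd
  · have hcommP : ∀ x y : P, x * y = y * x := by
      intro x y
      apply e.injective
      rw [map_mul, map_mul, mul_comm]
    have hcardn : Nat.card P = 2 ^ (2 * n) := by
      have h : Nat.card (Multiplicative (ZMod (2 ^ n))) = 2 ^ n := by
        rw [Nat.card_congr Multiplicative.toAdd, Nat.card_zmod]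
      rw [Nat.card_congr e.toEquiv, Nat.card_prod, h, two_mul, pow_add]
    rcases Nat.lt_or_ge n 2 with hn | hn
    · interval_cases n
      · -- the trivial case
        have hbot : P = ⊥ := Subgroup.eq_bot_of_card_eq _ (by rw [hcardn]; norm_num)
        apply ht₀P
        apply hc
        refine mem_centralizerIn.2 ⟨ht₀S, fun y hy => ?_⟩
        rw [hbot, Subgroup.mem_bot] at hy
        rw [hy]
        simp
      · -- the Klein case
        have hcent' : Subgroup.centralizer ((P.subgroupOf S : Subgroup S) : Set S) = P.subgroupOf S := by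
          refine le_antisymm hcent fun x hx => Subgroup.mem_centralizer_iff.2 fun y hy => ?_
          apply Subtype.ext
          have h3 := congrArg Subtype.val (hcommP ⟨y.1, Subgroup.mem_subgroupOf.1 hy⟩ ⟨x.1, Subgroup.mem_subgroupOf.1 hx⟩)
          exact h3
        have hcl := Cfsg.Agent.S0112.result m hcardS (P.subgroupOf S) (by rw [hBcard, hcardn]) hcent'
        exact false_of_maxClass m (by have := hcardP 2 (by rw [hcardn]); omega) hcardS hcl hd hq hsd
    · -- the homocyclic case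
      obtain ⟨e₀, he₀⟩ : ∃ e₀ : ℕ, t₀ ^ 2 ^ e₀ = 1 := by
        obtain ⟨k, hk⟩ := hS ⟨t₀, ht₀S⟩
        exact ⟨k, congrArg Subtype.val hk⟩
      obtain ⟨k, htP, ht2⟩ := exists_sq_mem ht₀P he₀
      set t := t₀ ^ 2 ^ k with htd
      have htS : t ∈ S := S.pow_mem ht₀S _
      have htn : t ∈ Subgroup.normalizer (P : Set Ω) := Subgroup.pow_mem _ ht₀n _
      have htnot := conjAut_not_mem_inn hc htS htn htP hPle
      have h1 : conjAut P t htn ∈ F.autGroup P := autInducedBy_le_autGroup F hPle (conjAut_mem htS htn)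
      have hex : ∃ a : P, conjAut P t htn a * a⁻¹ ∉ frattini P := by
        by_contra hno
        push Not at hno
        exact htnot (mem_inn_of_frattini hS hR h1 hno)
      obtain ⟨a, ha⟩ := hex
      -- the group `M`
      set M := extSub P htn ht2 with hMd
      have hMS : M ≤ S := by
        rintro g (hg | hg)
        · exact hPle hg
        · have e1 : g = (g * t⁻¹) * t := by group
          rw [e1]
          exact S.mul_mem (hPle hg) htS
      have := finite_of_le hMS
      have hPM : P ≤ M := fun x hx => Or.inl hx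
      have htM : t ∈ M := Or.inr (by simp [P.one_mem])
      have hM2 : IsPGroup 2 M := hS.to_le hMS
      have hMm : IsMetacyclic M := Cfsg.Agent.Lib.ClassSizes.Metacyclic.isMetacyclic_of_equiv
        (Subgroup.subgroupOfEquivOfLe hMS) (Cfsg.Agent.Lib.ClassSizes.Metacyclic.isMetacyclic_subgroup hm (M.subgroupOf S))
      have hres := commutator_square (M := M) hM2 hMm (P.subgroupOf M) (t := ⟨t, htM⟩)
        (fun x hx y hy => by
          apply Subtype.ext
          have h3 := congrArg Subtype.val (hcommP ⟨x.1, Subgroup.mem_subgroupOf.1 hx⟩ ⟨y.1, Subgroup.mem_subgroupOf.1 hy⟩)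
          exact h3)
        (fun x hx => Subgroup.mem_subgroupOf.2 ((Subgroup.mem_normalizer_iff.1 htn x.1).1 (Subgroup.mem_subgroupOf.1 hx)))
        (Subgroup.mem_subgroupOf.2 ht2)
        (fun g => g.2.imp (fun h => Subgroup.mem_subgroupOf.2 h) (fun h => Subgroup.mem_subgroupOf.2 h))
        (fun x hx hxx => by
          have hxP := Subgroup.mem_subgroupOf.1 hx
          have h2 : (⟨x.1, hxP⟩ : P) * ⟨x.1, hxP⟩ = 1 := by
            apply Subtype.ext
            have h4 := congrArg Subtype.val hxx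
            exact h4
          obtain ⟨v, hv⟩ := homocyclic_prod_inv hn (e ⟨x.1, hxP⟩) (by rw [← map_mul, h2, map_one])
          have h3 : (⟨x.1, hxP⟩ : P) = e.symm v * e.symm v := by
            apply e.injective
            rw [map_mul, e.apply_symm_apply, hv]
          refine ⟨⟨(e.symm v : P).1, hPM (e.symm v : P).2⟩, Subgroup.mem_subgroupOf.2 (e.symm v : P).2, ?_⟩
          apply Subtype.ext
          have h4 := congrArg Subtype.val h3
          exact h4)
        (a := ⟨a.1, hPM a.2⟩) (Subgroup.mem_subgroupOf.2 a.2)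
      obtain ⟨y, hy, hyy⟩ := hres
      have hyP := Subgroup.mem_subgroupOf.1 hy
      apply ha
      have e2 : conjAut P t htn a * a⁻¹ = (⟨y.1, hyP⟩ : P) * ⟨y.1, hyP⟩ := by
        apply Subtype.ext
        have h4 := congrArg Subtype.val hyy
        exact h4
      rw [e2]
      exact Cfsg.Agent.Lib.Techniques.MetaAut.sq_mem_frattini hP2 _

/-- **Metacyclic `2`-groups are resistant outside the standard exceptions.** -/
theorem eq_inner_of_metacyclic [Finite S] (hS : IsPGroup 2 S) (hF : F.IsSaturated 2) (hm : IsMetacyclic S)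
    (hh : ¬ ∃ n k : ℕ, Nonempty (↥S ≃* Multiplicative (Fin k → ZMod (2 ^ n))))
    (hd : ¬ ∃ m : ℕ, Nonempty (↥S ≃* DihedralGroup m)) (hq : ¬ ∃ m : ℕ, Nonempty (↥S ≃* QuaternionGroup m))
    (hsd : ¬ IsQuasiDihedral ↥S) : F = innerFusionSystem S := by
  haveI : Fact (Nat.Prime 2) := ⟨Nat.prime_two⟩
  refine fusion_antisymm (alperin hS hF _ fun P hP => ?_) (inner_le F)
  by_cases hPS : P = S
  · subst hPS
    rw [autGroup_inner le_rfl]
    intro α hα
    have hnotP : IsPGroup 2 (MulAut P) := by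
      by_contra h2
      rcases Cfsg.Agent.Lib.Techniques.MetaAut.main_meta hS hm h2 with ⟨⟨e⟩⟩ | ⟨n, ⟨e⟩⟩
      · exact hq ⟨2, ⟨e⟩⟩
      · exact hh ⟨n, 2, ⟨e.trans (homoIso n)⟩⟩
    have hfa := IsSat.fullyAutomized_of_fullyNormalized hS hF (isFullyNormalized_top (F := F))
    exact mem_of_isSylowIn_of_isPGroup hfa.2 (hnotP.to_subgroup _) hα
  · have he := hP.resolve_left hPS
    exact (false_of_essential_meta hS hF hm hd hq hsd he (lt_of_le_of_ne he.1.1 hPS)).elim

end Cfsg.Agent.Lib.Fusion.MetaEss
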