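import Cfsg.Agent.Lib.Fusion.Chains
import Cfsg.Agent.Lib.Fusion.Framework
import Cfsg.Agent.Lib.Fusion.Stable
import Cfsg.Agent.Lib.Transfer.Critical2
import Mathlib

/-!
# Inverting automorphisms on elementary abelian groups of rank two
-/

set_option autoImplicit false

namespace Cfsg.Agent.Lib.Fusion

open Cfsg Cfsg.FusionSystem
open scoped commutatorElement

/-- A `p`-group with an automorphism inverting all elements of order `p` (`p` odd) is abelian. -/
theorem abelian_of_inversion {p : ℕ} [Fact p.Prime] (hp : p ≠ 2) {T : Type*} [Group T] [Finite T] (hT : IsPGroup p T)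
    (β : MulAut T) (hβ : ∀ u : T, u ^ p = 1 → β u = u⁻¹) : ∀ a b : T, a * b = b * a := by
  classical
  have hpp : p.Prime := Fact.out
  have hodd : Odd p := hpp.odd_of_ne_two hp
  have : Finite (MulAut T) := inferInstance
  let a := (orderOf β).factorization p
  let γ := β ^ (p ^ a)
  have hpowodd : Odd (p ^ a) := hodd.pow
  have hγ : ∀ u : T, u ^ p = 1 → γ u = u⁻¹ := by
    intro u hu
    have h1 : ∀ k : ℕ, (β ^ k) u = if Even k then u else u⁻¹ := by
      intro k
      induction k with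
      | zero => simp
      | succ k ih =>
        rw [pow_succ', MulAut.mul_apply, ih]
        have hui : u⁻¹ ^ p = 1 := by simp [hu]
        by_cases hk : Even k
        · simp only [hk, if_true]
          rw [hβ u hu]
          simp [Nat.even_add_one, hk]
        · simp only [hk, if_false]
          rw [hβ _ hui]
          simp [Nat.even_add_one, hk]
    rw [show γ = β ^ (p ^ a) from rfl, h1]
    simp [Nat.not_even_iff_odd.2 hpowodd]
  have hord : orderOf β ≠ 0 := (orderOf_pos β).ne'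
  have hco : (orderOf γ).Coprime p := by
    have h1 : γ ^ ordCompl[p] (orderOf β) = 1 := by
      rw [show γ = β ^ (p ^ a) from rfl, ← pow_mul]
      apply orderOf_dvd_iff_pow_eq_one.1
      exact (Nat.ordProj_mul_ordCompl_eq_self (orderOf β) p).symm.dvd
    have h3 := orderOf_dvd_of_pow_eq_one h1
    exact Nat.Coprime.coprime_dvd_left h3 (Nat.coprime_ordCompl hpp hord).symm
  have hco2 : (orderOf (γ ^ 2)).Coprime p :=
    Nat.Coprime.coprime_dvd_left (orderOf_pow_dvd _) hco
  have hsq : γ ^ 2 = 1 := by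
    apply Cfsg.Agent.Lib.Transfer.eq_one_of_fix_omega hp hT _ hco2
    intro u hu
    have hui : u⁻¹ ^ p = 1 := by simp [hu]
    rw [pow_two, MulAut.mul_apply, hγ u hu, hγ _ hui, inv_inv]
  have hsq' : ∀ x : T, γ (γ x) = x := fun x => by
    have := congrArg (fun f : MulAut T => f x) hsq
    simpa [pow_two, MulAut.mul_apply] using this
  have hfix : ∀ x : T, γ x = x → x = 1 := by
    intro x hx
    by_contra hne
    obtain ⟨k, hk⟩ := IsPGroup.iff_orderOf.1 hT x
    have hk0 : k ≠ 0 := by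
      rintro rfl
      exact hne (orderOf_eq_one_iff.1 (by simpa using hk))
    obtain ⟨j, rfl⟩ := Nat.exists_eq_succ_of_ne_zero hk0
    let u := x ^ (p ^ j)
    have hu : u ^ p = 1 := by
      rw [show u = x ^ (p ^ j) from rfl, ← pow_mul, ← pow_succ, ← hk]
      exact pow_orderOf_eq_one x
    have hune : u ≠ 1 := by
      intro h
      have := orderOf_dvd_of_pow_eq_one h
      rw [hk] at this
      have := (Nat.pow_dvd_pow_iff_le_right hpp.one_lt).1 this
      omega
    have h1 : γ u = u := by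
      rw [show u = x ^ (p ^ j) from rfl, map_pow, hx]
    have h2 := hγ u hu
    rw [h1] at h2
    have h3 : u ^ 2 = 1 := by
      rw [pow_two]
      nth_rewrite 1 [h2]
      simp
    have h4 : u ^ (Nat.gcd 2 p) = 1 := pow_gcd_eq_one.2 ⟨h3, hu⟩
    have h5 : Nat.gcd 2 p = 1 := by
      rw [Nat.coprime_primes Nat.prime_two hpp |>.2 (Ne.symm hp)]
    rw [h5, pow_one] at h4
    exact hune h4
  let f : T → T := fun x => x⁻¹ * γ x
  have hinj : Function.Injective f := by
    intro a b hab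
    have h1 : a⁻¹ * γ a = b⁻¹ * γ b := hab
    have h2 : γ (b * a⁻¹) = b * a⁻¹ := by
      rw [map_mul, map_inv]
      have : γ b = b * (a⁻¹ * γ a) := by
        rw [h1]
        group
      rw [this]
      group
    have h3 := hfix _ h2
    have := mul_inv_eq_one.1 h3
    exact this.symm
  have hsurj : Function.Surjective f := Finite.injective_iff_surjective.1 hinj
  have hinv : ∀ u : T, γ u = u⁻¹ := by
    intro u
    obtain ⟨x, rfl⟩ := hsurj u
    simp only [f, map_mul, map_inv, hsq', mul_inv_rev, inv_inv]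
  intro a b
  have h1 : γ (b * a) = (b * a)⁻¹ := hinv _
  rw [map_mul, hinv, hinv] at h1
  have h2 : (a * b)⁻¹ = (b * a)⁻¹ := by
    rw [mul_inv_rev]
    exact h1
  exact inv_injective h2

/-- Two transvections produce the inversion. -/
theorem exists_inversion {p : ℕ} [Fact p.Prime] {E : Type*} [Group E] (hcomm : ∀ a b : E, a * b = b * a)
    (hpow : ∀ u : E, u ^ p = 1) (A : Subgroup (MulAut E)) {t s : MulAut E} (ht : t ∈ A) (hs : s ∈ A) (r y : E) {a b : ℕ}
    (ha : ¬ p ∣ a) (hb : ¬ p ∣ b) (ht1 : t r = r) (ht2 : t y = y * r ^ a) (hs1 : s y = y) (hs2 : s r = r * y ^ b) :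
    ∃ i ∈ A, i r = r⁻¹ ∧ i y = y⁻¹ := by
  have hpp : p.Prime := Fact.out
  have h1t : ∀ m : ℕ, (t ^ m) r = r := by
    intro m
    induction m with
    | zero => simp
    | succ m ih => rw [pow_succ', MulAut.mul_apply, ih, ht1]
  have h2t : ∀ m : ℕ, (t ^ m) y = y * r ^ (a * m) := by
    intro m
    induction m with
    | zero => simp
    | succ m ih =>
      rw [pow_succ', MulAut.mul_apply, ih, map_mul, ht2, map_pow, ht1, mul_assoc, ← pow_add]
      congr 2
      ring
  have h1s : ∀ m : ℕ, (s ^ m) y = y := by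
    intro m
    induction m with
    | zero => simp
    | succ m ih => rw [pow_succ', MulAut.mul_apply, ih, hs1]
  have h2s : ∀ m : ℕ, (s ^ m) r = r * y ^ (b * m) := by
    intro m
    induction m with
    | zero => simp
    | succ m ih =>
      rw [pow_succ', MulAut.mul_apply, ih, map_mul, hs2, map_pow, hs1, mul_assoc, ← pow_add]
      congr 2
      ring
  have hac : Nat.Coprime a p := ((Nat.Prime.coprime_iff_not_dvd hpp).2 ha).symm
  have hbc : Nat.Coprime b p := ((Nat.Prime.coprime_iff_not_dvd hpp).2 hb).symm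
  obtain ⟨m, -, hm⟩ := Nat.exists_mul_mod_eq_one_of_coprime hac hpp.one_lt
  obtain ⟨l, -, hl⟩ := Nat.exists_mul_mod_eq_one_of_coprime hbc hpp.one_lt
  have hrm : r ^ (a * m) = r := by
    rw [pow_eq_pow_mod _ (hpow r), hm, pow_one]
  have hyl : y ^ (b * l * (p - 1)) = y⁻¹ := by
    have h1 : y ^ (b * l) = y := by
      rw [pow_eq_pow_mod _ (hpow y), hl, pow_one]
    rw [pow_mul, h1]
    have h2 : y ^ (p - 1) * y = 1 := by
      rw [← pow_succ, Nat.sub_add_cancel hpp.one_le]
      exact hpow y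
    exact eq_inv_of_mul_eq_one_left h2
  let t₁ := t ^ m
  let s₁ := s ^ (l * (p - 1))
  have ht₁r : t₁ r = r := h1t m
  have ht₁y : t₁ y = y * r := by
    show (t ^ m) y = _
    rw [h2t, hrm]
  have hs₁y : s₁ y = y := h1s _
  have hs₁r : s₁ r = r * y⁻¹ := by
    show (s ^ (l * (p - 1))) r = _
    rw [h2s, ← hyl, mul_assoc]
  let w := t₁ * s₁ * t₁
  have hwr : w r = y⁻¹ := by
    show t₁ (s₁ (t₁ r)) = _
    rw [ht₁r, hs₁r, map_mul, map_inv, ht₁r, ht₁y, mul_inv_rev, mul_inv_cancel_left]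
  have hwy : w y = r := by
    show t₁ (s₁ (t₁ y)) = _
    rw [ht₁y, map_mul, hs₁y, hs₁r, ← mul_assoc, hcomm y r, mul_assoc, mul_inv_cancel, mul_one, ht₁r]
  refine ⟨w * w, ?_, ?_, ?_⟩
  · have h1 : t₁ ∈ A := A.pow_mem ht _
    have h2 : s₁ ∈ A := A.pow_mem hs _
    have h3 : w ∈ A := A.mul_mem (A.mul_mem h1 h2) h1
    exact A.mul_mem h3 h3
  · rw [MulAut.mul_apply, hwr, map_inv, hwy]
  · rw [MulAut.mul_apply, hwy, hwr]

theorem top_of_lt {p : ℕ} [Fact p.Prime] {E : Type*} [Group E] [Finite E] (hcard : Nat.card E = p ^ 2) {Z K : Subgroup E}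
    (hZ : Nat.card Z = p) (hlt : Z < K) : K = ⊤ := by
  have hpp : p.Prime := Fact.out
  have h1 : Nat.card K ∣ p ^ 2 := hcard ▸ Subgroup.card_subgroup_dvd_card K
  obtain ⟨k, hk, hk'⟩ := (Nat.dvd_prime_pow hpp).1 h1
  have h2 : p < Nat.card K := hZ ▸ Set.ncard_lt_ncard hlt (Set.toFinite _)
  rw [hk'] at h2
  have hk2 : k = 2 := by
    have h3 : 1 < k := by
      by_contra h
      have : k ≤ 1 := by omega
      have h4 : p ^ k ≤ p ^ 1 := Nat.pow_le_pow_right hpp.pos this
      simp only [pow_one] at h4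
      omega
    omega
  apply Subgroup.eq_top_of_card_eq
  rw [hk', hk2, hcard]

variable {Ω : Type*} [Group Ω] {S : Subgroup Ω} [Finite S] {F : FusionSystem S} {p : ℕ} [Fact p.Prime]

/-- The moved case gives an inversion. -/
theorem exists_inversion_of_not_closed (hS : IsPGroup p S) (hF : F.IsSaturated p) {P E Z : Subgroup Ω}
    (hE : F.StronglyClosed E) (hEP : E ≤ P) (hcomm : ∀ a ∈ E, ∀ b ∈ E, a * b = b * a) (hexp : ∀ a ∈ E, a ^ p = 1)
    (hcard : Nat.card E = p ^ 2) (hZE : Z ≤ E) (hZc : Nat.card Z = p) (hZn : S ≤ Subgroup.normalizer (Z : Set Ω))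
    (hZcent : ∀ z ∈ Z, ∀ g ∈ P, g * z * g⁻¹ = z) (hEZ : ∀ e ∈ E, ∀ g ∈ P, g * e * g⁻¹ * e⁻¹ ∈ Z) {x e : Ω} (hxP : x ∈ P)
    (hxS : x ∈ S) (he : e ∈ E) (hne : x * e * x⁻¹ ≠ e) (hnc : ¬ F.StronglyClosed Z) :
    ∃ i ∈ F.autGroup E, ∀ u : E, i u = u⁻¹ := by
  classical
  have hpp : p.Prime := Fact.out
  have hES : E ≤ S := hE.1
  have hZS : Z ≤ S := hZE.trans hES
  have : Finite E := finite_of_le hES
  have : Finite Z := finite_of_le hZS
  -- the moved element
  have hnc' : ∃ R : Subgroup Ω, R ≤ Z ∧ ∃ φ ∈ F.Hom R, ∃ r : R, φ r ∉ Z := by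
    by_contra hcon
    push_neg at hcon
    exact hnc ⟨hZS, hcon⟩
  obtain ⟨R, hRZ, φ, hφ, r, hr⟩ := hnc'
  have hrne : (r : Ω) ≠ 1 := by
    intro h
    have : r = 1 := Subtype.ext h
    rw [this, map_one] at hr
    exact hr Z.one_mem
  have hRE : R ≤ E := hRZ.trans hZE
  have hRfin : Finite R := finite_of_le (hRZ.trans hZS)
  have hRcard : Nat.card R = p := by
    have h1 : Nat.card R ∣ Nat.card Z := Subgroup.card_dvd_of_le hRZ
    rw [hZc] at h1
    rcases (Nat.dvd_prime hpp).1 h1 with h | h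
    · exfalso
      have : Subsingleton R := (Nat.card_eq_one_iff_unique.1 h).1
      exact hrne (congrArg Subtype.val (Subsingleton.elim r 1))
    · exact h
  have hRZeq : R = Z := eq_of_le_of_card_le (hZS) hRZ (by rw [hRcard, hZc])
  subst hRZeq
  have hRn : normalizerIn S R = S := le_antisymm (normalizerIn_le _) fun g hg =>
    mem_normalizerIn.2 ⟨hg, hZn hg⟩
  have hfn : F.IsFullyNormalized R := isFullyNormalized_of_normalizerIn_eq hZS hRn
  have hrec := IsSat.receptive_of_fullyNormalized hS hF hfn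
  obtain ⟨e₁, he₁, he₁v⟩ := exists_isIso_of_mem hφ rfl
  have hYE : φ.range ≤ E := by
    rintro _ ⟨a, rfl⟩
    exact hE.2 R hRE φ hφ a
  have : Finite φ.range := finite_of_le (hYE.trans hES)
  have hcommY : ∀ g ∈ E, ∀ (a : φ.range), g * (a : Ω) * g⁻¹ = a := fun g hg a => by
    rw [hcomm g hg _ (hYE a.2)]
    simp
  obtain ⟨ψ, hψ, hψv⟩ := IsReceptive.extend_sup hrec (IsIso.symm he₁) (N := E) (fun g hg => ⟨hES hg,
    mem_normalizer_of_forall fun a ha => by
      have := hcommY g hg ⟨a, ha⟩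
      simp only at this
      rw [this]
      exact ha, 1, S.one_mem, fun a ha => by
      have h1 : (⟨g * (a : Ω) * g⁻¹, ha⟩ : φ.range) = a := Subtype.ext (hcommY g hg a)
      rw [h1]
      simp⟩)
  have hle : E ≤ φ.range ⊔ E := le_sup_right
  have hψE := res_mem F hψ hle
  have hψEv : ∀ u : E, (ψ.comp (Subgroup.inclusion hle)) u ∈ E := fun u => hE.2 E le_rfl _ hψE u
  obtain ⟨α, hα, hαv⟩ := exists_aut_of_map hψE hψEv
  -- elements of `E`
  let r' : E := ⟨r, hRE r.2⟩
  have hyE : φ r ∈ E := hYE ⟨r, rfl⟩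
  let y' : E := ⟨φ r, hyE⟩
  have hαy : α y' = r' := by
    apply Subtype.ext
    rw [hαv]
    have hyr : φ r ∈ φ.range := ⟨r, rfl⟩
    have := hψv (φ r) hyr (Subgroup.mem_sup_left hyr)
    show ψ _ = _
    refine Eq.trans ?_ (this.trans ?_)
    · rfl
    · have h1 : (⟨φ r, hyr⟩ : φ.range) = e₁ r := Subtype.ext (he₁v r).symm
      rw [h1]
      simp
      rfl
  have hcE : ∀ a b : E, a * b = b * a := fun a b => Subtype.ext (hcomm _ a.2 _ b.2)
  have hpE : ∀ u : E, u ^ p = 1 := fun u => Subtype.ext (by simpa using hexp _ u.2)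
  -- the subgroup `Z` in `E`
  let Z' : Subgroup E := R.subgroupOf E
  have hZ'c : Nat.card Z' = p := by
    rw [← hZc]
    exact Nat.card_congr (Subgroup.subgroupOfEquivOfLe hZE).toEquiv
  have hr'ne : r' ≠ 1 := fun h => hrne (congrArg Subtype.val h)
  have hr'ord : orderOf r' = p := orderOf_eq_prime (hpE r') hr'ne
  have hz'eq : Subgroup.zpowers r' = Z' := by
    apply Subgroup.eq_of_le_of_card_ge
    · rw [Subgroup.zpowers_le]
      exact Subgroup.mem_subgroupOf.2 r.2
    · rw [Nat.card_zpowers, hr'ord, hZ'c]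
  have hrgen : ∀ c ∈ Z', ∃ a : ℕ, c = r' ^ a := by
    intro c hc
    rw [← hz'eq] at hc
    obtain ⟨k, hk⟩ := (mem_powers_iff_mem_zpowers.2 hc)
    exact ⟨k, hk.symm⟩
  have hy'Z : y' ∉ Z' := fun h => hr (Subgroup.mem_subgroupOf.1 h)
  -- the transvection
  have hxN : x ∈ Subgroup.normalizer (E : Set Ω) := StronglyClosed.le_normalizer hE hxS
  let t : MulAut E := conjAut E x hxN
  have htA : t ∈ F.autGroup E := autInducedBy_le_autGroup F hES (conjAut_mem hxS _)
  have htv : ∀ u : E, ((t u : E) : Ω) = x * u * x⁻¹ := fun u => conjAut_coe _ _ _ _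
  have htr : ∀ c ∈ Z', t c = c := fun c hc => Subtype.ext ((htv c).trans (hZcent _ (Subgroup.mem_subgroupOf.1 hc) x hxP))
  have htne : t ≠ 1 := by
    intro h
    apply hne
    have := htv ⟨e, he⟩
    rw [h] at this
    exact this.symm
  let K : Subgroup E := MonoidHom.eqLocus t.toMonoidHom (MonoidHom.id E)
  have hKmem : ∀ u : E, u ∈ K ↔ t u = u := fun u => Iff.rfl
  have hKne : K ≠ ⊤ := by
    intro h
    apply htne
    ext u
    have : u ∈ K := h ▸ Subgroup.mem_top u
    exact congrArg Subtype.val ((hKmem u).1 this)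
  have hmoved : ∀ u : E, u ∉ Z' → t u ≠ u := by
    intro u hu hfix
    apply hKne
    apply top_of_lt (p := p) (Z := Z') hcard hZ'c
    refine lt_of_le_of_ne (fun c hc => (hKmem c).2 (htr c hc)) ?_
    intro h
    exact hu (h ▸ (hKmem u).2 hfix)
  have hstep : ∀ u : E, u ∉ Z' → ∃ a : ℕ, ¬ p ∣ a ∧ t u = u * r' ^ a := by
    intro u hu
    have h1 : u⁻¹ * t u ∈ Z' := by
      rw [Subgroup.mem_subgroupOf]
      have hc := hcE u⁻¹ (t u)
      rw [hc]
      show ((t u : E) : Ω) * (u : Ω)⁻¹ ∈ R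
      rw [htv]
      exact hEZ _ u.2 x hxP
    obtain ⟨a, ha⟩ := hrgen _ h1
    refine ⟨a, fun hd => hmoved u hu ?_, ?_⟩
    · obtain ⟨b, rfl⟩ := hd
      rw [pow_mul, hpE, one_pow] at ha
      exact (inv_mul_eq_one.1 ha).symm
    · rw [← ha]
      simp
  obtain ⟨a, ha, hta⟩ := hstep y' hy'Z
  have hu₀ : α r' ∉ Z' := by
    intro h
    obtain ⟨j, hj⟩ := hrgen _ h
    have h1 : α r' = α (y' ^ j) := by
      rw [map_pow, hαy, hj]
    have h2 : r' = y' ^ j := α.injective h1
    have hy'ord : orderOf y' = p := by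
      apply orderOf_eq_prime (hpE y')
      intro h3
      rw [h3, one_pow] at h2
      exact hr'ne h2
    have h3 : Subgroup.zpowers r' = Subgroup.zpowers y' := by
      apply Subgroup.eq_of_le_of_card_ge
      · rw [Subgroup.zpowers_le, h2]
        exact Subgroup.pow_mem _ (Subgroup.mem_zpowers y') j
      · rw [Nat.card_zpowers, Nat.card_zpowers, hr'ord, hy'ord]
    apply hy'Z
    rw [← hz'eq, h3]
    exact Subgroup.mem_zpowers y'
  obtain ⟨b, hb, htb⟩ := hstep _ hu₀
  have hαi : ∀ u, α⁻¹ (α u) = u := fun u => by simp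
  have hαr : α⁻¹ r' = y' := by rw [← hαy, hαi]
  obtain ⟨i, hiA, hir, hiy⟩ := exists_inversion (p := p) hcE hpE (F.autGroup E) (s := α⁻¹ * t * α) htA
    (Subgroup.mul_mem _ (Subgroup.mul_mem _ (Subgroup.inv_mem _ hα) htA) hα) r' y' ha hb (htr _ (Subgroup.mem_subgroupOf.2 r.2)) hta
    (by
      rw [MulAut.mul_apply, MulAut.mul_apply, hαy, htr _ (Subgroup.mem_subgroupOf.2 r.2), hαr])
    (by
      rw [MulAut.mul_apply, MulAut.mul_apply, htb, map_mul, hαi, map_pow, hαr])
  refine ⟨i, hiA, ?_⟩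
  let K' : Subgroup E :=
    { carrier := {w | i w = w⁻¹}
      mul_mem' := fun {c d} hc hd => by
        simp only [Set.mem_setOf_eq] at hc hd ⊢
        rw [map_mul, hc, hd, mul_inv_rev, hcE]
      one_mem' := by simp
      inv_mem' := fun {c} hc => by
        simp only [Set.mem_setOf_eq] at hc ⊢
        rw [map_inv, hc] }
  have hK'top : K' = ⊤ := by
    apply top_of_lt (p := p) (Z := Z') hcard hZ'c
    refine lt_of_le_of_ne (fun c hc => ?_) ?_
    · obtain ⟨j, rfl⟩ := hrgen c hc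
      show i (r' ^ j) = (r' ^ j)⁻¹
      rw [map_pow, hir, inv_pow]
    · intro h
      have : y' ∈ K' := hiy
      exact hy'Z (h ▸ this)
  intro u
  have : u ∈ K' := hK'top ▸ Subgroup.mem_top u
  exact this

/-- Extending an inversion over a strongly closed subgroup. -/
theorem exists_aut_inverting (hS : IsPGroup p S) (hF : F.IsSaturated p) {P E : Subgroup Ω}
    (hP : F.StronglyClosed P) (hE : F.StronglyClosed E) {i : MulAut E} (hi : i ∈ F.autGroup E) (hiv : ∀ u : E, i u = u⁻¹) :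
    ∃ β ∈ F.autGroup P, ∀ (u : P) (_ : (u : Ω) ∈ E), (β u : Ω) = (u : Ω)⁻¹ := by
  have hES := hE.1
  have hPS := hP.1
  have : Finite E := finite_of_le hES
  have hSN := StronglyClosed.le_normalizer hE
  have hEn : normalizerIn S E = S := le_antisymm (normalizerIn_le _) fun g hg =>
    mem_normalizerIn.2 ⟨hg, hSN hg⟩
  have hfn : F.IsFullyNormalized E := isFullyNormalized_of_normalizerIn_eq hES hEn
  have hrec := IsSat.receptive_of_fullyNormalized hS hF hfn
  have hiso : IsIso F (P := E) (Q := E) i := (mem_autGroup_iff hES).1 hi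
  obtain ⟨ψ, hψ, hψv⟩ := IsReceptive.extend_sup hrec hiso (N := S) (fun g hg => ⟨hg, hSN hg, g, hg, fun x hx => by
    have h1 := hiv ⟨g * x * g⁻¹, hx⟩
    have h2 := hiv x
    show ((i ⟨g * x * g⁻¹, hx⟩ : E) : Ω) = g * ((i x : E) : Ω) * g⁻¹
    rw [h1, h2]
    simp [mul_assoc]⟩)
  have hle : P ≤ E ⊔ S := hPS.trans le_sup_right
  have hψP := res_mem F hψ hle
  have hψPv : ∀ u : P, (ψ.comp (Subgroup.inclusion hle)) u ∈ P := fun u => hP.2 P le_rfl _ hψP u
  obtain ⟨β, hβ, hβv⟩ := exists_aut_of_map hψP hψPv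
  refine ⟨β, hβ, fun u hu => ?_⟩
  rw [hβv]
  have := hψv u hu (hle u.2)
  refine Eq.trans ?_ (this.trans ?_)
  · rfl
  · have h2 := hiv ⟨u, hu⟩
    show ((i ⟨u, hu⟩ : E) : Ω) = _
    rw [h2]
    rfl

end Cfsg.Agent.Lib.Fusion
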