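import Cfsg.Agent.Lib.Fusion.Stable
import Cfsg.Agent.Lib.Fusion.Group
import Cfsg.Agent.Lib.Fusion.Chains
import Cfsg.Agent.Lib.Fusion.Factor
import Cfsg.Agent.Lib.Fusion.FactorSat
import Mathlib

/-! # Simple realizable fusion systems are realized by simple groups -/

set_option autoImplicit false
set_option linter.unusedSectionVars false
set_option linter.unusedVariables false

namespace Cfsg.Agent.Lib.Fusion

open Cfsg Cfsg.FusionSystem

/-- The extension condition: a form of the Frattini argument on centralizers. -/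
theorem core_ext_aux {G : Type*} [Group G] [Finite G] {p : ℕ} [Fact p.Prime] (S : Sylow p G) (H : Subgroup G) [H.Normal]
    {h : G} (hh : h ∈ H) (hhN : h ∈ Subgroup.normalizer ((((S : Subgroup G) ⊓ H : Subgroup G)) : Set G)) :
    ∃ g ∈ H, (∀ t ∈ (S : Subgroup G) ⊓ H, g * t * g⁻¹ = h * t * h⁻¹) ∧
      ∀ y ∈ centralizerIn (S : Subgroup G) ((S : Subgroup G) ⊓ H), g * y * g⁻¹ ∈ centralizerIn (S : Subgroup G) ((S : Subgroup G) ⊓ H) := by
  set T := (S : Subgroup G) ⊓ H with hT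
  have hTH : T ≤ H := inf_le_right
  have hTS : T ≤ (S : Subgroup G) := inf_le_left
  have hSyl : IsSylowIn p (S : Subgroup G) ⊤ := isSylowIn_of_sylow S
  set F := groupFusionSystem (S : Subgroup G) with hFd
  have hFe : F = fusionSystemOfSubgroup ⊤ (S : Subgroup G) le_top := groupFusionSystem_eq _
  have hsc : F.StronglyClosed T := by
    refine ⟨hTS, fun R hR φ hφ x => ?_⟩
    obtain ⟨-, hv, g, hg⟩ := hφ
    refine ⟨hv x, ?_⟩
    rw [hg]
    exact ‹H.Normal›.conj_mem _ (hTH (hR x.2)) g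
  have hconjT : ∀ t ∈ T, h * t * h⁻¹ ∈ T := fun t ht => conj_mem_of_mem_normalizer hhN ht
  set Y := centralizerIn (S : Subgroup G) T with hYd
  have hfc : F.IsFullyCentralized T := by
    refine ⟨hTS, fun Q hQ => ?_⟩
    obtain ⟨φ, hφ, hr⟩ := hQ
    have := (StronglyClosed.weaklyClosed hsc).2 φ hφ
    rw [← hr, this]
  have hYsyl : IsSylowIn p Y (centralizerIn ⊤ T) := by
    rw [hFe] at hfc
    exact (isFullyCentralized_fH_iff le_top hSyl hTS).1 hfc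
  have hYp : IsPGroup p Y := S.isPGroup'.to_le inf_le_left
  set M := centralizerIn H T with hMd
  have hMC : M ≤ centralizerIn ⊤ T := inf_le_inf_right _ le_top
  have hYC : Y ≤ centralizerIn ⊤ T := inf_le_inf_right _ le_top
  have comm_conj : ∀ {a b : G}, b * a = a * b → a * b * a⁻¹ = b := by
    intro a b hab
    rw [← hab]
    group
  have comm_conj' : ∀ {a b : G}, b * a = a * b → a⁻¹ * b * a = b := by
    intro a b hab
    rw [mul_assoc, hab]
    group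
  have hYN : Y ≤ Subgroup.normalizer (M : Set G) := by
    intro y hy
    have hyc := (mem_centralizerIn.1 hy).2
    refine mem_normalizer_of_forall fun m hm => ?_
    obtain ⟨hmH, hmc⟩ := mem_centralizerIn.1 hm
    refine mem_centralizerIn.2 ⟨‹H.Normal›.conj_mem m hmH y, fun t ht => ?_⟩
    have h1 := hyc t ht
    have h2 := hmc t ht
    calc t * (y * m * y⁻¹) = (t * y) * m * y⁻¹ := by group
      _ = y * (t * m) * y⁻¹ := by rw [h1]; group
      _ = y * (m * t) * y⁻¹ := by rw [h2]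
      _ = y * m * (t * y⁻¹) := by group
      _ = y * m * (y⁻¹ * t) := by
          have : t * y⁻¹ = y⁻¹ * t := by
            have h3 : y⁻¹ * t * y = t := comm_conj' h1
            calc t * y⁻¹ = (y⁻¹ * t * y) * y⁻¹ := by rw [h3]
              _ = y⁻¹ * t := by group
          rw [this]
      _ = (y * m * y⁻¹) * t := by group
  have hinvT : ∀ t ∈ T, h⁻¹ * t * h ∈ T := by
    intro t ht
    have := conj_mem_of_mem_normalizer (Subgroup.inv_mem _ hhN) ht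
    simpa using this
  have hconjC : ∀ y ∈ Subgroup.centralizer (T : Set G), h * y * h⁻¹ ∈ Subgroup.centralizer (T : Set G) := by
    intro y hy
    rw [Subgroup.mem_centralizer_iff] at hy ⊢
    intro t ht
    have h1 := hy _ (hinvT t ht)
    calc t * (h * y * h⁻¹) = h * ((h⁻¹ * t * h) * y) * h⁻¹ := by group
      _ = h * (y * (h⁻¹ * t * h)) * h⁻¹ := by rw [h1]
      _ = h * y * h⁻¹ * t := by group
  have hYHconj : ∀ y ∈ Y, h * y * h⁻¹ * y⁻¹ ∈ M := by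
    intro y hy
    have hyc := (inf_le_right : Y ≤ _) hy
    refine ⟨?_, ?_⟩
    · have h1 := ‹H.Normal›.conj_mem _ (H.inv_mem hh) y
      have h2 : h * y * h⁻¹ * y⁻¹ = h * (y * h⁻¹ * y⁻¹) := by group
      rw [h2]
      exact H.mul_mem hh h1
    · exact Subgroup.mul_mem _ (hconjC y hyc) (Subgroup.inv_mem _ hyc)
  have hWle : M ⊔ Y ≤ centralizerIn ⊤ T := sup_le hMC hYC
  have hYW : IsSylowIn p Y (M ⊔ Y) := hYsyl.of_le hYC le_sup_right hWle
  have hY'W : conjSub h Y ≤ M ⊔ Y := by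
    rintro _ ⟨y, hy, rfl⟩
    have e : (MulAut.conj h).toMonoidHom y = (h * y * h⁻¹ * y⁻¹) * y := by
      show h * y * h⁻¹ = _
      group
    rw [e]
    exact Subgroup.mul_mem _ (Subgroup.mem_sup_left (hYHconj y hy)) (Subgroup.mem_sup_right hy)
  obtain ⟨w, hw, hwv⟩ := hYW.exists_conj_le (hYp.map _) hY'W
  obtain ⟨m, hm, y₀, hy₀, rfl⟩ := exists_mul_of_mem_sup hYN hw
  have hcM : y₀⁻¹ * m * y₀ ∈ M := by
    have := conj_mem_of_mem_normalizer (Subgroup.inv_mem _ (hYN hy₀)) hm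
    simpa using this
  set c := y₀⁻¹ * m * y₀ with hc
  have hcH : c ∈ H := hcM.1
  have hcC : c ∈ Subgroup.centralizer (T : Set G) := hcM.2
  have hcv : ∀ y ∈ Y, c * (h * y * h⁻¹) * c⁻¹ ∈ Y := by
    intro y hy
    have h1 := hwv _ (conj_mem_conjSub (g := h) hy)
    have h2 := Subgroup.mul_mem _ (Subgroup.mul_mem _ (Subgroup.inv_mem _ hy₀) h1) hy₀
    have e : c * (h * y * h⁻¹) * c⁻¹ = y₀⁻¹ * (m * y₀ * (h * y * h⁻¹) * (m * y₀)⁻¹) * y₀ := by
      rw [hc]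
      group
    rw [e]
    exact h2
  refine ⟨c * h, H.mul_mem hcH hh, fun t ht => ?_, fun y hy => ?_⟩
  · have h1 := (Subgroup.mem_centralizer_iff.1 hcC) _ (hconjT t ht)
    have h2 : c * (h * t * h⁻¹) * c⁻¹ = h * t * h⁻¹ := comm_conj h1
    rw [← h2]
    group
  · have e : c * h * y * (c * h)⁻¹ = c * (h * y * h⁻¹) * c⁻¹ := by
      group
    rw [e]
    exact hcv y hy


section Pull

universe u v

variable {Ω : Type u} [Group Ω] {S : Subgroup Ω} {G : Type v} [Group G] (ι : S →* G) (hι : Function.Injective ι)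

/-- Conjugation by `g` read through `ι`. -/
noncomputable def pcHom {P : Subgroup Ω} (hP : P ≤ S) (g : G) (hg : ∀ x : P, g * ι ⟨x, hP x.2⟩ * g⁻¹ ∈ ι.range) : P →* Ω :=
  S.subtype.comp ((MonoidHom.ofInjective hι).symm.toMonoidHom.comp
    { toFun := fun x => ⟨g * ι ⟨x, hP x.2⟩ * g⁻¹, hg x⟩
      map_one' := Subtype.ext (by
        show g * ι 1 * g⁻¹ = 1
        simp)
      map_mul' := fun a b => Subtype.ext (by
        show g * ι (⟨a, hP a.2⟩ * ⟨b, hP b.2⟩) * g⁻¹ = (g * ι ⟨a, hP a.2⟩ * g⁻¹) * (g * ι ⟨b, hP b.2⟩ * g⁻¹)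
        rw [map_mul]
        group) })

theorem pcHom_mem {P : Subgroup Ω} (hP : P ≤ S) (g : G) (hg : ∀ x : P, g * ι ⟨x, hP x.2⟩ * g⁻¹ ∈ ι.range) (x : P) :
    pcHom ι hι hP g hg x ∈ S := Subtype.coe_prop _

theorem pcHom_spec {P : Subgroup Ω} (hP : P ≤ S) (g : G) (hg : ∀ x : P, g * ι ⟨x, hP x.2⟩ * g⁻¹ ∈ ι.range) (x : P)
    (h : pcHom ι hι hP g hg x ∈ S) : ι ⟨pcHom ι hι hP g hg x, h⟩ = g * ι ⟨x, hP x.2⟩ * g⁻¹ := by
  have h1 := (MonoidHom.ofInjective hι).apply_symm_apply ⟨g * ι ⟨x, hP x.2⟩ * g⁻¹, hg x⟩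
  have h2 := congrArg Subtype.val h1
  rw [MonoidHom.ofInjective_apply] at h2
  exact h2

/-- The system on the preimage of a normal subgroup. -/
def pullSys (N : Subgroup G) [N.Normal] : FusionSystem (preimageAlong ι N) where
  Hom P := {φ | P ≤ preimageAlong ι N ∧ ∃ hv : ∀ x : P, φ x ∈ preimageAlong ι N, ∃ h ∈ N, ∀ (x : P) (hx : (x : Ω) ∈ S) (hy : φ x ∈ S),
    ι ⟨φ x, hy⟩ = h * ι ⟨x, hx⟩ * h⁻¹}
  le_of_mem := fun h => ⟨h.1, h.2.1⟩
  injective_of_mem := by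
    rintro P φ ⟨hP, hv, h, hh, w⟩ a b hab
    have ha := preimageAlong_le _ (hP a.2)
    have hb := preimageAlong_le _ (hP b.2)
    have hy := preimageAlong_le _ (hv a)
    have h1 := w a ha hy
    have h2 := w b hb (hab ▸ hy)
    have h3 : ι ⟨φ a, hy⟩ = ι ⟨φ b, hab ▸ hy⟩ := by
      congr 2
    rw [h1, h2] at h3
    have h4 := mul_left_cancel (mul_right_cancel h3)
    have h5 := hι h4
    exact Subtype.ext (congrArg (fun z : S => (z : Ω)) h5)
  conj_mem := by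
    intro P g hP hg
    have hgS := preimageAlong_le _ hg
    obtain ⟨hg0, hgN⟩ := mem_preimageAlong.1 hg
    have hm : ∀ x : P, conjHom P g x ∈ preimageAlong ι N := fun x =>
      Subgroup.mul_mem _ (Subgroup.mul_mem _ hg (hP x.2)) (Subgroup.inv_mem _ hg)
    refine ⟨hP, hm, ι ⟨g, hgS⟩, hgN, fun x hx hy => ?_⟩
    have e : (⟨conjHom P g x, hy⟩ : S) = ⟨g, hgS⟩ * ⟨x, hx⟩ * ⟨g, hgS⟩⁻¹ := rfl
    rw [e, map_mul, map_mul, map_inv]
  comp_mem := by
    rintro P Q φ ψ ⟨hP, hv, h, hh, w⟩ ⟨hQ, hv', h', hh', w'⟩ hm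
    refine ⟨hP, fun x => hv' _, h' * h, N.mul_mem hh' hh, fun x hx hy => ?_⟩
    have hφS := preimageAlong_le _ (hv x)
    have h1 := w x hx hφS
    have h2 := w' ⟨φ x, hm x⟩ hφS hy
    show ι ⟨ψ ⟨φ x, hm x⟩, hy⟩ = _
    rw [h2]
    show h' * ι ⟨φ x, hφS⟩ * h'⁻¹ = _
    rw [h1]
    group
  inv_mem := by
    rintro P φ ⟨hP, hv, h, hh, w⟩
    have hinj : Function.Injective φ := by
      intro a b hab
      have ha := preimageAlong_le _ (hP a.2)
      have hb := preimageAlong_le _ (hP b.2)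
      have hy := preimageAlong_le _ (hv a)
      have h1 := w a ha hy
      have h2 := w b hb (hab ▸ hy)
      have h3 : ι ⟨φ a, hy⟩ = ι ⟨φ b, hab ▸ hy⟩ := by
        congr 2
      rw [h1, h2] at h3
      have h4 := mul_left_cancel (mul_right_cancel h3)
      have h5 := hι h4
      exact Subtype.ext (congrArg (fun z : S => (z : Ω)) h5)
    let e := MonoidHom.ofInjective hinj
    have hr : φ.range ≤ preimageAlong ι N := by
      rintro _ ⟨x, rfl⟩
      exact hv x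
    refine ⟨P.subtype.comp e.symm.toMonoidHom, ⟨hr, fun x => hP (e.symm x).2, h⁻¹, N.inv_mem hh, fun y hx hy => ?_⟩, fun x => ?_⟩
    · have h1 : y = e (e.symm y) := (e.apply_symm_apply y).symm
      have h2 : (y : Ω) = φ (e.symm y) := by
        conv_lhs => rw [h1]
        rfl
      have h3 := w (e.symm y) hy (h2 ▸ hx)
      have h4 : (⟨(y : Ω), hx⟩ : S) = ⟨φ (e.symm y), h2 ▸ hx⟩ := Subtype.ext h2
      rw [h4, h3]
      show ι ⟨((e.symm y : P) : Ω), hy⟩ = _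
      group
    · have h1 : (⟨φ x, ⟨x, rfl⟩⟩ : φ.range) = e x := Subtype.ext (MonoidHom.ofInjective_apply hinj).symm
      show ((e.symm ⟨φ x, ⟨x, rfl⟩⟩ : P) : Ω) = x
      rw [h1, e.symm_apply_apply]

theorem mem_pullSys {N : Subgroup G} [N.Normal] {P : Subgroup Ω} {φ : P →* Ω} :
    φ ∈ (pullSys ι hι N).Hom P ↔ P ≤ preimageAlong ι N ∧ ∃ hv : ∀ x : P, φ x ∈ preimageAlong ι N, ∃ h ∈ N,
      ∀ (x : P) (hx : (x : Ω) ∈ S) (hy : φ x ∈ S), ι ⟨φ x, hy⟩ = h * ι ⟨x, hx⟩ * h⁻¹ := Iff.rfl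

end Pull


theorem map_sup_mem' {Ω Ω' : Type*} [Group Ω] [Group Ω'] {P Q : Subgroup Ω} {T : Subgroup Ω'} {f : ↥(P ⊔ Q) →* Ω'}
    (hP : ∀ x (h : x ∈ P), f ⟨x, Subgroup.mem_sup_left h⟩ ∈ T)
    (hQ : ∀ x (h : x ∈ Q), f ⟨x, Subgroup.mem_sup_right h⟩ ∈ T) (y : ↥(P ⊔ Q)) : f y ∈ T := by
  have hle : P ⊔ Q ≤ (T.comap f).map (P ⊔ Q).subtype := by
    refine sup_le ?_ ?_
    · intro x hx
      exact ⟨⟨x, Subgroup.mem_sup_left hx⟩, hP x hx, rfl⟩
    · intro x hx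
      exact ⟨⟨x, Subgroup.mem_sup_right hx⟩, hQ x hx, rfl⟩
  obtain ⟨z, hz, e⟩ := hle y.2
  have : z = y := Subtype.ext e
  rw [← this]
  exact hz

section Main

universe u v

variable {Ω : Type u} [Group Ω] {S : Subgroup Ω} [Finite S] {G : Type v} [Group G] [Finite G] {p : ℕ} [Fact p.Prime]
  {ι : S →* G} (hι : Function.Injective ι) (Sy : Sylow p G) (hT : (Sy : Subgroup G) = ι.range) (N : Subgroup G) [N.Normal]
  {F : FusionSystem S}

include hT in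
/-- The pulled back system is saturated. -/
theorem pull_sat : (pullSys ι hι N).IsSaturated p := by
  have hle : (Sy : Subgroup G) ⊓ N ≤ ι.range := hT ▸ inf_le_left
  have hIS : ∀ s : S, ι s ∈ (Sy : Subgroup G) := fun s => by
    rw [hT]
    exact ⟨s, rfl⟩
  let e := MonoidHom.ofInjective hι
  let θ : ↥((Sy : Subgroup G) ⊓ N) →* Ω := S.subtype.comp (e.symm.toMonoidHom.comp (Subgroup.inclusion hle))
  have hθS : ∀ t, θ t ∈ S := fun t => (e.symm _).2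
  have hθ : ∀ t (h : θ t ∈ S), ι ⟨θ t, h⟩ = t := fun t h => by
    have h1 := e.apply_symm_apply (Subgroup.inclusion hle t)
    have h2 := congrArg Subtype.val h1
    rw [MonoidHom.ofInjective_apply] at h2
    exact h2
  have hθv : ∀ (s : S) (hs : ι s ∈ (Sy : Subgroup G) ⊓ N), θ ⟨ι s, hs⟩ = s := fun s hs => by
    have h0 := hθ ⟨ι s, hs⟩ (hθS _)
    have h3 := hι h0
    exact congrArg Subtype.val h3
  have hIm : ∀ (z : Ω) (hz : z ∈ S) (u), z = θ u → ι ⟨z, hz⟩ = u := by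
    rintro _ hz u rfl
    exact hθ u hz
  have hTsyl : IsSylowIn p ((Sy : Subgroup G) ⊓ N) N := (isSylowIn_of_sylow Sy).inf_normal le_top le_top inferInstance
  have hE₀ := isSaturated_fH (inf_le_right : (Sy : Subgroup G) ⊓ N ≤ N) hTsyl
  refine isSaturated_of_factor (p := p) (Sy.isPGroup'.to_le inf_le_left) hE₀ StronglyClosed.bot_of_le (θ := θ) ?_
  refine ⟨bot_le, fun s => ?_, ?_, fun P' φ' => ?_⟩
  · constructor
    · intro h
      have h1 := hθ s (hθS s)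
      have h2 : (⟨θ s, hθS s⟩ : S) = 1 := Subtype.ext h
      rw [h2, map_one] at h1
      exact Subgroup.mem_bot.2 h1.symm
    · intro h
      have h2 : s = 1 := Subtype.ext (Subgroup.mem_bot.1 h)
      rw [h2, map_one]
  · ext x
    constructor
    · rintro ⟨t, rfl⟩
      exact mem_preimageAlong.2 ⟨hθS t, by rw [hθ]; exact t.2.2⟩
    · intro hx
      obtain ⟨hxS, hxN⟩ := mem_preimageAlong.1 hx
      have hmem : ι ⟨x, hxS⟩ ∈ (Sy : Subgroup G) ⊓ N := ⟨hIS _, hxN⟩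
      exact ⟨⟨_, hmem⟩, hθv ⟨x, hxS⟩ hmem⟩
  · constructor
    · rintro ⟨hP', hv, h, hh, w⟩
      have hPT : preimageAlong θ P' ≤ (Sy : Subgroup G) ⊓ N := preimageAlong_le P'
      have hthP : ∀ (t : G) (ht : t ∈ preimageAlong θ P'), θ ⟨t, hPT ht⟩ ∈ P' := fun t ht => by
        obtain ⟨_, h2⟩ := mem_preimageAlong.1 ht
        exact h2
      have hval : ∀ (t : G) (ht : t ∈ preimageAlong θ P') (hy : φ' ⟨θ ⟨t, hPT ht⟩, hthP t ht⟩ ∈ S),
          ι ⟨φ' ⟨θ ⟨t, hPT ht⟩, hthP t ht⟩, hy⟩ = h * t * h⁻¹ := fun t ht hy => by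
        rw [w ⟨_, hthP t ht⟩ (hθS _) hy]
        congr 2
        exact hθ _ _
      have hφ : conjHom (preimageAlong θ P') h ∈ (fusionSystemOfSubgroup N ((Sy : Subgroup G) ⊓ N) inf_le_right).Hom (preimageAlong θ P') := by
        refine conjHom_mem_fH inf_le_right hPT hh fun t ht => ?_
        have hy := preimageAlong_le _ (hv ⟨_, hthP t ht⟩)
        rw [← hval t ht hy]
        refine ⟨hIS _, ?_⟩
        exact (mem_preimageAlong.1 (hv ⟨_, hthP t ht⟩)).2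
      refine ⟨hP', _, hφ, hPT, fun x => hom_val _ hφ x, fun x => hthP x x.2, fun x => ?_⟩
      have hy := preimageAlong_le _ (hv ⟨_, hthP x x.2⟩)
      have h1 := hval x x.2 hy
      have hvS := hθS ⟨(conjHom (preimageAlong θ P') h) x, hom_val _ hφ x⟩
      have h2 := hθ ⟨(conjHom (preimageAlong θ P') h) x, hom_val _ hφ x⟩ hvS
      have h3 : ι ⟨φ' ⟨θ ⟨x, hPT x.2⟩, hthP x x.2⟩, hy⟩ = ι ⟨_, hvS⟩ := by
        rw [h1, h2]
        rfl
      exact congrArg Subtype.val (hι h3)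
    · rintro ⟨hP', φ, hφ, hP0, hφ0, hP1, hi⟩
      obtain ⟨-, hv, h, hh, hw⟩ := hφ
      have key : ∀ (y : P') (hy : (y : Ω) ∈ S), ∃ (hmem : ι ⟨y, hy⟩ ∈ preimageAlong θ P'), φ' y = θ ⟨φ ⟨ι ⟨y, hy⟩, hmem⟩, hφ0 _⟩ := by
        intro y hy
        have hyN := (mem_preimageAlong.1 (hP' y.2))
        have ht : ι ⟨y, hy⟩ ∈ (Sy : Subgroup G) ⊓ N := ⟨hIS _, hyN.2⟩
        have e1 : θ ⟨ι ⟨y, hy⟩, ht⟩ = y := hθv ⟨y, hy⟩ ht
        have hmem : ι ⟨y, hy⟩ ∈ preimageAlong θ P' := mem_preimageAlong.2 ⟨ht, by rw [e1]; exact y.2⟩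
        refine ⟨hmem, ?_⟩
        have h1 := hi ⟨_, hmem⟩
        have h2 : (⟨θ ⟨ι ⟨y, hy⟩, hP0 hmem⟩, hP1 ⟨_, hmem⟩⟩ : P') = y := Subtype.ext e1
        rw [h2] at h1
        exact h1
      have hP'S : P' ≤ S := hP'.trans (preimageAlong_le N)
      refine ⟨hP', fun y => ?_, h, hh, fun y hx hy => ?_⟩
      · obtain ⟨hmem, e1⟩ := key y (hP'S y.2)
        rw [e1]
        exact mem_preimageAlong.2 ⟨hθS _, by rw [hθ]; exact (hφ0 _).2⟩
      · obtain ⟨hmem, e1⟩ := key y hx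
        rw [hIm _ hy _ e1]
        exact hw ⟨_, hmem⟩

include hT in
/-- The pulled back system is normal. -/
theorem pull_normal (hF : F.IsSaturated p) (hre : F.IsRealizedBy ι) : (pullSys ι hι N).IsNormalIn F p := by
  have hE := pull_sat hι Sy hT N
  have hT₁S : preimageAlong ι N ≤ S := preimageAlong_le N
  have hm : ∀ {x : Ω} (hx : x ∈ preimageAlong ι N), ι ⟨x, hT₁S hx⟩ ∈ N := fun {x} hx => (mem_preimageAlong.1 hx).2
  have hmN : ∀ {x : Ω} (hx : x ∈ S), ι ⟨x, hx⟩ ∈ N → x ∈ preimageAlong ι N := fun {x} hx h => mem_preimageAlong.2 ⟨hx, h⟩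
  have hsub : (pullSys ι hι N).IsSubsystemOf F := by
    rintro P φ ⟨hP, hv, h, hh, w⟩
    exact (hre.2 P (hP.trans hT₁S) φ (fun x => hT₁S (hv x))).2 ⟨h, fun x => w x _ _⟩
  have hsc : F.StronglyClosed (preimageAlong ι N) := by
    refine ⟨hT₁S, fun R hR φ hφ x => ?_⟩
    obtain ⟨g, hg⟩ := (hre.2 R (hR.trans hT₁S) φ (hom_val F hφ)).1 hφ
    refine hmN (hom_val F hφ x) ?_
    rw [hg x]
    exact ‹N.Normal›.conj_mem _ (hm (hR x.2)) g
  have hTsyl : IsSylowIn p ((Sy : Subgroup G) ⊓ N) N := (isSylowIn_of_sylow Sy).inf_normal le_top le_top inferInstance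
  have hIS : ∀ s : S, ι s ∈ (Sy : Subgroup G) := fun s => hT ▸ ⟨s, rfl⟩
  have hT₀ : ∀ {x : Ω} (hx : x ∈ preimageAlong ι N), ι ⟨x, hT₁S hx⟩ ∈ (Sy : Subgroup G) ⊓ N := fun {x} hx => ⟨hIS _, hm hx⟩
  refine ⟨⟨hE, hF, hsub, hsc, ?_, ?_⟩, ?_⟩
  · -- invariance
    intro P hPT φ hφ α hα
    obtain ⟨-, hv, h, hh, w⟩ := hφ
    have hαi : (preimageAlong ι N).subtype.comp α.toMonoidHom ∈ F.Hom (preimageAlong ι N) := (mem_autGroup_iff hT₁S).1 hα
    obtain ⟨g, hg⟩ := (hre.2 _ hT₁S _ (hom_val F hαi)).1 hαi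
    have hg' : ∀ (t : preimageAlong ι N) (ht : ((α t : preimageAlong ι N) : Ω) ∈ S), ι ⟨α t, ht⟩ = g * ι ⟨t, hT₁S t.2⟩ * g⁻¹ := fun t ht => hg t
    have hPαT : (P.subgroupOf (preimageAlong ι N)).map ((preimageAlong ι N).subtype.comp α.toMonoidHom) ≤ preimageAlong ι N := by
      rintro _ ⟨t, -, rfl⟩
      exact (α t).2
    have hkey : ∀ (t : preimageAlong ι N) (htP : (t : Ω) ∈ P) (hφt : φ ⟨t, htP⟩ ∈ preimageAlong ι N),
        (g * h * g⁻¹) * ι ⟨α t, hT₁S (α t).2⟩ * (g * h * g⁻¹)⁻¹ = ι ⟨α ⟨φ ⟨t, htP⟩, hφt⟩, hT₁S (α _).2⟩ := by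
      intro t htP hφt
      rw [hg' t, hg' ⟨_, hφt⟩]
      have h1 := w ⟨t, htP⟩ (hT₁S t.2) (hT₁S hφt)
      show _ = g * ι ⟨φ ⟨t, htP⟩, hT₁S hφt⟩ * g⁻¹
      rw [h1]
      group
    have hr : ∀ y : ↥((P.subgroupOf (preimageAlong ι N)).map ((preimageAlong ι N).subtype.comp α.toMonoidHom)),
        (g * h * g⁻¹) * ι ⟨y, (hPαT.trans hT₁S) y.2⟩ * (g * h * g⁻¹)⁻¹ ∈ ι.range := by
      rintro ⟨_, t, ht, rfl⟩
      have := hkey t (Subgroup.mem_subgroupOf.1 ht) (hv _)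
      exact ⟨_, this.symm⟩
    have hχS := pcHom_mem ι hι (hPαT.trans hT₁S) _ hr
    have hspec := pcHom_spec ι hι (hPαT.trans hT₁S) _ hr
    have hhN : g * h * g⁻¹ ∈ N := ‹N.Normal›.conj_mem _ hh g
    refine ⟨pcHom ι hι (hPαT.trans hT₁S) _ hr, ⟨hPαT, fun y => hmN (hχS y) ?_, g * h * g⁻¹, hhN, fun y hx hy => ?_⟩, fun x hφx hαx => ?_⟩
    · rw [hspec y]
      exact ‹N.Normal›.conj_mem _ (hm (hPαT y.2)) _
    · exact hspec y hy
    · have h2 := hspec ⟨_, hαx⟩ (hχS _)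
      have h3 := hkey ⟨x, hPT x.2⟩ x.2 hφx
      have h4 : ι ⟨pcHom ι hι (hPαT.trans hT₁S) _ hr ⟨_, hαx⟩, hχS _⟩ = ι ⟨α ⟨φ x, hφx⟩, hT₁S (α _).2⟩ := by
        rw [h2]
        exact h3
      exact congrArg Subtype.val (hι h4)
  · -- Frattini
    intro P hPT φ hφ
    obtain ⟨g, hg⟩ := (hre.2 P (hPT.trans hT₁S) φ (hom_val F hφ)).1 hφ
    have hW : conjSub g⁻¹ ((Sy : Subgroup G) ⊓ N) ≤ N := by
      rintro _ ⟨t, ht, rfl⟩
      exact ‹N.Normal›.conj_mem _ ht.2 _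
    obtain ⟨β, hβ, hβv⟩ := hTsyl.exists_conj_le ((hTsyl.isPGroup inf_le_right).map _) hW
    have hβ' : ∀ t ∈ (Sy : Subgroup G) ⊓ N, β * g⁻¹ * t * g * β⁻¹ ∈ (Sy : Subgroup G) ⊓ N := by
      intro t ht
      have h1 := hβv _ (conj_mem_conjSub (g := g⁻¹) ht)
      have e : β * (g⁻¹ * t * g⁻¹⁻¹) * β⁻¹ = β * g⁻¹ * t * g * β⁻¹ := by group
      rwa [e] at h1
    set n := g * β⁻¹ with hn
    have hn1 : n⁻¹ ∈ Subgroup.normalizer (((Sy : Subgroup G) ⊓ N : Subgroup G) : Set G) := by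
      refine mem_normalizer_of_forall fun t ht => ?_
      have h1 := hβ' t ht
      have e : n⁻¹ * t * n⁻¹⁻¹ = β * g⁻¹ * t * g * β⁻¹ := by
        rw [hn]
        group
      rwa [e]
    have hn2 : n ∈ Subgroup.normalizer (((Sy : Subgroup G) ⊓ N : Subgroup G) : Set G) := by
      simpa using Subgroup.inv_mem _ hn1
    have hr₁ : ∀ t : preimageAlong ι N, n * ι ⟨t, hT₁S t.2⟩ * n⁻¹ ∈ ι.range := fun t => by
      rw [← hT]
      exact (conj_mem_of_mem_normalizer hn2 (hT₀ t.2)).1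
    have hαh : pcHom ι hι hT₁S n hr₁ ∈ F.Hom (preimageAlong ι N) :=
      (hre.2 _ hT₁S _ (pcHom_mem ι hι hT₁S n hr₁)).2 ⟨n, fun x => pcHom_spec ι hι hT₁S n hr₁ x _⟩
    have hαhm : ∀ t, pcHom ι hι hT₁S n hr₁ t ∈ preimageAlong ι N := fun t => by
      refine hmN (pcHom_mem ι hι hT₁S n hr₁ t) ?_
      rw [pcHom_spec]
      exact (conj_mem_of_mem_normalizer hn2 (hT₀ t.2)).2
    obtain ⟨α, hα, αv⟩ := exists_aut_of_map hαh hαhm
    have hPS := hPT.trans hT₁S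
    have hconj : ∀ x : P, g * ι ⟨x, hPS x.2⟩ * g⁻¹ ∈ (Sy : Subgroup G) ⊓ N := fun x => by
      rw [← hg x]
      exact hT₀ (hsc.2 P hPT φ hφ x)
    have hr₂' : ∀ x : P, β * ι ⟨x, hPS x.2⟩ * β⁻¹ ∈ (Sy : Subgroup G) ⊓ N := fun x => by
      have h1 := hβ' _ (hconj x)
      have e : β * g⁻¹ * (g * ι ⟨x, hPS x.2⟩ * g⁻¹) * g * β⁻¹ = β * ι ⟨x, hPS x.2⟩ * β⁻¹ := by group
      rwa [e] at h1
    have hr₂ : ∀ x : P, β * ι ⟨x, hPS x.2⟩ * β⁻¹ ∈ ι.range := fun x => by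
      rw [← hT]
      exact (hr₂' x).1
    have hφ₀S := pcHom_mem ι hι hPS β hr₂
    have hspec₀ := pcHom_spec ι hι hPS β hr₂
    refine ⟨α, hα, pcHom ι hι hPS β hr₂, ⟨hPT, fun x => hmN (hφ₀S x) ?_, β, hβ, fun x hx hy => hspec₀ x hy⟩, fun x hx => ?_⟩
    · rw [hspec₀]
      exact (hr₂' x).2
    · have h1 := hg x
      have h2 := αv ⟨_, hx⟩
      have h3 : ι ⟨φ x, hom_val F hφ x⟩ = ι ⟨α ⟨pcHom ι hι hPS β hr₂ x, hx⟩, hT₁S (α _).2⟩ := by
        rw [h1]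
        have e : (⟨α ⟨pcHom ι hι hPS β hr₂ x, hx⟩, hT₁S (α _).2⟩ : S) = ⟨pcHom ι hι hT₁S n hr₁ ⟨_, hx⟩, pcHom_mem ι hι hT₁S n hr₁ _⟩ := Subtype.ext h2
        rw [e, pcHom_spec]
        show _ = n * ι ⟨pcHom ι hι hPS β hr₂ x, hφ₀S x⟩ * n⁻¹
        rw [hspec₀, hn]
        group
      exact congrArg Subtype.val (hι h3)
  · -- the extension condition
    intro α hα
    have hαi : (preimageAlong ι N).subtype.comp α.toMonoidHom ∈ (pullSys ι hι N).Hom (preimageAlong ι N) := (mem_autGroup_iff le_rfl).1 hα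
    obtain ⟨-, hv, h, hh, w⟩ := hαi
    have w' : ∀ t : preimageAlong ι N, ι ⟨α t, hT₁S (α t).2⟩ = h * ι ⟨t, hT₁S t.2⟩ * h⁻¹ := fun t => w t _ _
    have hrep : ∀ t₀ ∈ (Sy : Subgroup G) ⊓ N, ∃ s : preimageAlong ι N, ι ⟨s, hT₁S s.2⟩ = t₀ := by
      rintro t₀ ⟨ht₁, ht₂⟩
      rw [hT] at ht₁
      obtain ⟨s, rfl⟩ := ht₁
      exact ⟨⟨s, hmN s.2 ht₂⟩, rfl⟩
    have hhN : h ∈ Subgroup.normalizer (((Sy : Subgroup G) ⊓ N : Subgroup G) : Set G) := by
      refine mem_normalizer_of_forall fun t₀ ht₀ => ?_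
      obtain ⟨s, rfl⟩ := hrep t₀ ht₀
      rw [← w' s]
      exact hT₀ (α s).2
    obtain ⟨g, hgN, hgT, hgY⟩ := core_ext_aux Sy N hh hhN
    have hCle : centralizerIn S (preimageAlong ι N) ≤ S := centralizerIn_le _
    have hXS : preimageAlong ι N ⊔ centralizerIn S (preimageAlong ι N) ≤ S := sup_le hT₁S hCle
    have hCim : ∀ c (hc : c ∈ centralizerIn S (preimageAlong ι N)), ι ⟨c, hCle hc⟩ ∈ centralizerIn (Sy : Subgroup G) ((Sy : Subgroup G) ⊓ N) := by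
      intro c hc
      refine mem_centralizerIn.2 ⟨hIS _, fun t₀ ht₀ => ?_⟩
      obtain ⟨s, rfl⟩ := hrep t₀ ht₀
      have h1 := (mem_centralizerIn.1 hc).2 s s.2
      have h2 : (⟨s, hT₁S s.2⟩ : S) * ⟨c, hCle hc⟩ = ⟨c, hCle hc⟩ * ⟨s, hT₁S s.2⟩ := Subtype.ext h1
      rw [← map_mul, ← map_mul, h2]
    have hrC : ∀ c (hc : c ∈ centralizerIn S (preimageAlong ι N)), ∃ c' : S, ι c' = g * ι ⟨c, hCle hc⟩ * g⁻¹ ∧ (c' : Ω) ∈ centralizerIn S (preimageAlong ι N) := by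
      intro c hc
      have h1 := hgY _ (hCim c hc)
      obtain ⟨h2, h3⟩ := mem_centralizerIn.1 h1
      rw [hT] at h2
      obtain ⟨c', hc'⟩ := h2
      refine ⟨c', hc', mem_centralizerIn.2 ⟨c'.2, fun t ht => ?_⟩⟩
      have h4 := h3 _ (hT₀ ht)
      rw [← hc', ← map_mul, ← map_mul] at h4
      exact congrArg Subtype.val (hι h4)
    have hrT : ∀ t (ht : t ∈ preimageAlong ι N), g * ι ⟨t, hT₁S ht⟩ * g⁻¹ = ι ⟨α ⟨t, ht⟩, hT₁S (α _).2⟩ := fun t ht => by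
      rw [hgT _ (hT₀ ht), w' ⟨t, ht⟩]
    have hr : ∀ x : ↥(preimageAlong ι N ⊔ centralizerIn S (preimageAlong ι N)), g * ι ⟨x, hXS x.2⟩ * g⁻¹ ∈ ι.range := by
      intro x
      let f : ↥(preimageAlong ι N ⊔ centralizerIn S (preimageAlong ι N)) →* G :=
        (MulAut.conj g).toMonoidHom.comp (ι.comp (Subgroup.inclusion hXS))
      refine map_sup_mem' (f := f) (T := ι.range) (fun t ht => ?_) (fun c hc => ?_) x
      · show g * ι ⟨t, hT₁S ht⟩ * g⁻¹ ∈ ι.range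
        rw [hrT t ht]
        exact ⟨_, rfl⟩
      · obtain ⟨c', hc', -⟩ := hrC c hc
        exact ⟨c', hc'⟩
    have hψS := pcHom_mem ι hι hXS g hr
    have hspec := pcHom_spec ι hι hXS g hr
    have hψ : pcHom ι hι hXS g hr ∈ F.Hom (preimageAlong ι N ⊔ centralizerIn S (preimageAlong ι N)) :=
      (hre.2 _ hXS _ hψS).2 ⟨g, fun x => hspec x _⟩
    have hvalT : ∀ t (ht : t ∈ preimageAlong ι N), pcHom ι hι hXS g hr ⟨t, Subgroup.mem_sup_left ht⟩ = α ⟨t, ht⟩ := fun t ht => by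
      have h1 : ι ⟨pcHom ι hι hXS g hr ⟨t, Subgroup.mem_sup_left ht⟩, hψS _⟩ = ι ⟨α ⟨t, ht⟩, hT₁S (α _).2⟩ := by
        rw [hspec]
        exact hrT t ht
      exact congrArg Subtype.val (hι h1)
    have hvalC : ∀ c (hc : c ∈ centralizerIn S (preimageAlong ι N)),
        pcHom ι hι hXS g hr ⟨c, Subgroup.mem_sup_right hc⟩ ∈ centralizerIn S (preimageAlong ι N) := fun c hc => by
      obtain ⟨c', hc', hc''⟩ := hrC c hc
      have h1 : ι ⟨pcHom ι hι hXS g hr ⟨c, Subgroup.mem_sup_right hc⟩, hψS _⟩ = ι c' := by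
        rw [hspec, hc']
      have h2 : pcHom ι hι hXS g hr ⟨c, Subgroup.mem_sup_right hc⟩ = c' := congrArg Subtype.val (hι h1)
      rw [h2]
      exact hc''
    have hmaps : ∀ x, pcHom ι hι hXS g hr x ∈ preimageAlong ι N ⊔ centralizerIn S (preimageAlong ι N) := by
      apply map_sup_mem
      · intro t ht
        rw [hvalT t ht]
        exact Subgroup.mem_sup_left (α _).2
      · intro c hc
        exact Subgroup.mem_sup_right (hvalC c hc)
    obtain ⟨β, hβ, hβv⟩ := exists_aut_of_map hψ hmaps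
    refine ⟨β, hβ, fun x => ?_, fun c hc => ?_⟩
    · rw [hβv]
      exact hvalT x x.2
    · rw [hβv]
      have hcS : (c : Ω) ∈ S := hCle hc
      have hc1 : pcHom ι hι hXS g hr c ∈ centralizerIn S (preimageAlong ι N) := hvalC c hc
      refine ⟨?_, Subgroup.mul_mem _ (Subgroup.inv_mem _ hc.2) hc1.2⟩
      have hmemS : (c : Ω)⁻¹ * pcHom ι hι hXS g hr c ∈ S := S.mul_mem (S.inv_mem hcS) hc1.1
      refine hmN hmemS ?_
      have e : (⟨(c : Ω)⁻¹ * pcHom ι hι hXS g hr c, hmemS⟩ : S) = (⟨c, hcS⟩ : S)⁻¹ * ⟨pcHom ι hι hXS g hr c, hc1.1⟩ := rfl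
      rw [e, map_mul, map_inv, hspec]
      have e2 : (ι ⟨c, hcS⟩)⁻¹ * (g * ι ⟨c, hXS c.2⟩ * g⁻¹) = ((ι ⟨c, hcS⟩)⁻¹ * g * ι ⟨c, hcS⟩) * g⁻¹ := by group
      rw [e2]
      have h1 := ‹N.Normal›.conj_mem g hgN (ι ⟨c, hcS⟩)⁻¹
      rw [inv_inv] at h1
      exact N.mul_mem h1 (N.inv_mem hgN)

end Main

universe u in
/-- **A simple realizable fusion system is realized by a simple group.** -/
theorem realized_simple {Ω : Type u} [Group Ω] {S : Subgroup Ω} [Finite S] (p : ℕ) [Fact p.Prime] (F : FusionSystem S)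
    (hsimple : F.IsSimple p) (hreal : F.IsRealizable p) :
    ∃ (G : Type u) (_ : Group G) (_ : Finite G) (_ : IsSimpleGroup G) (ι : ↥S →* G),
      F.IsRealizedBy ι ∧ ∃ T : Sylow p G, (T : Subgroup G) = ι.range := by
  classical
  let Q : ℕ → Prop := fun n => ∃ (G : Type u) (_ : Group G) (_ : Finite G) (ι : ↥S →* G),
    Nat.card G = n ∧ F.IsRealizedBy ι ∧ ∃ T : Sylow p G, (T : Subgroup G) = ι.range
  have hex : ∃ n, Q n := by
    obtain ⟨G, i1, i2, ι, h1, h2⟩ := hreal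
    exact ⟨_, G, i1, i2, ι, rfl, h1, h2⟩
  obtain ⟨G, i1, i2, ι, hn, hre, Sy, hT⟩ := Nat.find_spec hex
  have hmin : ∀ (G' : Type u) [Group G'] [Finite G'] (ι' : S →* G'), F.IsRealizedBy ι' →
      (∃ T : Sylow p G', (T : Subgroup G') = ι'.range) → Nat.card G ≤ Nat.card G' := by
    intro G' i3 i4 ι' h1 h2
    rw [hn]
    exact Nat.find_min' hex ⟨G', i3, i4, ι', rfl, h1, h2⟩
  have hι := hre.1
  haveI hnt : Nontrivial G := by
    by_contra hcon
    rw [not_nontrivial_iff_subsingleton] at hcon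
    apply hsimple.2.1
    refine le_bot_iff.1 fun s hs => ?_
    have h1 : ι ⟨s, hs⟩ = ι 1 := Subsingleton.elim _ _
    have h2 := hι h1
    exact Subgroup.mem_bot.2 (congrArg Subtype.val h2)
  refine ⟨G, i1, i2, ⟨fun N hN => ?_⟩, ι, hre, Sy, hT⟩
  by_cases hbot : N = ⊥
  · exact Or.inl hbot
  right
  have hE := pull_normal hι Sy hT N hsimple.1 hre
  rcases hsimple.2.2 _ _ hE with h0 | ⟨h1, h2⟩
  · -- the kernel meets `S` trivially
    exfalso
    have hker : ∀ s : S, ι s ∈ N → s = 1 := by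
      intro s hs
      have h3 : (s : Ω) ∈ preimageAlong ι N := mem_preimageAlong.2 ⟨s.2, hs⟩
      rw [h0] at h3
      exact Subtype.ext (Subgroup.mem_bot.1 h3)
    let ι' : S →* G ⧸ N := (QuotientGroup.mk' N).comp ι
    have hmk : ∀ x y : G, (QuotientGroup.mk x : G ⧸ N) = QuotientGroup.mk y → x⁻¹ * y ∈ N := fun x y h => QuotientGroup.eq.1 h
    have hinj : Function.Injective ι' := by
      refine (injective_iff_map_eq_one ι').2 fun s hs => hker s ?_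
      exact (QuotientGroup.eq_one_iff _).1 hs
    have hsyl : ∃ T : Sylow p (G ⧸ N), (T : Subgroup (G ⧸ N)) = ι'.range := by
      refine ⟨Sy.mapSurjective (QuotientGroup.mk'_surjective N), ?_⟩
      rw [Sylow.coe_mapSurjective, hT, MonoidHom.range_comp]
    have hreal' : F.IsRealizedBy ι' := by
      refine ⟨hinj, fun P hP φ hφ => ?_⟩
      rw [hre.2 P hP φ hφ]
      constructor
      · rintro ⟨g, hg⟩
        refine ⟨QuotientGroup.mk g, fun x => ?_⟩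
        show (QuotientGroup.mk (ι ⟨φ x, hφ x⟩) : G ⧸ N) = _
        rw [hg x]
        rfl
      · rintro ⟨γ, hγ⟩
        have hPle : (P.subgroupOf S).map ι ≤ (Sy : Subgroup G) := by
          rw [hT]
          rintro _ ⟨s, -, rfl⟩
          exact ⟨s, rfl⟩
        obtain ⟨g, hgγ, hgv⟩ := lift_conj Sy N hPle γ (by
          rintro _ ⟨s, hs, rfl⟩
          have hsP : (s : Ω) ∈ P := Subgroup.mem_subgroupOf.1 hs
          have h3 := hγ ⟨s, hsP⟩
          have h4 : γ * (QuotientGroup.mk (ι s) : G ⧸ N) * γ⁻¹ = ι' ⟨φ ⟨s, hsP⟩, hφ _⟩ := h3.symm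
          rw [h4]
          exact ⟨ι ⟨φ ⟨s, hsP⟩, hφ _⟩, by rw [hT]; exact ⟨_, rfl⟩, rfl⟩)
        refine ⟨g, fun x => ?_⟩
        have h3 := hgv _ ⟨⟨x, hP x.2⟩, Subgroup.mem_subgroupOf.2 x.2, rfl⟩
        rw [hT] at h3
        obtain ⟨s, hs⟩ := h3
        have h4 : (QuotientGroup.mk (ι ⟨φ x, hφ x⟩) : G ⧸ N) = QuotientGroup.mk (ι s) := by
          rw [hs]
          have h5 := hγ x
          show ι' ⟨φ x, hφ x⟩ = _
          rw [h5, ← hgγ]
          rfl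
        have h5 := hmk _ _ h4
        rw [← map_inv, ← map_mul] at h5
        have h6 := hker _ h5
        have h7 : (⟨φ x, hφ x⟩ : S) = s := inv_mul_eq_one.1 h6
        rw [h7, hs]
    have hc := hmin (G ⧸ N) ι' hreal' hsyl
    have hc1 := Subgroup.card_eq_card_quotient_mul_card_subgroup N
    have : Nontrivial N := (Subgroup.nontrivial_iff_ne_bot _).2 hbot
    have hc2 : 1 < Nat.card N := Finite.one_lt_card
    have hc3 : 0 < Nat.card (G ⧸ N) := Nat.card_pos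
    nlinarith
  · -- `S` lies in the kernel
    have hSN : ∀ s : S, ι s ∈ N := fun s => by
      have h3 : (s : Ω) ∈ preimageAlong ι N := h1.ge s.2
      exact (mem_preimageAlong.1 h3).2
    let ι' : S →* N := ι.codRestrict N hSN
    have hinj : Function.Injective ι' := fun a b hab => hι (congrArg Subtype.val hab)
    have hle : (Sy : Subgroup G) ≤ N := by
      rw [hT]
      rintro _ ⟨s, rfl⟩
      exact hSN s
    have hsyl : ∃ T : Sylow p N, (T : Subgroup N) = ι'.range := by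
      refine ⟨Sy.subtype hle, ?_⟩
      rw [Sylow.coe_subtype, hT]
      ext y
      rw [Subgroup.mem_subgroupOf]
      constructor
      · rintro ⟨s, hs⟩
        exact ⟨s, Subtype.ext hs⟩
      · rintro ⟨s, hs⟩
        exact ⟨s, congrArg Subtype.val hs⟩
    have hreal' : F.IsRealizedBy ι' := by
      refine ⟨hinj, fun P hP φ hφ => ?_⟩
      rw [← h2 P]
      constructor
      · rintro ⟨-, hv, h, hh, w⟩
        exact ⟨⟨h, hh⟩, fun x => Subtype.ext (w x _ _)⟩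
      · rintro ⟨n, hn'⟩
        exact ⟨hP.trans h1.ge, fun x => h1.ge (hφ x), n, n.2, fun x hx hy => congrArg Subtype.val (hn' x)⟩
    have hc := hmin N ι' hreal' hsyl
    exact Subgroup.eq_top_of_card_eq N (le_antisymm (Subgroup.card_le_card_group N) hc)

end Cfsg.Agent.Lib.Fusion
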