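import Cfsg.Agent.Lib.Fusion.Centric
import Cfsg.Agent.Lib.Fusion.Group
import Cfsg.Agent.Lib.Fusion.Top
import Cfsg.Agent.Lib.Fusion.Essential
import Mathlib

/-! # Invariant subsystems over the whole `S`; climbing conjugations -/

set_option autoImplicit false

namespace Cfsg.Agent.Lib.Fusion

open Cfsg Cfsg.FusionSystem

variable {Ω : Type*} [Group Ω] {S : Subgroup Ω} {F E : FusionSystem S}

/-- Centric subgroups are fully centralized. -/
theorem IsCentric.fullyCentralized [Finite S] {Q : Subgroup Ω} (hQ : F.IsCentric Q) : F.IsFullyCentralized Q := by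
  refine ⟨hQ.1, fun Q' hQ' => ?_⟩
  obtain ⟨e, he⟩ := isConj_iff.1 hQ'
  have hC' := hQ.2 Q' hQ'
  have : Finite (centralizerIn S Q) := finite_of_le (centralizerIn_le Q)
  let f : centralizerIn S Q' → centralizerIn S Q := fun x =>
    ⟨(e.symm ⟨x, hC' x.2⟩ : Q), mem_centralizerIn.2 ⟨hQ.1 (e.symm ⟨x, hC' x.2⟩).2, fun y hy => by
      have h1 := (mem_centralizerIn.1 x.2).2
      have h2 : e.symm ⟨x, hC' x.2⟩ * ⟨y, hy⟩ = ⟨y, hy⟩ * e.symm ⟨x, hC' x.2⟩ := by
        apply e.injective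
        simp only [map_mul, MulEquiv.apply_symm_apply]
        apply Subtype.ext
        simp only [Subgroup.coe_mul]
        exact (h1 _ (e ⟨y, hy⟩).2).symm
      exact congrArg Subtype.val h2.symm⟩⟩
  refine Nat.card_le_card_of_injective f fun a b hab => ?_
  have h1 : e.symm ⟨a, hC' a.2⟩ = e.symm ⟨b, hC' b.2⟩ := Subtype.ext (congrArg (fun y : centralizerIn S Q => (y : Ω)) hab)
  have h2 := e.symm.injective h1
  exact Subtype.ext (congrArg (fun y : Q' => (y : Ω)) h2)

theorem IsCentric.of_subsystem {Q : Subgroup Ω} (hEF : E.IsSubsystemOf F) (hQ : F.IsCentric Q) : E.IsCentric Q := by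
  refine ⟨hQ.1, fun Q' ⟨φ, hφ, hr⟩ => hQ.2 Q' ⟨φ, hEF _ hφ, hr⟩⟩

/-- Climbing: if `c_g` on a centric `g`-invariant subgroup is a map of a saturated subsystem, then so is `c_g` on `S`. -/
theorem climb_conj [Finite S] {p : ℕ} [Fact p.Prime] (hS : IsPGroup p S) (hF : F.IsSaturated p) (hE : E.IsSaturated p)
    (hEF : E.IsSubsystemOf F) {g : Ω} (hgS : g ∈ Subgroup.normalizer (S : Set Ω)) (hgF : conjHom S g ∈ F.Hom S) :
    ∀ Q, Q ≤ S → F.IsCentric Q → g ∈ Subgroup.normalizer (Q : Set Ω) → conjHom Q g ∈ E.Hom Q → conjHom S g ∈ E.Hom S := by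
  refine down_induction (S := S) (C := fun Q => F.IsCentric Q → g ∈ Subgroup.normalizer (Q : Set Ω) →
    conjHom Q g ∈ E.Hom Q → conjHom S g ∈ E.Hom S) fun Q hQS ih hQc hgQ hφE => ?_
  by_cases hQeq : Q = S
  · subst hQeq
    exact hφE
  have hlt : Q < S := lt_of_le_of_ne hQS hQeq
  have hQN := lt_normalizerIn hS hlt
  set N := normalizerIn S Q with hN
  have hNS : N ≤ S := normalizerIn_le Q
  have := finite_of_le hNS
  have := finite_of_le hQS
  have hrange : (conjHom Q g).range = Q := by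
    ext y
    constructor
    · rintro ⟨x, rfl⟩
      exact conj_mem_of_mem_normalizer hgQ x.2
    · intro hy
      refine ⟨⟨g⁻¹ * y * g, ?_⟩, ?_⟩
      · have := conj_mem_of_mem_normalizer (Subgroup.inv_mem _ hgQ) hy
        simpa using this
      · simp [conjHom, MulAut.conj_apply]
        group
  have hrec : E.IsReceptive Q :=
    IsSat.receptive_of_fullyCentralized hS hE (IsCentric.fullyCentralized (IsCentric.of_subsystem hEF hQc))
  obtain ⟨ψ, hψ, hv⟩ := hrec.2 Q (conjHom Q g) hφE hrange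
  have hconj : ∀ h ∈ S, g * h * g⁻¹ ∈ S := fun h hh => conj_mem_of_mem_normalizer hgS hh
  have hNle : N ≤ extender S Q (conjHom Q g) := by
    intro h hh
    have hh' := mem_normalizerIn.1 hh
    refine mem_extender_iff.2 ⟨hh'.1, hh'.2, g * h * g⁻¹, hconj h hh'.1, fun x hx => ?_⟩
    show g * (h * (x : Ω) * h⁻¹) * g⁻¹ = (g * h * g⁻¹) * (g * (x : Ω) * g⁻¹) * (g * h * g⁻¹)⁻¹
    group
  have hψ₁ : ψ.comp (Subgroup.inclusion hNle) ∈ E.Hom N := res_mem E hψ hNle
  have hQNle : Q ≤ N := hQN.le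
  have hgN : conjHom N g ∈ F.Hom N := by
    refine hom_congr F (res_mem F hgF hNS) fun x => rfl
  have hle : ∀ x : N, (x : Ω) ∈ Q → (ψ.comp (Subgroup.inclusion hNle)) x = conjHom N g x := by
    intro x hx
    have := hv x hx (hNle x.2)
    exact this
  obtain ⟨z, hzQ, -, hz⟩ := rigidity hS hF hQNle hQc (hEF _ hψ₁) hgN hle
  have hgNn : g ∈ Subgroup.normalizer (N : Set Ω) := by
    refine mem_normalizer_of_forall fun x hx => ?_
    have hx' := mem_normalizerIn.1 hx
    refine mem_normalizerIn.2 ⟨hconj x hx'.1, ?_⟩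
    have e1 : g * x * g⁻¹ = g * x * g⁻¹ := rfl
    refine mem_normalizer_of_forall fun y hy => ?_
    have hy1 : g⁻¹ * y * g ∈ Q := by
      have := conj_mem_of_mem_normalizer (Subgroup.inv_mem _ hgQ) hy
      simpa using this
    have hy2 := conj_mem_of_mem_normalizer hx'.2 hy1
    have hy3 := conj_mem_of_mem_normalizer hgQ hy2
    have e : g * (x * (g⁻¹ * y * g) * x⁻¹) * g⁻¹ = g * x * g⁻¹ * y * (g * x * g⁻¹)⁻¹ := by group
    rwa [e] at hy3
  have hφN : conjHom N g ∈ E.Hom N := by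
    have hzc : conjHom N (z : Ω) ∈ E.Hom N := E.conj_mem hNS (hNS z.2)
    have hm : ∀ y : N, conjHom N (z : Ω) y ∈ N := fun y => (z * y * z⁻¹ : N).2
    refine comp_val E hzc hψ₁ hm fun y => ?_
    rw [hz y]
    rfl
  exact ih N hNS (card_lt_of_lt hNS hQN) (IsCentric.mono hQc hQNle hNS) hgNn hφN

/-- Conjugation in `Aut_F(R)` preserves `Aut_E(R)` for an invariant subsystem on `S`. -/
theorem invariant_conj_mem [Finite S] (hinv : E.IsInvariantIn F) {R : Subgroup Ω} (hRS : R ≤ S) {a b : MulAut R}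
    (ha : a ∈ F.autGroup R) (hb : b ∈ E.autGroup R) : a * b * a⁻¹ ∈ E.autGroup R := by
  have hiso_a : IsIso F (P := R) (Q := R) a := (mem_autGroup_iff hRS).1 ha
  have hiso_b : IsIso E (P := R) (Q := R) b := (mem_autGroup_iff hRS).1 hb
  obtain ⟨α₀, hα₀, φ₀, hφ₀, hv⟩ := hinv.2.2.2 R hRS _ hiso_a
  have hφS : ∀ x : R, φ₀ x ∈ S := hom_val E hφ₀
  have hv' : ∀ x : R, ((a x : R) : Ω) = ((α₀ ⟨φ₀ x, hφS x⟩ : S) : Ω) := fun x => hv x (hφS x)
  set e₀ : R ≃* φ₀.range := isoRange hφ₀ with he₀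
  have he₀i : IsIso E e₀ := isoRange_isIso hφ₀
  have he₀v : ∀ r : R, ((e₀ r : φ₀.range) : Ω) = φ₀ r := fun r => isoRange_coe hφ₀ r
  have hR₀S : φ₀.range ≤ S := by
    rintro _ ⟨x, rfl⟩
    exact hφS x
  -- `β₀ = e₀ b e₀⁻¹`
  have hβ₀ : IsIso E (e₀.symm.trans ((show R ≃* R from b).trans e₀)) := IsIso.trans he₀i.symm (IsIso.trans hiso_b he₀i)
  obtain ⟨χ, hχ, hχv⟩ := hinv.2.2.1 _ hR₀S _ hβ₀ α₀ hα₀
  have hR₁ : (φ₀.range.subgroupOf S).map (S.subtype.comp α₀.toMonoidHom) = R := by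
    ext y
    constructor
    · rintro ⟨x, hx, rfl⟩
      obtain ⟨r, hr⟩ := Subgroup.mem_subgroupOf.1 hx
      have hxe : x = ⟨φ₀ r, hφS r⟩ := Subtype.ext hr.symm
      rw [hxe]
      show ((α₀ ⟨φ₀ r, hφS r⟩ : S) : Ω) ∈ R
      rw [← hv' r]
      exact (a r).2
    · intro hy
      refine ⟨⟨φ₀ (a⁻¹ ⟨y, hy⟩), hφS _⟩, Subgroup.mem_subgroupOf.2 ⟨_, rfl⟩, ?_⟩
      show ((α₀ ⟨φ₀ (a⁻¹ ⟨y, hy⟩), hφS _⟩ : S) : Ω) = y
      rw [← hv' _]
      simp
  rw [mem_autGroup_iff hRS]
  refine hom_of_eq E hχ hR₁ fun x hP hQ => ?_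
  -- `x = a r`
  set r : R := a⁻¹ ⟨x, hQ⟩ with hr
  have har : a r = ⟨x, hQ⟩ := by simp [hr]
  have hxr : x = ((a r : R) : Ω) := by rw [har]
  have hm₁ : ((e₀.symm.trans ((show R ≃* R from b).trans e₀)) (e₀ r) : φ₀.range) = e₀ (b r) := by
    simp
  have hsub : (⟨(e₀ r : φ₀.range), hR₀S (e₀ r).2⟩ : S) = ⟨φ₀ r, hφS r⟩ := Subtype.ext (he₀v r)
  have hm : ((α₀ ⟨(e₀ r : φ₀.range), hR₀S (e₀ r).2⟩ : S) : Ω) = x := by
    rw [hsub, ← hv' r, hxr]
  have hval : ((φ₀.range.subtype.comp (e₀.symm.trans ((show R ≃* R from b).trans e₀)).toMonoidHom) (e₀ r)) = φ₀ (b r) := by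
    show (((e₀.symm.trans ((show R ≃* R from b).trans e₀)) (e₀ r) : φ₀.range) : Ω) = _
    rw [hm₁, he₀v]
  have h1 := hχv (e₀ r) (by rw [hval]; exact hφS _) (by rw [hm]; exact hP)
  have h2 : (χ ⟨((α₀ ⟨(e₀ r : φ₀.range), hR₀S (e₀ r).2⟩ : S) : Ω), by rw [hm]; exact hP⟩) = χ ⟨x, hP⟩ := by
    congr 1
    exact Subtype.ext hm
  rw [← h2, h1]
  show ((a * b * a⁻¹) ⟨x, hQ⟩ : Ω) = _
  have h3 : ((a * b * a⁻¹) ⟨x, hQ⟩ : R) = a (b r) := by
    simp [MulAut.mul_apply, hr]
  rw [h3, hv' (b r)]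
  congr 2
  exact Subtype.ext hval.symm

/-- An invariant saturated subsystem on `S` contains the `p`-elements of `Aut_F(R)` for `R` fully normalized. -/
theorem mem_of_pElement [Finite S] {p : ℕ} [Fact p.Prime] (hS : IsPGroup p S) (hF : F.IsSaturated p)
    (hinv : E.IsInvariantIn F) {R : Subgroup Ω} (hR : F.IsFullyNormalized R) {a : MulAut R} (ha : a ∈ F.autGroup R)
    {k : ℕ} (hak : a ^ (p ^ k) = 1) : a ∈ E.autGroup R := by
  have hfa := IsSat.fullyAutomized_of_fullyNormalized hS hF hR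
  have hsyl := (isFullyAutomized_iff.1 hfa).2
  have := finite_of_le hR.1
  have : Finite (MulAut R) := finite_mulAut R
  obtain ⟨β, hβ, hw⟩ := IsSylowIn.exists_conj_le hsyl (isPGroup_zpowers hak)
    ((Subgroup.zpowers_le).2 ha)
  have h1 := hw a (Subgroup.mem_zpowers a)
  have h2 : β * a * β⁻¹ ∈ E.autGroup R := autInducedBy_le_autGroup E hR.1 h1
  have h3 := invariant_conj_mem hinv hR.1 (Subgroup.inv_mem _ hβ) h2
  have e : β⁻¹ * (β * a * β⁻¹) * β⁻¹⁻¹ = a := by group
  rwa [e] at h3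

/-- `S5160`. -/
theorem isSimple_of_generated {G : Type*} [Group G] [Finite G] {p : ℕ} [Fact p.Prime] (S : Sylow p G)
    (hS1 : (S : Subgroup G) ≠ ⊥)
    (ha : ∀ T : Subgroup G, (groupFusionSystem (S : Subgroup G)).StronglyClosed T → T = ⊥ ∨ T = (S : Subgroup G))
    (hb : autInducedBy ⊤ (S : Subgroup G) = ⨆ (R : Subgroup G)
      (_ : (groupFusionSystem (S : Subgroup G)).IsFullyNormalized R ∧
        (groupFusionSystem (S : Subgroup G)).IsRadical p R ∧ (groupFusionSystem (S : Subgroup G)).IsCentric R),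
      autInducedBy (Subgroup.closure {g : G | g ∈ Subgroup.normalizer (R : Set G) ∧ ∃ k : ℕ, orderOf g = p ^ k})
        (S : Subgroup G)) :
    (groupFusionSystem (S : Subgroup G)).IsSimple p := by
  have hSp : IsPGroup p (S : Subgroup G) := S.isPGroup'
  have hF : (groupFusionSystem (S : Subgroup G)).IsSaturated p := by
    rw [groupFusionSystem_eq]
    exact isSaturated_fH le_top (isSylowIn_of_sylow S)
  refine ⟨hF, hS1, fun T E hE => ?_⟩
  have hinv := hE.1.2.2
  rcases ha T hinv.2.1 with h | h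
  · exact Or.inl h
  · subst h
    refine Or.inr ⟨rfl, fun P => Set.Subset.antisymm (hinv.1 P) ?_⟩
    have hEs : E.IsSaturated p := hE.1.1
    have hconjF : ∀ (Q : Subgroup G) (g : G), Q ≤ (S : Subgroup G) → (∀ x ∈ Q, g * x * g⁻¹ ∈ (S : Subgroup G)) →
        conjHom Q g ∈ (groupFusionSystem (S : Subgroup G)).Hom Q :=
      fun Q g hQ hv => ⟨hQ, fun x => hv x x.2, g, fun _ => rfl⟩
    have key : ∀ (R : Subgroup G), ((groupFusionSystem (S : Subgroup G)).IsFullyNormalized R ∧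
        (groupFusionSystem (S : Subgroup G)).IsRadical p R ∧ (groupFusionSystem (S : Subgroup G)).IsCentric R) →
        autInducedBy (Subgroup.closure {g : G | g ∈ Subgroup.normalizer (R : Set G) ∧ ∃ k : ℕ, orderOf g = p ^ k})
          (S : Subgroup G) ≤ E.autGroup (S : Subgroup G) := by
      rintro R ⟨hRn, -, hRc⟩
      have hRS := hRn.1
      have := finite_of_le hRS
      have hcR : ∀ g ∈ Subgroup.closure {g : G | g ∈ Subgroup.normalizer (R : Set G) ∧ ∃ k : ℕ, orderOf g = p ^ k},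
          ∃ hgR : g ∈ Subgroup.normalizer (R : Set G), conjAut R g hgR ∈ E.autGroup R := by
        intro g hg
        induction hg using Subgroup.closure_induction with
        | mem g hg =>
          obtain ⟨hgR, k, hk⟩ := hg
          refine ⟨hgR, ?_⟩
          have hmemF : conjAut R g hgR ∈ (groupFusionSystem (S : Subgroup G)).autGroup R := by
            rw [groupFusionSystem_eq, autGroup_fH le_top hRS]
            exact conjAut_mem (K := ⊤) (Subgroup.mem_top g) hgR
          refine mem_of_pElement hSp hF hinv hRn hmemF (k := k) ?_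
          have h1 : (⟨g, hgR⟩ : Subgroup.normalizer (R : Set G)) ^ (p ^ k) = 1 := by
            apply Subtype.ext
            simp only [Subgroup.coe_pow, Subgroup.coe_one]
            rw [← hk]
            exact pow_orderOf_eq_one g
          have h2 := congrArg (Subgroup.normalizerMonoidHom (H := R)) h1
          rw [map_pow, map_one] at h2
          exact h2
        | one =>
          refine ⟨Subgroup.one_mem _, ?_⟩
          rw [conjAut_one]
          exact Subgroup.one_mem _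
        | mul a b _ _ ha hb =>
          obtain ⟨h1, h2⟩ := ha
          obtain ⟨h3, h4⟩ := hb
          refine ⟨Subgroup.mul_mem _ h1 h3, ?_⟩
          rw [conjAut_mul R h1 h3]
          exact Subgroup.mul_mem _ h2 h4
        | inv a _ ha =>
          obtain ⟨h1, h2⟩ := ha
          refine ⟨Subgroup.inv_mem _ h1, ?_⟩
          rw [conjAut_inv R h1]
          exact Subgroup.inv_mem _ h2
      intro α hα
      obtain ⟨g, hg, hgv⟩ := mem_autInducedBy_iff.1 hα
      have hgS : g ∈ Subgroup.normalizer ((S : Subgroup G) : Set G) := mem_normalizer_of_conj hgv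
      obtain ⟨hgR, hgE⟩ := hcR g hg
      have hconjE : conjHom R g ∈ E.Hom R := by
        have := (mem_autGroup_iff hRS).1 hgE
        exact hom_congr E this fun x => rfl
      have hfinal := climb_conj hSp hF hEs hinv.1 hgS
        (hconjF _ g le_rfl fun x hx => conj_mem_of_mem_normalizer hgS hx) R hRS hRc hgR hconjE
      rw [mem_autGroup_iff le_rfl]
      exact hom_congr E hfinal fun x => hgv x
    have haut : (groupFusionSystem (S : Subgroup G)).autGroup (S : Subgroup G) ≤ E.autGroup (S : Subgroup G) := by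
      rw [groupFusionSystem_eq, autGroup_fH le_top le_rfl, hb]
      exact iSup₂_le key
    intro φ hφ
    obtain ⟨α, hα, φ₀, hφ₀, hv⟩ := hinv.2.2.2 P (hom_le _ hφ) φ hφ
    have hαE : IsIso E (P := (S : Subgroup G)) (Q := (S : Subgroup G)) α := (mem_autGroup_iff le_rfl).1 (haut hα)
    exact comp_val E hφ₀ hαE (hom_val E hφ₀) fun x => hv x (hom_val E hφ₀ x)

end Cfsg.Agent.Lib.Fusion
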