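import Cfsg.Agent.Lib.Fusion.QuotModel
import Cfsg.Agent.Lib.Fusion.SectionFree
import Cfsg.Agent.Lib.Fusion.ModelEmbed
import Cfsg.Agent.Lib.Fusion.Group
import Cfsg.Agent.S5076
import Mathlib

/-! # The fusion system of a group not involving `H` is `H`-free -/

set_option autoImplicit false

namespace Cfsg.Agent.Lib.Fusion

open Cfsg Cfsg.FusionSystem

universe u v

/-- The fusion system of a finite group not involving `H` is `H`-free. -/
theorem isSectionFree_group {G : Type u} [Group G] [Finite G] {p : ℕ} [Fact p.Prime] (S : Sylow p G) {H : Type v} [Group H]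
    (hinv : ¬ Involves H G) : (groupFusionSystem (S : Subgroup G)).IsSectionFree p H := by
  intro Q hQn hQc N hN L _ ι hm hinvL
  have hF := Cfsg.Agent.S5076.result p S
  have hS : IsPGroup p (S : Subgroup G) := S.isPGroup'
  have hQS := hQn.1
  have hT₁p : IsPGroup p (normalizerIn (S : Subgroup G) Q) := hS.to_le (normalizerIn_le Q)
  have hNsat := isSaturated_normalizerSystem hS hF hQn hN
  have hRn := isNormal_normalizerSystem hQS hN
  have hRc : centralizerIn (normalizerIn (S : Subgroup G) Q) Q ≤ Q := by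
    intro y hy
    have hy' := mem_centralizerIn.1 hy
    exact IsCentric.centralizer_le hQc (mem_centralizerIn.2 ⟨normalizerIn_le Q hy'.1, hy'.2⟩)
  obtain ⟨X, hX⟩ : ∃ X : Subgroup G, X = normalizerIn (⊤ : Subgroup G) Q := ⟨_, rfl⟩
  have hXmem : ∀ {g : G}, g ∈ X ↔ g ∈ Subgroup.normalizer (Q : Set G) := by
    intro g
    rw [hX, mem_normalizerIn]
    exact ⟨fun h => h.2, fun h => ⟨trivial, h⟩⟩
  have hT₁X : normalizerIn (S : Subgroup G) Q ≤ X := fun t ht => hXmem.2 (mem_normalizerIn.1 ht).2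
  let κ : normalizerIn (S : Subgroup G) Q →* X := Subgroup.inclusion hT₁X
  have hκ : Function.Injective κ := Subgroup.inclusion_injective hT₁X
  have hT : ∃ T : Sylow p X, (T : Subgroup X) = κ.range := by
    have h1 : (fusionSystemOfSubgroup (⊤ : Subgroup G) (S : Subgroup G) le_top).IsFullyNormalized Q := by
      rw [← groupFusionSystem_eq]
      exact hQn
    have h2 := (isFullyNormalized_fH_iff le_top (isSylowIn_of_sylow S) hQS).1 h1
    rw [← hX] at h2
    obtain ⟨T, hT⟩ := h2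
    refine ⟨T, hT.trans ?_⟩
    ext y
    rw [Subgroup.mem_subgroupOf, MonoidHom.mem_range]
    constructor
    · intro hy
      exact ⟨⟨y, hy⟩, rfl⟩
    · rintro ⟨t, rfl⟩
      exact t.2
  have hconj : ∀ {P : Subgroup G} {φ : P →* G} (hφ : φ ∈ N.Hom P),
      ∃ g : X, ∀ x : P, κ ⟨φ x, hom_val N hφ x⟩ = g * κ ⟨x, hom_le N hφ x.2⟩ * g⁻¹ := by
    intro P φ hφ
    have hφ' := hφ
    rw [hN P] at hφ'
    obtain ⟨-, -, -, ψ, hψ, hψφ, hψQ⟩ := hφ'
    obtain ⟨-, -, g, hg⟩ := hψ
    have hfinQ : Finite Q := finite_of_le hQS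
    have hgX : g ∈ X := hXmem.2 (mem_normalizer_of_forall fun y hy => by
      have h1 : ψ ⟨y, (le_sup_right : Q ≤ P ⊔ Q) hy⟩ ∈ (Q.subgroupOf (P ⊔ Q)).map ψ :=
        ⟨⟨y, (le_sup_right : Q ≤ P ⊔ Q) hy⟩, Subgroup.mem_subgroupOf.2 hy, rfl⟩
      rw [hψQ, hg] at h1
      exact h1)
    refine ⟨⟨g, hgX⟩, fun x => Subtype.ext ?_⟩
    show φ x = g * (x : G) * g⁻¹
    rw [← hψφ x, hg]
    rfl
  have hVn : ((Q.subgroupOf (normalizerIn (S : Subgroup G) Q)).map κ).Normal := by
    refine ⟨?_⟩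
    rintro _ ⟨t, ht, rfl⟩ g
    have htQ : (t : G) ∈ Q := Subgroup.mem_subgroupOf.1 ht
    have hg : (g : G) ∈ Subgroup.normalizer (Q : Set G) := hXmem.1 g.2
    have h1 : (g : G) * t * (g : G)⁻¹ ∈ Q := conj_mem_of_mem_normalizer hg htQ
    refine ⟨⟨_, le_normalizerIn hQS h1⟩, Subgroup.mem_subgroupOf.2 h1, ?_⟩
    exact Subtype.ext rfl
  have h3 := involves_of_conj hT₁p hNsat hRn hRc hκ hT hconj hVn hm hinvL
  exact hinv (involves_of_injective X.subtype X.subtype_injective h3)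

end Cfsg.Agent.Lib.Fusion
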