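import Cfsg.Agent.Lib.Fusion.FunctorNormal
import Cfsg.Agent.Lib.Fusion.FrameworkThm
import Cfsg.Agent.Lib.Fusion.SectionFreeFactor
import Cfsg.Agent.Lib.Fusion.GroupFree
import Cfsg.Agent.S0664
import Mathlib

/-!
# `Qd(p)`-free fusion systems are constrained, for odd `p`
-/

set_option autoImplicit false

namespace Cfsg.Agent.Lib.Fusion

open Cfsg Cfsg.FusionSystem

universe u

variable {p : ℕ} [Fact p.Prime]

theorem zjFun_ne_bot (Q : Type u) [Group Q] [Finite Q] (hQ : IsPGroup p Q) (hn : Nontrivial Q) : zjFun Q ≠ ⊥ := by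
  intro h
  have hc : Subgroup.center Q = ⊥ := le_bot_iff.1 (h ▸ center_le_zjFun Q)
  have : Nontrivial (Subgroup.center Q) := hQ.center_nontrivial
  exact (Subgroup.nontrivial_iff_ne_bot _).1 this hc

/-- Qd-free saturated systems, `p` odd, are constrained with `Z(J(S))` normal. -/
theorem qd_free_main (hp : p ≠ 2) {Ω : Type u} [Group Ω] {S : Subgroup Ω} [Finite S] {F : FusionSystem S}
    (hS : IsPGroup p S) (hF : F.IsSaturated p) (hfree : F.IsSectionFree p ↥(qd p)) :
    F.IsConstrained p ∧ F.IsNormal (funW zjFun.{u} S) := by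
  refine constrained_funW_main (H := ↥(qd p)) (W := zjFun.{u}) (p := p) (fun Q _ _ h1 h2 => zjFun_ne_bot Q h1 h2)
    (fun Q R _ _ _ h φ => zjFun_inv Q R h φ) ?_ _ hS hF hfree le_rfl
  intro L _ _ P hC hinv
  rw [funW_zjFun]
  exact Cfsg.Agent.S0664.result hp hinv hC P

end Cfsg.Agent.Lib.Fusion
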