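import Cfsg.Agent.Lib.Fusion.Stable
import Cfsg.Agent.Lib.Fusion.Radical
import Cfsg.Agent.Lib.Fusion.Invariant
import Mathlib

/-! # Subsystems containing the `p`-power automorphisms of centric subgroups -/

set_option autoImplicit false
set_option linter.unusedSectionVars false
set_option linter.unusedVariables false

namespace Cfsg.Agent.Lib.Fusion

open Cfsg Cfsg.FusionSystem

variable {Ω : Type*} [Group Ω] {S : Subgroup Ω}

/-- An automorphism of `S`, extended by the identity. -/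
noncomputable def aExt (α : MulAut S) (x : Ω) : Ω :=
  open Classical in if h : x ∈ S then ((α ⟨x, h⟩ : S) : Ω) else x

theorem aExt_of_mem (α : MulAut S) {x : Ω} (h : x ∈ S) : aExt α x = ((α ⟨x, h⟩ : S) : Ω) := by
  simp [aExt, h]

theorem aExt_mem (α : MulAut S) {x : Ω} (h : x ∈ S) : aExt α x ∈ S := by
  rw [aExt_of_mem α h]
  exact (α ⟨x, h⟩).2

theorem aExt_coe (α : MulAut S) (x : S) : aExt α (x : Ω) = ((α x : S) : Ω) := by
  rw [aExt_of_mem α x.2]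

theorem aExt_mul (α : MulAut S) {x y : Ω} (hx : x ∈ S) (hy : y ∈ S) :
    aExt α (x * y) = aExt α x * aExt α y := by
  rw [aExt_of_mem α (S.mul_mem hx hy), aExt_of_mem α hx, aExt_of_mem α hy]
  have : (⟨x * y, S.mul_mem hx hy⟩ : S) = ⟨x, hx⟩ * ⟨y, hy⟩ := rfl
  rw [this, map_mul]
  rfl

theorem aExt_inv (α : MulAut S) {x : Ω} (hx : x ∈ S) : aExt α x⁻¹ = (aExt α x)⁻¹ := by
  rw [aExt_of_mem α (S.inv_mem hx), aExt_of_mem α hx]
  have : (⟨x⁻¹, S.inv_mem hx⟩ : S) = (⟨x, hx⟩ : S)⁻¹ := rfl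
  rw [this, map_inv]
  rfl

theorem aExt_one (x : Ω) : aExt (1 : MulAut S) x = x := by
  by_cases h : x ∈ S
  · rw [aExt_of_mem _ h]; rfl
  · simp [aExt, h]

theorem aExt_comp (β α : MulAut S) {x : Ω} (hx : x ∈ S) : aExt (β * α) x = aExt β (aExt α x) := by
  rw [aExt_of_mem _ hx, aExt_of_mem _ hx, aExt_of_mem _ (α ⟨x, hx⟩).2]
  rfl

theorem aExt_inv_apply (α : MulAut S) {x : Ω} (hx : x ∈ S) : aExt α⁻¹ (aExt α x) = x := by
  rw [← aExt_comp _ _ hx, inv_mul_cancel, aExt_one]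

theorem aExt_apply_inv (α : MulAut S) {x : Ω} (hx : x ∈ S) : aExt α (aExt α⁻¹ x) = x := by
  rw [← aExt_comp _ _ hx, mul_inv_cancel, aExt_one]

/-- The image of a subgroup under an automorphism of `S`. -/
def imgS (α : MulAut S) (P : Subgroup Ω) : Subgroup Ω :=
  (P.subgroupOf S).map (S.subtype.comp α.toMonoidHom)

theorem imgS_le (α : MulAut S) (P : Subgroup Ω) : imgS α P ≤ S := by
  rintro _ ⟨x, -, rfl⟩
  exact (α x).2

theorem mem_imgS {α : MulAut S} {P : Subgroup Ω} (hP : P ≤ S) {y : Ω} :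
    y ∈ imgS α P ↔ ∃ x ∈ P, aExt α x = y := by
  constructor
  · rintro ⟨x, hx, rfl⟩
    exact ⟨x, Subgroup.mem_subgroupOf.1 hx, aExt_coe α x⟩
  · rintro ⟨x, hx, rfl⟩
    exact ⟨⟨x, hP hx⟩, Subgroup.mem_subgroupOf.2 hx, (aExt_of_mem α (hP hx)).symm⟩

theorem aExt_mem_imgS (α : MulAut S) {P : Subgroup Ω} (hP : P ≤ S) {x : Ω} (hx : x ∈ P) : aExt α x ∈ imgS α P :=
  (mem_imgS hP).2 ⟨x, hx, rfl⟩

theorem imgS_imgS (β α : MulAut S) {P : Subgroup Ω} (hP : P ≤ S) : imgS β (imgS α P) = imgS (β * α) P := by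
  ext y
  rw [mem_imgS (imgS_le α P), mem_imgS hP]
  constructor
  · rintro ⟨z, hz, rfl⟩
    obtain ⟨x, hx, rfl⟩ := (mem_imgS hP).1 hz
    exact ⟨x, hx, aExt_comp _ _ (hP hx)⟩
  · rintro ⟨x, hx, rfl⟩
    exact ⟨aExt α x, aExt_mem_imgS α hP hx, (aExt_comp _ _ (hP hx)).symm⟩

/-- The transport of a map. -/
def TrProp (E : FusionSystem S) (α : MulAut S) {P : Subgroup Ω} (φ : P →* Ω) : Prop :=
  ∃ χ ∈ E.Hom (imgS α P), ∀ (x : P) (y : imgS α P), (y : Ω) = aExt α x → χ y = aExt α (φ x)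

variable {F E : FusionSystem S} {α : MulAut S}

theorem tr_conj {P : Subgroup Ω} (hP : P ≤ S) {g : Ω} (hg : g ∈ S) : TrProp E α (conjHom P g) := by
  refine ⟨conjHom _ (aExt α g), E.conj_mem (imgS_le α P) (aExt_mem α hg), fun x y hy => ?_⟩
  show aExt α g * (y : Ω) * (aExt α g)⁻¹ = aExt α (g * (x : Ω) * g⁻¹)
  have hx := hP x.2
  rw [aExt_mul α (S.mul_mem hg hx) (S.inv_mem hg), aExt_mul α hg hx, aExt_inv α hg, hy]

theorem tr_comp {P Q : Subgroup Ω} {φ : P →* Ω} {ψ : Q →* Ω} (hφ : φ ∈ E.Hom P) (hψ : ψ ∈ E.Hom Q)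
    (h : ∀ x : P, φ x ∈ Q) (tφ : TrProp E α φ) (tψ : TrProp E α ψ) :
    TrProp E α (ψ.comp (φ.codRestrict Q h)) := by
  obtain ⟨χ₁, h₁, v₁⟩ := tφ
  obtain ⟨χ₂, h₂, v₂⟩ := tψ
  have hPS := hom_le E hφ
  have hQS := hom_le E hψ
  have hm : ∀ y : imgS α P, χ₁ y ∈ imgS α Q := by
    intro y
    obtain ⟨x, hx, hxy⟩ := (mem_imgS hPS).1 y.2
    rw [v₁ ⟨x, hx⟩ y hxy.symm]
    exact aExt_mem_imgS α hQS (h _)
  refine ⟨χ₂.comp (χ₁.codRestrict _ hm), E.comp_mem h₁ h₂ hm, fun x y hy => ?_⟩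
  exact v₂ ⟨φ x, h x⟩ ⟨χ₁ y, hm y⟩ (v₁ x y hy)

theorem tr_inv {P : Subgroup Ω} {φ : P →* Ω} {ψ : φ.range →* Ω} (hφ : φ ∈ E.Hom P)
    (hv : ∀ x : P, ψ ⟨φ x, ⟨x, rfl⟩⟩ = (x : Ω)) (t : TrProp E α φ) : TrProp E α ψ := by
  obtain ⟨χ, hχ, v⟩ := t
  obtain ⟨ξ, hξ, w⟩ := E.inv_mem hχ
  have hPS := hom_le E hφ
  have hRS : φ.range ≤ S := by
    rintro _ ⟨x, rfl⟩
    exact hom_val E hφ x
  have e : imgS α φ.range ≤ χ.range := by
    intro z hz
    obtain ⟨u, ⟨x, rfl⟩, rfl⟩ := (mem_imgS hRS).1 hz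
    exact ⟨⟨aExt α x, aExt_mem_imgS α hPS x.2⟩, v x _ rfl⟩
  refine ⟨ξ.comp (Subgroup.inclusion e), res_mem E hξ e, fun z y hy => ?_⟩
  obtain ⟨z, x, rfl⟩ := z
  set y' : imgS α P := ⟨aExt α x, aExt_mem_imgS α hPS x.2⟩ with hy'
  have h1 : χ y' = (y : Ω) := by rw [v x y' rfl, hy]
  have h2 := w y'
  have h3 : (⟨χ y', ⟨y', rfl⟩⟩ : χ.range) = Subgroup.inclusion e y := Subtype.ext h1
  rw [h3] at h2
  show ξ (Subgroup.inclusion e y) = _
  rw [h2]
  have h4 := hv x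
  show aExt α x = aExt α (ψ ⟨φ x, ⟨x, rfl⟩⟩)
  rw [h4]

/-- The maps of `E` all of whose transports under `Aut_F(S)` lie in `E`. -/
def coreSys (F E : FusionSystem S) : FusionSystem S where
  Hom P := {φ | φ ∈ E.Hom P ∧ ∀ α : MulAut S, IsIso F (P := S) (Q := S) α → TrProp E α φ}
  le_of_mem h := E.le_of_mem h.1
  injective_of_mem h := E.injective_of_mem h.1
  conj_mem hP hg := ⟨E.conj_mem hP hg, fun α _ => tr_conj hP hg⟩
  comp_mem {P Q φ ψ} hφ hψ h := ⟨E.comp_mem hφ.1 hψ.1 h, fun α hα => tr_comp hφ.1 hψ.1 h (hφ.2 α hα) (hψ.2 α hα)⟩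
  inv_mem {P φ} hφ := by
    obtain ⟨ψ, hψ, hv⟩ := E.inv_mem hφ.1
    exact ⟨ψ, ⟨hψ, fun α hα => tr_inv hφ.1 hv (hφ.2 α hα)⟩, hv⟩

theorem core_le : coreSys F E ≤ E := fun _ _ h => h.1

/-- Transport of a map of the core is a map of the core. -/
theorem core_transport {P : Subgroup Ω} {φ : P →* Ω} (hφ : φ ∈ (coreSys F E).Hom P)
    (hα : IsIso F (P := S) (Q := S) α) :
    ∃ χ ∈ (coreSys F E).Hom (imgS α P), ∀ (x : P) (y : imgS α P), (y : Ω) = aExt α x → χ y = aExt α (φ x) := by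
  obtain ⟨χ, hχ, v⟩ := hφ.2 α hα
  refine ⟨χ, ⟨hχ, fun β hβ => ?_⟩, v⟩
  have hPS := hom_le E hφ.1
  have hβα : IsIso F (P := S) (Q := S) (β * α) := IsIso.trans (F := F) (P := S) (Q := S) (R := S) hα hβ
  obtain ⟨χ₂, hχ₂, v₂⟩ := hφ.2 (β * α) hβα
  have e := imgS_imgS β α hPS
  refine ⟨χ₂.comp (Subgroup.inclusion e.le), res_mem E hχ₂ e.le, fun z y hy => ?_⟩
  obtain ⟨x, hx, hxz⟩ := (mem_imgS hPS).1 z.2
  have hφx : φ ⟨x, hx⟩ ∈ S := hom_val E hφ.1 _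
  have h1 : χ z = aExt α (φ ⟨x, hx⟩) := v ⟨x, hx⟩ z hxz.symm
  rw [h1, ← aExt_comp _ _ hφx]
  refine v₂ ⟨x, hx⟩ _ ?_
  show (y : Ω) = aExt (β * α) x
  rw [hy, ← hxz, aExt_comp _ _ (hPS hx)]

/-- Maps of `F` of the form `α ∘ φ₀`. -/
def frattSys (F E : FusionSystem S) : FusionSystem S where
  Hom P := {φ | φ ∈ F.Hom P ∧ ∃ α : MulAut S, IsIso F (P := S) (Q := S) α ∧ ∃ φ₀ ∈ (coreSys F E).Hom P,
    ∀ x, φ x = aExt α (φ₀ x)}
  le_of_mem h := F.le_of_mem h.1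
  injective_of_mem h := F.injective_of_mem h.1
  conj_mem {P g} hP hg := ⟨F.conj_mem hP hg, 1, isIso_refl le_rfl, conjHom P g, (coreSys F E).conj_mem hP hg,
    fun x => (aExt_one _).symm⟩
  comp_mem {P Q φ ψ} hφ hψ h := by
    obtain ⟨hφF, α₁, hα₁, φ₁, hφ₁, v₁⟩ := hφ
    obtain ⟨hψF, α₂, hα₂, ψ₂, hψ₂, v₂⟩ := hψ
    have hQS := hom_le F hψF
    have hβ : IsIso F (P := S) (Q := S) α₁⁻¹ := IsIso.symm (F := F) (P := S) (Q := S) hα₁
    obtain ⟨ψ₃, hψ₃, w⟩ := core_transport hψ₂ hβ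
    have hv₁ : ∀ x : P, φ₁ x ∈ S := fun x => hom_val _ hφ₁ x
    have hm : ∀ x : P, φ₁ x = aExt α₁⁻¹ (φ x) := by
      intro x
      rw [v₁ x, aExt_inv_apply _ (hv₁ x)]
    have hm' : ∀ x : P, φ₁ x ∈ imgS α₁⁻¹ Q := by
      intro x
      rw [hm x]
      exact aExt_mem_imgS _ hQS (h x)
    refine ⟨F.comp_mem hφF hψF h, α₂ * α₁, IsIso.trans (F := F) (P := S) (Q := S) (R := S) hα₁ hα₂,
      ψ₃.comp (φ₁.codRestrict _ hm'), (coreSys F E).comp_mem hφ₁ hψ₃ hm', fun x => ?_⟩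
    show ψ ⟨φ x, h x⟩ = aExt (α₂ * α₁) (ψ₃ ⟨φ₁ x, hm' x⟩)
    have h1 : ψ₃ ⟨φ₁ x, hm' x⟩ = aExt α₁⁻¹ (ψ₂ ⟨φ x, h x⟩) := w ⟨φ x, h x⟩ _ (hm x)
    have h2 : ψ₂ ⟨φ x, h x⟩ ∈ S := hom_val _ hψ₂ _
    rw [h1, aExt_comp _ _ (aExt_mem _ h2), aExt_apply_inv _ h2, v₂]
  inv_mem {P φ} hφ := by
    obtain ⟨hφF, α, hα, φ₀, hφ₀, v⟩ := hφ
    obtain ⟨ψ, hψ, hv⟩ := F.inv_mem hφF
    obtain ⟨ψ₀, hψ₀, hv₀⟩ := (coreSys F E).inv_mem hφ₀
    obtain ⟨ψ₁, hψ₁, w⟩ := core_transport hψ₀ hα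
    have hPS := hom_le F hφF
    have hR₀S : φ₀.range ≤ S := by
      rintro _ ⟨x, rfl⟩
      exact hom_val _ hφ₀ x
    have e : φ.range ≤ imgS α φ₀.range := by
      rintro _ ⟨x, rfl⟩
      rw [v x]
      exact aExt_mem_imgS α hR₀S ⟨x, rfl⟩
    refine ⟨ψ, ⟨hψ, α⁻¹, IsIso.symm (F := F) (P := S) (Q := S) hα, ψ₁.comp (Subgroup.inclusion e),
      res_mem _ hψ₁ e, fun y => ?_⟩, hv⟩
    obtain ⟨y, x, rfl⟩ := y
    show ψ ⟨φ x, ⟨x, rfl⟩⟩ = aExt α⁻¹ (ψ₁ (Subgroup.inclusion e ⟨φ x, ⟨x, rfl⟩⟩))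
    have h1 : ψ₁ (Subgroup.inclusion e ⟨φ x, ⟨x, rfl⟩⟩) = aExt α (ψ₀ ⟨φ₀ x, ⟨x, rfl⟩⟩) :=
      w ⟨φ₀ x, ⟨x, rfl⟩⟩ _ (v x)
    rw [hv x, h1, hv₀ x, aExt_inv_apply _ (hPS x.2)]

section Main

variable [Finite S] {p : ℕ} [Fact p.Prime]

/-- Hypothesis: `p`-power automorphisms of centric subgroups lie in `E`. -/
def PElts (F E : FusionSystem S) (p : ℕ) : Prop :=
  ∀ P : Subgroup Ω, F.IsCentric P → ∀ γ ∈ F.autGroup P, ∀ k : ℕ, γ ^ (p ^ k) = 1 → γ ∈ E.autGroup P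

theorem pow_transport {P Q : Subgroup Ω} (e : P ≃* Q) (γ : MulAut P) (n : ℕ) :
    ((e.symm.trans (γ.trans e) : Q ≃* Q) : MulAut Q) ^ n = e.symm.trans ((γ ^ n).trans e) := by
  induction n with
  | zero =>
    ext y
    simp
  | succ n ih =>
    rw [pow_succ, ih, pow_succ]
    ext y
    simp [MulAut.mul_apply]

/-- A transport of a subgroup under an automorphism of `S`, as an isomorphism. -/
theorem exists_iso_imgS {P : Subgroup Ω} (hP : P ≤ S) (hα : IsIso F (P := S) (Q := S) α) :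
    ∃ e : P ≃* imgS α P, IsIso F e ∧ ∀ x : P, (e x : Ω) = aExt α x := by
  have h1 : (S.subtype.comp α.toMonoidHom).comp (Subgroup.inclusion hP) ∈ F.Hom P := res_mem F hα hP
  have h2 : ((S.subtype.comp α.toMonoidHom).comp (Subgroup.inclusion hP)).range = imgS α P := by
    ext y
    rw [mem_imgS hP]
    constructor
    · rintro ⟨x, rfl⟩
      exact ⟨x, x.2, aExt_of_mem α (hP x.2)⟩
    · rintro ⟨x, hx, rfl⟩
      exact ⟨⟨x, hx⟩, (aExt_of_mem α (hP hx)).symm⟩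
  obtain ⟨e, he, hv⟩ := exists_isIso_of_mem h1 h2
  exact ⟨e, he, fun x => by rw [hv x, aExt_of_mem α (hP x.2)]; rfl⟩

/-- For centric subgroups, the `p`-power automorphisms lie in the core. -/
theorem core_of_centric (h : PElts F E p) {P : Subgroup Ω} (hP : F.IsCentric P) {γ : MulAut P}
    (hγ : γ ∈ F.autGroup P) {k : ℕ} (hk : γ ^ (p ^ k) = 1) :
    IsIso (coreSys F E) (P := P) (Q := P) γ := by
  refine ⟨(mem_autGroup_iff hP.1).1 (h P hP γ hγ k hk), fun α hα => ?_⟩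
  obtain ⟨e, he, hev⟩ := exists_iso_imgS hP.1 hα
  have hγi : IsIso F (P := P) (Q := P) γ := (mem_autGroup_iff hP.1).1 hγ
  set γ' : MulAut (imgS α P) := e.symm.trans (γ.trans e) with hγ'
  have hγ'i : IsIso F (P := imgS α P) (Q := imgS α P) γ' := he.symm.trans (hγi.trans he)
  have hγ'F : γ' ∈ F.autGroup (imgS α P) := (mem_autGroup_iff (imgS_le α P)).2 hγ'i
  have hpow : γ' ^ (p ^ k) = 1 := by
    rw [hγ', pow_transport, hk]
    ext y
    simp
  have hQc : F.IsCentric (imgS α P) := IsCentric.conj hP (isConj_iff.2 ⟨e, he⟩)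
  have hγ'E := (mem_autGroup_iff (imgS_le α P)).1 (h _ hQc γ' hγ'F k hpow)
  refine ⟨_, hγ'E, fun x y hy => ?_⟩
  have hy' : y = e x := Subtype.ext (by rw [hy, hev])
  subst hy'
  show ((γ' (e x) : imgS α P) : Ω) = aExt α (γ x : P)
  rw [← hev]
  simp [hγ']

theorem pElt_of_mem_sylow {A : Type*} [Group A] [Finite A] {T : Subgroup A} (hT : IsPGroup p T) {t : A} (ht : t ∈ T) :
    ∃ k : ℕ, t ^ (p ^ k) = 1 := by
  obtain ⟨k, hk⟩ := hT ⟨t, ht⟩
  exact ⟨k, congrArg Subtype.val hk⟩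

set_option maxHeartbeats 1000000 in
/-- All of `F` is of Frattini form. -/
theorem le_frattSys (hS : IsPGroup p S) (hF : F.IsSaturated p) (h : PElts F E p) : F ≤ frattSys F E := by
  classical
  refine fusion_le_of_fullyNormalized hS hF _ fun P hPn ih => ?_
  have hPS := hPn.1
  intro β hβ
  rw [mem_autGroup_iff hPS]
  have hβi : IsIso F (P := P) (Q := P) β := (mem_autGroup_iff hPS).1 hβ
  by_cases hPtop : P = S
  · subst hPtop
    refine ⟨hβi, β, hβi, P.subtype, subtype_mem _ le_rfl, fun x => ?_⟩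
    show ((β x : P) : Ω) = aExt β (x : Ω)
    rw [aExt_coe]
  have hlt : P < S := lt_of_le_of_ne hPS hPtop
  have hrec := IsSat.receptive_of_fullyNormalized hS hF hPn
  have := finite_of_le hPS
  by_cases hC : centralizerIn S P ≤ P
  · -- centric case
    have hc : F.IsCentric P := isCentric_of_receptive hrec hC
    have hfa := IsSat.fullyAutomized_of_fullyNormalized hS hF hPn
    obtain ⟨T, hT⟩ := (isFullyAutomized_iff.1 hfa).2
    have : Finite (MulAut P) := finite_mulAut P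
    -- the subgroup of elements of the Frattini system
    have hcore : ∀ γ : F.autGroup P, (∃ k : ℕ, γ ^ (p ^ k) = 1) → ((γ : MulAut P)) ∈ (frattSys F E).autGroup P := by
      rintro γ ⟨k, hk⟩
      have h1 : (γ : MulAut P) ^ (p ^ k) = 1 := by
        have := congrArg Subtype.val hk
        simpa using this
      have h2 := core_of_centric h hc γ.2 h1
      rw [mem_autGroup_iff hPS]
      exact ⟨(mem_autGroup_iff hPS).1 γ.2, 1, isIso_refl le_rfl, _, h2, fun x => (aExt_one _).symm⟩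
    set N₀ : Subgroup (F.autGroup P) := Subgroup.normalClosure (T : Set (F.autGroup P)) with hN₀
    have hTN : (T : Subgroup (F.autGroup P)) ≤ N₀ := Subgroup.subset_normalClosure
    have hN₀le : ∀ n ∈ N₀, (n : MulAut P) ∈ (frattSys F E).autGroup P := by
      intro n hn
      rw [hN₀, Subgroup.normalClosure] at hn
      induction hn using Subgroup.closure_induction with
      | mem x hx =>
        obtain ⟨t, ht, hxt⟩ := Group.mem_conjugatesOfSet_iff.1 hx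
        obtain ⟨c, rfl⟩ := _root_.isConj_iff.1 hxt
        obtain ⟨k, hk⟩ := pElt_of_mem_sylow (p := p) T.isPGroup' ht
        refine hcore _ ⟨k, ?_⟩
        rw [conj_pow, hk]
        simp
      | one => exact Subgroup.one_mem _
      | mul x y _ _ hx hy => exact Subgroup.mul_mem _ hx hy
      | inv x _ hx => exact Subgroup.inv_mem _ hx
    have hfr := Sylow.normalizer_sup_eq_top' T hTN
    have hβtop : (⟨β, hβ⟩ : F.autGroup P) ∈ Subgroup.normalizer (T : Set (F.autGroup P)) ⊔ N₀ := by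
      rw [hfr]; trivial
    rw [← SetLike.mem_coe, Subgroup.mul_normal, Set.mem_mul] at hβtop
    obtain ⟨a, ha, n, hn, han⟩ := hβtop
    have hβeq : β = (a : MulAut P) * (n : MulAut P) := by
      have := congrArg Subtype.val han
      exact this.symm
    -- `a` extends to `N_S(P)`
    have haA : (a : MulAut P) ∈ (frattSys F E).autGroup P := by
      have hV : ∀ v ∈ autInducedBy S P, (a : MulAut P) * v * (a : MulAut P)⁻¹ ∈ autInducedBy S P := by
        intro v hv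
        have hvA : v ∈ F.autGroup P := autInducedBy_le_autGroup F hPS hv
        have h1 : (⟨v, hvA⟩ : F.autGroup P) ∈ (T : Subgroup (F.autGroup P)) := by
          rw [hT]
          exact Subgroup.mem_subgroupOf.2 hv
        have h2 := (Subgroup.mem_normalizer_iff.1 ha _).1 h1
        rw [hT] at h2
        exact Subgroup.mem_subgroupOf.1 h2
      obtain ⟨ψ, hψ, hv⟩ := extend_of_normalizes hrec a.2 le_rfl (inn_le_autInducedBy hPS) hV
      have hNle : normalizerIn S P ≤ automizerPreimage S P (autInducedBy S P) := by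
        intro g hg
        obtain ⟨h1, h2⟩ := mem_normalizerIn.1 hg
        exact ⟨h1, h2, conjAut_mem h1 h2⟩
      have hlt2 : P < automizerPreimage S P (autInducedBy S P) := (lt_normalizerIn hS hlt).trans_le hNle
      have hle2 : automizerPreimage S P (autInducedBy S P) ≤ S := fun _ hg => hg.1
      have hψA := ih _ hle2 (card_lt_of_lt hle2 hlt2) hψ
      rw [mem_autGroup_iff hPS]
      exact hom_of_res _ hψA hlt2.le (ψ := P.subtype.comp (a : MulAut P).toMonoidHom) fun x hx => (hv x hx _).symm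
    have hnA := hN₀le n hn
    exact (mem_autGroup_iff hPS).1 (hβeq ▸ Subgroup.mul_mem _ haA hnA)
  · -- non centric case
    obtain ⟨β₁, hβ₁, hv⟩ := extend_to_sup_centralizer hrec hβ
    have hUS : P ⊔ centralizerIn S P ≤ S := sup_le hPS (centralizerIn_le P)
    have hlt2 : P < P ⊔ centralizerIn S P :=
      lt_of_le_of_ne le_sup_left fun he => hC (le_sup_right.trans he.ge)
    have hψ : (P ⊔ centralizerIn S P).subtype.comp β₁.toMonoidHom ∈ F.Hom (P ⊔ centralizerIn S P) := (mem_autGroup_iff hUS).1 hβ₁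
    have hψA := ih _ hUS (card_lt_of_lt hUS hlt2) hψ
    exact hom_of_res _ hψA hlt2.le (ψ := P.subtype.comp β.toMonoidHom) fun x hx => (hv ⟨x, hx⟩).symm

theorem conjAut_pow_val (P : Subgroup Ω) {g : Ω} (hg : g ∈ Subgroup.normalizer (P : Set Ω)) (n : ℕ) (x : P) :
    (((conjAut P g hg) ^ n) x : Ω) = g ^ n * (x : Ω) * (g ^ n)⁻¹ := by
  induction n generalizing x with
  | zero => simp
  | succ n ih =>
    rw [pow_succ, MulAut.mul_apply, ih, conjAut_coe, pow_succ]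
    group

theorem normalizer_sup_centralizer {R : Subgroup Ω} {g : Ω} (hg : g ∈ S)
    (hgN : g ∈ Subgroup.normalizer (R : Set Ω)) (hUS : R ⊔ centralizerIn S R ≤ S) :
    g ∈ Subgroup.normalizer ((R ⊔ centralizerIn S R : Subgroup Ω) : Set Ω) := by
  have := finite_of_le hUS
  have hle : (R ⊔ centralizerIn S R).map (MulAut.conj g).toMonoidHom ≤ R ⊔ centralizerIn S R := by
    rw [Subgroup.map_sup]
    refine sup_le ?_ ?_
    · rintro _ ⟨x, hx, rfl⟩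
      exact Subgroup.mem_sup_left (conj_mem_of_mem_normalizer hgN hx)
    · rintro _ ⟨c, hc, rfl⟩
      apply Subgroup.mem_sup_right
      obtain ⟨hcS, hcc⟩ := mem_centralizerIn.1 hc
      refine mem_centralizerIn.2 ⟨S.mul_mem (S.mul_mem hg hcS) (S.inv_mem hg), fun y hy => ?_⟩
      have hy' : g⁻¹ * y * g⁻¹⁻¹ ∈ R := conj_mem_of_mem_normalizer (Subgroup.inv_mem _ hgN) hy
      have h1 := hcc _ hy'
      show y * (g * c * g⁻¹) = g * c * g⁻¹ * y
      have h2 : y = g * (g⁻¹ * y * g⁻¹⁻¹) * g⁻¹ := by group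
      calc y * (g * c * g⁻¹) = g * ((g⁻¹ * y * g⁻¹⁻¹) * c) * g⁻¹ := by group
        _ = g * (c * (g⁻¹ * y * g⁻¹⁻¹)) * g⁻¹ := by rw [h1]
        _ = g * c * g⁻¹ * y := by group
  exact mem_normalizer_of_forall fun x hx => hle ⟨x, hx, rfl⟩

set_option maxHeartbeats 1000000 in
/-- For fully normalized subgroups, the `p`-power automorphisms lie in the core. -/
theorem pelt_core (hS : IsPGroup p S) (hF : F.IsSaturated p) (h : PElts F E p) {R : Subgroup Ω}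
    (hR : F.IsFullyNormalized R) {γ : MulAut R} (hγ : γ ∈ F.autGroup R) {k : ℕ} (hk : γ ^ (p ^ k) = 1) :
    IsIso (coreSys F E) (P := R) (Q := R) γ := by
  have hRS := hR.1
  have hfa := IsSat.fullyAutomized_of_fullyNormalized hS hF hR
  have hsyl := (isFullyAutomized_iff.1 hfa).2
  have := finite_of_le hRS
  have : Finite (MulAut R) := finite_mulAut R
  obtain ⟨δ, hδ, hw⟩ := IsSylowIn.exists_conj_le hsyl (isPGroup_zpowers hk) ((Subgroup.zpowers_le).2 hγ)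
  have hv := hw γ (Subgroup.mem_zpowers γ)
  obtain ⟨g, hg, hgv⟩ := mem_autInducedBy_iff.1 hv
  have hgN := mem_normalizer_of_conj hgv
  have hrec := IsSat.receptive_of_fullyNormalized hS hF hR
  have hUS : R ⊔ centralizerIn S R ≤ S := sup_le hRS (centralizerIn_le R)
  have hUc := isCentric_sup_centralizer hrec
  have hgU := normalizer_sup_centralizer hg hgN hUS
  obtain ⟨d, hd, hdv⟩ := extend_to_sup_centralizer hrec (Subgroup.inv_mem _ hδ)
  set c := conjAut (R ⊔ centralizerIn S R) g hgU with hc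
  have hcF : c ∈ F.autGroup (R ⊔ centralizerIn S R) := autInducedBy_le_autGroup F hUS (conjAut_mem hg hgU)
  have hγ₁F : d * c * d⁻¹ ∈ F.autGroup (R ⊔ centralizerIn S R) :=
    Subgroup.mul_mem _ (Subgroup.mul_mem _ hd hcF) (Subgroup.inv_mem _ hd)
  obtain ⟨j, hj⟩ := hS ⟨g, hg⟩
  have hgp : g ^ (p ^ j) = 1 := congrArg Subtype.val hj
  have hcp : c ^ (p ^ j) = 1 := by
    ext x
    rw [hc, conjAut_pow_val, hgp]
    simp
  have hγ₁p : (d * c * d⁻¹) ^ (p ^ j) = 1 := by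
    rw [conj_pow, hcp]
    simp
  have hcore := core_of_centric h hUc hγ₁F hγ₁p
  refine hom_of_res _ hcore le_sup_left (ψ := R.subtype.comp γ.toMonoidHom) fun x hx => ?_
  set y : R := ⟨x, hx⟩ with hy
  have hd1 : d⁻¹ (Subgroup.inclusion le_sup_left y) = Subgroup.inclusion le_sup_left (δ y) := by
    apply d.injective
    rw [← MulAut.mul_apply, mul_inv_cancel, MulAut.one_apply]
    apply Subtype.ext
    rw [hdv]
    simp
  have hc1 : c (Subgroup.inclusion le_sup_left (δ y)) = Subgroup.inclusion le_sup_left (δ (γ y)) := by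
    apply Subtype.ext
    rw [hc, conjAut_coe]
    have h1 := hgv (δ y)
    simp only [MulAut.mul_apply, map_inv, MulAut.inv_apply_self] at h1
    exact h1.symm
  have h2 : (d * c * d⁻¹) ⟨x, Subgroup.mem_sup_left hx⟩ = d (Subgroup.inclusion le_sup_left (δ (γ y))) := by
    simp only [MulAut.mul_apply]
    have h3 : (⟨x, Subgroup.mem_sup_left hx⟩ : ↥(R ⊔ centralizerIn S R)) = Subgroup.inclusion le_sup_left y := rfl
    rw [h3, hd1, hc1]
  show ((γ y : R) : Ω) = (((d * c * d⁻¹) ⟨x, Subgroup.mem_sup_left hx⟩ : ↥(R ⊔ centralizerIn S R)) : Ω)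
  rw [h2, hdv]
  simp

/-- The main theorem on subsystems containing `p`-power automorphisms of centric subgroups. -/
theorem primeToP_main (hS : IsPGroup p S) (hF : F.IsSaturated p) (hEF : E.IsSubsystemOf F)
    (h : ∀ P : Subgroup Ω, F.IsCentric P →
      (Subgroup.closure {α : ↥(F.autGroup P) | ∃ k : ℕ, orderOf α = p ^ k}).map (F.autGroup P).subtype ≤ E.autGroup P) :
    E.HasPrimeToPIndexIn F p ∧
      (∀ (P : Subgroup Ω) (φ : P →* Ω), φ ∈ F.Hom P → ∃ α ∈ F.autGroup S, ∃ φ₀ ∈ E.Hom P,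
        ∀ (x : P) (hx : φ₀ x ∈ S), φ x = ((α ⟨φ₀ x, hx⟩ : S) : Ω)) ∧
      ∀ P : Subgroup Ω, E.IsCentric P ↔ F.IsCentric P := by
  classical
  have hp : p.Prime := Fact.out
  have hP : PElts F E p := by
    intro P hc γ hγ k hk
    apply h P hc
    refine ⟨⟨γ, hγ⟩, Subgroup.subset_closure ?_, rfl⟩
    have h1 : (⟨γ, hγ⟩ : F.autGroup P) ^ (p ^ k) = 1 := Subtype.ext hk
    obtain ⟨j, -, hj⟩ := (Nat.dvd_prime_pow hp).1 (orderOf_dvd_of_pow_eq_one h1)
    exact ⟨j, hj⟩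
  have hle := le_frattSys hS hF hP
  refine ⟨⟨hEF, fun P hPS => ?_⟩, ?_, fun P => ⟨?_, IsCentric.of_subsystem hEF⟩⟩
  · rw [Subgroup.map_le_iff_le_comap, Subgroup.closure_le]
    rintro ⟨β, hβ⟩ ⟨k, hk⟩
    show β ∈ E.autGroup P
    have hβp : β ^ (p ^ k) = 1 := by
      have h1 := pow_orderOf_eq_one (⟨β, hβ⟩ : F.autGroup P)
      rw [hk] at h1
      exact congrArg Subtype.val h1
    obtain ⟨R, hconj, hRn⟩ := exists_fullyNormalized_conj (F := F) hPS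
    obtain ⟨e, he⟩ := isConj_iff.1 hconj
    obtain ⟨-, α, hα, φ₀, hφ₀, v⟩ := hle P he
    have hv : ∀ x : P, (e x : Ω) = aExt α (φ₀ x) := v
    have hφ₀S : ∀ x : P, φ₀ x ∈ S := fun x => hom_val _ hφ₀ x
    have hβi : IsIso F (P := P) (Q := P) β := (mem_autGroup_iff hPS).1 hβ
    set γ : MulAut R := e.symm.trans (β.trans e) with hγ
    have hγi : IsIso F (P := R) (Q := R) γ := he.symm.trans (hβi.trans he)
    have hγp : γ ^ (p ^ k) = 1 := by
      rw [hγ, pow_transport, hβp]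
      ext y
      simp
    have hγc := pelt_core hS hF hP hRn ((mem_autGroup_iff hRn.1).2 hγi) hγp
    obtain ⟨ξ, hξ, w⟩ := core_transport hγc (IsIso.symm (F := F) (P := S) (Q := S) hα)
    have hm0 : ∀ x : P, φ₀ x = aExt α⁻¹ (e x) := by
      intro x
      rw [hv, aExt_inv_apply _ (hφ₀S x)]
    have hm : ∀ x : P, φ₀ x ∈ imgS α⁻¹ R := by
      intro x
      rw [hm0]
      exact aExt_mem_imgS _ hRn.1 (e x).2
    have hθ₁ := (coreSys F E).comp_mem hφ₀ hξ hm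
    have hθ₁v : ∀ x : P, (ξ.comp (φ₀.codRestrict _ hm)) x = φ₀ (β x) := by
      intro x
      have h1 : ξ ⟨φ₀ x, hm x⟩ = aExt α⁻¹ ((R.subtype.comp γ.toMonoidHom) (e x)) := w (e x) _ (hm0 x)
      have h2 : (R.subtype.comp γ.toMonoidHom) (e x) = (e (β x) : Ω) := by
        simp [hγ]
      show ξ ⟨φ₀ x, hm x⟩ = _
      rw [h1, h2, hm0 (β x)]
    obtain ⟨ψ₀, hψ₀, hv₀⟩ := (coreSys F E).inv_mem hφ₀
    have hm₂ : ∀ x : P, (ξ.comp (φ₀.codRestrict _ hm)) x ∈ φ₀.range := by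
      intro x
      rw [hθ₁v]
      exact ⟨_, rfl⟩
    have hθ₂ := (coreSys F E).comp_mem hθ₁ hψ₀ hm₂
    have hfin : P.subtype.comp β.toMonoidHom ∈ (coreSys F E).Hom P := by
      refine hom_congr _ hθ₂ fun x => ?_
      show ((β x : P) : Ω) = ψ₀ ⟨(ξ.comp (φ₀.codRestrict _ hm)) x, hm₂ x⟩
      have h3 : (⟨(ξ.comp (φ₀.codRestrict _ hm)) x, hm₂ x⟩ : φ₀.range) = ⟨φ₀ (β x), ⟨_, rfl⟩⟩ :=
        Subtype.ext (hθ₁v x)
      rw [h3, hv₀]
    exact (mem_autGroup_iff hPS).2 hfin.1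
  · intro P φ hφ
    obtain ⟨-, α, hα, φ₀, hφ₀, v⟩ := hle P hφ
    refine ⟨α, (mem_autGroup_iff le_rfl).2 hα, φ₀, hφ₀.1, fun x hx => ?_⟩
    rw [v, aExt_of_mem _ hx]
  · intro hE
    refine ⟨hE.1, fun Q hQ => ?_⟩
    obtain ⟨φ, hφ, rfl⟩ := hQ
    obtain ⟨-, α, hα, φ₀, hφ₀, v⟩ := hle P hφ
    have hE₀ := hE.2 φ₀.range ⟨φ₀, hφ₀.1, rfl⟩
    intro c hc
    obtain ⟨hcS, hcc⟩ := mem_centralizerIn.1 hc
    have hφ₀S : ∀ x : P, φ₀ x ∈ S := fun x => hom_val _ hφ₀ x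
    have hφS : ∀ x : P, φ x ∈ S := fun x => hom_val _ hφ x
    have hm0 : ∀ x : P, φ₀ x = aExt α⁻¹ (φ x) := by
      intro x
      rw [v, aExt_inv_apply _ (hφ₀S x)]
    have hc' : aExt α⁻¹ c ∈ centralizerIn S φ₀.range := by
      refine mem_centralizerIn.2 ⟨aExt_mem _ hcS, ?_⟩
      rintro _ ⟨x, rfl⟩
      rw [hm0, ← aExt_mul _ (hφS x) hcS, ← aExt_mul _ hcS (hφS x), hcc _ ⟨x, rfl⟩]
    obtain ⟨x, hx⟩ := hE₀ hc'
    exact ⟨x, by rw [v x, hx, aExt_apply_inv _ hcS]⟩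

end Main

end Cfsg.Agent.Lib.Fusion
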