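/-
The fusion system on `T` whose maps are the restrictions of a group `A` of automorphisms of `T`.
-/
import Cfsg.Agent.Lib.Fusion.Top
import Cfsg.Agent.Lib.Fusion.SylowIn
import Mathlib

set_option autoImplicit false

namespace Cfsg.Agent.Lib.Fusion

open Cfsg Cfsg.FusionSystem

universe u

variable {Ω : Type u} [Group Ω]

/-- The system over `T` whose maps are restrictions of elements of `A`. -/
def topSystem (T : Subgroup Ω) (A : Subgroup (MulAut T)) (hA : Inn T ≤ A) : FusionSystem T where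
  Hom P := {φ | ∃ h : P ≤ T, ∃ α ∈ A, ∀ x : P, φ x = (α ⟨x, h x.2⟩ : T)}
  le_of_mem := by
    rintro P φ ⟨h, α, -, hv⟩
    exact ⟨h, fun x => by rw [hv]; exact (α _).2⟩
  injective_of_mem := by
    rintro P φ ⟨h, α, -, hv⟩ a b hab
    rw [hv, hv] at hab
    have := α.injective (Subtype.ext hab)
    exact Subtype.ext (by simpa using this)
  conj_mem := by
    intro P g hP hg
    refine ⟨hP, MulAut.conj ⟨g, hg⟩, hA ⟨_, rfl⟩, fun x => rfl⟩
  comp_mem := by
    rintro P Q φ ψ ⟨h, α, hα, hv⟩ ⟨h', α', hα', hv'⟩ hm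
    refine ⟨h, α' * α, A.mul_mem hα' hα, fun x => ?_⟩
    show ψ ⟨φ x, _⟩ = _
    rw [hv']
    have : (⟨φ x, h' (hm x)⟩ : T) = α ⟨x, h x.2⟩ := Subtype.ext (hv x)
    simp only [this]
    rfl
  inv_mem := by
    rintro P φ ⟨h, α, hα, hv⟩
    have hle : φ.range ≤ T := by
      rintro _ ⟨x, rfl⟩
      rw [hv]
      exact (α _).2
    refine ⟨T.subtype.comp ((α⁻¹ : MulAut T).toMonoidHom.comp (Subgroup.inclusion hle)), ⟨hle, α⁻¹, A.inv_mem hα, fun x => rfl⟩, fun x => ?_⟩
    show ((α⁻¹ ⟨φ x, _⟩ : T) : Ω) = x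
    have : (⟨φ x, hle ⟨x, rfl⟩⟩ : T) = α ⟨x, h x.2⟩ := Subtype.ext (hv x)
    simp only [this]
    simp

theorem mem_topSystem {T : Subgroup Ω} {A : Subgroup (MulAut T)} {hA : Inn T ≤ A} {P : Subgroup Ω} {φ : P →* Ω} :
    φ ∈ (topSystem T A hA).Hom P ↔ ∃ h : P ≤ T, ∃ α ∈ A, ∀ x : P, φ x = (α ⟨x, h x.2⟩ : T) := Iff.rfl

theorem mem_autGroup_topSystem {T : Subgroup Ω} {A : Subgroup (MulAut T)} {hA : Inn T ≤ A} {α : MulAut T} :
    α ∈ (topSystem T A hA).autGroup T ↔ α ∈ A := by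
  rw [mem_autGroup_iff le_rfl]
  constructor
  · rintro ⟨h, a, ha, hv⟩
    have : α = a := by
      ext x
      exact hv x
    rwa [this]
  · intro h
    exact ⟨le_rfl, α, h, fun x => rfl⟩

variable {p : ℕ} [Fact p.Prime]

/-- The system of restrictions of a group of automorphisms with `Inn T` of index prime to `p` is saturated. -/
theorem isSaturated_topSystem {T : Subgroup Ω} [Finite T] (hT : IsPGroup p T) {A : Subgroup (MulAut T)} (hInn : Inn T ≤ A)
    (hA : ∀ a ∈ A, ∃ m : ℕ, ¬ p ∣ m ∧ a ^ m ∈ Inn T) : (topSystem T A hInn).IsSaturated p := by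
  have hp := (Fact.out : p.Prime)
  have : Finite (MulAut T) := finite_mulAut T
  have hAut : (topSystem T A hInn).autGroup T = A := by
    ext α
    exact mem_autGroup_topSystem
  refine saturated_of_top hT ⟨le_rfl, ?_⟩ fun P hP => ?_
  · refine isSylowIn_of_card_ge (autInducedBy_le_autGroup _ le_rfl) (isPGroup_autInducedBy hT T) fun W hW hWp hRW => ?_
    refine Nat.card_mono (Set.toFinite _) fun w hw => ?_
    have hwA : w ∈ A := hAut ▸ hW hw
    obtain ⟨m, hm, hm1⟩ := hA w hwA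
    obtain ⟨k, hk⟩ := hWp ⟨w, hw⟩
    have hk' : w ^ p ^ k = 1 := by simpa using congrArg Subtype.val hk
    have hcop : Nat.Coprime m (p ^ k) := Nat.Coprime.pow_right k ((Nat.Prime.coprime_iff_not_dvd hp).2 hm).symm
    by_cases hk0 : p ^ k = 1
    · rw [hk0, pow_one] at hk'
      rw [hk']
      exact Subgroup.one_mem _
    have h1 : 1 < p ^ k := lt_of_le_of_ne (Nat.one_le_pow _ _ hp.pos) (Ne.symm hk0)
    obtain ⟨u, -, hu⟩ := Nat.exists_mul_mod_eq_one_of_coprime hcop h1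
    have e : w = (w ^ m) ^ u := by
      rw [← pow_mul]
      have : orderOf w ∣ p ^ k := orderOf_dvd_of_pow_eq_one hk'
      have h2 : m * u ≡ 1 [MOD orderOf w] := by
        have h3 : m * u ≡ 1 [MOD p ^ k] := by
          unfold Nat.ModEq
          rw [hu, Nat.mod_eq_of_lt h1]
        exact h3.of_dvd this
      have h4 := (pow_eq_pow_iff_modEq (x := w)).2 h2
      rw [pow_one] at h4
      exact h4.symm
    rw [e]
    exact Subgroup.pow_mem _ (inn_le_autInducedBy le_rfl hm1) _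
  · refine ⟨hP.1, fun P' φ hφ _ => ?_⟩
    obtain ⟨h, α, hα, hv⟩ := hφ
    have hle : extender T P' φ ≤ T := by
      rw [extender, Subgroup.closure_le]
      exact fun g hg => hg.1
    refine ⟨T.subtype.comp (α.toMonoidHom.comp (Subgroup.inclusion hle)), ⟨hle, α, hα, fun x => rfl⟩, fun x hxP hN => ?_⟩
    rw [hv ⟨x, hxP⟩]
    rfl

end Cfsg.Agent.Lib.Fusion
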