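/-
Marks of finite `H`-sets: the number of points fixed by a subgroup.  Marks add over disjoint unions, are
invariant under conjugation, are computed on coset spaces, satisfy the Burnside congruence, and they
determine a finite `H`-set up to equivariant bijection.
-/
import Mathlib

namespace Cfsg.Agent.Lib.Fusion.Biset

universe u v w

section Marks

variable {H : Type u} [Group H]

/-- The mark of `K` on `X`: the number of points of `X` fixed by `K`. -/
noncomputable def mark (X : Type v) [MulAction H X] (K : Subgroup H) : ℕ :=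
  Nat.card {x : X // ∀ k ∈ K, k • x = x}

theorem mark_le_card (X : Type v) [Finite X] [MulAction H X] (K : Subgroup H) : mark X K ≤ Nat.card X :=
  Nat.card_le_card_of_injective _ (Subtype.val_injective)

theorem mark_bot (X : Type v) [MulAction H X] : mark X (⊥ : Subgroup H) = Nat.card X := by
  refine Nat.card_congr ⟨fun x => x.1, fun x => ⟨x, fun k hk => ?_⟩, fun x => rfl, fun x => rfl⟩
  rw [Subgroup.mem_bot.mp hk, one_smul]

theorem mark_congr {X : Type v} {Y : Type w} [MulAction H X] [MulAction H Y] (f : X ≃ Y)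
    (hf : ∀ (g : H) (x : X), f (g • x) = g • f x) (K : Subgroup H) : mark X K = mark Y K := by
  refine Nat.card_congr ⟨fun x => ⟨f x.1, fun k hk => ?_⟩, fun y => ⟨f.symm y.1, fun k hk => ?_⟩, ?_, ?_⟩
  · rw [← hf, x.2 k hk]
  · apply f.injective
    rw [hf, Equiv.apply_symm_apply, y.2 k hk]
  · intro x; ext; simp
  · intro y; ext; simp

theorem mark_pos_iff {X : Type v} [Finite X] [MulAction H X] {K : Subgroup H} :
    0 < mark X K ↔ ∃ x : X, ∀ k ∈ K, k • x = x := by
  unfold mark
  rw [Nat.card_pos_iff]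
  constructor
  · rintro ⟨⟨x, hx⟩, -⟩; exact ⟨x, hx⟩
  · rintro ⟨x, hx⟩; exact ⟨⟨⟨x, hx⟩⟩, inferInstance⟩

theorem mark_sum (X : Type v) (Y : Type w) [Finite X] [Finite Y] [MulAction H X] [MulAction H Y] (K : Subgroup H) :
    mark (X ⊕ Y) K = mark X K + mark Y K := by
  have e : {z : X ⊕ Y // ∀ k ∈ K, k • z = z} ≃ {x : X // ∀ k ∈ K, k • x = x} ⊕ {y : Y // ∀ k ∈ K, k • y = y} := by
    refine ⟨fun z => ?_, fun z => ?_, ?_, ?_⟩
    · rcases z with ⟨x | y, hz⟩
      · exact Sum.inl ⟨x, fun k hk => Sum.inl_injective (hz k hk)⟩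
      · exact Sum.inr ⟨y, fun k hk => Sum.inr_injective (hz k hk)⟩
    · rcases z with ⟨x, hx⟩ | ⟨y, hy⟩
      · exact ⟨Sum.inl x, fun k hk => congrArg Sum.inl (hx k hk)⟩
      · exact ⟨Sum.inr y, fun k hk => congrArg Sum.inr (hy k hk)⟩
    · rintro ⟨x | y, hz⟩ <;> rfl
    · rintro (⟨x, hx⟩ | ⟨y, hy⟩) <;> rfl
  unfold mark
  rw [Nat.card_congr e, Nat.card_sum]

/-- Conjugation of a subgroup. -/
def conjSub (g : H) (K : Subgroup H) : Subgroup H := K.map (MulAut.conj g).toMonoidHom

theorem mem_conjSub {g : H} {K : Subgroup H} {x : H} : x ∈ conjSub g K ↔ g⁻¹ * x * g ∈ K := by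
  unfold conjSub
  rw [Subgroup.mem_map]
  constructor
  · rintro ⟨y, hy, rfl⟩
    simpa [mul_assoc] using hy
  · intro h
    exact ⟨_, h, by simp [mul_assoc]⟩

theorem conjSub_mono {g : H} {K L : Subgroup H} (h : K ≤ L) : conjSub g K ≤ conjSub g L :=
  Subgroup.map_mono h

@[simp] theorem conjSub_one (K : Subgroup H) : conjSub 1 K = K := by
  ext x; simp [mem_conjSub]

theorem conjSub_mul (a b : H) (K : Subgroup H) : conjSub (a * b) K = conjSub a (conjSub b K) := by
  ext x; simp only [mem_conjSub]; simp [mul_assoc]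

theorem conjSub_inv_conjSub (a : H) (K : Subgroup H) : conjSub a⁻¹ (conjSub a K) = K := by
  rw [← conjSub_mul]; simp

theorem conjSub_conjSub_inv (a : H) (K : Subgroup H) : conjSub a (conjSub a⁻¹ K) = K := by
  rw [← conjSub_mul]; simp

theorem card_conjSub (g : H) (K : Subgroup H) : Nat.card (conjSub g K) = Nat.card K :=
  Subgroup.card_map_of_injective (MulAut.conj g).injective

theorem mark_conj (X : Type v) [MulAction H X] (g : H) (K : Subgroup H) : mark X (conjSub g K) = mark X K := by
  have e : {x : X // ∀ k ∈ conjSub g K, k • x = x} ≃ {x : X // ∀ k ∈ K, k • x = x} := by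
    refine ⟨fun x => ⟨g⁻¹ • x.1, fun k hk => ?_⟩, fun x => ⟨g • x.1, fun k hk => ?_⟩, ?_, ?_⟩
    · have h : g * k * g⁻¹ ∈ conjSub g K := by
        rw [mem_conjSub]; simpa [mul_assoc] using hk
      have := x.2 _ h
      rw [smul_smul, smul_eq_iff_eq_inv_smul] at *
      simp only [mul_assoc] at this ⊢
      rw [← mul_smul] at *
      simpa [mul_assoc, mul_smul] using this
    · have h := x.2 _ (mem_conjSub.mp hk)
      rw [mul_smul, mul_smul] at h
      have h2 : k • g • x.1 = g • x.1 := by
        have := congrArg (fun y => g • y) h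
        simpa [mul_smul] using this
      exact h2
    · intro x; ext; simp
    · intro x; ext; simp
  exact Nat.card_congr e

/-! ### Coset spaces -/

theorem smul_coset_eq_iff {K₁ : Subgroup H} {a k : H} :
    k • (a : H ⧸ K₁) = (a : H ⧸ K₁) ↔ a⁻¹ * k * a ∈ K₁ := by
  rw [MulAction.Quotient.smul_coe, smul_eq_mul, QuotientGroup.eq]
  have : (k * a)⁻¹ * a = (a⁻¹ * k * a)⁻¹ := by group
  rw [this, inv_mem_iff]

theorem mem_conjSub_inv {g : H} {K : Subgroup H} {x : H} : x ∈ conjSub g⁻¹ K ↔ g * x * g⁻¹ ∈ K := by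
  rw [mem_conjSub, inv_inv]

theorem exists_conj_of_mark_pos {K₁ K : Subgroup H} [Finite (H ⧸ K₁)] (h : 0 < mark (H ⧸ K₁) K) :
    ∃ g : H, conjSub g K ≤ K₁ := by
  obtain ⟨x, hx⟩ := mark_pos_iff.mp h
  induction x using QuotientGroup.induction_on with
  | H a =>
    refine ⟨a⁻¹, ?_⟩
    intro y hy
    rw [mem_conjSub_inv] at hy
    have hk := smul_coset_eq_iff.mp (hx _ hy)
    have : a⁻¹ * (a * y * a⁻¹) * a = y := by group
    rwa [this] at hk

/-- The number of cosets of `K` fixed by `K`: the index of `K` in its normalizer. -/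
noncomputable def wt (K : Subgroup H) : ℕ := mark (H ⧸ K) K

theorem wt_mul_card [Finite H] (K : Subgroup H) : wt K * Nat.card K = Nat.card (Subgroup.normalizer (K : Set H)) := by
  have e : {x : H ⧸ K // ∀ k ∈ K, k • x = x} ≃ MulAction.fixedPoints K (H ⧸ K) := by
    refine ⟨fun x => ⟨x.1, fun m => x.2 m.1 m.2⟩, fun x => ⟨x.1, fun k hk => x.2 ⟨k, hk⟩⟩, ?_, ?_⟩
    · intro x; rfl
    · intro x; rfl
  have h1 : wt K = Nat.card ((Subgroup.normalizer (K : Set H)) ⧸ Subgroup.comap ((Subgroup.normalizer (K : Set H)).subtype : (Subgroup.normalizer (K : Set H)) →* H) K) := by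
    unfold wt mark
    rw [Nat.card_congr e]
    exact Nat.card_congr (Sylow.fixedPointsMulLeftCosetsEquivQuotient K)
  have hc : Nat.card (Subgroup.comap ((Subgroup.normalizer (K : Set H)).subtype : (Subgroup.normalizer (K : Set H)) →* H) K) = Nat.card K :=
    Nat.card_congr (Subgroup.subgroupOfEquivOfLe Subgroup.le_normalizer).toEquiv
  rw [h1, ← hc]
  exact (Subgroup.card_eq_card_quotient_mul_card_subgroup _).symm

theorem wt_pos [Finite H] (K : Subgroup H) : 0 < wt K := by
  have := wt_mul_card K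
  by_contra h
  have h0 : wt K = 0 := by omega
  rw [h0, zero_mul] at this
  exact (Nat.card_pos (α := (Subgroup.normalizer (K : Set H)))).ne this

theorem wt_dvd_card [Finite H] (K : Subgroup H) : wt K ∣ Nat.card H := by
  refine Dvd.dvd.trans ⟨_, (wt_mul_card K).symm⟩ (Subgroup.card_subgroup_dvd_card _)

theorem wt_conj [Finite H] (g : H) (K : Subgroup H) : wt (conjSub g K) = wt K := by
  have h1 := wt_mul_card (conjSub g K)
  have h2 := wt_mul_card K
  have h3 : Nat.card (Subgroup.normalizer (conjSub g K : Set H)) = Nat.card (Subgroup.normalizer (K : Set H)) := by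
    have : (Subgroup.normalizer (conjSub g K : Set H)) = (Subgroup.normalizer (K : Set H)).map (MulAut.conj g).toMonoidHom :=
      (Subgroup.map_equiv_normalizer_eq K (MulAut.conj g)).symm
    rw [this]
    exact Subgroup.card_map_of_injective (MulAut.conj g).injective
  rw [card_conjSub, h3, ← h2] at h1
  exact Nat.eq_of_mul_eq_mul_right Nat.card_pos h1

theorem stabilizer_coset (K₁ : Subgroup H) (a : H) :
    MulAction.stabilizer H (a : H ⧸ K₁) = conjSub a K₁ := by
  ext g
  rw [MulAction.mem_stabilizer_iff, smul_coset_eq_iff, mem_conjSub]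

theorem stabilizer_coset' (K₁ : Subgroup H) (q : H ⧸ K₁) : ∃ a : H, MulAction.stabilizer H q = conjSub a K₁ := by
  induction q using QuotientGroup.induction_on with
  | H a => exact ⟨a, stabilizer_coset K₁ a⟩

/-- On a coset space of a conjugate of `K`, the mark of `K` is the weight. -/
theorem mark_quot_conj [Finite H] (g : H) (K₁ : Subgroup H) : mark (H ⧸ K₁) (conjSub g K₁) = wt (conjSub g K₁) := by
  rw [mark_conj, wt_conj]; rfl

theorem mark_quot_eq_zero [Finite H] {K₁ K : Subgroup H} (hc : Nat.card K₁ ≤ Nat.card K)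
    (hn : ∀ g : H, K ≠ conjSub g K₁) : mark (H ⧸ K₁) K = 0 := by
  by_contra h
  obtain ⟨g, hg⟩ := exists_conj_of_mark_pos (Nat.pos_of_ne_zero h)
  have h2 : conjSub g K = K₁ := by
    refine Subgroup.eq_of_le_of_card_ge hg ?_
    rwa [card_conjSub]
  apply hn g⁻¹
  rw [← h2, conjSub_inv_conjSub]

/-! ### Burnside's lemma on fixed points -/

theorem fixed_sup_iff {X : Type v} [MulAction H X] {K : Subgroup H} {g : H} {x : X} :
    (∀ k ∈ K ⊔ Subgroup.zpowers g, k • x = x) ↔ (∀ k ∈ K, k • x = x) ∧ g • x = x := by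
  constructor
  · intro h
    exact ⟨fun k hk => h k (Subgroup.mem_sup_left hk),
      h g (Subgroup.mem_sup_right (Subgroup.mem_zpowers g))⟩
  · rintro ⟨h1, h2⟩
    have : K ⊔ Subgroup.zpowers g ≤ MulAction.stabilizer H x := by
      refine sup_le (fun k hk => h1 k hk) ?_
      rw [Subgroup.zpowers_le]
      exact h2
    exact fun k hk => this hk

theorem burnside_dvd {A : Type w} [Group A] [Fintype A] (ρ : A →* H) (K : Subgroup H)
    (hK : ∀ a : A, ∀ k ∈ K, ρ a * k * (ρ a)⁻¹ ∈ K) (X : Type v) [Finite X] [MulAction H X] :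
    Nat.card A ∣ ∑ a : A, mark X (K ⊔ Subgroup.zpowers (ρ a)) := by
  classical
  have hstay : ∀ (a : A) (x : X), (∀ k ∈ K, k • x = x) → ∀ k ∈ K, k • (ρ a • x) = ρ a • x := by
    intro a x hx k hk
    have h1 : ρ a⁻¹ * k * (ρ a⁻¹)⁻¹ ∈ K := hK a⁻¹ k hk
    have h2 := hx _ h1
    have h3 := congrArg (fun y => ρ a • y) h2
    simp only [map_inv, inv_inv, mul_smul, smul_inv_smul] at h3
    exact h3
  let Fx := {x : X // ∀ k ∈ K, k • x = x}
  letI act : MulAction A Fx :=
    { smul := fun a x => ⟨ρ a • x.1, hstay a x.1 x.2⟩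
      one_smul := fun x => Subtype.ext (by show ρ 1 • x.1 = x.1; simp)
      mul_smul := fun a b x => Subtype.ext (by show ρ (a * b) • x.1 = ρ a • ρ b • x.1; simp [mul_smul]) }
  haveI : Fintype Fx := Fintype.ofFinite _
  haveI : ∀ g : A, Fintype (MulAction.fixedBy Fx g) := fun g => Fintype.ofFinite _
  haveI : Fintype (MulAction.orbitRel.Quotient A Fx) := Fintype.ofFinite _
  have hb := MulAction.sum_card_fixedBy_eq_card_orbits_mul_card_group A Fx
  have heq : ∀ a : A, mark X (K ⊔ Subgroup.zpowers (ρ a)) = Fintype.card (MulAction.fixedBy Fx a) := by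
    intro a
    rw [← Nat.card_eq_fintype_card]
    refine Nat.card_congr ⟨fun x => ⟨⟨x.1, (fixed_sup_iff.mp x.2).1⟩, ?_⟩, fun x => ⟨x.1.1, fixed_sup_iff.mpr ⟨x.1.2, ?_⟩⟩, ?_, ?_⟩
    · exact Subtype.ext (fixed_sup_iff.mp x.2).2
    · exact congrArg Subtype.val x.2
    · intro x; rfl
    · intro x; rfl
  rw [Finset.sum_congr rfl (fun a _ => heq a), hb, Nat.card_eq_fintype_card]
  exact Dvd.intro_left _ rfl

/-! ### Marks determine a finite `H`-set -/

/-- Splitting along an invariant subset. -/
theorem mark_split {X : Type v} [MulAction H X] (c d : SubMulAction H X) (h : ∀ x, x ∈ d ↔ x ∉ c)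
    [Finite X] (K : Subgroup H) : mark X K = mark c K + mark d K := by
  classical
  have e : {x : X // ∀ k ∈ K, k • x = x} ≃ {x : c // ∀ k ∈ K, k • x = x} ⊕ {x : d // ∀ k ∈ K, k • x = x} := by
    refine ⟨fun x => ?_, fun z => ?_, ?_, ?_⟩
    · by_cases hx : x.1 ∈ c
      · exact Sum.inl ⟨⟨x.1, hx⟩, fun k hk => Subtype.ext (x.2 k hk)⟩
      · exact Sum.inr ⟨⟨x.1, (h _).2 hx⟩, fun k hk => Subtype.ext (x.2 k hk)⟩
    · rcases z with z | z
      · exact ⟨z.1.1, fun k hk => congrArg Subtype.val (z.2 k hk)⟩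
      · exact ⟨z.1.1, fun k hk => congrArg Subtype.val (z.2 k hk)⟩
    · intro x
      by_cases hx : x.1 ∈ c <;> simp [hx]
    · rintro (z | z)
      · simp [z.1.2]
      · have : z.1.1 ∉ c := (h _).1 z.1.2
        simp [this]
  unfold mark
  rw [Nat.card_congr e, Nat.card_sum]

/-- The orbit of `x` as an invariant subset. -/
def orbitSub {X : Type v} [MulAction H X] (x : X) : SubMulAction H X where
  carrier := MulAction.orbit H x
  smul_mem' := fun g _ hy => MulAction.mem_orbit_of_mem_orbit g hy

/-- The complement of the orbit of `x` as an invariant subset. -/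
def orbitCompl {X : Type v} [MulAction H X] (x : X) : SubMulAction H X where
  carrier := (MulAction.orbit H x)ᶜ
  smul_mem' := fun g y hy hg => hy (by
    have := MulAction.mem_orbit_of_mem_orbit g⁻¹ hg
    simpa using this)

theorem mem_orbitSub {X : Type v} [MulAction H X] {x y : X} : y ∈ orbitSub (H := H) x ↔ ∃ g : H, g • x = y := Iff.rfl

theorem mem_orbitCompl {X : Type v} [MulAction H X] {x y : X} : y ∈ orbitCompl (H := H) x ↔ y ∉ orbitSub (H := H) x := Iff.rfl

theorem mark_orbitSub {X : Type v} [MulAction H X] (x : X) (K : Subgroup H) :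
    mark (orbitSub (H := H) x) K = mark (H ⧸ MulAction.stabilizer H x) K := by
  symm
  refine mark_congr (Equiv.ofBijective (fun q => (⟨MulAction.ofQuotientStabilizer H x q, ?_⟩ : orbitSub (H := H) x)) ⟨?_, ?_⟩) ?_ K
  · exact MulAction.ofQuotientStabilizer_mem_orbit H x q
  · intro a b hab
    exact MulAction.injective_ofQuotientStabilizer H x (congrArg Subtype.val hab)
  · rintro ⟨y, g, rfl⟩
    exact ⟨(g : H), Subtype.ext rfl⟩
  · intro g q
    exact Subtype.ext (MulAction.ofQuotientStabilizer_smul H x g q)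

/-- Finite `H`-sets with equal marks are isomorphic. -/
theorem exists_equivariant_equiv [Finite H] : ∀ (n : ℕ) (X Y : Type v) [Finite X] [Finite Y] [MulAction H X]
    [MulAction H Y], Nat.card X = n → (∀ K : Subgroup H, mark X K = mark Y K) →
    ∃ f : X ≃ Y, ∀ (g : H) (x : X), f (g • x) = g • f x := by
  intro n
  induction n using Nat.strong_induction_on with
  | _ n ih =>
    intro X Y _ _ _ _ hn hm
    classical
    have hcard : Nat.card X = Nat.card Y := by
      rw [← mark_bot (H := H) X, ← mark_bot (H := H) Y, hm]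
    by_cases hX : IsEmpty X
    · haveI : IsEmpty Y := by
        have h0 : Nat.card Y = 0 := by rw [← hcard]; exact Nat.card_of_isEmpty
        exact (Finite.card_eq_zero_iff).mp h0
      exact ⟨Equiv.equivOfIsEmpty X Y, fun g x => (hX.false x).elim⟩
    · rw [not_isEmpty_iff] at hX
      obtain ⟨x₀, hx₀⟩ := Finite.exists_max (fun x : X => Nat.card (MulAction.stabilizer H x))
      -- a point of `Y` with the same stabilizer
      have hfix : ∀ k ∈ MulAction.stabilizer H x₀, k • x₀ = x₀ := fun k hk => hk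
      obtain ⟨y₀, hy₀⟩ := mark_pos_iff.mp
        (by rw [← hm]; exact mark_pos_iff.mpr ⟨x₀, hfix⟩ : 0 < mark Y (MulAction.stabilizer H x₀))
      obtain ⟨x₁, hx₁⟩ := mark_pos_iff.mp
        (by rw [hm]; exact mark_pos_iff.mpr ⟨y₀, fun k hk => hk⟩ : 0 < mark X (MulAction.stabilizer H y₀))
      have hle : MulAction.stabilizer H x₀ ≤ MulAction.stabilizer H y₀ := fun k hk => hy₀ k hk
      have hle2 : MulAction.stabilizer H y₀ ≤ MulAction.stabilizer H x₁ := fun k hk => hx₁ k hk
      have hstab : MulAction.stabilizer H x₀ = MulAction.stabilizer H y₀ := by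
        refine Subgroup.eq_of_le_of_card_ge hle ?_
        exact (Subgroup.card_le_of_le hle2).trans (hx₀ x₁)
      -- remove the two orbits
      have hmc : ∀ K : Subgroup H, mark (orbitCompl (H := H) x₀) K = mark (orbitCompl (H := H) y₀) K := by
        intro K
        have h1 := mark_split (orbitSub (H := H) x₀) (orbitCompl (H := H) x₀) (fun _ => Iff.rfl) K
        have h2 := mark_split (orbitSub (H := H) y₀) (orbitCompl (H := H) y₀) (fun _ => Iff.rfl) K
        rw [mark_orbitSub] at h1 h2
        rw [hstab] at h1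
        have := hm K
        omega
      have hlt : Nat.card (orbitCompl (H := H) x₀) < n := by
        rw [← hn]
        refine Finite.card_subtype_lt (x := x₀) ?_
        exact fun h => h (MulAction.mem_orbit_self x₀)
      obtain ⟨e, he⟩ := ih _ hlt (orbitCompl (H := H) x₀) (orbitCompl (H := H) y₀) rfl hmc
      -- the combined map
      have hkey : ∀ a b : H, a • x₀ = b • x₀ ↔ a • y₀ = b • y₀ := by
        intro a b
        have h1 : ∀ {Z : Type v} [MulAction H Z] (z : Z), a • z = b • z ↔ b⁻¹ * a ∈ MulAction.stabilizer H z := by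
          intro Z _ z
          rw [MulAction.mem_stabilizer_iff, mul_smul, inv_smul_eq_iff]
        rw [h1, h1, hstab]
      have hch : ∀ (x : X) (h : x ∈ orbitSub (H := H) x₀), (Classical.choose h) • x₀ = x :=
        fun x h => Classical.choose_spec h
      let F : X → Y := fun x => if h : x ∈ orbitSub (H := H) x₀ then (Classical.choose h) • y₀
        else (e ⟨x, h⟩ : Y)
      have hFin : ∀ (x : X) (g : H), g • x₀ = x → F x = g • y₀ := by
        intro x g hg
        have h : x ∈ orbitSub (H := H) x₀ := ⟨g, hg⟩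
        show (if h : x ∈ orbitSub (H := H) x₀ then (Classical.choose h) • y₀ else (e ⟨x, h⟩ : Y)) = g • y₀
        rw [dif_pos h]
        exact (hkey _ _).mp ((hch x h).trans hg.symm)
      have hFout : ∀ (x : X) (h : x ∉ orbitSub (H := H) x₀), F x = (e ⟨x, h⟩ : Y) := by
        intro x h
        show (if h : x ∈ orbitSub (H := H) x₀ then (Classical.choose h) • y₀ else (e ⟨x, h⟩ : Y)) = _
        rw [dif_neg h]
      have hinj : Function.Injective F := by
        intro a b hab
        by_cases ha : a ∈ orbitSub (H := H) x₀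
        · obtain ⟨g, rfl⟩ := ha
          by_cases hb : b ∈ orbitSub (H := H) x₀
          · obtain ⟨g', rfl⟩ := hb
            rw [hFin _ g rfl, hFin _ g' rfl] at hab
            exact (hkey _ _).mpr hab
          · rw [hFin _ g rfl, hFout _ hb] at hab
            exact ((e ⟨b, hb⟩).2 ⟨g, hab⟩).elim
        · by_cases hb : b ∈ orbitSub (H := H) x₀
          · obtain ⟨g', rfl⟩ := hb
            rw [hFin _ g' rfl, hFout _ ha] at hab
            exact ((e ⟨a, ha⟩).2 ⟨g', hab.symm⟩).elim
          · rw [hFout _ ha, hFout _ hb] at hab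
            have := e.injective (Subtype.ext hab)
            exact congrArg Subtype.val this
      have hbij : Function.Bijective F := (Nat.bijective_iff_injective_and_card F).mpr ⟨hinj, hcard⟩
      refine ⟨Equiv.ofBijective F hbij, ?_⟩
      intro g x
      show F (g • x) = g • F x
      by_cases hx : x ∈ orbitSub (H := H) x₀
      · obtain ⟨a, rfl⟩ := hx
        rw [hFin _ a rfl, hFin (g • a • x₀) (g * a) (mul_smul _ _ _), mul_smul]
      · have hgx : g • x ∉ orbitSub (H := H) x₀ := (orbitCompl (H := H) x₀).smul_mem g hx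
        rw [hFout _ hx, hFout _ hgx]
        have := he g ⟨x, hx⟩
        exact congrArg Subtype.val this

end Marks

/-! ### Adding orbits to reach a prescribed mark on a conjugacy class of subgroups -/

section FixClass

variable {H : Type u} [Group H]

theorem stabilizer_sum_inl {X Y : Type u} [MulAction H X] [MulAction H Y] (x : X) :
    MulAction.stabilizer H (Sum.inl x : X ⊕ Y) = MulAction.stabilizer H x := by
  ext g
  rw [MulAction.mem_stabilizer_iff, MulAction.mem_stabilizer_iff]
  exact ⟨fun h => Sum.inl_injective h, fun h => congrArg Sum.inl h⟩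

theorem stabilizer_sum_inr {X Y : Type u} [MulAction H X] [MulAction H Y] (y : Y) :
    MulAction.stabilizer H (Sum.inr y : X ⊕ Y) = MulAction.stabilizer H y := by
  ext g
  rw [MulAction.mem_stabilizer_iff, MulAction.mem_stabilizer_iff]
  exact ⟨fun h => Sum.inr_injective h, fun h => congrArg Sum.inr h⟩

open Classical in
/-- Let `𝒦` be a family of subgroups of `H` of one order `d`, closed under conjugation, on which the marks of `X`
stay below `M` and are congruent to `M` modulo the weights.  Adding orbits `H/K` with `K ∈ 𝒦` brings all the marks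
on `𝒦` to `M`, without changing any other mark on subgroups of order at least `d`. -/
theorem fix_class [Finite H] (𝒦 : Finset (Subgroup H)) (hconj : ∀ K ∈ 𝒦, ∀ g : H, conjSub g K ∈ 𝒦) (d : ℕ)
    (hd : ∀ K ∈ 𝒦, Nat.card K = d) (M : ℕ) (P : Subgroup H → Prop) (hP : ∀ K ∈ 𝒦, P K) :
    ∀ (n : ℕ) (X : Type u) [Finite X] [MulAction H X], ∑ K ∈ 𝒦, (M - mark X K) = n →
      (∀ K ∈ 𝒦, mark X K ≤ M ∧ wt K ∣ M - mark X K) → (∀ x : X, P (MulAction.stabilizer H x)) →
      ∃ (X' : Type u) (_ : Finite X') (_ : MulAction H X'), (∀ x : X', P (MulAction.stabilizer H x)) ∧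
        (∀ K ∈ 𝒦, mark X' K = M) ∧ (∀ K' : Subgroup H, d ≤ Nat.card K' → K' ∉ 𝒦 → mark X' K' = mark X K') ∧
        (∀ c : ℕ, (∀ K ∈ 𝒦, c ∣ K.index) → Nat.card X' ≡ Nat.card X [MOD c]) ∧
        (∀ K : Subgroup H, mark X K ≤ mark X' K) := by
  intro n
  induction n using Nat.strong_induction_on with
  | _ n ih =>
    intro X _ _ hn hM hPX
    by_cases hall : ∀ K ∈ 𝒦, mark X K = M
    · exact ⟨X, inferInstance, inferInstance, hPX, hall, fun _ _ _ => rfl, fun c _ => Nat.ModEq.refl _, fun _ => le_rfl⟩
    · push_neg at hall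
      obtain ⟨K₁, hK₁, hne⟩ := hall
      have hlt₁ : mark X K₁ < M := lt_of_le_of_ne (hM K₁ hK₁).1 hne
      have hmark : ∀ K ∈ 𝒦, mark (X ⊕ (H ⧸ K₁)) K = mark X K + mark (H ⧸ K₁) K := fun K _ => mark_sum _ _ _
      -- the new marks
      have hcase : ∀ K ∈ 𝒦, (∃ g : H, K = conjSub g K₁) ∨ mark (H ⧸ K₁) K = 0 := by
        intro K hK
        by_cases h : ∃ g : H, K = conjSub g K₁
        · exact Or.inl h
        · push_neg at h
          refine Or.inr (mark_quot_eq_zero ?_ h)
          rw [hd K₁ hK₁, hd K hK]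
      have hM' : ∀ K ∈ 𝒦, mark (X ⊕ (H ⧸ K₁)) K ≤ M ∧ wt K ∣ M - mark (X ⊕ (H ⧸ K₁)) K := by
        intro K hK
        rw [hmark K hK]
        rcases hcase K hK with ⟨g, rfl⟩ | h0
        · rw [mark_quot_conj]
          have h1 : mark X (conjSub g K₁) = mark X K₁ := mark_conj _ _ _
          obtain ⟨h2, h3⟩ := hM _ hK
          have h4 : mark X (conjSub g K₁) < M := by rw [h1]; exact hlt₁
          have h5 : wt (conjSub g K₁) ≤ M - mark X (conjSub g K₁) :=
            Nat.le_of_dvd (Nat.sub_pos_of_lt h4) h3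
          refine ⟨by omega, ?_⟩
          have h6 : M - (mark X (conjSub g K₁) + wt (conjSub g K₁)) =
              (M - mark X (conjSub g K₁)) - wt (conjSub g K₁) := by omega
          rw [h6]
          exact Nat.dvd_sub h3 (dvd_refl _)
        · rw [h0, add_zero]
          exact hM K hK
      have hlt : ∑ K ∈ 𝒦, (M - mark (X ⊕ (H ⧸ K₁)) K) < n := by
        rw [← hn]
        refine Finset.sum_lt_sum ?_ ⟨K₁, hK₁, ?_⟩
        · intro K hK
          rw [hmark K hK]
          omega
        · rw [hmark K₁ hK₁]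
          have h0 : 0 < mark (H ⧸ K₁) K₁ := by
            have := wt_pos K₁
            exact this
          omega
      obtain ⟨X', i1, i2, h1, h2, h3, h4, h5⟩ := ih _ hlt (X ⊕ (H ⧸ K₁)) rfl hM' (by
        rintro (x | q)
        · rw [stabilizer_sum_inl]; exact hPX x
        · rw [stabilizer_sum_inr]
          obtain ⟨a, ha⟩ := stabilizer_coset' K₁ q
          rw [ha]
          exact hP _ (hconj _ hK₁ a))
      refine ⟨X', i1, i2, h1, h2, ?_, ?_, ?_⟩
      · intro K' hc hn'
        rw [h3 K' hc hn', mark_sum]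
        have : mark (H ⧸ K₁) K' = 0 := by
          refine mark_quot_eq_zero ?_ ?_
          · rwa [hd K₁ hK₁]
          · rintro g rfl
            exact hn' (hconj _ hK₁ g)
        omega
      · intro c hc
        refine (h4 c hc).trans ?_
        rw [Nat.card_sum]
        have h6 : c ∣ Nat.card (H ⧸ K₁) := hc K₁ hK₁
        have : Nat.card X + Nat.card (H ⧸ K₁) ≡ Nat.card X + 0 [MOD c] :=
          Nat.ModEq.add_left _ ((Nat.modEq_zero_iff_dvd).mpr h6)
        simpa using this
      · intro K
        refine le_trans ?_ (h5 K)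
        rw [mark_sum]
        omega

/-- Scaling a finite `H`-set: `N` disjoint copies. -/
theorem exists_scale (X : Type u) [Finite X] [MulAction H X] (P : Subgroup H → Prop)
    (hP : ∀ x : X, P (MulAction.stabilizer H x)) (N : ℕ) :
    ∃ (X' : Type u) (_ : Finite X') (_ : MulAction H X'), (∀ x : X', P (MulAction.stabilizer H x)) ∧
      ∀ K : Subgroup H, mark X' K = N * mark X K := by
  induction N with
  | zero =>
    refine ⟨PEmpty, inferInstance, { smul := fun _ x => x, one_smul := fun _ => rfl, mul_smul := fun _ _ _ => rfl },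
      fun x => x.elim, fun K => ?_⟩
    rw [zero_mul]
    unfold mark
    exact Nat.card_of_isEmpty
  | succ N ih =>
    obtain ⟨X', i1, i2, h1, h2⟩ := ih
    refine ⟨X' ⊕ X, inferInstance, inferInstance, ?_, ?_⟩
    · rintro (x | x)
      · rw [stabilizer_sum_inl]; exact h1 x
      · rw [stabilizer_sum_inr]; exact hP x
    · intro K
      rw [mark_sum, h2, Nat.succ_mul]

end FixClass

end Cfsg.Agent.Lib.Fusion.Biset
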