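/-
`S × S`-sets generated by graphs of maps of a fusion system: the graph of a map, the F-graphs (closed under subgroups,
conjugation and composition with maps of the system), left stability of marks and its transport along maps.
-/
import Cfsg.Agent.Lib.Fusion.BisetMark
import Cfsg.Agent.Lib.Fusion.Basic
import Mathlib

set_option autoImplicit false

namespace Cfsg.Agent.Lib.Fusion.Biset

open Cfsg Cfsg.FusionSystem Cfsg.Agent.Lib.Fusion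

universe u v

variable {Ω : Type u} [Group Ω] {S : Subgroup Ω}

/-- The graph of `ψ : Q → Ω` as a subgroup of `S × S`. -/
def graph (S Q : Subgroup Ω) (ψ : Q →* Ω) : Subgroup (S × S) where
  carrier := {g | ∃ h : ((g.1 : S) : Ω) ∈ Q, ψ ⟨g.1, h⟩ = ((g.2 : S) : Ω)}
  mul_mem' := by
    rintro a b ⟨ha, ha'⟩ ⟨hb, hb'⟩
    refine ⟨Q.mul_mem ha hb, ?_⟩
    have : (⟨(((a * b).1 : S) : Ω), Q.mul_mem ha hb⟩ : Q) = ⟨a.1, ha⟩ * ⟨b.1, hb⟩ := rfl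
    rw [this, map_mul, ha', hb']; rfl
  one_mem' := ⟨Q.one_mem, ψ.map_one⟩
  inv_mem' := by
    rintro a ⟨ha, ha'⟩
    refine ⟨Q.inv_mem ha, ?_⟩
    have : (⟨((a⁻¹.1 : S) : Ω), Q.inv_mem ha⟩ : Q) = (⟨a.1, ha⟩ : Q)⁻¹ := rfl
    rw [this, map_inv, ha']; rfl

theorem mem_graph {Q : Subgroup Ω} {ψ : Q →* Ω} {g : S × S} :
    g ∈ graph S Q ψ ↔ ∃ h : ((g.1 : S) : Ω) ∈ Q, ψ ⟨g.1, h⟩ = ((g.2 : S) : Ω) := Iff.rfl

/-- The first projection of a subgroup of `S × S`, as a subgroup of `Ω`. -/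
def fstOf (L : Subgroup (S × S)) : Subgroup Ω := (L.map (MonoidHom.fst S S)).map S.subtype

/-- The second projection of a subgroup of `S × S`, as a subgroup of `Ω`. -/
def sndOf (L : Subgroup (S × S)) : Subgroup Ω := (L.map (MonoidHom.snd S S)).map S.subtype

theorem mem_fstOf {L : Subgroup (S × S)} {x : Ω} : x ∈ fstOf L ↔ ∃ g ∈ L, ((g.1 : S) : Ω) = x := by
  unfold fstOf
  simp only [Subgroup.mem_map, MonoidHom.coe_fst, Subgroup.coe_subtype]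
  constructor
  · rintro ⟨_, ⟨g, hg, rfl⟩, rfl⟩; exact ⟨g, hg, rfl⟩
  · rintro ⟨g, hg, rfl⟩; exact ⟨_, ⟨g, hg, rfl⟩, rfl⟩

theorem mem_sndOf {L : Subgroup (S × S)} {x : Ω} : x ∈ sndOf L ↔ ∃ g ∈ L, ((g.2 : S) : Ω) = x := by
  unfold sndOf
  simp only [Subgroup.mem_map, MonoidHom.coe_snd, Subgroup.coe_subtype]
  constructor
  · rintro ⟨_, ⟨g, hg, rfl⟩, rfl⟩; exact ⟨g, hg, rfl⟩
  · rintro ⟨g, hg, rfl⟩; exact ⟨_, ⟨g, hg, rfl⟩, rfl⟩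

theorem sndOf_le (L : Subgroup (S × S)) : sndOf L ≤ S := by
  intro x hx
  obtain ⟨g, -, rfl⟩ := mem_sndOf.mp hx
  exact g.2.2

section Graphs

variable {F : FusionSystem S}

/-- `L` is the graph of a map of the system. -/
def IsFGraph (F : FusionSystem S) (L : Subgroup (S × S)) : Prop :=
  ∃ Q : Subgroup Ω, ∃ ψ ∈ F.Hom Q, L = graph S Q ψ

theorem mem_graph_of_mem {Q : Subgroup Ω} {ψ : Q →* Ω} (hψ : ψ ∈ F.Hom Q) (q : Q) :
    ((⟨q, hom_le F hψ q.2⟩, ⟨ψ q, hom_val F hψ q⟩) : S × S) ∈ graph S Q ψ :=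
  ⟨q.2, rfl⟩

theorem isFGraph_of_le {L L' : Subgroup (S × S)} (hL : IsFGraph F L) (h : L' ≤ L) : IsFGraph F L' := by
  obtain ⟨Q, ψ, hψ, rfl⟩ := hL
  have hQ : fstOf L' ≤ Q := by
    intro x hx
    obtain ⟨g, hg, rfl⟩ := mem_fstOf.mp hx
    exact (h hg).1
  refine ⟨fstOf L', ψ.comp (Subgroup.inclusion hQ), res_mem F hψ hQ, ?_⟩
  ext g
  constructor
  · intro hg
    obtain ⟨h1, h2⟩ := h hg
    exact ⟨mem_fstOf.mpr ⟨g, hg, rfl⟩, h2⟩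
  · rintro ⟨h1, h2⟩
    obtain ⟨g', hg', he⟩ := mem_fstOf.mp h1
    obtain ⟨h3, h4⟩ := h hg'
    have h5 : (g'.2 : Ω) = (g.2 : Ω) := by
      rw [← h4, ← h2]
      show ψ _ = ψ _
      congr 1
      exact Subtype.ext he
    have : g' = g := Prod.ext (Subtype.ext he) (Subtype.ext h5)
    rwa [← this]

theorem isFGraph_map2 {P₁ P₂ : Subgroup Ω} {φ₁ : P₁ →* Ω} {φ₂ : P₂ →* Ω} (h₁ : φ₁ ∈ F.Hom P₁) (h₂ : φ₂ ∈ F.Hom P₂)
    {L₁ L₂ : Subgroup (S × S)}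
    (hrel : ∀ g' ∈ L₂, ∃ g ∈ L₁, ∃ (ha : ((g.1 : S) : Ω) ∈ P₁) (hb : ((g.2 : S) : Ω) ∈ P₂),
      ((g'.1 : S) : Ω) = φ₁ ⟨g.1, ha⟩ ∧ ((g'.2 : S) : Ω) = φ₂ ⟨g.2, hb⟩)
    (hL : IsFGraph F L₁) : IsFGraph F L₂ := by
  obtain ⟨Q, ψ, hψ, rfl⟩ := hL
  let Q' : Subgroup Ω := ((P₂.comap ψ).map Q.subtype) ⊓ P₁
  have hQ'Q : Q' ≤ Q := by
    rintro x ⟨hx, -⟩
    obtain ⟨y, -, rfl⟩ := Subgroup.mem_map.mp hx
    exact y.2
  have hQ'P : Q' ≤ P₁ := inf_le_right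
  let θ : Q' →* Ω := ψ.comp (Subgroup.inclusion hQ'Q)
  have hθ : θ ∈ F.Hom Q' := res_mem F hψ hQ'Q
  have hθv : ∀ x : Q', θ x ∈ P₂ := by
    rintro ⟨x, hx, -⟩
    obtain ⟨y, hy, rfl⟩ := Subgroup.mem_map.mp hx
    exact hy
  let β : Q' →* Ω := φ₂.comp (θ.codRestrict P₂ hθv)
  have hβ : β ∈ F.Hom Q' := F.comp_mem hθ h₂ hθv
  let α : Q' →* Ω := φ₁.comp (Subgroup.inclusion hQ'P)
  have hα : α ∈ F.Hom Q' := res_mem F h₁ hQ'P
  obtain ⟨ρ, hρ, hρv⟩ := F.inv_mem hα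
  have hρQ' : ∀ y : α.range, ρ y ∈ Q' := by
    rintro ⟨_, x, rfl⟩
    rw [hρv]; exact x.2
  let γ : α.range →* Ω := β.comp (ρ.codRestrict Q' hρQ')
  have hγ : γ ∈ F.Hom α.range := F.comp_mem hρ hβ hρQ'
  refine isFGraph_of_le ⟨α.range, γ, hγ, rfl⟩ ?_
  intro g' hg'
  obtain ⟨g, hg, ha, hb, h1, h2⟩ := hrel g' hg'
  obtain ⟨hq, hv⟩ := hg
  have hmem : ((g.1 : S) : Ω) ∈ Q' :=
    ⟨Subgroup.mem_map.mpr ⟨⟨g.1, hq⟩, by show ψ _ ∈ P₂; rw [hv]; exact hb, rfl⟩, ha⟩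
  have hαx : α ⟨g.1, hmem⟩ = ((g'.1 : S) : Ω) := h1.symm
  have hr : ((g'.1 : S) : Ω) ∈ α.range := ⟨⟨g.1, hmem⟩, hαx⟩
  refine ⟨hr, ?_⟩
  have hρx : ρ ⟨(g'.1 : Ω), hr⟩ = (g.1 : Ω) := by
    have h3 := hρv ⟨g.1, hmem⟩
    have h4 : (⟨α ⟨g.1, hmem⟩, ⟨⟨g.1, hmem⟩, rfl⟩⟩ : α.range) = ⟨(g'.1 : Ω), hr⟩ := Subtype.ext hαx
    rw [h4] at h3
    exact h3
  show φ₂ (θ.codRestrict P₂ hθv (ρ.codRestrict Q' hρQ' ⟨(g'.1 : Ω), hr⟩)) = _
  rw [h2]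
  congr 1
  apply Subtype.ext
  show ψ (Subgroup.inclusion hQ'Q (ρ.codRestrict Q' hρQ' ⟨(g'.1 : Ω), hr⟩)) = _
  rw [← hv]
  congr 1
  exact Subtype.ext hρx

/-- Transport along a map in the first coordinate. -/
theorem isFGraph_left {P : Subgroup Ω} {φ : P →* Ω} (hφ : φ ∈ F.Hom P) {L₁ L₂ : Subgroup (S × S)}
    (hrel : ∀ g' ∈ L₂, ∃ g ∈ L₁, ∃ ha : ((g.1 : S) : Ω) ∈ P, ((g'.1 : S) : Ω) = φ ⟨g.1, ha⟩ ∧ g'.2 = g.2)
    (hL : IsFGraph F L₁) : IsFGraph F L₂ := by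
  refine isFGraph_map2 hφ (subtype_mem F le_rfl) (fun g' hg' => ?_) hL
  obtain ⟨g, hg, ha, h1, h2⟩ := hrel g' hg'
  exact ⟨g, hg, ha, g.2.2, h1, by rw [h2]; rfl⟩

theorem isFGraph_conj {L : Subgroup (S × S)} (hL : IsFGraph F L) (a : S × S) : IsFGraph F (conjSub a L) := by
  refine isFGraph_map2 (F.conj_mem le_rfl a.1.2) (F.conj_mem le_rfl a.2.2) (fun g' hg' => ?_) hL
  refine ⟨_, mem_conjSub.mp hg', (a⁻¹ * g' * a).1.2, (a⁻¹ * g' * a).2.2, ?_, ?_⟩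
  · simp [conjHom, mul_assoc]
  · simp [conjHom, mul_assoc]

theorem card_graph [Finite S] {Q : Subgroup Ω} {ψ : Q →* Ω} (hψ : ψ ∈ F.Hom Q) : Nat.card (graph S Q ψ) = Nat.card Q := by
  refine Nat.card_congr ⟨fun g => ⟨g.1.1, g.2.1⟩, fun q => ⟨_, mem_graph_of_mem hψ q⟩, ?_, ?_⟩
  · rintro ⟨g, hg1, hg2⟩
    apply Subtype.ext
    exact Prod.ext (Subtype.ext rfl) (Subtype.ext hg2)
  · intro q; rfl

theorem sndOf_graph {Q : Subgroup Ω} {ψ : Q →* Ω} (hψ : ψ ∈ F.Hom Q) : sndOf (graph S Q ψ) = ψ.range := by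
  ext x
  rw [mem_sndOf]
  constructor
  · rintro ⟨g, ⟨h1, h2⟩, rfl⟩
    exact ⟨_, h2⟩
  · rintro ⟨q, rfl⟩
    exact ⟨_, mem_graph_of_mem hψ q, rfl⟩

theorem card_sndOf [Finite S] {L : Subgroup (S × S)} (hL : IsFGraph F L) : Nat.card (sndOf L) = Nat.card L := by
  obtain ⟨Q, ψ, hψ, rfl⟩ := hL
  rw [sndOf_graph hψ, card_graph hψ]
  exact (Nat.card_congr (MonoidHom.ofInjective (hom_inj F hψ)).toEquiv).symm

/-- The diagonal of `R`. -/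
def diag (S R : Subgroup Ω) : Subgroup (S × S) := graph S R R.subtype

theorem isFGraph_diag {R : Subgroup Ω} (hR : R ≤ S) : IsFGraph F (diag S R) :=
  ⟨R, R.subtype, subtype_mem F hR, rfl⟩

theorem sndOf_diag {R : Subgroup Ω} (hR : R ≤ S) : sndOf (diag S R) = R := by
  ext x
  rw [mem_sndOf]
  constructor
  · rintro ⟨g, ⟨h1, h2⟩, rfl⟩
    rw [← h2]
    exact h1
  · intro hx
    exact ⟨(⟨x, hR hx⟩, ⟨x, hR hx⟩), ⟨hx, rfl⟩, rfl⟩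

theorem mem_diag {R : Subgroup Ω} {g : S × S} : g ∈ diag S R ↔ ((g.1 : S) : Ω) ∈ R ∧ g.1 = g.2 := by
  constructor
  · rintro ⟨h1, h2⟩
    exact ⟨h1, Subtype.ext h2⟩
  · rintro ⟨h1, h2⟩
    exact ⟨h1, by rw [← h2]; rfl⟩

theorem sndOf_conj (a : S × S) (L : Subgroup (S × S)) : sndOf (conjSub a L) = conjSub (a.2 : Ω) (sndOf L) := by
  ext x
  rw [mem_sndOf, mem_conjSub, mem_sndOf]
  constructor
  · rintro ⟨g, hg, rfl⟩
    refine ⟨_, mem_conjSub.mp hg, ?_⟩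
    simp [mul_assoc]
  · rintro ⟨g, hg, hv⟩
    have hx : x ∈ S := by
      have : x = (a.2 : Ω) * (g.2 : Ω) * (a.2 : Ω)⁻¹ := by rw [hv]; group
      rw [this]
      exact S.mul_mem (S.mul_mem a.2.2 g.2.2) (S.inv_mem a.2.2)
    refine ⟨a * g * a⁻¹, mem_conjSub.mpr (by simpa [mul_assoc] using hg), ?_⟩
    have : x = (a.2 : Ω) * (g.2 : Ω) * (a.2 : Ω)⁻¹ := by rw [hv]; group
    rw [this]
    simp

end Graphs

section Sets

variable {F : FusionSystem S}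
variable {X : Type v} [MulAction (S × S) X]

/-- All stabilizers are graphs of maps of the system. -/
def FGen (F : FusionSystem S) (X : Type v) [MulAction (S × S) X] : Prop :=
  ∀ x : X, IsFGraph F (MulAction.stabilizer (S × S) x)

theorem mark_eq_zero [Finite X] (hX : FGen F X) {L : Subgroup (S × S)} (hL : ¬ IsFGraph F L) : mark X L = 0 := by
  by_contra h
  obtain ⟨x, hx⟩ := mark_pos_iff.mp (Nat.pos_of_ne_zero h)
  exact hL (isFGraph_of_le (hX x) (fun k hk => hx k hk))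

/-- Left stability of the marks on the graphs of order above `d`. -/
def StableAbove (F : FusionSystem S) (X : Type v) [MulAction (S × S) X] (d : ℕ) : Prop :=
  ∀ L : Subgroup (S × S), IsFGraph F L → d < Nat.card L → mark X L = mark X (diag S (sndOf L))

/-- Left stability at `R`. -/
def Good (F : FusionSystem S) (X : Type v) [MulAction (S × S) X] (R : Subgroup Ω) : Prop :=
  ∀ L : Subgroup (S × S), IsFGraph F L → sndOf L = R → mark X L = mark X (diag S R)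

/-- Two homomorphisms into `S × S` differing by a map of the system in the first coordinate have the same marks. -/
theorem mark_transport [Finite X] {A : Type*} [Group A] (ρ₁ ρ₂ : A →* S × S) {P : Subgroup Ω} {φ : P →* Ω}
    (hφ : φ ∈ F.Hom P)
    (h₁ : ∀ a, ∃ h : (((ρ₁ a).1 : S) : Ω) ∈ P, φ ⟨_, h⟩ = (((ρ₂ a).1 : S) : Ω))
    (h₂ : ∀ a, (ρ₁ a).2 = (ρ₂ a).2) (hX : FGen F X) {d : ℕ} (hst : StableAbove F X d) (L : Subgroup A)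
    (hd₁ : d < Nat.card (L.map ρ₁)) (hd₂ : d < Nat.card (L.map ρ₂)) :
    mark X (L.map ρ₁) = mark X (L.map ρ₂) := by
  have hsnd : sndOf (L.map ρ₁) = sndOf (L.map ρ₂) := by
    ext x
    rw [mem_sndOf, mem_sndOf]
    constructor
    · rintro ⟨_, ⟨a, ha, rfl⟩, rfl⟩
      exact ⟨_, ⟨a, ha, rfl⟩, by rw [h₂]⟩
    · rintro ⟨_, ⟨a, ha, rfl⟩, rfl⟩
      exact ⟨_, ⟨a, ha, rfl⟩, by rw [h₂]⟩
  have hfw : IsFGraph F (L.map ρ₁) → IsFGraph F (L.map ρ₂) := by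
    refine isFGraph_left hφ ?_
    rintro _ ⟨a, ha, rfl⟩
    obtain ⟨h, hv⟩ := h₁ a
    exact ⟨_, ⟨a, ha, rfl⟩, h, hv.symm, (h₂ a).symm⟩
  have hbw : IsFGraph F (L.map ρ₂) → IsFGraph F (L.map ρ₁) := by
    obtain ⟨φ', hφ', hv'⟩ := F.inv_mem hφ
    refine isFGraph_left hφ' ?_
    rintro _ ⟨a, ha, rfl⟩
    obtain ⟨h, hv⟩ := h₁ a
    refine ⟨_, ⟨a, ha, rfl⟩, ⟨⟨_, h⟩, hv⟩, ?_, h₂ a⟩
    refine (hv' ⟨_, h⟩).symm.trans ?_
    congr 1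
    exact Subtype.ext hv
  by_cases hg : IsFGraph F (L.map ρ₁)
  · rw [hst _ hg hd₁, hst _ (hfw hg) hd₂, hsnd]
  · rw [mark_eq_zero hX hg, mark_eq_zero hX (fun h => hg (hbw h))]

theorem Good.of_conj {R : Subgroup Ω} (h : Good F X R) (b : S) : Good F X (conjSub (b : Ω) R) := by
  have hc : ∀ L : Subgroup (S × S), IsFGraph F L → sndOf L = conjSub (b : Ω) R → mark X L = mark X (diag S R) := by
    intro L hL hs
    have h1 : sndOf (conjSub ((1, b⁻¹) : S × S) L) = R := by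
      rw [sndOf_conj, hs]
      show conjSub ((b : Ω)⁻¹) _ = _
      rw [conjSub_inv_conjSub]
    rw [← mark_conj X ((1, b⁻¹) : S × S) L]
    exact h _ (isFGraph_conj hL _) h1
  intro L hL hs
  rw [hc L hL hs]
  symm
  refine hc _ (isFGraph_diag ?_) ?_
  · rw [← hs]; exact sndOf_le L
  · apply sndOf_diag
    rw [← hs]; exact sndOf_le L

end Sets

end Cfsg.Agent.Lib.Fusion.Biset
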