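/-
The stabilization loop: from a congruence for the marks at each level, build an `S × S`-set with left-stable marks.
-/
import Cfsg.Agent.Lib.Fusion.BisetGraph
import Mathlib

set_option autoImplicit false

namespace Cfsg.Agent.Lib.Fusion.Biset

open Cfsg Cfsg.FusionSystem Cfsg.Agent.Lib.Fusion

universe u

variable {Ω : Type u} [Group Ω] {S : Subgroup Ω} {F : FusionSystem S}

/-- The marks on the graphs over `R` are bounded by a common `M` and congruent to it modulo the weights. -/
def IsCong (F : FusionSystem S) (X : Type u) [MulAction (S × S) X] (R : Subgroup Ω) : Prop :=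
  ∃ M : ℕ, ∀ L : Subgroup (S × S), IsFGraph F L → sndOf L = R → mark X L ≤ M ∧ wt L ∣ M - mark X L

open Classical in
/-- The graphs whose second projection is `S`-conjugate to `R`. -/
noncomputable def classOf [Finite S] (F : FusionSystem S) (R : Subgroup Ω) : Finset (Subgroup (S × S)) :=
  (Set.toFinite {L : Subgroup (S × S) | IsFGraph F L ∧ ∃ b : S, sndOf L = conjSub (b : Ω) R}).toFinset

theorem mem_classOf [Finite S] {R : Subgroup Ω} {L : Subgroup (S × S)} :
    L ∈ classOf F R ↔ IsFGraph F L ∧ ∃ b : S, sndOf L = conjSub (b : Ω) R := by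
  classical
  unfold classOf
  rw [Set.Finite.mem_toFinset]
  rfl

theorem card_diag [Finite S] {R : Subgroup Ω} (hR : R ≤ S) (F : FusionSystem S) : Nat.card (diag S R) = Nat.card R :=
  card_graph (F := F) (subtype_mem F hR)

theorem fix_R [Finite S] (X : Type u) [Finite X] [MulAction (S × S) X] (hX : FGen F X) {R : Subgroup Ω} (hR : R ≤ S)
    (hc : IsCong F X R) :
    ∃ (X' : Type u) (_ : Finite X') (_ : MulAction (S × S) X'), FGen F X' ∧ Good F X' R ∧
      (∀ L' : Subgroup (S × S), Nat.card R ≤ Nat.card L' → (¬ IsFGraph F L' ∨ ∀ b : S, sndOf L' ≠ conjSub (b : Ω) R) →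
        mark X' L' = mark X L') ∧
      (∀ c : ℕ, (∀ L : Subgroup (S × S), IsFGraph F L → Nat.card L = Nat.card R → c ∣ L.index) →
        Nat.card X' ≡ Nat.card X [MOD c]) ∧
      (∀ K : Subgroup (S × S), mark X K ≤ mark X' K) := by
  classical
  obtain ⟨M, hM⟩ := hc
  have hcard : ∀ L ∈ classOf F R, Nat.card L = Nat.card R := by
    intro L hL
    obtain ⟨hL1, b, hb⟩ := mem_classOf.mp hL
    rw [← card_sndOf hL1, hb, card_conjSub]
  obtain ⟨X', i1, i2, h1, h2, h3, h4, h5⟩ := fix_class (classOf F R) (by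
      intro K hK g
      obtain ⟨hK1, b, hb⟩ := mem_classOf.mp hK
      refine mem_classOf.mpr ⟨isFGraph_conj hK1 g, g.2 * b, ?_⟩
      rw [sndOf_conj, hb, ← conjSub_mul]
      rfl) (Nat.card R) hcard M (IsFGraph F) (fun K hK => (mem_classOf.mp hK).1) _ X rfl (by
      intro K hK
      obtain ⟨hK1, b, hb⟩ := mem_classOf.mp hK
      have h5 := hM (conjSub ((1, b⁻¹) : S × S) K) (isFGraph_conj hK1 _) (by
        rw [sndOf_conj, hb]
        show conjSub ((b : Ω)⁻¹) _ = _
        rw [conjSub_inv_conjSub])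
      rwa [mark_conj, wt_conj] at h5) hX
  refine ⟨X', i1, i2, h1, ?_, ?_, ?_, h5⟩
  · intro L hL hs
    have hL1 : L ∈ classOf F R := mem_classOf.mpr ⟨hL, 1, by rw [hs]; simp⟩
    have hL2 : diag S R ∈ classOf F R := mem_classOf.mpr ⟨isFGraph_diag hR, 1, by rw [sndOf_diag hR]; simp⟩
    rw [h2 L hL1, h2 _ hL2]
  · intro L' hc hn
    refine h3 L' hc ?_
    intro hmem
    obtain ⟨hL1, b, hb⟩ := mem_classOf.mp hmem
    rcases hn with hn | hn
    · exact hn hL1
    · exact hn b hb
  · intro c hc
    exact h4 c (fun K hK => hc K (mem_classOf.mp hK).1 (hcard K hK))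

/-- One level of the loop. -/
theorem level_step [Finite S] (d c : ℕ)
    (hstep : ∀ (X : Type u) [Finite X] [MulAction (S × S) X], FGen F X → StableAbove F X (d + 1) →
      ∀ R : Subgroup Ω, R ≤ S → Nat.card R = d + 1 →
      ∃ (X₂ : Type u) (_ : Finite X₂) (_ : MulAction (S × S) X₂), FGen F X₂ ∧
        (∃ N : ℕ, 0 < N ∧ ∀ K : Subgroup (S × S), mark X₂ K = N * mark X K) ∧
        Nat.card X₂ ≡ Nat.card X [MOD c] ∧ IsCong F X₂ R)
    (hc : ∀ L : Subgroup (S × S), IsFGraph F L → Nat.card L = d + 1 → c ∣ L.index)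
    (X : Type u) [Finite X] [MulAction (S × S) X] (hX : FGen F X) (hst : StableAbove F X (d + 1)) :
    ∃ (X' : Type u) (_ : Finite X') (_ : MulAction (S × S) X'), FGen F X' ∧ StableAbove F X' d ∧
      Nat.card X' ≡ Nat.card X [MOD c] ∧ (∀ K : Subgroup (S × S), mark X K ≤ mark X' K) := by
  classical
  have main : ∀ 𝒯 : Finset (Subgroup (S × S)),
      ∃ (X' : Type u) (_ : Finite X') (_ : MulAction (S × S) X'), FGen F X' ∧ StableAbove F X' (d + 1) ∧
        (∀ L ∈ 𝒯, IsFGraph F L → Nat.card L = d + 1 → Good F X' (sndOf L)) ∧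
        Nat.card X' ≡ Nat.card X [MOD c] ∧ (∀ K : Subgroup (S × S), mark X K ≤ mark X' K) := by
    intro 𝒯
    induction 𝒯 using Finset.induction_on with
    | empty =>
      exact ⟨X, inferInstance, inferInstance, hX, hst, by simp, Nat.ModEq.refl _, fun _ => le_rfl⟩
    | insert L₀ 𝒯 _ ih =>
      obtain ⟨X₁, i1, i2, h1, h2, h3, h4, h5⟩ := ih
      by_cases hL₀ : IsFGraph F L₀ ∧ Nat.card L₀ = d + 1
      · obtain ⟨hL1, hL2⟩ := hL₀
        have hRS := sndOf_le L₀
        have hRc : Nat.card (sndOf L₀) = d + 1 := by rw [card_sndOf hL1, hL2]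
        obtain ⟨X₂, j1, j2, k1, ⟨N, hN, hNm⟩, k3, k4⟩ := hstep X₁ h1 h2 _ hRS hRc
        have h2' : StableAbove F X₂ (d + 1) := by
          intro L hL hd
          rw [hNm, hNm, h2 L hL hd]
        have h3' : ∀ L ∈ 𝒯, IsFGraph F L → Nat.card L = d + 1 → Good F X₂ (sndOf L) := by
          intro L hL hf hd L' hL' hs
          rw [hNm, hNm, h3 L hL hf hd L' hL' hs]
        obtain ⟨X₃, l1, l2, m1, m2, m3, m4, m5⟩ := fix_R X₂ k1 hRS k4
        refine ⟨X₃, l1, l2, m1, ?_, ?_, ?_, ?_⟩
        · intro L hL hd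
          have hne : ∀ L' : Subgroup (S × S), IsFGraph F L' → d + 1 < Nat.card L' →
              mark X₃ L' = mark X₂ L' := by
            intro L' hL' hd'
            refine m3 L' (by omega) (Or.inr ?_)
            intro b hb
            have := card_sndOf hL'
            rw [hb, card_conjSub, hRc] at this
            omega
          rw [hne L hL hd, hne _ (isFGraph_diag (sndOf_le L)) ?_, h2' L hL hd]
          rw [card_diag (sndOf_le L) F, card_sndOf hL]
          exact hd
        · intro L hL hf hd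
          rcases Finset.mem_insert.mp hL with rfl | hL
          · exact m2
          · by_cases hconj : ∃ b : S, sndOf L = conjSub (b : Ω) (sndOf L₀)
            · obtain ⟨b, hb⟩ := hconj
              rw [hb]
              exact m2.of_conj b
            · push_neg at hconj
              intro L' hL' hs
              have hcd : ∀ L'' : Subgroup (S × S), sndOf L'' = sndOf L → IsFGraph F L'' → mark X₃ L'' = mark X₂ L'' := by
                intro L'' hs' hf'
                refine m3 L'' ?_ (Or.inr ?_)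
                · rw [← card_sndOf hf', hs', card_sndOf hf, hd, hRc]
                · intro b hb
                  exact hconj b (hs'.symm.trans hb)
              rw [hcd L' hs hL', hcd _ (sndOf_diag (sndOf_le L)) (isFGraph_diag (sndOf_le L))]
              exact h3' L hL hf hd L' hL' hs
        · refine (m4 c ?_).trans (k3.trans h4)
          intro L hL hd
          rw [hRc] at hd
          exact hc L hL hd
        · intro K
          refine (h5 K).trans (le_trans ?_ (m5 K))
          rw [hNm]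
          exact Nat.le_mul_of_pos_left _ hN
      · refine ⟨X₁, i1, i2, h1, h2, ?_, h4, h5⟩
        intro L hL hf hd
        rcases Finset.mem_insert.mp hL with rfl | hL
        · exact (hL₀ ⟨hf, hd⟩).elim
        · exact h3 L hL hf hd
  haveI : Fintype (Subgroup (S × S)) := Fintype.ofFinite _
  obtain ⟨X', i1, i2, h1, h2, h3, h4, h5⟩ := main Finset.univ
  refine ⟨X', i1, i2, h1, ?_, h4, h5⟩
  intro L hL hd
  by_cases hd' : d + 1 < Nat.card L
  · exact h2 L hL hd'
  · exact h3 L (Finset.mem_univ _) hL (by omega) L hL rfl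

/-- The whole descent. -/
theorem stable_descend [Finite S] (c : ℕ) (n : ℕ)
    (hstep : ∀ d < n, ∀ (X : Type u) [Finite X] [MulAction (S × S) X], FGen F X → StableAbove F X (d + 1) →
      ∀ R : Subgroup Ω, R ≤ S → Nat.card R = d + 1 →
      ∃ (X₂ : Type u) (_ : Finite X₂) (_ : MulAction (S × S) X₂), FGen F X₂ ∧
        (∃ N : ℕ, 0 < N ∧ ∀ K : Subgroup (S × S), mark X₂ K = N * mark X K) ∧
        Nat.card X₂ ≡ Nat.card X [MOD c] ∧ IsCong F X₂ R)
    (hc : ∀ d < n, ∀ L : Subgroup (S × S), IsFGraph F L → Nat.card L = d + 1 → c ∣ L.index)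
    (X : Type u) [Finite X] [MulAction (S × S) X] (hX : FGen F X) (hst : StableAbove F X n) :
    ∃ (X' : Type u) (_ : Finite X') (_ : MulAction (S × S) X'), FGen F X' ∧ StableAbove F X' 0 ∧
      Nat.card X' ≡ Nat.card X [MOD c] ∧ (∀ K : Subgroup (S × S), mark X K ≤ mark X' K) := by
  induction n generalizing X with
  | zero => exact ⟨X, inferInstance, inferInstance, hX, hst, Nat.ModEq.refl _, fun _ => le_rfl⟩
  | succ n ih =>
    obtain ⟨X₁, i1, i2, h1, h2, h3, h4⟩ := level_step n c (hstep n (by omega)) (hc n (by omega)) X hX hst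
    obtain ⟨X₂, j1, j2, k1, k2, k3, k4⟩ := ih (fun d hd => hstep d (by omega)) (fun d hd => hc d (by omega)) X₁ h1 h2
    exact ⟨X₂, j1, j2, k1, k2, k3.trans h3, fun K => (h4 K).trans (k4 K)⟩

/-- Left stability for every map. -/
theorem StableAbove.zero [Finite S] {X : Type u} [MulAction (S × S) X] (h : StableAbove F X 0) {Q : Subgroup Ω} {ψ : Q →* Ω}
    (hψ : ψ ∈ F.Hom Q) : mark X (graph S Q ψ) = mark X (diag S ψ.range) := by
  have := h _ ⟨Q, ψ, hψ, rfl⟩ Nat.card_pos
  rwa [sndOf_graph hψ] at this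

/-- **Park's biset**: for an arbitrary fusion system, an `S × S`-set with stabilizers F-graphs and left-stable marks with
a point fixed by the diagonal of `S`. -/
theorem exists_stable_of_any [Finite S] (F : FusionSystem S) :
    ∃ (X : Type u) (_ : Finite X) (_ : MulAction (S × S) X), FGen F X ∧ StableAbove F X 0 ∧
      0 < mark X (diag S S) := by
  classical
  let D := diag S S
  have hDF : IsFGraph F D := isFGraph_diag le_rfl
  have hX₀ : FGen F ((S × S) ⧸ D) := by
    intro q
    obtain ⟨a, ha⟩ := stabilizer_coset' D q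
    rw [ha]
    exact isFGraph_conj hDF a
  have h₀ : StableAbove F ((S × S) ⧸ D) (Nat.card S) := by
    intro L hL hd
    have h2 := card_sndOf hL
    have h3 : Nat.card (sndOf L) ≤ Nat.card S := Subgroup.card_le_of_le (sndOf_le L)
    omega
  have hpos₀ : 0 < mark ((S × S) ⧸ D) D := wt_pos D
  obtain ⟨X, i1, i2, h1, h2, -, h4⟩ := stable_descend (F := F) 1 (Nat.card S) (by
    intro d _ X _ _ hX _ R _ _
    obtain ⟨X₂, j1, j2, k1, k2⟩ := exists_scale X (IsFGraph F) hX (Nat.card (S × S))
    refine ⟨X₂, j1, j2, k1, ⟨Nat.card (S × S), Nat.card_pos, k2⟩, Nat.modEq_one, Nat.card (S × S) * Nat.card X, ?_⟩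
    intro L _ _
    rw [k2]
    refine ⟨Nat.mul_le_mul_left _ (mark_le_card X L), ?_⟩
    rw [← Nat.mul_sub]
    exact Dvd.dvd.mul_right (wt_dvd_card L) _) (fun _ _ _ _ _ => one_dvd _) _ hX₀ h₀
  exact ⟨X, i1, i2, h1, h2, lt_of_lt_of_le hpos₀ (h4 D)⟩

end Cfsg.Agent.Lib.Fusion.Biset
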