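/-
The group of permutations of an `S × S`-set commuting with the right action of `S`; the left action of `S` embeds in it
and the intertwiners of left-stable `S × S`-sets realize the maps of the system.
-/
import Cfsg.Agent.Lib.Fusion.BisetLoop
import Mathlib

set_option autoImplicit false

namespace Cfsg.Agent.Lib.Fusion.Biset

open Cfsg Cfsg.FusionSystem Cfsg.Agent.Lib.Fusion

universe u

variable {Ω : Type u} [Group Ω] {S : Subgroup Ω} {F : FusionSystem S}
variable {X : Type u} [MulAction (S × S) X]

/-- The permutations commuting with the right action of `S`. -/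
def permR (S : Subgroup Ω) (X : Type u) [MulAction (S × S) X] : Subgroup (Equiv.Perm X) where
  carrier := {f | ∀ (b : S) (x : X), f (((1, b) : S × S) • x) = ((1, b) : S × S) • f x}
  mul_mem' := by
    intro f g hf hg b x
    show f (g _) = _ • f (g x)
    rw [hg, hf]
  one_mem' := fun _ _ => rfl
  inv_mem' := by
    intro f hf b x
    apply f.injective
    show f (f⁻¹ _) = f _
    rw [hf]
    simp

theorem mem_permR {f : Equiv.Perm X} : f ∈ permR S X ↔ ∀ (b : S) (x : X), f (((1, b) : S × S) • x) = ((1, b) : S × S) • f x :=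
  Iff.rfl

/-- The left action of `S`. -/
def leftHom (S : Subgroup Ω) (X : Type u) [MulAction (S × S) X] : S →* permR S X :=
  ((MulAction.toPermHom (S × S) X).comp (MonoidHom.inl S S)).codRestrict (permR S X) (by
    intro a b x
    show ((a, 1) : S × S) • ((1, b) : S × S) • x = ((1, b) : S × S) • ((a, 1) : S × S) • x
    rw [smul_smul, smul_smul]
    congr 1
    simp)

@[simp] theorem leftHom_apply (a : S) (x : X) : ((leftHom S X a : permR S X) : Equiv.Perm X) x = ((a, 1) : S × S) • x := rfl

theorem fixed_left_one {x : X} (hX : ∀ y : X, IsFGraph F (MulAction.stabilizer (S × S) y)) {a : S}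
    (h : ((a, 1) : S × S) • x = x) : a = 1 := by
  obtain ⟨Q, ψ, hψ, he⟩ := hX x
  have hm : ((a, 1) : S × S) ∈ graph S Q ψ := by
    rw [← he]; exact h
  obtain ⟨h1, h2⟩ := hm
  have h3 : ψ ⟨a, h1⟩ = ψ 1 := by rw [map_one]; exact h2
  have h4 := hom_inj F hψ h3
  exact Subtype.ext (congrArg (Subtype.val : Q → Ω) h4)

theorem fixed_right_one {x : X} (hX : ∀ y : X, IsFGraph F (MulAction.stabilizer (S × S) y)) {b : S}
    (h : ((1, b) : S × S) • x = x) : b = 1 := by
  obtain ⟨Q, ψ, hψ, he⟩ := hX x
  have hm : ((1, b) : S × S) ∈ graph S Q ψ := by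
    rw [← he]; exact h
  obtain ⟨h1, h2⟩ := hm
  have h3 : ψ 1 = (b : Ω) := h2
  rw [map_one] at h3
  exact Subtype.ext h3.symm

theorem leftHom_injective (hX : FGen F X) (hn : Nonempty X) : Function.Injective (leftHom S X) := by
  rw [injective_iff_map_eq_one]
  intro a ha
  obtain ⟨x⟩ := hn
  have : ((a, 1) : S × S) • x = x := by
    have h2 := congrArg (fun f : permR S X => (f : Equiv.Perm X) x) ha
    simpa using h2
  exact fixed_left_one hX this

/-- The marks of the action through `ρ`. -/
theorem mark_compHom {A : Type*} [Group A] (ρ : A →* S × S) (K : Subgroup A) :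
    @mark A _ X (MulAction.compHom X ρ) K = mark X (K.map ρ) := by
  letI := MulAction.compHom X ρ
  unfold mark
  refine Nat.card_congr (Equiv.subtypeEquivRight (fun x => ?_))
  constructor
  · rintro h _ ⟨k, hk, rfl⟩
    exact h k hk
  · intro h k hk
    exact h _ ⟨k, hk, rfl⟩

section Inter

variable [Finite S] [Finite X]

/-- **Intertwiners**: left-stable marks give, for each map `φ` of the system, a permutation commuting with the right
action and carrying the left action of `p` to the left action of `φ p`. -/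
theorem exists_intertwiner (hX : FGen F X) (hst : StableAbove F X 0) {P : Subgroup Ω} {φ : P →* Ω} (hφ : φ ∈ F.Hom P) :
    ∃ f : Equiv.Perm X, f ∈ permR S X ∧
      ∀ (p : P) (x : X), f (((⟨p, hom_le F hφ p.2⟩, 1) : S × S) • x) =
        ((⟨φ p, hom_val F hφ p⟩, 1) : S × S) • f x := by
  let ρ₁ : P × S →* S × S := MonoidHom.prodMap (Subgroup.inclusion (hom_le F hφ)) (MonoidHom.id S)
  let ρ₂ : P × S →* S × S := MonoidHom.prodMap (φ.codRestrict S (hom_val F hφ)) (MonoidHom.id S)
  have hinj₁ : Function.Injective ρ₁ := by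
    rintro ⟨a, b⟩ ⟨a', b'⟩ h
    have h1 := congrArg Prod.fst h
    have h2 := congrArg Prod.snd h
    exact Prod.ext (Subgroup.inclusion_injective (hom_le F hφ) h1) h2
  have hinj₂ : Function.Injective ρ₂ := by
    rintro ⟨a, b⟩ ⟨a', b'⟩ h
    have h1 := congrArg Prod.fst h
    have h2 := congrArg Prod.snd h
    refine Prod.ext (hom_inj F hφ (congrArg Subtype.val h1)) h2
  haveI : Finite P := Finite.of_injective (Subgroup.inclusion (hom_le F hφ)) (Subgroup.inclusion_injective (hom_le F hφ))
  obtain ⟨f, hf⟩ := @exists_equivariant_equiv (P × S) _ _ (Nat.card X) X X _ _ (MulAction.compHom X ρ₁)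
    (MulAction.compHom X ρ₂) rfl (by
      intro K
      rw [mark_compHom, mark_compHom]
      refine mark_transport ρ₁ ρ₂ hφ (fun a => ⟨a.1.2, rfl⟩) (fun a => rfl) hX hst K Nat.card_pos Nat.card_pos)
  refine ⟨f, ?_, ?_⟩
  · intro b x
    have := hf (1, b) x
    have h1 : ρ₁ (1, b) = (1, b) := rfl
    have h2 : ρ₂ (1, b) = (1, b) := by
      simp [ρ₂]
    calc f (((1, b) : S × S) • x) = f (ρ₁ (1, b) • x) := by rw [h1]
      _ = ρ₂ (1, b) • f x := this
      _ = _ := by rw [h2]
  · intro p x
    have := hf (p, 1) x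
    exact this

end Inter

end Cfsg.Agent.Lib.Fusion.Biset
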