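/-
The Burnside congruence for the marks of an `S × S`-set at a level where all the higher marks are left-stable:
in a saturated system, all the marks over `R` are congruent to a fixed one modulo the weights.
-/
import Cfsg.Agent.Lib.Fusion.BisetGroup
import Cfsg.Agent.Lib.Fusion.Saturated
import Cfsg.Agent.Lib.Fusion.Extender
import Mathlib

set_option autoImplicit false

namespace Cfsg.Agent.Lib.Fusion.Biset

open Cfsg Cfsg.FusionSystem Cfsg.Agent.Lib.Fusion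

universe u v w

/-- The abstract congruence: two injective-free homomorphisms `ρ₁, ρ₂` of `A` with equal marks on the subgroups above
the normal subgroup `L'`. -/
theorem burnside_cong {H : Type u} [Group H] {A : Type w} [Group A] [Fintype A] (ρ₁ ρ₂ : A →* H) (L' : Subgroup A)
    [L'.Normal] (X : Type v) [Finite X] [MulAction H X]
    (heq : ∀ U : Subgroup A, L' < U → mark X (U.map ρ₁) = mark X (U.map ρ₂)) (w : ℕ)
    (hw : w * Nat.card L' = Nat.card A) :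
    (w : ℤ) ∣ (mark X (L'.map ρ₁) : ℤ) - mark X (L'.map ρ₂) := by
  classical
  have hnorm : ∀ (ρ : A →* H) (a : A), ∀ k ∈ L'.map ρ, ρ a * k * (ρ a)⁻¹ ∈ L'.map ρ := by
    rintro ρ a _ ⟨l, hl, rfl⟩
    refine ⟨a * l * a⁻¹, Subgroup.Normal.conj_mem inferInstance l hl a, ?_⟩
    simp
  have hsup : ∀ (ρ : A →* H) (a : A), L'.map ρ ⊔ Subgroup.zpowers (ρ a) = (L' ⊔ Subgroup.zpowers a).map ρ := by
    intro ρ a
    rw [Subgroup.map_sup, MonoidHom.map_zpowers]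
  have h1 := burnside_dvd ρ₁ (L'.map ρ₁) (hnorm ρ₁) X
  have h2 := burnside_dvd ρ₂ (L'.map ρ₂) (hnorm ρ₂) X
  have hA : ((Nat.card A : ℕ) : ℤ) ∣ (∑ a : A, (mark X (L'.map ρ₁ ⊔ Subgroup.zpowers (ρ₁ a)) : ℤ)) -
      ∑ a : A, (mark X (L'.map ρ₂ ⊔ Subgroup.zpowers (ρ₂ a)) : ℤ) := by
    refine dvd_sub ?_ ?_
    · exact_mod_cast h1
    · exact_mod_cast h2
  have hterm : ∀ a : A, ((mark X (L'.map ρ₁ ⊔ Subgroup.zpowers (ρ₁ a)) : ℤ) -
      (mark X (L'.map ρ₂ ⊔ Subgroup.zpowers (ρ₂ a)) : ℤ)) =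
      if a ∈ L' then (mark X (L'.map ρ₁) : ℤ) - mark X (L'.map ρ₂) else 0 := by
    intro a
    rw [hsup, hsup]
    by_cases ha : a ∈ L'
    · have : L' ⊔ Subgroup.zpowers a = L' := by
        refine sup_eq_left.mpr ?_
        rw [Subgroup.zpowers_le]
        exact ha
      rw [this, if_pos ha]
    · rw [if_neg ha]
      have hlt : L' < L' ⊔ Subgroup.zpowers a := by
        refine lt_of_le_of_ne le_sup_left ?_
        intro h
        apply ha
        rw [h]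
        exact Subgroup.mem_sup_right (Subgroup.mem_zpowers a)
      rw [heq _ hlt, sub_self]
  rw [← Finset.sum_sub_distrib, Finset.sum_congr rfl (fun a _ => hterm a), Finset.sum_ite,
    Finset.sum_const_zero, add_zero, Finset.sum_const, ← hw] at hA
  have hcard : (Finset.univ.filter (fun a : A => a ∈ L')).card = Nat.card L' := by
    rw [Nat.card_eq_fintype_card, Fintype.card_subtype]
  rw [hcard, nsmul_eq_mul, Nat.cast_mul, mul_comm (w : ℤ)] at hA
  have hpos : ((Nat.card L' : ℕ) : ℤ) ≠ 0 := by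
    have : Nat.card L' ≠ 0 := Nat.card_pos.ne'
    exact_mod_cast this
  exact (mul_dvd_mul_iff_left hpos).mp hA

variable {Ω : Type u} [Group Ω] {S : Subgroup Ω} {F : FusionSystem S}
variable {p : ℕ} [Fact p.Prime]

/-- Elements normalizing a graph. -/
theorem normalizes_graph {Q : Subgroup Ω} {ψ : Q →* Ω} (hψ : ψ ∈ F.Hom Q) {g : S × S}
    (hg : g ∈ Subgroup.normalizer (graph S Q ψ : Set (S × S))) (q : Q) :
    ∃ h : (g.1 : Ω) * (q : Ω) * (g.1 : Ω)⁻¹ ∈ Q,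
      ψ ⟨_, h⟩ = (g.2 : Ω) * ψ q * (g.2 : Ω)⁻¹ := by
  have h1 := (Subgroup.mem_normalizer_iff.mp hg _).mp (mem_graph_of_mem hψ q)
  obtain ⟨h2, h3⟩ := h1
  exact ⟨h2, h3⟩

theorem isCong_of_saturated [Finite S] (hS : IsPGroup p S) (hF : F.IsSaturated p) (X : Type u) [Finite X]
    [MulAction (S × S) X] (hX : FGen F X) {d : ℕ} (hst : StableAbove F X d) {R : Subgroup Ω} (hR : R ≤ S)
    (hd : Nat.card R = d) : IsCong F X R := by
  classical
  obtain ⟨Q₀, hconj, hfn⟩ := exists_fullyNormalized_conj (F := F) hR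
  obtain ⟨φ₀, hφ₀, hr₀⟩ := hconj
  obtain ⟨e, he, -⟩ := exists_isIso_of_mem hφ₀ hr₀
  obtain ⟨e', he', χ, hχ, hχv, hχe⟩ := IsSat.extend_to_normalizer hS hF hfn he
  have hrec := IsSat.receptive_of_fullyNormalized hS hF hfn
  let ψ₀ : Q₀ →* Ω := R.subtype.comp e'.symm.toMonoidHom
  have hψ₀ : ψ₀ ∈ F.Hom Q₀ := he'.symm
  refine ⟨mark X (graph S Q₀ ψ₀) + Nat.card (S × S) * Nat.card X, ?_⟩
  rintro L ⟨Q, ψ, hψ, rfl⟩ hs
  rw [sndOf_graph hψ] at hs
  obtain ⟨eψ, heψ, heψv⟩ := exists_isIso_of_mem hψ hs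
  let θ : Q ≃* Q₀ := eψ.trans e'
  have hθ : IsIso F θ := heψ.trans he'
  haveI : Finite Q := finite_of_le (hom_le F hψ)
  haveI : Finite R := finite_of_le hR
  have hQS := hom_le F hψ
  let A : Subgroup (S × S) := Subgroup.normalizer (graph S Q ψ : Set (S × S))
  let N : Subgroup Ω := fstOf A
  -- the extension of `θ` to the first projection of the normalizer
  have hN : ∀ a ∈ N, a ∈ S ∧ a ∈ Subgroup.normalizer (Q : Set Ω) ∧
      ∃ h ∈ S, ∀ (x : Q) (hx : a * (x : Ω) * a⁻¹ ∈ Q), ((θ ⟨a * x * a⁻¹, hx⟩ : Q₀) : Ω) = h * (θ x : Ω) * h⁻¹ := by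
    intro a ha
    obtain ⟨g, hg, rfl⟩ := mem_fstOf.mp ha
    have hgn := normalizes_graph hψ hg
    have hginv := normalizes_graph hψ (A.inv_mem hg)
    have hbN : (g.2 : Ω) ∈ normalizerIn S R := by
      refine mem_normalizerIn.mpr ⟨g.2.2, mem_normalizer_of_forall ?_⟩
      intro x hx
      rw [← hs] at hx ⊢
      obtain ⟨q, rfl⟩ := hx
      obtain ⟨h1, h2⟩ := hgn q
      exact ⟨⟨_, h1⟩, h2⟩
    refine ⟨g.1.2, mem_normalizer_of_forall ?_, χ ⟨g.2, hbN⟩, hχv _ |> fun h => (mem_normalizerIn.mp h).1, ?_⟩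
    · intro x hx
      exact (hgn ⟨x, hx⟩).1
    · intro x hx
      obtain ⟨h1, h2⟩ := hgn x
      have hy : ((eψ x : R) : Ω) = ψ x := heψv x
      have hy2 : ((eψ ⟨_, hx⟩ : R) : Ω) = (g.2 : Ω) * ((eψ x : R) : Ω) * (g.2 : Ω)⁻¹ := by
        rw [heψv, hy]
        exact h2
      show ((e' (eψ ⟨_, hx⟩) : Q₀) : Ω) = _ * ((e' (eψ x) : Q₀) : Ω) * _
      have hR1 : ((eψ x : R) : Ω) ∈ normalizerIn S R := le_normalizerIn hR (eψ x).2
      have hR2 : ((eψ ⟨_, hx⟩ : R) : Ω) ∈ normalizerIn S R := le_normalizerIn hR (eψ _).2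
      rw [← hχe _ (eψ x).2 hR1, ← hχe _ (eψ ⟨_, hx⟩).2 hR2]
      have hprod : (⟨((eψ ⟨_, hx⟩ : R) : Ω), hR2⟩ : normalizerIn S R) =
          ⟨g.2, hbN⟩ * ⟨_, hR1⟩ * ⟨g.2, hbN⟩⁻¹ := Subtype.ext hy2
      rw [hprod, map_mul, map_mul, map_inv]
  obtain ⟨θt, hθt, hθtv⟩ := IsReceptive.extend hrec hθ hN
  -- the map `ξ`
  let α : A →* N :=
    { toFun := fun g => ⟨g.1.1, mem_fstOf.mpr ⟨g.1, g.2, rfl⟩⟩, map_one' := rfl, map_mul' := fun _ _ => rfl }
  let ξ : A →* S × S := ((θt.codRestrict S (hom_val F hθt)).comp α).prod ((MonoidHom.snd S S).comp A.subtype)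
  have hL_le : graph S Q ψ ≤ A := Subgroup.le_normalizer
  haveI : Fintype A := Fintype.ofFinite _
  haveI hnormal : ((graph S Q ψ).subgroupOf A).Normal := Subgroup.normal_in_normalizer
  have hm1 : ((graph S Q ψ).subgroupOf A).map A.subtype = graph S Q ψ := Subgroup.map_subgroupOf_eq_of_le hL_le
  have hξ1 : ∀ (k : A) (h1 : ((k.1.1 : S) : Ω) ∈ Q), (((ξ k).1 : S) : Ω) = ((θ ⟨k.1.1, h1⟩ : Q₀) : Ω) :=
    fun k h1 => hθtv _ h1 _
  have hm2 : ((graph S Q ψ).subgroupOf A).map ξ = graph S Q₀ ψ₀ := by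
    ext g
    constructor
    · rintro ⟨k, hk, rfl⟩
      have hk' : k.1 ∈ graph S Q ψ := hk
      obtain ⟨h1, h2⟩ := hk'
      have h3 := hξ1 k h1
      refine ⟨by rw [h3]; exact (θ _).2, ?_⟩
      show ((e'.symm ⟨((ξ k).1 : Ω), _⟩ : R) : Ω) = ((k.1.2 : S) : Ω)
      have h4 : (⟨(((ξ k).1 : S) : Ω), by rw [h3]; exact (θ _).2⟩ : Q₀) = θ ⟨k.1.1, h1⟩ := Subtype.ext h3
      rw [h4]
      show ((e'.symm (e' (eψ ⟨k.1.1, h1⟩)) : R) : Ω) = _
      rw [MulEquiv.symm_apply_apply, heψv, h2]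
    · rintro ⟨hg1, hg2⟩
      let q : Q := θ.symm ⟨g.1, hg1⟩
      refine ⟨⟨(⟨q, hQS q.2⟩, ⟨ψ q, hom_val F hψ q⟩), hL_le (mem_graph_of_mem hψ q)⟩, mem_graph_of_mem hψ q, ?_⟩
      have hθq : θ q = ⟨g.1, hg1⟩ := MulEquiv.apply_symm_apply θ _
      refine Prod.ext (Subtype.ext ?_) (Subtype.ext ?_)
      · exact (hθtv _ q.2 _).trans (congrArg Subtype.val hθq)
      · show ψ q = (g.2 : Ω)
        rw [← hg2, ← heψv q]
        show ((eψ q : R) : Ω) = ((e'.symm ⟨g.1, hg1⟩ : R) : Ω)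
        rw [← hθq]
        show _ = ((e'.symm (e' (eψ q)) : R) : Ω)
        rw [MulEquiv.symm_apply_apply]
  have hinjξ : Function.Injective ξ := by
    intro a b hab
    have h1 : (ξ a).1 = (ξ b).1 := congrArg Prod.fst hab
    have h2 : (ξ a).2 = (ξ b).2 := congrArg Prod.snd hab
    have h3 : α a = α b := hom_inj F hθt (congrArg (Subtype.val : S → Ω) h1)
    have h4 : a.1.1 = b.1.1 := Subtype.ext (congrArg (Subtype.val : N → Ω) h3)
    exact Subtype.ext (Prod.ext h4 h2)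
  have hcardL : Nat.card ((graph S Q ψ).subgroupOf A) = d := by
    have h1 : Nat.card ((graph S Q ψ).subgroupOf A) = Nat.card (graph S Q ψ) :=
      Nat.card_congr (Subgroup.subgroupOfEquivOfLe hL_le).toEquiv
    rw [h1, ← hd, ← card_sndOf ⟨Q, ψ, hψ, rfl⟩, sndOf_graph hψ, hs]
  have htr : ∀ U : Subgroup A, (graph S Q ψ).subgroupOf A < U → mark X (U.map A.subtype) = mark X (U.map ξ) := by
    intro U hU
    have hc : d < Nat.card U := by
      rw [← hcardL]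
      exact Set.ncard_lt_ncard hU (Set.toFinite _)
    refine mark_transport A.subtype ξ hθt (fun a => ⟨mem_fstOf.mpr ⟨a.1, a.2, rfl⟩, rfl⟩) (fun a => rfl) hX hst U ?_ ?_
    · rwa [Subgroup.card_map_of_injective A.subtype_injective]
    · rwa [Subgroup.card_map_of_injective hinjξ]
  have hw : wt (graph S Q ψ) * Nat.card ((graph S Q ψ).subgroupOf A) = Nat.card A := by
    have h1 : Nat.card ((graph S Q ψ).subgroupOf A) = Nat.card (graph S Q ψ) :=
      Nat.card_congr (Subgroup.subgroupOfEquivOfLe hL_le).toEquiv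
    rw [h1]
    exact wt_mul_card _
  have hc := burnside_cong A.subtype ξ _ X htr _ hw
  rw [hm1, hm2] at hc
  have hle : mark X (graph S Q ψ) ≤ Nat.card X := mark_le_card X _
  have hpos : 0 < Nat.card (S × S) := Nat.card_pos
  have hle2 : Nat.card X ≤ Nat.card (S × S) * Nat.card X := Nat.le_mul_of_pos_left _ hpos
  refine ⟨by omega, ?_⟩
  have hz : ((wt (graph S Q ψ) : ℕ) : ℤ) ∣ ((mark X (graph S Q₀ ψ₀) + Nat.card (S × S) * Nat.card X - mark X (graph S Q ψ) : ℕ) : ℤ) := by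
    rw [Nat.cast_sub (by omega)]
    push_cast
    have h5 : ((wt (graph S Q ψ) : ℕ) : ℤ) ∣ ((Nat.card (S × S) : ℕ) : ℤ) * (Nat.card X : ℤ) :=
      Dvd.dvd.mul_right (by exact_mod_cast wt_dvd_card _) _
    have h6 : (mark X (graph S Q₀ ψ₀) : ℤ) + ((Nat.card (S × S) : ℕ) : ℤ) * (Nat.card X : ℤ) - mark X (graph S Q ψ) =
        ((Nat.card (S × S) : ℕ) : ℤ) * (Nat.card X : ℤ) - ((mark X (graph S Q ψ) : ℤ) - mark X (graph S Q₀ ψ₀)) := by ring
    rw [h6]
    exact dvd_sub h5 hc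
  exact_mod_cast hz

end Cfsg.Agent.Lib.Fusion.Biset
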