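/-
Existence of a characteristic `S × S`-set for a saturated fusion system: stabilizers are graphs of maps of the system,
the marks are left-stable, and the cardinality is `n |S|` with `n` prime to `p`.
-/
import Cfsg.Agent.Lib.Fusion.BisetCong
import Cfsg.Agent.Lib.Fusion.KeyLemma
import Mathlib

set_option autoImplicit false

namespace Cfsg.Agent.Lib.Fusion.Biset

open Cfsg Cfsg.FusionSystem Cfsg.Agent.Lib.Fusion

universe u

variable {Ω : Type u} [Group Ω] {S : Subgroup Ω} {F : FusionSystem S}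
variable {p : ℕ} [Fact p.Prime]

/-- `Aut_F(S)/Inn(S)`. -/
abbrev TT (F : FusionSystem S) := ↥(F.autGroup S) ⧸ (autInducedBy S S).subgroupOf (F.autGroup S)

/-- The inverse of the chosen representative of a coset. -/
noncomputable def beta (t : TT F) : MulAut S := ((Quotient.out t : F.autGroup S) : MulAut S)⁻¹

/-- The base action: `(a, b) • (t, s) = (t, a s (β_t b)⁻¹)`. -/
noncomputable def baseAct (F : FusionSystem S) : MulAction (S × S) (TT F × S) where
  smul g x := (x.1, g.1 * x.2 * (beta x.1 g.2)⁻¹)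
  one_smul := by
    rintro ⟨t, s⟩
    show (t, (1 : S) * s * (beta t (1 : S))⁻¹) = (t, s)
    simp
  mul_smul := by
    rintro a b ⟨t, s⟩
    show (t, (a.1 * b.1) * s * (beta t (a.2 * b.2))⁻¹) = (t, a.1 * (b.1 * s * (beta t b.2)⁻¹) * (beta t a.2)⁻¹)
    simp [mul_assoc]

theorem baseAct_smul (g : S × S) (t : TT F) (s : S) :
    (baseAct F).toSMul.smul g (t, s) = (t, g.1 * s * (beta t g.2)⁻¹) := rfl

theorem baseAct_fixed (g : S × S) (t : TT F) (s : S) :
    (baseAct F).toSMul.smul g (t, s) = (t, s) ↔ beta t g.2 = s⁻¹ * g.1 * s := by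
  rw [baseAct_smul, Prod.mk.injEq]
  constructor
  · rintro ⟨-, h⟩
    have h2 : g.1 * s = s * beta t g.2 := by
      rw [mul_inv_eq_iff_eq_mul] at h
      exact h
    rw [mul_assoc, h2]
    group
  · intro h
    refine ⟨rfl, ?_⟩
    rw [h]
    group

theorem conj_mem_autGroup (s : S) : (MulAut.conj s : MulAut S) ∈ F.autGroup S := by
  refine autInducedBy_le_autGroup F le_rfl (mem_autInducedBy_iff.mpr ⟨s, s.2, fun x => ?_⟩)
  simp

theorem baseAct_fgen : @FGen Ω _ S F (TT F × S) (baseAct F) := by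
  letI := baseAct F
  rintro ⟨t, s⟩
  let c : MulAut S := ((Quotient.out t : F.autGroup S) : MulAut S) * MulAut.conj s⁻¹
  have hc : c ∈ F.autGroup S := (F.autGroup S).mul_mem (Quotient.out t).2 (conj_mem_autGroup _)
  have hi : IsIso F (P := S) (Q := S) c := (mem_autGroup_iff le_rfl).mp hc
  refine isFGraph_of_le ⟨S, _, hi, rfl⟩ ?_
  intro g hg
  have hfix : (baseAct F).toSMul.smul g (t, s) = (t, s) := hg
  rw [baseAct_fixed] at hfix
  refine ⟨g.1.2, ?_⟩
  show ((c ⟨g.1, g.1.2⟩ : S) : Ω) = (g.2 : Ω)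
  congr 1
  show ((Quotient.out t : F.autGroup S) : MulAut S) (MulAut.conj s⁻¹ g.1) = g.2
  have h1 : (MulAut.conj s⁻¹ : MulAut S) g.1 = beta t g.2 := by
    rw [hfix]
    simp [MulAut.conj_apply]
  rw [h1]
  unfold beta
  simp

/-- The mark of the graph of an automorphism on the base set: `|Z(S)|`. -/
theorem baseAct_mark [Finite S] {α₀ : MulAut S} (hα₀ : α₀ ∈ F.autGroup S) :
    @mark (S × S) _ (TT F × S) (baseAct F) (graph S S (S.subtype.comp α₀.toMonoidHom)) =
      Nat.card (Subgroup.center S) := by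
  letI := baseAct F
  classical
  -- elements of the graph
  have hmem : ∀ a : S, ((a, α₀ a) : S × S) ∈ graph S S (S.subtype.comp α₀.toMonoidHom) := fun a => ⟨a.2, rfl⟩
  have hfix : ∀ (t : TT F) (s : S), (∀ k ∈ graph S S (S.subtype.comp α₀.toMonoidHom), k • ((t, s) : TT F × S) = (t, s)) ↔
      ∀ a : S, beta t (α₀ a) = s⁻¹ * a * s := by
    intro t s
    constructor
    · intro h a
      exact (baseAct_fixed _ t s).mp (h _ (hmem a))
    · intro h k hk
      obtain ⟨h1, h2⟩ := hk
      have h3 : α₀ k.1 = k.2 := Subtype.ext h2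
      refine (baseAct_fixed _ t s).mpr ?_
      rw [← h3]
      exact h _
  let t₀ : TT F := QuotientGroup.mk (⟨α₀, hα₀⟩ : F.autGroup S)
  have hchar : ∀ t : TT F, (∃ g : S, ∀ a : S, beta t (α₀ a) = g * a * g⁻¹) ↔ t = t₀ := by
    intro t
    have hq : (QuotientGroup.mk (Quotient.out t : F.autGroup S) : TT F) = t := QuotientGroup.out_eq' t
    constructor
    · rintro ⟨g, hg⟩
      rw [← hq]
      refine QuotientGroup.eq.mpr ?_
      rw [Subgroup.mem_subgroupOf]
      refine mem_autInducedBy_iff.mpr ⟨g, g.2, fun x => ?_⟩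
      have := hg x
      show ((beta t (α₀ x) : S) : Ω) = _
      rw [this]
      rfl
    · rintro rfl
      have h1 : (Quotient.out t₀ : F.autGroup S)⁻¹ * ⟨α₀, hα₀⟩ ∈ (autInducedBy S S).subgroupOf (F.autGroup S) :=
        QuotientGroup.eq.mp hq
      rw [Subgroup.mem_subgroupOf] at h1
      obtain ⟨g, hg, hv⟩ := mem_autInducedBy_iff.mp h1
      refine ⟨⟨g, hg⟩, fun a => Subtype.ext ?_⟩
      exact hv a
  obtain ⟨g₁, hg₁⟩ := (hchar t₀).mpr rfl
  let f : Subgroup.center S → {x : TT F × S // ∀ k ∈ graph S S (S.subtype.comp α₀.toMonoidHom), k • x = x} :=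
    fun z => ⟨(t₀, z.1 * g₁⁻¹), (hfix _ _).mpr (fun a => by
      rw [hg₁]
      have hz : (z.1 : S) * a = a * z.1 := (Subgroup.mem_center_iff.mp z.2 a).symm
      simp only [mul_inv_rev, inv_inv]
      calc g₁ * a * g₁⁻¹ = g₁ * (z.1⁻¹ * (z.1 * a)) * g₁⁻¹ := by group
        _ = g₁ * z.1⁻¹ * a * (z.1 * g₁⁻¹) := by rw [hz]; group)⟩
  have hbij : Function.Bijective f := by
    constructor
    · intro z z' h
      have h1 := congrArg (fun x => x.1.2) h
      simp only [f] at h1
      exact Subtype.ext (mul_right_cancel h1)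
    · rintro ⟨⟨t, s⟩, hx⟩
      have hx' := (hfix t s).mp hx
      have ht : t = t₀ := (hchar t).mp ⟨s⁻¹, fun a => by rw [hx']; group⟩
      subst ht
      have hc : s * g₁ ∈ Subgroup.center S := by
        rw [Subgroup.mem_center_iff]
        intro a
        have h1 := hx' a
        rw [hg₁] at h1
        have h2 : s * (g₁ * a * g₁⁻¹) * s⁻¹ = a := by
          rw [h1]; group
        calc a * (s * g₁) = (s * (g₁ * a * g₁⁻¹) * s⁻¹) * (s * g₁) := by rw [h2]
          _ = s * g₁ * a := by group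
      refine ⟨⟨s * g₁, hc⟩, Subtype.ext ?_⟩
      simp [f]
  exact (Nat.card_congr (Equiv.ofBijective f hbij)).symm

/-- The base set is stable on the graphs of order `|S|`. -/
theorem baseAct_stable [Finite S] {n : ℕ} (hn : n + 1 = Nat.card S) : @StableAbove Ω _ S F (TT F × S) (baseAct F) n := by
  letI := baseAct F
  intro L hL hd
  have hcs := card_sndOf hL
  have hsnd : sndOf L = S := eq_of_le_of_card_le le_rfl (sndOf_le L) (by omega)
  rw [hsnd]
  obtain ⟨Q, ψ, hψ, rfl⟩ := hL
  have hQ : S = Q := by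
    rw [card_graph hψ] at hd
    exact (eq_of_le_of_card_le le_rfl (hom_le F hψ) (by omega)).symm
  subst hQ
  rw [sndOf_graph hψ] at hsnd
  obtain ⟨e, he, hev⟩ := exists_isIso_of_mem hψ hsnd
  have hψe : ψ = S.subtype.comp (e : MulAut S).toMonoidHom := MonoidHom.ext (fun x => (hev x).symm)
  rw [hψe]
  have h1 : diag S S = graph S S (S.subtype.comp (1 : MulAut S).toMonoidHom) := rfl
  rw [h1, baseAct_mark ((mem_autGroup_iff le_rfl).mpr he), baseAct_mark (F.autGroup S).one_mem]

theorem card_TT_not_dvd [Finite S] (hS : IsPGroup p S) (hF : F.IsSaturated p) : ¬ p ∣ Nat.card (TT F) := by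
  obtain ⟨-, U, hU⟩ := IsSat.fullyAutomized_of_fullyNormalized hS hF (isFullyNormalized_top (F := F))
  haveI := finite_autGroup F (le_refl S)
  have := U.not_dvd_index
  rw [hU] at this
  exact this

/-- **Existence of a characteristic biset.** -/
theorem exists_char_biset [Finite S] (hS : IsPGroup p S) (hF : F.IsSaturated p) :
    ∃ (X : Type u) (_ : Finite X) (_ : MulAction (S × S) X), FGen F X ∧ StableAbove F X 0 ∧
      ∃ n : ℕ, Nat.card X = n * Nat.card S ∧ ¬ p ∣ n := by
  classical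
  obtain ⟨m, hm⟩ : ∃ m, m + 1 = Nat.card S := ⟨Nat.card S - 1, by have : 0 < Nat.card S := Nat.card_pos; omega⟩
  haveI := finite_autGroup F (le_refl S)
  letI := baseAct F
  obtain ⟨X, i1, i2, h1, h2, h3, -⟩ := stable_descend (F := F) (p * Nat.card S) m (by
      intro d _ X _ _ hX hst R hR hd
      exact ⟨X, inferInstance, inferInstance, hX, ⟨1, one_pos, fun K => (one_mul _).symm⟩, Nat.ModEq.refl _,
        isCong_of_saturated hS hF X hX hst hR hd⟩) (by
      intro d hd L hL hc
      -- the index of a proper graph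
      have h1 : Nat.card (sndOf L) = d + 1 := by rw [card_sndOf hL, hc]
      have h2 : Nat.card (sndOf L) ∣ Nat.card S := Subgroup.card_dvd_of_le (sndOf_le L)
      obtain ⟨k, hk⟩ := h2
      rw [h1] at hk
      obtain ⟨a, ha⟩ := IsPGroup.iff_card.mp hS
      have hp := (Fact.out : p.Prime)
      have hkdvd : k ∣ p ^ a := by
        rw [← ha, hk]
        exact Dvd.intro_left _ rfl
      obtain ⟨i, -, rfl⟩ := (Nat.dvd_prime_pow hp).mp hkdvd
      have hi : i ≠ 0 := by
        rintro rfl
        simp only [pow_zero, mul_one] at hk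
        omega
      obtain ⟨j, rfl⟩ := Nat.exists_eq_succ_of_ne_zero hi
      rw [Nat.succ_eq_add_one] at hk
      have hidx : L.index * Nat.card L = Nat.card (S × S) := Subgroup.index_mul_card L
      rw [Nat.card_prod, hc] at hidx
      have h3 : L.index = p ^ (j + 1) * Nat.card S := by
        have hpos : 0 < d + 1 := Nat.succ_pos _
        refine Nat.eq_of_mul_eq_mul_right hpos ?_
        rw [hidx]
        nth_rewrite 1 [hk]
        ring
      rw [h3, pow_succ]
      exact ⟨p ^ j, by ring⟩) (TT F × S) (baseAct_fgen) (baseAct_stable hm)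
  refine ⟨X, i1, i2, h1, h2, ?_⟩
  rw [Nat.card_prod] at h3
  have hdvd : Nat.card S ∣ Nat.card X := by
    have h4 : Nat.card X % (p * Nat.card S) = (Nat.card (TT F) * Nat.card S) % (p * Nat.card S) := h3
    have h5 := Nat.ModEq.of_mul_left p h3
    exact (Nat.ModEq.dvd_iff h5 (dvd_refl _)).mpr (Dvd.intro_left _ rfl)
  obtain ⟨n, hn⟩ := hdvd
  refine ⟨n, by rw [hn, mul_comm], ?_⟩
  rw [hn, mul_comm (Nat.card S) n] at h3
  have hpos : 0 < Nat.card S := Nat.card_pos
  have h6 : n ≡ Nat.card (TT F) [MOD p] := by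
    refine Nat.ModEq.mul_right_cancel' hpos.ne' ?_
    rw [Nat.ModEq] at h3 ⊢
    exact h3
  intro hpn
  exact card_TT_not_dvd hS hF ((Nat.ModEq.dvd_iff h6 (dvd_refl _)).mp hpn)

end Cfsg.Agent.Lib.Fusion.Biset
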