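/-
The transfer attached to an `S × S`-set with free right action: a homomorphism from the group of permutations commuting
with the right action to an abelian group, which on the left action of `S` is invariant under the maps of the system
(when the marks are left-stable), and on central elements is a power.
-/
import Cfsg.Agent.Lib.Fusion.BisetChar
import Mathlib

set_option autoImplicit false

namespace Cfsg.Agent.Lib.Fusion.Biset

open Cfsg Cfsg.FusionSystem Cfsg.Agent.Lib.Fusion

universe u w

/-! ### Products over the cycles of a permutation -/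

theorem prod_cycles {Y : Type*} [Fintype Y] [DecidableEq Y] {A : Type*} [CommGroup A] (π : Equiv.Perm Y) (w : Y → A) (c : A)
    (h : ∀ o, ∏ i ∈ Finset.range (Function.minimalPeriod π o), w (π^[i] o) = c ^ (Function.minimalPeriod π o)) :
    ∀ s : Finset Y, (∀ x ∈ s, π x ∈ s) → ∏ o ∈ s, w o = c ^ s.card := by
  intro s
  induction s using Finset.strongInduction with
  | H s ih =>
    intro hs
    by_cases hne : s.Nonempty
    · obtain ⟨o, ho⟩ := hne
      have hper : o ∈ Function.periodicPts π := π.injective.mem_periodicPts o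
      have hpos := Function.minimalPeriod_pos_of_mem_periodicPts hper
      set j := Function.minimalPeriod π o with hj
      let C : Finset Y := (Finset.range j).image (fun i => π^[i] o)
      have hinj : Set.InjOn (fun i => π^[i] o) (Finset.range j : Set ℕ) := by
        intro a ha b hb hab
        exact Function.iterate_injOn_Iio_minimalPeriod (by simpa using ha) (by simpa using hb) hab
      have hCcard : C.card = j := by
        rw [Finset.card_image_of_injOn hinj, Finset.card_range]
      have hCprod : ∏ x ∈ C, w x = c ^ j := by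
        rw [Finset.prod_image (fun a ha b hb hab => hinj ha hb hab)]
        exact h o
      have hsmem : ∀ i, π^[i] o ∈ s := by
        intro i
        induction i with
        | zero => exact ho
        | succ i ih2 =>
          rw [Function.iterate_succ_apply']
          exact hs _ ih2
      have hCs : C ⊆ s := by
        intro x hx
        obtain ⟨i, -, rfl⟩ := Finset.mem_image.mp hx
        exact hsmem i
      have hjper : π^[j] o = o := Function.isPeriodicPt_minimalPeriod _ _
      have hst : ∀ x ∈ s \ C, π x ∈ s \ C := by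
        intro x hx
        obtain ⟨hx1, hx2⟩ := Finset.mem_sdiff.mp hx
        refine Finset.mem_sdiff.mpr ⟨hs x hx1, fun hc => hx2 ?_⟩
        obtain ⟨i, hi, hv⟩ := Finset.mem_image.mp hc
        rcases i with _ | i
        · -- `π x = o`
          have : π x = π (π^[j - 1] o) := by
            rw [← Function.iterate_succ_apply' π (j - 1) o]
            have : (j - 1).succ = j := by omega
            rw [this, hjper]
            exact hv.symm
          have hx3 := π.injective this
          rw [hx3]
          exact Finset.mem_image.mpr ⟨j - 1, Finset.mem_range.mpr (by omega), rfl⟩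
        · have hv' : π (π^[i] o) = π x := by
            rw [← Function.iterate_succ_apply' π i o]
            exact hv
          have hx3 := π.injective hv'
          rw [← hx3]
          exact Finset.mem_image.mpr ⟨i, Finset.mem_range.mpr (by
            have := Finset.mem_range.mp hi
            omega), rfl⟩
      have hlt : s \ C ⊂ s := by
        refine Finset.sdiff_ssubset hCs ?_
        exact ⟨o, Finset.mem_image.mpr ⟨0, Finset.mem_range.mpr hpos, rfl⟩⟩
      have hih := ih _ hlt hst
      have hcd : (s \ C).card + j = s.card := by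
        rw [← hCcard]
        exact Finset.card_sdiff_add_card_eq_card hCs
      rw [← Finset.prod_sdiff hCs, hih, hCprod, ← pow_add, hcd]
    · rw [Finset.not_nonempty_iff_eq_empty] at hne
      subst hne
      simp

/-! ### The orbit space of the right action -/

variable {Ω : Type u} [Group Ω] {S : Subgroup Ω} {F : FusionSystem S}
variable {X : Type u} [MulAction (S × S) X]

/-- The right `S`-orbit relation. -/
def rsetoid (S : Subgroup Ω) (X : Type u) [MulAction (S × S) X] : Setoid X where
  r x y := ∃ b : S, ((1, b) : S × S) • x = y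
  iseqv :=
    { refl := fun x => ⟨1, one_smul _ x⟩
      symm := by
        rintro x y ⟨b, rfl⟩
        refine ⟨b⁻¹, ?_⟩
        rw [smul_smul]
        simp
        exact one_smul (S × S) x
      trans := by
        rintro x y z ⟨b, rfl⟩ ⟨c, rfl⟩
        refine ⟨c * b, ?_⟩
        rw [smul_smul]
        simp }

/-- The right orbits. -/
abbrev RY (S : Subgroup Ω) (X : Type u) [MulAction (S × S) X] := Quotient (rsetoid S X)

/-- A section of the right orbits. -/
noncomputable def sec (o : RY S X) : X := Quotient.out o

theorem mk_sec (o : RY S X) : (Quotient.mk _ (sec o) : RY S X) = o := Quotient.out_eq o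

/-- The action on the right orbits. -/
def onY (f : permR S X) : RY S X → RY S X :=
  Quotient.map f.1 (by
    rintro x y ⟨b, rfl⟩
    exact ⟨b, (f.2 b x).symm⟩)

@[simp] theorem onY_mk (f : permR S X) (x : X) : onY f (Quotient.mk _ x) = Quotient.mk _ (f.1 x) := rfl

theorem onY_mul (f g : permR S X) (o : RY S X) : onY (f * g) o = onY f (onY g o) := by
  induction o using Quotient.inductionOn with
  | h x => rfl

theorem onY_one (o : RY S X) : onY (1 : permR S X) o = o := by
  induction o using Quotient.inductionOn with
  | h x => rfl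

/-- The permutation of the right orbits induced by `f`. -/
def onYPerm (f : permR S X) : Equiv.Perm (RY S X) where
  toFun := onY f
  invFun := onY f⁻¹
  left_inv := fun o => by rw [← onY_mul, inv_mul_cancel, onY_one]
  right_inv := fun o => by rw [← onY_mul, mul_inv_cancel, onY_one]

@[simp] theorem onYPerm_apply (f : permR S X) (o : RY S X) : onYPerm f o = onY f o := rfl

theorem exists_vv (f : permR S X) (o : RY S X) : ∃ b : S, ((1, b) : S × S) • sec (onY f o) = f.1 (sec o) := by
  have h : (Quotient.mk _ (sec (onY f o)) : RY S X) = Quotient.mk _ (f.1 (sec o)) := by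
    rw [mk_sec, ← onY_mk, mk_sec]
  exact Quotient.exact h

/-- The cocycle. -/
noncomputable def vv (f : permR S X) (o : RY S X) : S := Classical.choose (exists_vv f o)

theorem vv_spec (f : permR S X) (o : RY S X) : ((1, vv f o) : S × S) • sec (onY f o) = f.1 (sec o) :=
  Classical.choose_spec (exists_vv f o)

/-- Freeness of the right action. -/
def RFree (S : Subgroup Ω) (X : Type u) [MulAction (S × S) X] : Prop :=
  ∀ (x : X) (b : S), ((1, b) : S × S) • x = x → b = 1

theorem rfree_of_fgen (hX : FGen F X) : RFree S X := fun _ _ h => fixed_right_one hX h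

theorem RFree.cancel (h : RFree S X) {x : X} {b c : S} (he : ((1, b) : S × S) • x = ((1, c) : S × S) • x) : b = c := by
  have h1 : ((1, c⁻¹ * b) : S × S) • x = x := by
    have : ((1, c⁻¹ * b) : S × S) = ((1, c) : S × S)⁻¹ * (1, b) := by simp
    rw [this, mul_smul, he, inv_smul_smul]
  have h2 := h x _ h1
  exact (inv_mul_eq_one.mp h2).symm

theorem vv_unique (h : RFree S X) {f : permR S X} {o : RY S X} {b : S}
    (hb : ((1, b) : S × S) • sec (onY f o) = f.1 (sec o)) : vv f o = b :=
  h.cancel ((vv_spec f o).trans hb.symm)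

theorem vv_mul (h : RFree S X) (f g : permR S X) (o : RY S X) : vv (f * g) o = vv g o * vv f (onY g o) := by
  apply vv_unique h
  show _ = f.1 (g.1 (sec o))
  rw [← vv_spec g o, f.2, ← vv_spec f (onY g o), smul_smul, onY_mul]
  simp

/-- The transfer. -/
noncomputable def transferR [Fintype (RY S X)] (h : RFree S X) {A : Type w} [CommGroup A] (χ : S →* A) : permR S X →* A :=
  MonoidHom.mk' (fun f => ∏ o : RY S X, (χ (vv f o))⁻¹) (by
    intro f g
    simp only [vv_mul h, map_mul, mul_inv, Finset.prod_mul_distrib]
    rw [mul_comm]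
    congr 1
    exact Fintype.prod_equiv (onYPerm g) _ _ (fun o => rfl))

theorem transferR_apply [Fintype (RY S X)] (h : RFree S X) {A : Type w} [CommGroup A] (χ : S →* A) (f : permR S X) :
    transferR h χ f = ∏ o : RY S X, (χ (vv f o))⁻¹ := rfl

/-- Iterates of the cocycle. -/
theorem iterate_vv (h : RFree S X) {A : Type w} [CommGroup A] (χ : S →* A) (f : permR S X) (o : RY S X) (j : ℕ) :
    ∃ V : S, (f ^ j).1 (sec o) = ((1, V) : S × S) • sec ((onYPerm f)^[j] o) ∧
      χ V = ∏ i ∈ Finset.range j, χ (vv f ((onYPerm f)^[i] o)) := by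
  induction j with
  | zero => exact ⟨1, (one_smul (S × S) _).symm, by simp⟩
  | succ j ih =>
    obtain ⟨V, h1, h2⟩ := ih
    refine ⟨V * vv f ((onYPerm f)^[j] o), ?_, ?_⟩
    · rw [pow_succ']
      show f.1 ((f ^ j).1 (sec o)) = _
      rw [h1, f.2, ← vv_spec f, smul_smul, Function.iterate_succ_apply']
      simp
    · rw [map_mul, h2, Finset.prod_range_succ]

/-- The transfer of the left action of an element all of whose powers are fixed by the maps of the system. -/
theorem transfer_left_central [Fintype (RY S X)] (hX : FGen F X) {A : Type w} [CommGroup A] (χ : S →* A) (z : S)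
    (hz : ∀ (Q : Subgroup Ω) (ψ : Q →* Ω), ψ ∈ F.Hom Q → ∀ (j : ℕ) (hj : ((z ^ j : S) : Ω) ∈ Q),
      ψ ⟨_, hj⟩ = ((z ^ j : S) : Ω)) :
    transferR (rfree_of_fgen hX) χ (leftHom S X z) = χ z ^ Fintype.card (RY S X) := by
  classical
  have hfree := rfree_of_fgen (F := F) hX
  rw [transferR_apply]
  have key := prod_cycles (onYPerm (leftHom S X z)) (fun o => (χ (vv (leftHom S X z) o))⁻¹) (χ z) (by
    intro o
    obtain ⟨V, h1, h2⟩ := iterate_vv hfree χ (leftHom S X z) o (Function.minimalPeriod (onYPerm (leftHom S X z)) o)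
    have hper : (onYPerm (leftHom S X z))^[Function.minimalPeriod (onYPerm (leftHom S X z)) o] o = o :=
      Function.isPeriodicPt_minimalPeriod _ _
    rw [hper] at h1
    rw [Finset.prod_inv_distrib, ← h2]
    set j := Function.minimalPeriod (onYPerm (leftHom S X z)) o with hj
    rw [← map_pow] at h1
    have h3 : ((z ^ j, V⁻¹) : S × S) • sec o = sec o := by
      have : ((z ^ j, V⁻¹) : S × S) = ((1, V) : S × S)⁻¹ * (z ^ j, 1) := by simp
      rw [this, mul_smul]
      have h4 : ((z ^ j, 1) : S × S) • sec o = ((1, V) : S × S) • sec o := h1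
      rw [h4, inv_smul_smul]
    obtain ⟨Q, ψ, hψ, he⟩ := hX (sec o)
    have hm : ((z ^ j, V⁻¹) : S × S) ∈ graph S Q ψ := by
      rw [← he]; exact h3
    obtain ⟨h5, h6⟩ := hm
    have h7 := hz Q ψ hψ j h5
    have h8 : V⁻¹ = z ^ j := Subtype.ext (h6.symm.trans h7)
    rw [← map_inv, h8, map_pow]) Finset.univ (fun _ _ => Finset.mem_univ _)
  rw [key]
  rfl

/-- Counting the right orbits. -/
theorem card_eq_card_RY_mul [Finite S] [Finite X] (h : RFree S X) : Nat.card X = Nat.card (RY S X) * Nat.card S := by
  have hex : ∀ x : X, ∃ b : S, ((1, b) : S × S) • sec (Quotient.mk (rsetoid S X) x) = x := fun x =>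
    Quotient.exact (mk_sec (Quotient.mk (rsetoid S X) x))
  rw [← Nat.card_prod]
  refine Nat.card_congr ⟨fun x => (Quotient.mk _ x, Classical.choose (hex x)),
    fun y => ((1, y.2) : S × S) • sec y.1, ?_, ?_⟩
  · intro x
    exact Classical.choose_spec (hex x)
  · rintro ⟨o, b⟩
    have h1 : (Quotient.mk _ (((1, b) : S × S) • sec o) : RY S X) = o := by
      rw [← mk_sec o]
      refine Quotient.sound ?_
      refine ⟨b⁻¹, ?_⟩
      rw [mk_sec, smul_smul]
      simp
      exact one_smul (S × S) _
    refine Prod.ext h1 ?_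
    have h2 := Classical.choose_spec (hex (((1, b) : S × S) • sec o))
    have h3 : ∀ (o' : RY S X) (b' : S), o' = o → ((1, b') : S × S) • sec o' = ((1, b) : S × S) • sec o → b' = b := by
      rintro _ b' rfl h4
      exact h.cancel h4
    exact h3 _ _ h1 h2

/-- The transfer on the left action is invariant under the maps of the system. -/
theorem transfer_left_stable [Finite S] [Finite X] [Fintype (RY S X)] (hX : FGen F X) (hst : StableAbove F X 0)
    {A : Type w} [CommGroup A] (χ : S →* A) {P : Subgroup Ω} {φ : P →* Ω} (hφ : φ ∈ F.Hom P) (x : P) :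
    transferR (rfree_of_fgen hX) χ (leftHom S X ⟨φ x, hom_val F hφ x⟩) =
      transferR (rfree_of_fgen hX) χ (leftHom S X ⟨x, hom_le F hφ x.2⟩) := by
  obtain ⟨f, hf, hv⟩ := exists_intertwiner hX hst hφ
  have h1 : leftHom S X ⟨φ x, hom_val F hφ x⟩ = ⟨f, hf⟩ * leftHom S X ⟨x, hom_le F hφ x.2⟩ * ⟨f, hf⟩⁻¹ := by
    rw [eq_mul_inv_iff_mul_eq]
    apply Subtype.ext
    ext y
    exact (hv x y).symm
  rw [h1, map_mul, map_mul, map_inv, mul_comm, inv_mul_cancel_left]

/-- **The transfer of a saturated fusion system.** -/
theorem exists_transfer [Finite S] {p : ℕ} [Fact p.Prime] (hS : IsPGroup p S) (hF : F.IsSaturated p) :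
    ∃ n : ℕ, ¬ p ∣ n ∧ ∀ {A : Type w} [CommGroup A] (χ : S →* A), ∃ T : S →* A,
      (∀ (P : Subgroup Ω) (φ : P →* Ω) (hφ : φ ∈ F.Hom P) (x : P),
        T ⟨φ x, hom_val F hφ x⟩ = T ⟨x, hom_le F hφ x.2⟩) ∧
      ∀ z : S, (∀ (Q : Subgroup Ω) (ψ : Q →* Ω), ψ ∈ F.Hom Q → ∀ (j : ℕ) (hj : ((z ^ j : S) : Ω) ∈ Q),
        ψ ⟨_, hj⟩ = ((z ^ j : S) : Ω)) → T z = χ z ^ n := by
  classical
  obtain ⟨X, i1, i2, h1, h2, n, hn, hp⟩ := exists_char_biset (F := F) hS hF
  haveI : Fintype (RY S X) := Fintype.ofFinite _
  have hfree := rfree_of_fgen (F := F) h1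
  have hcard : Nat.card (RY S X) = n := by
    have h3 := card_eq_card_RY_mul hfree
    rw [hn] at h3
    exact (Nat.eq_of_mul_eq_mul_right Nat.card_pos h3).symm
  refine ⟨n, hp, fun {A} _ χ => ⟨(transferR hfree χ).comp (leftHom S X), ?_, ?_⟩⟩
  · intro P φ hφ x
    exact transfer_left_stable h1 h2 χ hφ x
  · intro z hz
    have := transfer_left_central h1 χ z hz
    rw [← hcard, Nat.card_eq_fintype_card]
    exact this

end Cfsg.Agent.Lib.Fusion.Biset
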