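/-
Consequences of the transfer of a saturated fusion system for the focal subgroup.
-/
import Cfsg.Agent.Lib.Fusion.BisetTransfer
import Cfsg.Agent.Lib.Fusion.Join
import Mathlib

set_option autoImplicit false

namespace Cfsg.Agent.Lib.Fusion.Biset

open Cfsg Cfsg.FusionSystem Cfsg.Agent.Lib.Fusion

universe u w

variable {Ω : Type u} [Group Ω] {S : Subgroup Ω} {F : FusionSystem S}

theorem commutator_le_focal : ⁅S, S⁆ ≤ F.focalSubgroup := by
  rw [Subgroup.commutator_le]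
  intro g₁ h₁ g₂ h₂
  refine Subgroup.subset_closure ⟨S, conjHom S g₂, ⟨g₁⁻¹, S.inv_mem h₁⟩, F.conj_mem le_rfl h₂, ?_⟩
  simp [conjHom, commutatorElement_def, mul_assoc]

theorem focal_le_of_invariant {A : Type*} [Group A] (T : S →* A)
    (hT : ∀ (P : Subgroup Ω) (φ : P →* Ω) (hφ : φ ∈ F.Hom P) (x : P),
      T ⟨φ x, hom_val F hφ x⟩ = T ⟨x, hom_le F hφ x.2⟩) :
    F.focalSubgroup ≤ T.ker.map S.subtype := by
  rw [focalSubgroup, Subgroup.closure_le]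
  rintro _ ⟨P, φ, x, hφ, rfl⟩
  refine ⟨(⟨x, hom_le F hφ x.2⟩ : S)⁻¹ * ⟨φ x, hom_val F hφ x⟩, ?_, rfl⟩
  rw [SetLike.mem_coe, MonoidHom.mem_ker, map_mul, map_inv, hT P φ hφ x, inv_mul_cancel]

theorem center_fix [Finite S] {z : S} (hz : (z : Ω) ∈ F.center) (Q : Subgroup Ω) (ψ : Q →* Ω) (hψ : ψ ∈ F.Hom Q)
    (j : ℕ) (hj : ((z ^ j : S) : Ω) ∈ Q) : ψ ⟨_, hj⟩ = ((z ^ j : S) : Ω) := by
  obtain ⟨-, h⟩ := isCentral_center (F := F)
  obtain ⟨ψ', -, h1, h2⟩ := h Q ψ hψ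
  have hzj : ((z ^ j : S) : Ω) ∈ F.center := by
    have : ((z ^ j : S) : Ω) = (z : Ω) ^ j := rfl
    rw [this]
    exact F.center.pow_mem hz j
  rw [← h1 ⟨_, hj⟩]
  have h3 := h2 ⟨_, hzj⟩
  exact h3

/-- `foc(F) ∩ Z(F) ≤ S'`. -/
theorem focal_inf_center_le [Finite S] {p : ℕ} [Fact p.Prime] (hS : IsPGroup p S) (hF : F.IsSaturated p) :
    F.focalSubgroup ⊓ F.center ≤ ⁅S, S⁆ := by
  rintro x ⟨hx, hz⟩
  obtain ⟨n, hn, ht⟩ := exists_transfer.{u, u} (F := F) hS hF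
  obtain ⟨T, hT1, hT2⟩ := ht (Abelianization.of (G := S))
  obtain ⟨y, hy, rfl⟩ := Subgroup.mem_map.mp (focal_le_of_invariant T hT1 hx)
  have h1 := hT2 y (center_fix hz)
  rw [MonoidHom.mem_ker.mp hy, ← map_pow] at h1
  have h2 : y ^ n ∈ commutator S := by
    rw [← Abelianization.ker_of, MonoidHom.mem_ker]
    exact h1.symm
  obtain ⟨k, hk⟩ := (IsPGroup.iff_orderOf.mp hS) y
  have hp := (Fact.out : p.Prime)
  have hcop : n.Coprime (orderOf y) := by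
    rw [hk]
    exact Nat.Coprime.pow_right _ ((Nat.Prime.coprime_iff_not_dvd hp).mpr hn).symm
  obtain ⟨m, hm⟩ := exists_pow_eq_self_of_coprime hcop
  have h3 : y ∈ commutator S := by
    rw [← hm]
    exact Subgroup.pow_mem _ h2 m
  rw [← Subgroup.map_subtype_commutator]
  exact Subgroup.mem_map_of_mem _ h3

end Cfsg.Agent.Lib.Fusion.Biset
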