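/-
The fusion system `N_F^K(Q)` on the elements of `S` acting on `Q` through `K`.
-/
import Cfsg.Agent.Lib.Fusion.AdmSat
import Cfsg.Agent.Lib.Fusion.Sup
import Mathlib

set_option autoImplicit false

namespace Cfsg.Agent.Lib.Fusion

open Cfsg Cfsg.FusionSystem

variable {Ω : Type*} [Group Ω] {S : Subgroup Ω} {F : FusionSystem S} {p : ℕ}

theorem conjAut_mul' (Q : Subgroup Ω) (g h : Ω) (hg : g ∈ Subgroup.normalizer (Q : Set Ω)) (hh : h ∈ Subgroup.normalizer (Q : Set Ω)) :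
    conjAut Q (g * h) (Subgroup.mul_mem _ hg hh) = conjAut Q g hg * conjAut Q h hh := by
  ext x
  simp [MulAut.mul_apply]
  group

theorem conjAut_inv' (Q : Subgroup Ω) (g : Ω) (hg : g ∈ Subgroup.normalizer (Q : Set Ω)) :
    conjAut Q g⁻¹ (Subgroup.inv_mem _ hg) = (conjAut Q g hg)⁻¹ := by
  rw [eq_inv_iff_mul_eq_one, ← conjAut_mul']
  ext x
  simp

/-- The elements of `S` normalizing `Q` and acting on it through `K`. -/
def admT (S Q : Subgroup Ω) (K : Subgroup (MulAut Q)) : Subgroup Ω where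
  carrier := {g | g ∈ S ∧ ∃ hN : g ∈ Subgroup.normalizer (Q : Set Ω), conjAut Q g hN ∈ K}
  mul_mem' := by
    rintro a b ⟨ha, hNa, hka⟩ ⟨hb, hNb, hkb⟩
    refine ⟨S.mul_mem ha hb, Subgroup.mul_mem _ hNa hNb, ?_⟩
    rw [conjAut_mul' Q a b hNa hNb]
    exact K.mul_mem hka hkb
  one_mem' := by
    refine ⟨S.one_mem, Subgroup.one_mem _, ?_⟩
    have : conjAut Q 1 (Subgroup.one_mem _) = 1 := by
      ext x
      simp
    rw [this]
    exact K.one_mem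
  inv_mem' := by
    rintro a ⟨ha, hNa, hka⟩
    refine ⟨S.inv_mem ha, Subgroup.inv_mem _ hNa, ?_⟩
    rw [conjAut_inv' Q a hNa]
    exact K.inv_mem hka

theorem mem_admT {Q : Subgroup Ω} {K : Subgroup (MulAut Q)} {g : Ω} :
    g ∈ admT S Q K ↔ g ∈ S ∧ ∃ hN : g ∈ Subgroup.normalizer (Q : Set Ω), conjAut Q g hN ∈ K := Iff.rfl

theorem admT_le (Q : Subgroup Ω) (K : Subgroup (MulAut Q)) : admT S Q K ≤ S := fun _ h => h.1

/-- The maps of `N_F^K(Q)`. -/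
def admHom (F : FusionSystem S) {Q : Subgroup Ω} (K : Subgroup (MulAut Q)) (P : Subgroup Ω) : Set (P →* Ω) :=
  {φ | φ ∈ F.Hom P ∧ P ≤ admT S Q K ∧ (∀ x : P, φ x ∈ admT S Q K) ∧
    ∃ ψ ∈ F.Hom (P ⊔ Q), (∀ x : P, ψ (Subgroup.inclusion le_sup_left x) = φ x) ∧ Adm K le_sup_right ψ}

/-- The system `N_F^K(Q)`. -/
def admSystem (F : FusionSystem S) {Q : Subgroup Ω} (hQ : Q ≤ S) (K : Subgroup (MulAut Q)) : FusionSystem (admT S Q K) where
  Hom := fun P => admHom F K P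
  le_of_mem := fun h => ⟨h.2.1, h.2.2.1⟩
  injective_of_mem := fun h => hom_inj F h.1
  conj_mem := by
    intro P g hP hg
    have hgS := hg.1
    obtain ⟨hgN, hgK⟩ := hg.2
    have hPS : P ≤ S := hP.trans (admT_le Q K)
    refine ⟨F.conj_mem hPS hgS, hP, fun x => ?_, conjHom (P ⊔ Q) g, F.conj_mem (sup_le hPS hQ) hgS, fun x => rfl, conjAut Q g hgN, hgK, fun x => rfl⟩
    exact (admT S Q K).mul_mem ((admT S Q K).mul_mem hg (hP x.2)) ((admT S Q K).inv_mem hg)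
  comp_mem := by
    rintro P R φ ψ ⟨hφ, hP, hφN, φ', hφ', hφv, β, hβ, hφQ⟩ ⟨hψ, hR, hψN, ψ', hψ', hψv, γ, hγ, hψQ⟩ h
    have hval : ∀ y : ↥(P ⊔ Q), φ' y ∈ R ⊔ Q := by
      refine map_sup_mem (fun x hx => ?_) (fun x hx => ?_)
      · have := hφv ⟨x, hx⟩
        have h2 : φ' ⟨x, Subgroup.mem_sup_left hx⟩ = φ ⟨x, hx⟩ := this
        rw [h2]
        exact Subgroup.mem_sup_left (h _)
      · have := hφQ ⟨x, hx⟩
        have h2 : φ' ⟨x, Subgroup.mem_sup_right hx⟩ = ((β ⟨x, hx⟩ : Q) : Ω) := this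
        rw [h2]
        exact Subgroup.mem_sup_right (β ⟨x, hx⟩).2
    refine ⟨F.comp_mem hφ hψ h, hP, fun x => hψN _, ψ'.comp (φ'.codRestrict (R ⊔ Q) hval), F.comp_mem hφ' hψ' hval, fun x => ?_, γ * β, K.mul_mem hγ hβ, fun x => ?_⟩
    · show ψ' ⟨φ' _, _⟩ = ψ ⟨φ x, _⟩
      rw [← hψv ⟨φ x, h x⟩]
      show _ = ψ' _
      congr 1
      apply Subtype.ext
      exact hφv x
    · show ψ' ⟨φ' _, _⟩ = _
      have h2 := hφQ x
      have h3 : (⟨φ' ⟨x, Subgroup.mem_sup_right x.2⟩, hval _⟩ : ↥(R ⊔ Q)) = ⟨((β x : Q) : Ω), Subgroup.mem_sup_right (β x).2⟩ := Subtype.ext h2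
      rw [h3]
      exact hψQ (β x)
  inv_mem := by
    rintro P φ ⟨hφ, hP, hφN, φ', hφ', hφv, β, hβ, hφQ⟩
    obtain ⟨θ, hθ, hθv⟩ := F.inv_mem hφ
    obtain ⟨θ', hθ', hθ'v⟩ := F.inv_mem hφ'
    refine ⟨θ, ⟨hθ, ?_, ?_, ?_⟩, hθv⟩
    · rintro _ ⟨x, rfl⟩
      exact hφN x
    · rintro ⟨_, x, rfl⟩
      rw [hθv x]
      exact hP x.2
    · -- extension: restrict the inverse of `φ'`
      have hle : φ.range ⊔ Q ≤ φ'.range := by
        refine sup_le ?_ ?_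
        · rintro _ ⟨x, rfl⟩
          exact ⟨_, hφv x⟩
        · intro y hy
          refine ⟨⟨((β⁻¹ ⟨y, hy⟩ : Q) : Ω), Subgroup.mem_sup_right (β⁻¹ ⟨y, hy⟩).2⟩, ?_⟩
          have h2 := hφQ (β⁻¹ ⟨y, hy⟩)
          have h3 : ((β (β⁻¹ ⟨y, hy⟩) : Q) : Ω) = y := by simp
          rw [h3] at h2
          exact h2
      refine ⟨θ'.comp (Subgroup.inclusion hle), res_mem F hθ' hle, ?_, β⁻¹, K.inv_mem hβ, ?_⟩
      · rintro ⟨_, x, rfl⟩
        show θ' ⟨φ x, _⟩ = θ ⟨φ x, _⟩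
        rw [hθv x]
        have h2 := hθ'v ⟨x, Subgroup.mem_sup_left x.2⟩
        have h3 : φ' ⟨x, Subgroup.mem_sup_left x.2⟩ = φ x := hφv x
        have h4 : (⟨φ x, by rw [← h3]; exact ⟨_, rfl⟩⟩ : φ'.range) = ⟨φ' ⟨x, Subgroup.mem_sup_left x.2⟩, ⟨_, rfl⟩⟩ := Subtype.ext h3.symm
        rw [h4, h2]
      · intro y
        show θ' ⟨(y : Ω), _⟩ = _
        have h2 := hφQ (β⁻¹ y)
        have h3 : ((β (β⁻¹ y) : Q) : Ω) = y := by simp
        rw [h3] at h2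
        have h4 : (⟨(y : Ω), hle (Subgroup.mem_sup_right y.2)⟩ : φ'.range) =
            ⟨φ' ⟨((β⁻¹ y : Q) : Ω), Subgroup.mem_sup_right (β⁻¹ y).2⟩, ⟨_, rfl⟩⟩ := Subtype.ext h2.symm
        rw [h4, hθ'v]

theorem mem_admSystem {Q : Subgroup Ω} {hQ : Q ≤ S} {K : Subgroup (MulAut Q)} {P : Subgroup Ω} {φ : P →* Ω} :
    φ ∈ (admSystem F hQ K).Hom P ↔ φ ∈ admHom F K P := Iff.rfl

/-- The extension property for subgroups of `Aut_S(Q)`. -/
theorem kext_of_le {Q : Subgroup Ω} (h : F.IsReceptive Q) {K : Subgroup (MulAut Q)} (hK : K ≤ autInducedBy S Q) : KExt F K := by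
  intro Q' e he M hMS hN hk
  obtain ⟨ψ, hψ, hv⟩ := IsReceptive.extend_sup (F := F) h he.symm (N := M) (fun g hg => by
    obtain ⟨s, hs, hsv⟩ := mem_autInducedBy_iff.1 (hK (hk g hg))
    refine ⟨hMS hg, hN hg, s, hs, fun x hx => ?_⟩
    have h3 := hsv (e.symm x)
    rw [autTransport_symm_apply] at h3
    simp only [MulEquiv.apply_symm_apply] at h3
    have h6 : conjAut Q' g (hN hg) x = ⟨g * (x : Ω) * g⁻¹, hx⟩ := Subtype.ext (by rw [conjAut_coe])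
    rw [h6] at h3
    exact h3)
  refine ⟨1, Subgroup.one_mem _, ψ, hψ, fun x => ?_⟩
  rw [hv (e x) (e x).2]
  simp

variable [Finite S] [Fact p.Prime]

/-- Saturation of `N_F^K(Q)` when `K ≤ Aut_S(Q)` and `Q` is receptive. -/
theorem isSaturated_admSystem (hS : IsPGroup p S) (hF : F.IsSaturated p) {Q : Subgroup Ω} (hQS : Q ≤ S)
    {K : Subgroup (MulAut Q)} (hK : KExt F K) : (admSystem F hQS K).IsSaturated p :=
  isSaturated_adm hS hF hQS hK (fun _ => Iff.rfl) (fun _ _ => Iff.rfl)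

end Cfsg.Agent.Lib.Fusion
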