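/-
The relative transfer of an `S × S`-set on the hyperfocal subgroup: an `S`-invariant homomorphism on the hyperfocal
subgroup has a power which extends to `S`.  As a consequence the hyperfocal subgroup is detected modulo the Frattini
subgroup.
-/
import Cfsg.Agent.Lib.Fusion.BisetFocal
import Cfsg.Agent.Lib.Fusion.LiftUse
import Cfsg.Agent.Lib.Fusion.Closed
import Mathlib

set_option autoImplicit false

namespace Cfsg.Agent.Lib.Fusion.Biset

open Cfsg Cfsg.FusionSystem Cfsg.Agent.Lib.Fusion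

universe u w

/-- Equivariant maps from a containment of stabilizers. -/
theorem exists_map_of_stabilizer_le {H X Z : Type*} [Group H] [MulAction H X] [MulAction H Z]
    (h : ∀ x : X, ∃ z : Z, MulAction.stabilizer H x ≤ MulAction.stabilizer H z) :
    ∃ f : X → Z, ∀ (g : H) (x : X), f (g • x) = g • f x := by
  classical
  let q : X → MulAction.orbitRel.Quotient H X := fun x => Quotient.mk _ x
  let r : MulAction.orbitRel.Quotient H X → X := Quotient.out
  have hr : ∀ x, ∃ g : H, g • r (q x) = x := fun x => by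
    have h1 : (Quotient.mk _ (r (q x)) : MulAction.orbitRel.Quotient H X) = q x := Quotient.out_eq _
    have h2 : r (q x) ∈ MulAction.orbit H x := Quotient.exact h1
    obtain ⟨g, hg⟩ := h2
    refine ⟨g⁻¹, ?_⟩
    have hg' : g • x = r (q x) := hg
    rw [← hg', inv_smul_smul]
  let z0 : MulAction.orbitRel.Quotient H X → Z := fun o => Classical.choose (h (r o))
  have hz0 : ∀ o, MulAction.stabilizer H (r o) ≤ MulAction.stabilizer H (z0 o) := fun o => Classical.choose_spec (h (r o))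
  refine ⟨fun x => Classical.choose (hr x) • z0 (q x), fun g x => ?_⟩
  have ha := Classical.choose_spec (hr (g • x))
  have hb := Classical.choose_spec (hr x)
  set a := Classical.choose (hr (g • x))
  set b := Classical.choose (hr x)
  have hq : q (g • x) = q x := Quotient.sound ⟨g, rfl⟩
  show a • z0 (q (g • x)) = g • b • z0 (q x)
  rw [hq] at ha ⊢
  have h3 : (g * b)⁻¹ * a ∈ MulAction.stabilizer H (r (q x)) := by
    rw [MulAction.mem_stabilizer_iff, mul_smul, ha, mul_inv_rev, mul_smul, inv_smul_smul, inv_smul_eq_iff]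
    exact hb.symm
  have h4 := hz0 _ h3
  rw [MulAction.mem_stabilizer_iff, mul_smul, inv_smul_eq_iff, mul_smul] at h4
  exact h4

variable {Ω : Type u} [Group Ω] {S : Subgroup Ω} {F : FusionSystem S}
variable {X : Type u} [MulAction (S × S) X]

/-! ### Maps of the system modulo the hyperfocal subgroup -/

section Hyper

variable {p : ℕ} [Fact p.Prime]

theorem exists_conj_mod_hyper [Finite S] (hS : IsPGroup p S) (hF : F.IsSaturated p) :
    ∀ (Q : Subgroup Ω) (ψ : Q →* Ω), ψ ∈ F.Hom Q →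
      ∃ v ∈ S, ∀ y : Q, (v * y * v⁻¹)⁻¹ * ψ y ∈ F.hyperfocalSubgroup p := by
  set H := F.hyperfocalSubgroup p with hH
  have hcl : ClosedClass F (fun P φ => ∃ v ∈ S, ∀ y : P, (v * y * v⁻¹)⁻¹ * φ y ∈ H) := by
    refine ⟨fun P g hP hg => ⟨g, hg, fun x => ?_⟩, fun P Q φ ψ _ _ hφ hψ hm => ?_, fun P φ ψ _ hφ _ hv => ?_⟩
    · have : (g * x * g⁻¹)⁻¹ * conjHom P g x = 1 := by
        show (g * x * g⁻¹)⁻¹ * (g * x * g⁻¹) = 1
        group
      rw [this]; exact H.one_mem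
    · obtain ⟨v₁, hv₁, h₁⟩ := hφ
      obtain ⟨v₂, hv₂, h₂⟩ := hψ
      refine ⟨v₂ * v₁, S.mul_mem hv₂ hv₁, fun x => ?_⟩
      have h3 := hyperfocal_conj_mem hv₂ (h₁ x)
      have h4 := H.mul_mem h3 (h₂ ⟨φ x, hm x⟩)
      have e : (v₂ * v₁ * x * (v₂ * v₁)⁻¹)⁻¹ * (ψ.comp (φ.codRestrict Q hm)) x =
          v₂ * ((v₁ * x * v₁⁻¹)⁻¹ * φ x) * v₂⁻¹ * ((v₂ * (φ x) * v₂⁻¹)⁻¹ * ψ ⟨φ x, hm x⟩) := by
        show _ * ψ ⟨φ x, hm x⟩ = _
        group
      rw [e]
      exact h4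
    · obtain ⟨v, hvS, h⟩ := hφ
      refine ⟨v⁻¹, S.inv_mem hvS, fun y => ?_⟩
      obtain ⟨x, hx⟩ := y.2
      have hy : y = ⟨φ x, ⟨x, rfl⟩⟩ := Subtype.ext hx.symm
      subst hy
      rw [hv x]
      have h3 := hyperfocal_conj_mem (S.inv_mem hvS) (H.inv_mem (h x))
      have e : (v⁻¹ * (φ x) * v⁻¹⁻¹)⁻¹ * (x : Ω) = v⁻¹ * ((v * x * v⁻¹)⁻¹ * φ x)⁻¹ * v⁻¹⁻¹ := by
        group
      show (v⁻¹ * (φ x) * v⁻¹⁻¹)⁻¹ * (x : Ω) ∈ H
      rw [e]
      exact h3
  refine hcl.alperin_induction hS hF fun T hT α hα => ?_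
  have hTn : F.IsFullyNormalized T := by
    rcases hT with rfl | hT
    · exact isFullyNormalized_top
    · exact hT.2.1
  obtain ⟨s, hs, β, hβ, hv⟩ := exists_conj_mul_residual hS hF hTn ⟨α, hα⟩
  have hsS := (mem_normalizerIn.1 hs).1
  refine ⟨s, hsS, fun y => ?_⟩
  have h1 := mem_hyperfocal hTn.1 β hβ y
  have h2 := hyperfocal_conj_mem hsS h1
  have h5 : (T.subtype.comp α.toMonoidHom) y = s * (((β : MulAut T) y : T) : Ω) * s⁻¹ := hv y
  rw [h5]
  have e : (s * y * s⁻¹)⁻¹ * (s * (((β : MulAut T) y : T) : Ω) * s⁻¹) =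
      s * ((y : Ω)⁻¹ * (((β : MulAut T) y : T) : Ω)) * s⁻¹ := by
    group
  rw [e]
  exact h2

end Hyper

/-! ### Gradings -/

section Grading

variable {Γ : Type*} [Group Γ] (θ : S →* Γ)

/-- The two-sided action of `S × S` on a group through a homomorphism. -/
def twoSided : MulAction (S × S) Γ where
  smul g v := θ g.1 * v * (θ g.2)⁻¹
  one_smul := by
    intro v
    show θ 1 * v * (θ 1)⁻¹ = v
    simp
  mul_smul := by
    rintro a b v
    show θ (a.1 * b.1) * v * (θ (a.2 * b.2))⁻¹ = θ a.1 * (θ b.1 * v * (θ b.2)⁻¹) * (θ a.2)⁻¹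
    simp [mul_assoc]

theorem exists_grading (hX : FGen F X)
    (hD : ∀ (Q : Subgroup Ω) (ψ : Q →* Ω) (hψ : ψ ∈ F.Hom Q), ∃ v : S, ∀ y : Q,
      θ ⟨ψ y, hom_val F hψ y⟩ = θ v * θ ⟨y, hom_le F hψ y.2⟩ * (θ v)⁻¹) :
    ∃ gr : X → Γ, ∀ (g : S × S) (x : X), gr (g • x) = θ g.1 * gr x * (θ g.2)⁻¹ := by
  letI := twoSided θ
  refine exists_map_of_stabilizer_le fun x => ?_
  obtain ⟨Q, ψ, hψ, he⟩ := hX x
  obtain ⟨v, hv⟩ := hD Q ψ hψ
  refine ⟨(θ v)⁻¹, ?_⟩
  rw [he]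
  intro g hg
  obtain ⟨h1, h2⟩ := hg
  rw [MulAction.mem_stabilizer_iff]
  show θ g.1 * (θ v)⁻¹ * (θ g.2)⁻¹ = (θ v)⁻¹
  have h3 := hv ⟨g.1, h1⟩
  have h4 : (⟨ψ ⟨g.1, h1⟩, hom_val F hψ _⟩ : S) = g.2 := Subtype.ext h2
  rw [h4] at h3
  rw [h3]
  group

/-- A section of the right orbits. -/
structure Sect (S : Subgroup Ω) (X : Type u) [MulAction (S × S) X] where
  s : RY S X → X
  hs : ∀ o, (Quotient.mk _ (s o) : RY S X) = o

theorem exists_sect (hθ : Function.Surjective θ) (gr : X → Γ)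
    (hgr : ∀ (g : S × S) (x : X), gr (g • x) = θ g.1 * gr x * (θ g.2)⁻¹) :
    ∃ σ : Sect S X, ∀ o, gr (σ.s o) = 1 := by
  have hb : ∀ o : RY S X, ∃ b : S, θ b = gr (sec o) := fun o => hθ _
  choose b hb using hb
  refine ⟨⟨fun o => ((1, b o) : S × S) • sec o, fun o => ?_⟩, fun o => ?_⟩
  · rw [← mk_sec o]
    refine Quotient.sound ?_
    refine ⟨(b (Quotient.mk _ (sec o)))⁻¹, ?_⟩
    rw [mk_sec, smul_smul]
    simp
    exact one_smul (S × S) _
  · rw [hgr]
    simp [hb]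

namespace Sect

theorem exists_vs (σ : Sect S X) (f : permR S X) (o : RY S X) :
    ∃ b : S, ((1, b) : S × S) • σ.s (onY f o) = f.1 (σ.s o) := by
  have h : (Quotient.mk _ (σ.s (onY f o)) : RY S X) = Quotient.mk _ (f.1 (σ.s o)) := by
    rw [σ.hs, ← onY_mk, σ.hs]
  exact Quotient.exact h

/-- The cocycle of a section. -/
noncomputable def vs (σ : Sect S X) (f : permR S X) (o : RY S X) : S := Classical.choose (σ.exists_vs f o)

theorem vs_spec (σ : Sect S X) (f : permR S X) (o : RY S X) :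
    ((1, σ.vs f o) : S × S) • σ.s (onY f o) = f.1 (σ.s o) :=
  Classical.choose_spec (σ.exists_vs f o)

theorem vs_unique (σ : Sect S X) (h : RFree S X) {f : permR S X} {o : RY S X} {b : S}
    (hb : ((1, b) : S × S) • σ.s (onY f o) = f.1 (σ.s o)) : σ.vs f o = b :=
  h.cancel ((σ.vs_spec f o).trans hb.symm)

theorem vs_mul (σ : Sect S X) (h : RFree S X) (f g : permR S X) (o : RY S X) :
    σ.vs (f * g) o = σ.vs g o * σ.vs f (onY g o) := by
  apply σ.vs_unique h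
  show _ = f.1 (g.1 (σ.s o))
  rw [← σ.vs_spec g o, f.2, ← σ.vs_spec f (onY g o), smul_smul, onY_mul]
  simp

end Sect

end Grading

/-! ### The relative transfer -/

section Relative

variable {K : Subgroup S} {C : Type w} [CommGroup C] (ν : K →* C)

open Classical in
/-- The extension by one of a homomorphism on `K`. -/
noncomputable def nuT (y : S) : C := if h : y ∈ K then ν ⟨y, h⟩ else 1

theorem nuT_of_mem {y : S} (h : y ∈ K) : nuT ν y = ν ⟨y, h⟩ := dif_pos h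

theorem nuT_mul {x y : S} (hx : x ∈ K) (hy : y ∈ K) : nuT ν (x * y) = nuT ν x * nuT ν y := by
  rw [nuT_of_mem ν hx, nuT_of_mem ν hy, nuT_of_mem ν (K.mul_mem hx hy), ← map_mul]
  rfl

theorem nuT_one : nuT ν 1 = 1 := by
  rw [nuT_of_mem ν K.one_mem]
  exact map_one ν

/-- The coboundary of a function on a finite set with a permutation has trivial product. -/
theorem nuT_coboundary {Y : Type*} [Fintype Y] [DecidableEq Y] (π : Equiv.Perm Y) (w : Y → S)
    (hw : ∀ o, (w o)⁻¹ * w (π o) ∈ K) : ∏ o, nuT ν ((w o)⁻¹ * w (π o)) = 1 := by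
  have key := prod_cycles π (fun o => nuT ν ((w o)⁻¹ * w (π o))) 1 (by
    intro o
    have ht : ∀ j : ℕ, (w o)⁻¹ * w (π^[j] o) ∈ K ∧
        ∏ i ∈ Finset.range j, nuT ν ((w (π^[i] o))⁻¹ * w (π (π^[i] o))) = nuT ν ((w o)⁻¹ * w (π^[j] o)) := by
      intro j
      induction j with
      | zero =>
        refine ⟨by simp [K.one_mem], ?_⟩
        simp [nuT_one]
      | succ j ih =>
        obtain ⟨h1, h2⟩ := ih
        have h3 := hw (π^[j] o)
        have e : (w o)⁻¹ * w (π^[j + 1] o) = (w o)⁻¹ * w (π^[j] o) * ((w (π^[j] o))⁻¹ * w (π (π^[j] o))) := by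
          rw [Function.iterate_succ_apply']
          group
        refine ⟨?_, ?_⟩
        · rw [e]
          exact K.mul_mem h1 h3
        · rw [Finset.prod_range_succ, h2, e, nuT_mul ν h1 h3]
    have hper : π^[Function.minimalPeriod π o] o = o := Function.isPeriodicPt_minimalPeriod _ _
    rw [one_pow, (ht _).2, hper]
    simp [nuT_one]) Finset.univ (fun _ _ => Finset.mem_univ _)
  rw [key, one_pow]

variable {Γ : Type*} [Group Γ] {θ : S →* Γ}
variable (σ : Sect S X) [Fintype (RY S X)]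

/-- The function whose product gives the relative transfer. -/
noncomputable def muFun (a : S) : C := ∏ o : RY S X, nuT ν (a * σ.vs (leftHom S X a) o)

/-- The function whose product gives the relative transfer on `K`. -/
noncomputable def tFun (a : S) : C := ∏ o : RY S X, nuT ν (σ.vs (leftHom S X a) o)

theorem theta_vs_left {gr : X → Γ} (hgr : ∀ (g : S × S) (x : X), gr (g • x) = θ g.1 * gr x * (θ g.2)⁻¹)
    (hσ : ∀ o, gr (σ.s o) = 1) (a : S) (o : RY S X) : θ (σ.vs (leftHom S X a) o) = (θ a)⁻¹ := by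
  have h := σ.vs_spec (leftHom S X a) o
  have h1 := congrArg gr h
  rw [hgr] at h1
  have h2 : (leftHom S X a).1 (σ.s o) = ((a, 1) : S × S) • σ.s o := rfl
  rw [h2, hgr, hσ, hσ] at h1
  simp only [map_one, mul_one, one_mul, inv_one] at h1
  rw [← h1, inv_inv]

variable (hK : ∀ s : S, θ s = 1 ↔ s ∈ K)
variable {gr : X → Γ} (hgr : ∀ (g : S × S) (x : X), gr (g • x) = θ g.1 * gr x * (θ g.2)⁻¹)
  (hσ : ∀ o, gr (σ.s o) = 1)

include hK hgr hσ in
theorem mul_vs_left_mem (a : S) (o : RY S X) : a * σ.vs (leftHom S X a) o ∈ K := by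
  rw [← hK, map_mul, theta_vs_left σ hgr hσ]
  simp

include hK hgr hσ in
theorem vs_left_mem {a : S} (ha : a ∈ K) (o : RY S X) : σ.vs (leftHom S X a) o ∈ K := by
  rw [← hK, theta_vs_left σ hgr hσ, (hK a).2 ha, inv_one]

include hK hgr hσ in
theorem muFun_mul (hfree : RFree S X)
    (hinv : ∀ (g r : S), r ∈ K → g * r * g⁻¹ ∈ K ∧ nuT ν (g * r * g⁻¹) = nuT ν r) (a b : S) :
    muFun ν σ (a * b) = muFun ν σ a * muFun ν σ b := by
  unfold muFun
  have h1 : ∀ o : RY S X, nuT ν (a * b * σ.vs (leftHom S X (a * b)) o) =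
      nuT ν (b * σ.vs (leftHom S X b) o) * nuT ν (a * σ.vs (leftHom S X a) (onYPerm (leftHom S X b) o)) := by
    intro o
    rw [map_mul, σ.vs_mul hfree]
    have hb := mul_vs_left_mem σ hK hgr hσ b o
    have ha := mul_vs_left_mem σ hK hgr hσ a (onY (leftHom S X b) o)
    obtain ⟨h2, h3⟩ := hinv a _ hb
    have e : a * b * (σ.vs (leftHom S X b) o * σ.vs (leftHom S X a) (onY (leftHom S X b) o)) =
        a * (b * σ.vs (leftHom S X b) o) * a⁻¹ * (a * σ.vs (leftHom S X a) (onY (leftHom S X b) o)) := by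
      group
    rw [e, nuT_mul ν h2 ha, h3]
    rfl
  rw [Finset.prod_congr rfl (fun o _ => h1 o), Finset.prod_mul_distrib, mul_comm]
  congr 1
  exact Fintype.prod_equiv (onYPerm (leftHom S X b)) _ _ (fun o => rfl)

include hK hgr hσ in
theorem muFun_of_mem {a : S} (ha : a ∈ K) :
    muFun ν σ a = nuT ν a ^ Fintype.card (RY S X) * tFun ν σ a := by
  unfold muFun tFun
  have h1 : ∀ o : RY S X, nuT ν (a * σ.vs (leftHom S X a) o) = nuT ν a * nuT ν (σ.vs (leftHom S X a) o) :=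
    fun o => nuT_mul ν ha (vs_left_mem σ hK hgr hσ ha o)
  rw [Finset.prod_congr rfl (fun o _ => h1 o), Finset.prod_mul_distrib, Finset.prod_const]
  rfl

include hK hgr hσ in
/-- The invariance of the relative transfer. -/
theorem tFun_eq (hfree : RFree S X) (hinv : ∀ (g r : S), r ∈ K → g * r * g⁻¹ ∈ K ∧ nuT ν (g * r * g⁻¹) = nuT ν r)
    (f : permR S X) {A B : S} (hA : A ∈ K) (hB : B ∈ K)
    (hf : ∀ x : X, f.1 (((A, 1) : S × S) • x) = ((B, 1) : S × S) • f.1 x) :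
    tFun ν σ B = tFun ν σ A := by
  classical
  have hAθ : θ A = 1 := (hK A).2 hA
  have hBθ : θ B = 1 := (hK B).2 hB
  set π := onYPerm (leftHom S X A) with hπ
  set w : RY S X → S := σ.vs f with hw
  have h1 : leftHom S X B * f = f * leftHom S X A := by
    apply Subtype.ext
    ext x
    exact (hf x).symm
  have h2 : ∀ o, w o * σ.vs (leftHom S X B) (onY f o) = σ.vs (leftHom S X A) o * w (π o) := by
    intro o
    have h3 := σ.vs_mul hfree (leftHom S X B) f o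
    have h4 := σ.vs_mul hfree f (leftHom S X A) o
    rw [h1] at h3
    exact h3.symm.trans h4
  have hθw : ∀ o, θ (w o) = (gr (f.1 (σ.s o)))⁻¹ := by
    intro o
    have h3 := congrArg gr (σ.vs_spec f o)
    rw [hgr, hσ] at h3
    simp only [map_one, one_mul, mul_one] at h3
    rw [← h3, inv_inv]
  have hcob : ∀ o, (w o)⁻¹ * w (π o) ∈ K := by
    intro o
    rw [← hK, map_mul, map_inv, hθw, hθw, inv_inv]
    have h3 := σ.vs_spec (leftHom S X A) o
    have h4 : f.1 (((1, σ.vs (leftHom S X A) o) : S × S) • σ.s (π o)) = ((1, σ.vs (leftHom S X A) o) : S × S) • f.1 (σ.s (π o)) :=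
      f.2 _ _
    have h5 : ((leftHom S X A).1 (σ.s o)) = ((A, 1) : S × S) • σ.s o := rfl
    have h6 : onY (leftHom S X A) o = π o := rfl
    rw [h6, h5] at h3
    rw [h3, hf] at h4
    have h7 := congrArg gr h4
    rw [hgr, hgr] at h7
    have h8 : θ (σ.vs (leftHom S X A) o) = 1 := by
      rw [theta_vs_left σ hgr hσ, hAθ, inv_one]
    simp only [hBθ, h8, map_one, one_mul, mul_one, inv_one] at h7
    rw [h7]
    simp
  have h9 : ∀ o, nuT ν (σ.vs (leftHom S X B) (onY f o)) =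
      nuT ν (σ.vs (leftHom S X A) o) * nuT ν ((w o)⁻¹ * w (π o)) := by
    intro o
    have e : σ.vs (leftHom S X B) (onY f o) =
        (w o)⁻¹ * σ.vs (leftHom S X A) o * (w o)⁻¹⁻¹ * ((w o)⁻¹ * w (π o)) := by
      rw [eq_comm]
      calc (w o)⁻¹ * σ.vs (leftHom S X A) o * (w o)⁻¹⁻¹ * ((w o)⁻¹ * w (π o))
          = (w o)⁻¹ * (σ.vs (leftHom S X A) o * w (π o)) := by group
        _ = (w o)⁻¹ * (w o * σ.vs (leftHom S X B) (onY f o)) := by rw [h2]
        _ = _ := by group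
    have hv := vs_left_mem σ hK hgr hσ hA o
    obtain ⟨h10, h11⟩ := hinv (w o)⁻¹ _ hv
    rw [e, nuT_mul ν h10 (hcob o), h11]
  calc tFun ν σ B = ∏ o : RY S X, nuT ν (σ.vs (leftHom S X B) (onY f o)) := by
        unfold tFun
        exact (Fintype.prod_equiv (onYPerm f) _ _ (fun o => rfl)).symm
    _ = tFun ν σ A * ∏ o : RY S X, nuT ν ((w o)⁻¹ * w (π o)) := by
        unfold tFun
        rw [Finset.prod_congr rfl (fun o _ => h9 o), Finset.prod_mul_distrib]
    _ = tFun ν σ A := by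
        rw [nuT_coboundary ν π w hcob, mul_one]

end Relative

/-! ### The hyperfocal subgroup -/

section Main

variable {p : ℕ} [Fact p.Prime]

/-- The hyperfocal subgroup as a subgroup of `S`. -/
abbrev hypK (F : FusionSystem S) (p : ℕ) : Subgroup S := (F.hyperfocalSubgroup p).subgroupOf S

instance hypK_normal : (hypK F p).Normal := ⟨fun n hn g => by
  rw [Subgroup.mem_subgroupOf] at hn ⊢
  exact hyperfocal_conj_mem g.2 hn⟩

/-- A homomorphism on the hyperfocal subgroup invariant under the maps of the system is trivial. -/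
theorem hyp_kill [Finite S] (hS : IsPGroup p S) (hF : F.IsSaturated p) {C : Type w} [CommGroup C] (τ : hypK F p →* C)
    (hτ : ∀ (P : Subgroup Ω) (φ : P →* Ω) (hφ : φ ∈ F.Hom P)
      (hP : ∀ x : P, (⟨x, hom_le F hφ x.2⟩ : S) ∈ hypK F p) (hv : ∀ x : P, (⟨φ x, hom_val F hφ x⟩ : S) ∈ hypK F p) (x : P),
      τ ⟨⟨φ x, hom_val F hφ x⟩, hv x⟩ = τ ⟨⟨x, hom_le F hφ x.2⟩, hP x⟩) (r : hypK F p) : τ r = 1 := by
  classical
  set R := F.hyperfocalSubgroup p with hR
  have hsc : F.StronglyClosed R := hyperfocal_stronglyClosed hS hF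
  let M : Subgroup Ω := ((τ.ker).map (hypK F p).subtype).map S.subtype
  have hle : R ≤ M := hyperfocal_le_of hS fun T hT β hβ hco y => by
    have hβres : (⟨β, hβ⟩ : F.autGroup T) ∈ pResidual p (F.autGroup T) := by
      refine Subgroup.subset_closure ?_
      show (orderOf (⟨β, hβ⟩ : F.autGroup T)).Coprime p
      rw [Subgroup.orderOf_mk]
      exact hco
    have hk : ∀ (k : ℕ) (w : T) (hw : (w : Ω) ∈ R), (((β ^ k) w : T) : Ω) ∈ R ∧
        nuT τ ⟨((β ^ k) w : T), hT ((β ^ k) w).2⟩ = nuT τ ⟨w, hT w.2⟩ := by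
      intro k w hw
      have hβk : (β ^ k) ∈ F.autGroup T := Subgroup.pow_mem _ hβ k
      have hφ := res_mem F ((mem_autGroup_iff hT).1 hβk) (inf_le_left : T ⊓ R ≤ T)
      set φ := (T.subtype.comp (β ^ k).toMonoidHom).comp (Subgroup.inclusion (inf_le_left : T ⊓ R ≤ T)) with hφd
      have hvR : ∀ x : (T ⊓ R : Subgroup Ω), φ x ∈ R := fun x => hsc.2 _ inf_le_right φ hφ x
      have hPR : ∀ x : (T ⊓ R : Subgroup Ω), (x : Ω) ∈ R := fun x => x.2.2
      have h1 := hτ _ φ hφ (fun x => Subgroup.mem_subgroupOf.2 (hPR x)) (fun x => Subgroup.mem_subgroupOf.2 (hvR x))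
        ⟨w, w.2, hw⟩
      have h2 := hvR ⟨w, w.2, hw⟩
      refine ⟨h2, ?_⟩
      have h3 : ((β ^ k) w : T) = ⟨φ ⟨w, w.2, hw⟩, by exact ((β ^ k) w).2⟩ := Subtype.ext rfl
      rw [nuT_of_mem τ (y := ⟨w, hT w.2⟩) (Subgroup.mem_subgroupOf.2 hw),
        nuT_of_mem τ (y := ⟨((β ^ k) w : T), hT ((β ^ k) w).2⟩) (Subgroup.mem_subgroupOf.2 h2)]
      exact h1
    have hzR : (y : Ω)⁻¹ * ((β y : T) : Ω) ∈ R := mem_hyperfocal hT ⟨β, hβ⟩ hβres y
    set z : T := y⁻¹ * β y with hz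
    have hzv : (z : Ω) = (y : Ω)⁻¹ * ((β y : T) : Ω) := rfl
    have hzR' : (z : Ω) ∈ R := hzR
    have htel : ∀ k : ℕ, (((y⁻¹ * (β ^ k) y : T)) : Ω) ∈ R ∧
        nuT τ ⟨((y⁻¹ * (β ^ k) y : T) : Ω), hT (y⁻¹ * (β ^ k) y).2⟩ = nuT τ ⟨z, hT z.2⟩ ^ k := by
      intro k
      induction k with
      | zero =>
        have e : (y⁻¹ * (β ^ 0) y : T) = 1 := by simp
        rw [e]
        refine ⟨R.one_mem, ?_⟩
        rw [pow_zero]
        exact nuT_one τ
      | succ k ih =>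
        obtain ⟨h1, h2⟩ := ih
        obtain ⟨h3, h4⟩ := hk k z hzR'
        have e : (y⁻¹ * (β ^ (k + 1)) y : T) = (y⁻¹ * (β ^ k) y) * (β ^ k) z := by
          rw [hz, map_mul, map_inv, pow_succ]
          show y⁻¹ * (β ^ k) (β y) = _
          group
        rw [e]
        refine ⟨R.mul_mem h1 h3, ?_⟩
        have h5 := nuT_mul τ (x := ⟨((y⁻¹ * (β ^ k) y : T) : Ω), hT (y⁻¹ * (β ^ k) y).2⟩)
          (y := ⟨((β ^ k) z : T), hT ((β ^ k) z).2⟩) (Subgroup.mem_subgroupOf.2 h1) (Subgroup.mem_subgroupOf.2 h3)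
        have h6 : (⟨((y⁻¹ * (β ^ k) y * (β ^ k) z : T) : Ω), hT (y⁻¹ * (β ^ k) y * (β ^ k) z).2⟩ : S) =
            ⟨((y⁻¹ * (β ^ k) y : T) : Ω), hT (y⁻¹ * (β ^ k) y).2⟩ * ⟨((β ^ k) z : T), hT ((β ^ k) z).2⟩ := rfl
        rw [h6, h5, h2, h4, pow_succ]
    have h1 := (htel (orderOf β)).2
    have e1 : (y⁻¹ * (β ^ orderOf β) y : T) = 1 := by
      rw [pow_orderOf_eq_one]
      simp
    rw [e1] at h1
    have h2 : nuT τ (⟨((1 : T) : Ω), hT (1 : T).2⟩ : S) = 1 := nuT_one τ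
    rw [h2, nuT_of_mem τ (Subgroup.mem_subgroupOf.2 hzR')] at h1
    set c := τ ⟨⟨z, hT z.2⟩, Subgroup.mem_subgroupOf.2 hzR'⟩ with hc
    have hp1 : IsPGroup p (hypK F p) := hS.to_subgroup _
    obtain ⟨e, he⟩ := (IsPGroup.iff_orderOf.mp hp1) ⟨⟨z, hT z.2⟩, Subgroup.mem_subgroupOf.2 hzR'⟩
    have h3 : c ^ p ^ e = 1 := by
      rw [hc, ← map_pow, ← he, pow_orderOf_eq_one, map_one]
    have h4 : orderOf c ∣ 1 := by
      have h5 : orderOf c ∣ Nat.gcd (orderOf β) (p ^ e) :=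
        Nat.dvd_gcd (orderOf_dvd_of_pow_eq_one h1.symm) (orderOf_dvd_of_pow_eq_one h3)
      have h6 : Nat.gcd (orderOf β) (p ^ e) = 1 := Nat.Coprime.pow_right e hco
      rwa [h6] at h5
    have h7 : c = 1 := orderOf_eq_one_iff.mp (Nat.dvd_one.mp h4)
    refine ⟨⟨z, hT z.2⟩, ⟨⟨⟨z, hT z.2⟩, Subgroup.mem_subgroupOf.2 hzR'⟩, h7, rfl⟩, rfl⟩
  have hr : ((r : S) : Ω) ∈ R := Subgroup.mem_subgroupOf.1 r.2
  obtain ⟨a, ⟨b, hb, hb2⟩, hab⟩ := hle hr
  have : b = r := Subtype.ext (Subtype.ext (by rw [← hab, ← hb2]; rfl))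
  rw [← this]
  exact hb

/-- **Tate**: an `S`-invariant homomorphism on the hyperfocal subgroup has a power (prime to `p`) extending to `S`. -/
theorem exists_transfer_hyp [Finite S] (hS : IsPGroup p S) (hF : F.IsSaturated p) :
    ∃ n : ℕ, ¬ p ∣ n ∧ ∀ {C : Type w} [CommGroup C] (ν : hypK F p →* C),
      (∀ (g : S) (r : hypK F p), ν ⟨g * r * g⁻¹, (hypK_normal (F := F) (p := p)).conj_mem r r.2 g⟩ = ν r) →
      ∃ μ : S →* C, ∀ r : hypK F p, μ r = ν r ^ n := by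
  classical
  obtain ⟨X, i1, i2, h1, h2, n, hn, hp⟩ := exists_char_biset (F := F) hS hF
  haveI : Fintype (RY S X) := Fintype.ofFinite _
  have hfree := rfree_of_fgen (F := F) h1
  have hcard : Fintype.card (RY S X) = n := by
    have h3 := card_eq_card_RY_mul hfree
    rw [hn] at h3
    rw [← Nat.card_eq_fintype_card]
    exact (Nat.eq_of_mul_eq_mul_right Nat.card_pos h3).symm
  let θ : S →* S ⧸ hypK F p := QuotientGroup.mk' (hypK F p)
  have hθ : Function.Surjective θ := QuotientGroup.mk'_surjective _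
  have hK : ∀ s : S, θ s = 1 ↔ s ∈ hypK F p := fun s => QuotientGroup.eq_one_iff s
  obtain ⟨gr, hgr⟩ := exists_grading (F := F) (X := X) θ h1 (fun Q ψ hψ => by
    obtain ⟨v, hv, hy⟩ := exists_conj_mod_hyper hS hF Q ψ hψ
    refine ⟨⟨v, hv⟩, fun y => ?_⟩
    rw [← map_inv, ← map_mul, ← map_mul, eq_comm]
    refine QuotientGroup.eq.mpr ?_
    exact Subgroup.mem_subgroupOf.2 (hy y))
  obtain ⟨σ, hσ⟩ := exists_sect θ hθ gr hgr
  refine ⟨n, hp, fun {C} _ ν hν => ?_⟩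
  have hinv : ∀ (g r : S), r ∈ hypK F p → g * r * g⁻¹ ∈ hypK F p ∧ nuT ν (g * r * g⁻¹) = nuT ν r := by
    intro g r hr
    have h3 := (hypK_normal (F := F) (p := p)).conj_mem r hr g
    refine ⟨h3, ?_⟩
    rw [nuT_of_mem ν h3, nuT_of_mem ν hr]
    exact hν g ⟨r, hr⟩
  let μ : S →* C := MonoidHom.mk' (muFun ν σ) (muFun_mul ν σ hK hgr hσ hfree hinv)
  refine ⟨μ, fun r => ?_⟩
  let τ : hypK F p →* C := (μ.comp (hypK F p).subtype) * ((powMonoidHom n).comp ν)⁻¹
  have hτv : ∀ r : hypK F p, τ r = tFun ν σ r := by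
    intro r
    show μ r * (ν r ^ n)⁻¹ = _
    have h3 : μ r = nuT ν r ^ Fintype.card (RY S X) * tFun ν σ r := muFun_of_mem ν σ hK hgr hσ r.2
    rw [h3, hcard, nuT_of_mem ν r.2]
    simp
  have hτ1 := hyp_kill hS hF τ (fun P φ hφ hP hv x => by
    obtain ⟨f, hf, hfv⟩ := exists_intertwiner h1 h2 hφ
    rw [hτv, hτv]
    exact tFun_eq ν σ hK hgr hσ hfree hinv ⟨f, hf⟩ (hP x) (hv x) (fun y => hfv x y)) r
  rw [hτv] at hτ1
  have h3 : μ r = nuT ν r ^ Fintype.card (RY S X) * tFun ν σ r := muFun_of_mem ν σ hK hgr hσ r.2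
  rw [h3, hτ1, hcard, nuT_of_mem ν r.2, mul_one]

end Main

end Cfsg.Agent.Lib.Fusion.Biset
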