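/-
Consequences of the relative transfer: the hyperfocal subgroup is detected modulo the Frattini subgroup, and criteria
for a saturated fusion system to be the inner one.
-/
import Cfsg.Agent.Lib.Fusion.BisetTate
import Cfsg.Agent.Lib.Fusion.FactorMore
import Cfsg.Agent.Lib.Fusion.FactorSat
import Cfsg.Agent.Lib.Fusion.Abelian
import Cfsg.Agent.Lib.Fusion.Top
import Cfsg.Agent.Lib.Fusion.NormalSub
import Cfsg.Agent.Lib.Fusion.NormSys
import Cfsg.Agent.Lib.Amalgam.ResOf
import Cfsg.Agent.Lib.Transfer.Frat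
import Mathlib

set_option autoImplicit false

namespace Cfsg.Agent.Lib.Fusion.Biset

open Cfsg Cfsg.FusionSystem Cfsg.Agent.Lib.Fusion
open scoped commutatorElement

universe u w

theorem le_of_le_commutator_sup {G : Type*} [Group G] [hG : Group.IsNilpotent G] {H L : Subgroup G} [hL : L.Normal]
    (h : H ≤ ⁅H, (⊤ : Subgroup G)⁆ ⊔ L) : H ≤ L := by
  have key : ∀ k, H ≤ (⊤ : Subgroup G).lowerCentralSeries k ⊔ L := by
    intro k
    induction k with
    | zero =>
      intro x _
      exact Subgroup.mem_sup_left (Subgroup.mem_top x)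
    | succ k ih =>
      refine h.trans (sup_le ?_ le_sup_right)
      rw [Subgroup.commutator_le]
      intro x hx g _
      obtain ⟨a, ha, l, hl, rfl⟩ := Subgroup.mem_sup_of_normal_right.mp (ih hx)
      have e : ⁅a * l, g⁆ = (a * ⁅l, g⁆ * a⁻¹) * ⁅a, g⁆ := by
        simp only [commutatorElement_def]; group
      rw [e]
      have h1 : ⁅l, g⁆ ∈ L := by
        rw [commutatorElement_def, mul_assoc, mul_assoc]
        refine L.mul_mem hl ?_
        rw [← mul_assoc]
        exact hL.conj_mem _ (L.inv_mem hl) g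
      have h2 := hL.conj_mem _ h1 a
      have h3 : ⁅a, g⁆ ∈ (⊤ : Subgroup G).lowerCentralSeries (k + 1) := Subgroup.commutator_mem_commutator ha (Subgroup.mem_top g)
      exact Subgroup.mul_mem _ (Subgroup.mem_sup_right h2) (Subgroup.mem_sup_left h3)
  obtain ⟨n, hn⟩ := nilpotent_iff_lowerCentralSeries.mp hG
  have := key n
  rwa [hn, bot_sup_eq] at this

variable {Ω : Type u} [Group Ω] {S : Subgroup Ω} {F : FusionSystem S}
variable {p : ℕ} [Fact p.Prime]

theorem eq_one_of_transfer [Finite S] (hS : IsPGroup p S) (hF : F.IsSaturated p) {L : Subgroup S} [L.Normal]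
    (hLR : L ≤ hypK F p) (h : hypK F p ≤ frattini S ⊔ L) {C : Type u} [CommGroup C] (ν : hypK F p →* C)
    (hsurj : Function.Surjective ν)
    (hinv : ∀ (g : S) (r : hypK F p), ν ⟨g * r * g⁻¹, (hypK_normal (F := F) (p := p)).conj_mem r r.2 g⟩ = ν r)
    (hL : ∀ (l : S) (hl : l ∈ L), ν ⟨l, hLR hl⟩ = 1) (c : C) : c = 1 := by
  classical
  have hp := (Fact.out : p.Prime)
  obtain ⟨n, hn, ht⟩ := exists_transfer_hyp.{u, u} (F := F) hS hF
  obtain ⟨μ, hμ⟩ := ht ν hinv
  haveI : Finite C := Finite.of_surjective ν hsurj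
  have hCp : IsPGroup p C := IsPGroup.of_surjective (hS.to_subgroup _) ν hsurj
  have hΦ : frattini S ≤ (powMonoidHom p : C →* C).range.comap μ :=
    Cfsg.Agent.Lib.Amalgam.frattini_le_of_elementary_quotient (p := p) _ (fun a b => ?_) (fun a => ?_)
  rotate_left
  · refine ⟨1, ?_⟩
    rw [map_one, map_commutatorElement, commutatorElement_eq_one_iff_mul_comm.mpr (mul_comm _ _)]
  · exact ⟨μ a, by simp⟩
  have hs : Function.Surjective (powMonoidHom p : C →* C) := by
    intro c
    obtain ⟨r, rfl⟩ := hsurj c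
    obtain ⟨k, hk⟩ := (IsPGroup.iff_orderOf.mp (hS.to_subgroup (hypK F p))) r
    have hcop : n.Coprime (orderOf r) := by
      rw [hk]
      exact Nat.Coprime.pow_right _ ((Nat.Prime.coprime_iff_not_dvd hp).mpr hn).symm
    obtain ⟨m, hm⟩ := exists_pow_eq_self_of_coprime hcop
    have h1 : μ ((r ^ m : hypK F p) : S) = ν r := by
      rw [hμ, ← map_pow, ← pow_mul, mul_comm, pow_mul, hm]
    have hr' : ((r ^ m : hypK F p) : S) ∈ frattini S ⊔ L := h (r ^ m).2
    obtain ⟨f, hf, l, hl, he⟩ := Subgroup.mem_sup_of_normal_right.mp hr'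
    have h2 : μ l = 1 := by
      have h3 := hμ ⟨l, hLR hl⟩
      rw [hL l hl, one_pow] at h3
      exact h3
    obtain ⟨d, hd⟩ := hΦ hf
    refine ⟨d, ?_⟩
    rw [← h1, ← he, map_mul, h2, mul_one]
    exact hd
  have hi : Function.Injective (powMonoidHom p : C →* C) := Finite.injective_iff_surjective.mpr hs
  have hind : ∀ (k : ℕ) (c : C), c ^ p ^ k = 1 → c = 1 := by
    intro k
    induction k with
    | zero => intro c h1; simpa using h1
    | succ k ih =>
      intro c h1
      apply ih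
      apply hi
      rw [map_one]
      show (c ^ p ^ k) ^ p = 1
      rw [← pow_mul, ← pow_succ]
      exact h1
  obtain ⟨k, hk⟩ := (IsPGroup.iff_orderOf.mp hCp) c
  exact hind k c (by rw [← hk, pow_orderOf_eq_one])

/-- The hyperfocal subgroup modulo the Frattini subgroup. -/
theorem hypK_le_of_le [Finite S] (hS : IsPGroup p S) (hF : F.IsSaturated p) {L : Subgroup S} [hLn : L.Normal]
    (hLR : L ≤ hypK F p) (h : hypK F p ≤ frattini S ⊔ L) : hypK F p ≤ L := by
  haveI : Group.IsNilpotent S := hS.isNilpotent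
  set R := hypK F p with hR
  let D : Subgroup S := ⁅R, (⊤ : Subgroup S)⁆ ⊔ L
  haveI hDn : D.Normal := Subgroup.sup_normal _ _
  let W : Subgroup R := D.subgroupOf R
  haveI hWn : W.Normal := Subgroup.Normal.subgroupOf hDn R
  let I : CommGroup (R ⧸ W) :=
    { (QuotientGroup.Quotient.group W) with
      mul_comm := by
        intro x y
        induction x using QuotientGroup.induction_on with
        | H a =>
          induction y using QuotientGroup.induction_on with
          | H b =>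
            show ((a * b : R) : R ⧸ W) = ((b * a : R) : R ⧸ W)
            refine QuotientGroup.eq.mpr ?_
            refine Subgroup.mem_subgroupOf.2 (Subgroup.mem_sup_left ?_)
            have h1 := Subgroup.commutator_mem_commutator (R.inv_mem b.2) (Subgroup.mem_top (a : S)⁻¹)
            have e : (((a * b)⁻¹ * (b * a) : R) : S) = ⁅(b : S)⁻¹, (a : S)⁻¹⁆ := by
              simp [commutatorElement_def, mul_assoc]
            rw [e]
            exact h1 }
  have hall := @eq_one_of_transfer Ω _ S F p _ _ hS hF L hLn hLR h (R ⧸ W) I (QuotientGroup.mk' W)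
    (QuotientGroup.mk'_surjective W)
    (fun g r => by
      refine QuotientGroup.eq.mpr (Subgroup.mem_subgroupOf.2 (Subgroup.mem_sup_left ?_))
      have h1 := Subgroup.commutator_mem_commutator (R.inv_mem r.2) (Subgroup.mem_top g)
      have e : ((((⟨g * r * g⁻¹, (hypK_normal (F := F) (p := p)).conj_mem r r.2 g⟩ : R))⁻¹ * r : R) : S) =
          ⁅(r : S)⁻¹, g⁆⁻¹ := by
        simp [commutatorElement_def, mul_assoc]
      rw [e]
      exact Subgroup.inv_mem _ h1)
    (fun l hl => by
      refine (QuotientGroup.eq_one_iff _).mpr (Subgroup.mem_subgroupOf.2 (Subgroup.mem_sup_right hl)))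
  refine le_of_le_commutator_sup (H := R) (L := L) ?_
  intro x hx
  have h1 := hall ((QuotientGroup.mk' W) ⟨x, hx⟩)
  have h2 := (QuotientGroup.eq_one_iff _).mp h1
  exact Subgroup.mem_subgroupOf.1 h2

/-- The hyperfocal subgroup is determined modulo the Frattini subgroup. -/
theorem hyperfocal_eq_of_le [Finite S] (hS : IsPGroup p S) (hF : F.IsSaturated p) {L : Subgroup Ω}
    (hLR : L ≤ F.hyperfocalSubgroup p) (hLn : ∀ g ∈ S, ∀ x ∈ L, g * x * g⁻¹ ∈ L)
    (h : F.hyperfocalSubgroup p ≤ (frattini S).map S.subtype ⊔ L) : F.hyperfocalSubgroup p = L := by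
  refine le_antisymm ?_ hLR
  have hRS := hyperfocal_le (F := F) hS
  have hLS : L ≤ S := hLR.trans hRS
  haveI hLn' : (L.subgroupOf S).Normal := ⟨fun n hn g => Subgroup.mem_subgroupOf.2 (hLn g g.2 n (Subgroup.mem_subgroupOf.1 hn))⟩
  have h1 : L.subgroupOf S ≤ hypK F p := fun x hx => Subgroup.mem_subgroupOf.2 (hLR (Subgroup.mem_subgroupOf.1 hx))
  have h2 : hypK F p ≤ frattini S ⊔ L.subgroupOf S := by
    intro r hr
    have h3 : (r : Ω) ∈ (frattini S ⊔ L.subgroupOf S).map S.subtype := by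
      rw [Subgroup.map_sup, Subgroup.subgroupOf_map_subtype, inf_eq_left.2 hLS]
      exact h (Subgroup.mem_subgroupOf.1 hr)
    obtain ⟨y, hy, hye⟩ := Subgroup.mem_map.mp h3
    have : y = r := Subtype.ext hye
    rwa [← this]
  have h3 := hypK_le_of_le hS hF h1 h2
  intro x hx
  exact Subgroup.mem_subgroupOf.1 (h3 (Subgroup.mem_subgroupOf.2 hx : (⟨x, hRS hx⟩ : S) ∈ hypK F p))

/-- Trivial hyperfocal subgroup gives the inner system. -/
theorem eq_inner_of_hyperfocal_eq_bot [Finite S] (hS : IsPGroup p S) (hF : F.IsSaturated p)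
    (h : F.hyperfocalSubgroup p = ⊥) : F = innerFusionSystem S := by
  have hp := (Fact.out : p.Prime)
  refine eq_inner_of_isPGroup hS hF fun P hP => ?_
  have := finite_of_le hP.1
  have : Finite (MulAut P) := finite_mulAut P
  intro α
  obtain ⟨k, m, hm, he⟩ := Nat.exists_eq_pow_mul_and_not_dvd (n := orderOf α) (orderOf_pos α).ne' p hp.ne_one
  refine ⟨k, ?_⟩
  set β := α ^ p ^ k with hβd
  have hβ : β ^ m = 1 := by rw [← pow_mul, ← he, pow_orderOf_eq_one]
  have hco : (orderOf β).Coprime p :=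
    Nat.Coprime.coprime_dvd_left (orderOf_dvd_of_pow_eq_one hβ) ((Nat.Prime.coprime_iff_not_dvd hp).2 hm).symm
  have hres : β ∈ pResidual p (F.autGroup P) := Subgroup.subset_closure hco
  apply Subtype.ext
  ext x
  have h1 := mem_hyperfocal (F := F) hP.1 β hres x
  rw [h, Subgroup.mem_bot, inv_mul_eq_one] at h1
  exact h1.symm

/-- Monotonicity of the hyperfocal subgroup. -/
theorem hyperfocal_mono [Finite S] {H : FusionSystem S} (hHF : H.IsSubsystemOf F) :
    H.hyperfocalSubgroup p ≤ F.hyperfocalSubgroup p := by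
  rw [hyperfocalSubgroup, Subgroup.closure_le]
  rintro _ ⟨P, α, x, hP, hα, rfl⟩
  have hle : H.autGroup P ≤ F.autGroup P := fun β hβ =>
    (mem_autGroup_iff hP).2 (hHF P ((mem_autGroup_iff hP).1 hβ))
  have key : ∀ β : H.autGroup P, β ∈ pResidual p (H.autGroup P) →
      (⟨β, hle β.2⟩ : F.autGroup P) ∈ pResidual p (F.autGroup P) := by
    intro β hβ
    induction hβ using Subgroup.closure_induction with
    | mem β hβ =>
      refine Subgroup.subset_closure ?_
      show (orderOf (⟨β, hle β.2⟩ : F.autGroup P)).Coprime p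
      have h1 : orderOf (⟨β, hle β.2⟩ : F.autGroup P) = orderOf β := by
        rw [Subgroup.orderOf_mk, Subgroup.orderOf_coe]
      rw [h1]
      exact hβ
    | one => exact Subgroup.one_mem _
    | mul a b _ _ ha hb => exact Subgroup.mul_mem _ ha hb
    | inv a _ ha => exact Subgroup.inv_mem _ ha
  exact mem_hyperfocal hP ⟨α, hle α.2⟩ (key α hα) x

theorem hyperfocal_le_focal [Finite S] (hS : IsPGroup p S) (hF : F.IsSaturated p) :
    F.hyperfocalSubgroup p ≤ F.focalSubgroup := by
  rw [focal_eq hS hF]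
  exact le_sup_left

/-- `S' ≤ Φ(S)` in the ambient group. -/
theorem commutator_le_frattini_map [Finite S] (hS : IsPGroup p S) :
    ⁅(S : Subgroup Ω), (S : Subgroup Ω)⁆ ≤ (frattini S).map S.subtype := by
  rw [← Subgroup.map_subtype_commutator]
  exact Subgroup.map_mono (Cfsg.Agent.Lib.Transfer.commutator_le_frattini hS)

/-- **Tate's theorem.** -/
theorem tate_aux [Finite S] (hS : IsPGroup p S) (hF : F.IsSaturated p) {H : FusionSystem S} (hH : H.IsSaturated p)
    (hHF : H.IsSubsystemOf F) (h : (frattini S).map S.subtype ⊔ F.focalSubgroup = (frattini S).map S.subtype ⊔ H.focalSubgroup) :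
    F.hyperfocalSubgroup p = H.hyperfocalSubgroup p := by
  refine hyperfocal_eq_of_le hS hF (hyperfocal_mono hHF) (fun g hg x hx => hyperfocal_conj_mem hg hx) ?_
  have h1 := hyperfocal_le_focal (F := F) hS hF
  calc F.hyperfocalSubgroup p ≤ (frattini S).map S.subtype ⊔ F.focalSubgroup := h1.trans le_sup_right
    _ = (frattini S).map S.subtype ⊔ H.focalSubgroup := h
    _ ≤ (frattini S).map S.subtype ⊔ H.hyperfocalSubgroup p := by
      rw [focal_eq hS hH]
      refine sup_le le_sup_left (sup_le le_sup_right ?_)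
      exact (commutator_le_frattini_map hS).trans le_sup_left

/-- Over a strongly closed subgroup with abelian quotient on which `Aut_F(S)` acts trivially. -/
theorem hyperfocal_le_of_abelian [Finite S] (hS : IsPGroup p S) (hF : F.IsSaturated p) {Q : Subgroup Ω}
    (hQ : F.StronglyClosed Q) (hc : ⁅(S : Subgroup Ω), (S : Subgroup Ω)⁆ ≤ Q)
    (haut : ∀ α ∈ F.autGroup S, ∀ x : S, (x : Ω)⁻¹ * (α x : S) ∈ Q) : F.hyperfocalSubgroup p ≤ Q := by
  set Q' := Q.subgroupOf S with hQ'
  have hcm : ∀ a b : S, a * b * a⁻¹ * b⁻¹ ∈ Q' := by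
    intro a b
    refine Subgroup.mem_subgroupOf.2 (hc ?_)
    exact Subgroup.commutator_mem_commutator a.2 b.2
  haveI hn : Q'.Normal := ⟨fun n hn g => by
    have h1 := Q'.mul_mem (hcm g n) hn
    simpa [mul_assoc] using h1⟩
  let θ : S →* S ⧸ Q' := QuotientGroup.mk' Q'
  have hker : ∀ s : S, θ s = 1 ↔ (s : Ω) ∈ Q := fun s => by
    rw [show θ s = ((s : S) : S ⧸ Q') from rfl, QuotientGroup.eq_one_iff, Subgroup.mem_subgroupOf]
  have hS' : θ.range = ⊤ := MonoidHom.range_eq_top.2 (QuotientGroup.mk'_surjective Q')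
  obtain ⟨E, hE⟩ := exists_factorSystem hQ hker hS'
  have hEs := isSaturated_of_factor hS hF hQ hE
  have hfin := IsFactorSystem.finite hE
  have hEp := IsFactorSystem.isPGroup hS hE
  have hcomm : ∀ x y : S ⧸ Q', x * y = y * x := by
    intro x y
    induction x using QuotientGroup.induction_on with
    | H a =>
      induction y using QuotientGroup.induction_on with
      | H b =>
        show ((a * b : S) : S ⧸ Q') = ((b * a : S) : S ⧸ Q')
        refine QuotientGroup.eq.mpr ?_
        have h1 := hcm b⁻¹ a⁻¹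
        simpa [mul_assoc] using h1
  have hfoc : E.focalSubgroup ≤ ⊥ := by
    refine abelian_focal_le hEp hEs (fun x _ y _ => hcomm x y) fun α hα x => ?_
    obtain ⟨a₀, ha₀, hv⟩ := exists_lifted_aut hE le_rfl hα
    have hPS : preimageAlong θ ⊤ ≤ S := preimageAlong_le _
    have hSP : S ≤ preimageAlong θ ⊤ := fun y hy => mem_preimageAlong.2 ⟨hy, Subgroup.mem_top _⟩
    have hb := res_mem F ((mem_autGroup_iff hPS).1 ha₀) hSP
    obtain ⟨b, hbA, hbv⟩ := exists_aut_of_map hb (fun y => hPS (a₀ _).2)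
    obtain ⟨s, hs⟩ : ∃ s : S, θ s = x := by
      have hx : (x : S ⧸ Q') ∈ θ.range := by
        rw [hS']; exact Subgroup.mem_top _
      exact hx
    have h1 := haut b hbA s
    have h2 := hv ⟨s, hSP s.2⟩ (Subgroup.mem_top _)
    have h3 : ((b s : S) : Ω) = a₀ ⟨s, hSP s.2⟩ := hbv s
    have h4 : θ (b s) = θ s := by
      have h5 := (hker (s⁻¹ * b s)).2 h1
      rw [map_mul, map_inv, inv_mul_eq_one] at h5
      exact h5.symm
    have h6 : θ (b s) = θ ⟨a₀ ⟨s, hSP s.2⟩, hPS (a₀ _).2⟩ := congrArg θ (Subtype.ext h3)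
    have h7 : ((α x : (⊤ : Subgroup (S ⧸ Q'))) : S ⧸ Q') = x := by
      have h8 : (⟨θ ⟨s, hPS (hSP s.2)⟩, Subgroup.mem_top _⟩ : (⊤ : Subgroup (S ⧸ Q'))) = x := Subtype.ext hs
      have h9 := h2
      rw [h8] at h9
      rw [← h9, ← h6, h4]
      exact hs
    rw [h7, inv_mul_cancel]
    exact Subgroup.one_mem _
  have h1 : E.hyperfocalSubgroup p ≤ ⊥ := (hyperfocal_le_focal hEp hEs).trans hfoc
  rw [hyperfocal_factor hS hF hQ hE] at h1
  intro x hx
  have hxS := hyperfocal_le (F := F) hS hx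
  have h2 := h1 (Subgroup.mem_map_of_mem θ (Subgroup.mem_subgroupOf.2 hx : (⟨x, hxS⟩ : S) ∈ hypK F p))
  exact (hker ⟨x, hxS⟩).1 (Subgroup.mem_bot.mp h2)

/-- The criterion for the system to be inner. -/
theorem eq_inner_of_frattini [Finite S] (hS : IsPGroup p S) (hF : F.IsSaturated p) {Q : Subgroup Ω}
    (hQ : F.StronglyClosed Q) (hc : ⁅(S : Subgroup Ω), (S : Subgroup Ω)⁆ ≤ Q) (hQΦ : Q ≤ (frattini S).map S.subtype)
    (haut : ∀ α ∈ F.autGroup S, ∀ x : S, (x : Ω)⁻¹ * (α x : S) ∈ Q) : F = innerFusionSystem S := by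
  refine eq_inner_of_hyperfocal_eq_bot hS hF ?_
  refine hyperfocal_eq_of_le hS hF bot_le (fun g _ x hx => ?_) ?_
  · rw [Subgroup.mem_bot] at hx ⊢
    rw [hx]
    simp
  · rw [sup_bot_eq]
    exact (hyperfocal_le_of_abelian hS hF hQ hc haut).trans hQΦ

end Cfsg.Agent.Lib.Fusion.Biset
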