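/-
Criteria for the normalizer systems of a saturated system to be inner.
-/
import Cfsg.Agent.Lib.Fusion.BisetTate2
import Cfsg.Agent.Lib.Fusion.AdmSat
import Cfsg.Agent.S5096
import Mathlib

set_option autoImplicit false

namespace Cfsg.Agent.Lib.Fusion.Biset

open Cfsg Cfsg.FusionSystem Cfsg.Agent.Lib.Fusion
open scoped commutatorElement

universe u

variable {Ω : Type u} [Group Ω] {S : Subgroup Ω} {F : FusionSystem S}
variable {p : ℕ} [Fact p.Prime]

/-- If `N_F(S)` is inner then `Aut_F(S)` consists of conjugations. -/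
theorem aut_conj_of_normalizer_inner [Finite S]
    (hN : ∀ N : FusionSystem (normalizerIn S S), F.IsNormalizerSystem S N → ∀ P : Subgroup Ω,
      N.Hom P = (innerFusionSystem (normalizerIn S S)).Hom P)
    {α : MulAut S} (hα : α ∈ F.autGroup S) : ∃ g ∈ S, ∀ x : S, ((α x : S) : Ω) = g * x * g⁻¹ := by
  obtain ⟨E, hE⟩ := Cfsg.Agent.S5096.result F S le_rfl
  have hSN : S ≤ normalizerIn S S := fun x hx => mem_normalizerIn.2 ⟨hx, mem_normalizer_of_forall fun y hy => S.mul_mem (S.mul_mem hx hy) (S.inv_mem hx)⟩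
  have h1 : S.subtype.comp α.toMonoidHom ∈ E.Hom S := by
    refine hom_normalizerSystem hE le_rfl hSN ((mem_autGroup_iff le_rfl).1 hα) ?_
    apply le_antisymm
    · rintro _ ⟨x, -, rfl⟩
      exact (α x).2
    · intro x hx
      obtain ⟨y, hy⟩ := α.surjective ⟨x, hx⟩
      refine ⟨y, Subgroup.mem_subgroupOf.2 y.2, ?_⟩
      show ((α y : S) : Ω) = x
      rw [hy]
  rw [hN E hE S] at h1
  obtain ⟨-, g, hg, hv⟩ := mem_inner_hom.1 h1
  exact ⟨g, normalizerIn_le S hg, hv⟩

/-- The criterion for a subsystem over a subgroup equal to `S`. -/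
theorem eq_inner_aux [Finite S] {T : Subgroup Ω} (h : T = S) {N : FusionSystem T} (hS : IsPGroup p S)
    (hsat : N.IsSaturated p) (hNF : N.IsSubsystemOf F) {Q : Subgroup Ω} (hC : N.StronglyClosed Q)
    (hc : ⁅(S : Subgroup Ω), (S : Subgroup Ω)⁆ ≤ Q) (hΦ : Q ≤ (frattini S).map S.subtype)
    (hautF : ∀ α ∈ F.autGroup S, ∃ g ∈ S, ∀ x : S, ((α x : S) : Ω) = g * x * g⁻¹) :
    N = innerFusionSystem T := by
  subst h
  refine eq_inner_of_frattini hS hsat hC hc hΦ fun α hα x => ?_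
  obtain ⟨g, hg, hv⟩ := hautF α ((mem_autGroup_iff le_rfl).2 (hNF _ ((mem_autGroup_iff le_rfl).1 hα)))
  rw [hv]
  have h1 := Subgroup.commutator_mem_commutator (T.inv_mem x.2) hg
  have e : (x : Ω)⁻¹ * (g * x * g⁻¹) = ⁅(x : Ω)⁻¹, g⁆ := by
    simp [commutatorElement_def, mul_assoc]
  rw [e]
  exact hc h1

end Cfsg.Agent.Lib.Fusion.Biset
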