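import Cfsg.Agent.Lib.Fusion.ConstrSub
import Mathlib

/-! # `F`-centric subgroups whose intersection with a normal subsystem's group is not centric -/

set_option autoImplicit false
set_option linter.unusedSectionVars false
set_option linter.unusedVariables false

namespace Cfsg.Agent.Lib.Fusion

open Cfsg Cfsg.FusionSystem

variable {Ω : Type*} [Group Ω] {S : Subgroup Ω} {F : FusionSystem S} {p : ℕ} [Fact p.Prime] [Finite S]

/-- Preimages of strongly closed subgroups along maps of the system. -/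
theorem mem_of_hom_mem {T : Subgroup Ω} (hT : F.StronglyClosed T) {P : Subgroup Ω} {φ : P →* Ω} (hφ : φ ∈ F.Hom P)
    (y : P) (h : φ y ∈ T) : (y : Ω) ∈ T := by
  obtain ⟨ψ, hψ, hv⟩ := F.inv_mem hφ
  have hle : φ.range ⊓ T ≤ φ.range := inf_le_left
  have := hT.2 (φ.range ⊓ T) inf_le_right _ (res_mem F hψ hle) ⟨φ y, ⟨y, rfl⟩, h⟩
  have e : (ψ.comp (Subgroup.inclusion hle)) ⟨φ y, ⟨y, rfl⟩, h⟩ = (y : Ω) := hv y
  rwa [e] at this

/-- Automorphisms stabilizing the chain `1 ≤ R ∩ T ≤ R` lie in `O_p(Aut_F(R))`. -/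
theorem stab_mem_pCore (hS : IsPGroup p S) {T : Subgroup Ω} (hT : F.StronglyClosed T) {R : Subgroup Ω} (hRS : R ≤ S)
    {α : MulAut R} (hα : α ∈ F.autGroup R) (h1 : ∀ x : R, (x : Ω) ∈ T → α x = x)
    (h2 : ∀ x : R, (x : Ω)⁻¹ * (α x : Ω) ∈ T) :
    α ∈ (pCore p (F.autGroup R)).map (F.autGroup R).subtype := by
  classical
  have : Finite R := finite_of_le hRS
  have hRp : IsPGroup p R := hS.to_le hRS
  obtain ⟨k, hk⟩ := IsPGroup.iff_card.1 hRp
  let A : Subgroup (F.autGroup R) :=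
    { carrier := {β | (∀ x : R, (x : Ω) ∈ T → (β : MulAut R) x = x) ∧ ∀ x : R, (x : Ω)⁻¹ * ((β : MulAut R) x : Ω) ∈ T}
      mul_mem' := by
        rintro a b ⟨ha1, ha2⟩ ⟨hb1, hb2⟩
        refine ⟨fun x hx => ?_, fun x => ?_⟩
        · show (a : MulAut R) ((b : MulAut R) x) = x
          rw [hb1 x hx, ha1 x hx]
        · show (x : Ω)⁻¹ * ((a : MulAut R) ((b : MulAut R) x) : Ω) ∈ T
          have e : (x : Ω)⁻¹ * ((a : MulAut R) ((b : MulAut R) x) : Ω) =
              ((x : Ω)⁻¹ * ((b : MulAut R) x : Ω)) * (((b : MulAut R) x : Ω)⁻¹ * ((a : MulAut R) ((b : MulAut R) x) : Ω)) := by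
            group
          rw [e]
          exact T.mul_mem (hb2 x) (ha2 _)
      one_mem' := by
        refine ⟨fun x _ => rfl, fun x => ?_⟩
        show (x : Ω)⁻¹ * (x : Ω) ∈ T
        simp [T.one_mem]
      inv_mem' := by
        rintro a ⟨ha1, ha2⟩
        have hinv : ∀ x : R, (a⁻¹ : F.autGroup R).1 x = ((a : MulAut R)⁻¹) x := fun _ => rfl
        refine ⟨fun x hx => ?_, fun x => ?_⟩
        · show ((a : MulAut R)⁻¹) x = x
          rw [MulAut.inv_def]
          exact (MulEquiv.symm_apply_eq _).2 (ha1 x hx).symm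
        · show (x : Ω)⁻¹ * (((a : MulAut R)⁻¹) x : Ω) ∈ T
          have h3 := ha2 (((a : MulAut R)⁻¹) x)
          have e : (a : MulAut R) (((a : MulAut R)⁻¹) x) = x := by simp
          rw [e] at h3
          have := T.inv_mem h3
          simpa using this }
  have hAn : A.Normal := by
    refine ⟨fun b hb g => ⟨fun x hx => ?_, fun x => ?_⟩⟩
    · have hgi : ((g⁻¹ : F.autGroup R) : MulAut R) ∈ F.autGroup R := (g⁻¹).2
      have h3 : (((g⁻¹ : F.autGroup R) : MulAut R) x : Ω) ∈ T := StronglyClosed.aut_mem hT hRS hgi hx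
      have h4 := hb.1 _ h3
      show ((g : MulAut R) ((b : MulAut R) (((g⁻¹ : F.autGroup R) : MulAut R) x))) = x
      rw [h4]
      show (g : MulAut R) (((g : MulAut R)⁻¹) x) = x
      simp
    · have hgi : ((g⁻¹ : F.autGroup R) : MulAut R) ∈ F.autGroup R := (g⁻¹).2
      set y : R := ((g⁻¹ : F.autGroup R) : MulAut R) x with hy
      have hgy : (g : MulAut R) y = x := by
        show (g : MulAut R) (((g : MulAut R)⁻¹) x) = x
        simp
      have h3 := hb.2 y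
      let t : R := y⁻¹ * (b : MulAut R) y
      have ht : (t : Ω) ∈ T := h3
      have h4 : ((g : MulAut R) t : Ω) ∈ T := StronglyClosed.aut_mem hT hRS g.2 ht
      have e : (b : MulAut R) y = y * t := by simp [t]
      show (x : Ω)⁻¹ * (((g : MulAut R) ((b : MulAut R) y) : R) : Ω) ∈ T
      rw [e, map_mul, hgy]
      simpa using h4
  have hAp : IsPGroup p A := by
    rintro ⟨⟨β, hβ⟩, hA⟩
    refine ⟨k, ?_⟩
    apply Subtype.ext
    apply Subtype.ext
    show β ^ p ^ k = 1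
    ext x
    have hpow : ∀ n : ℕ, ∀ x : R, (β ^ n) x = x * (x⁻¹ * β x) ^ n := by
      intro n
      induction n with
      | zero => intro x; simp
      | succ m ih =>
        intro x
        have hfix : β (x⁻¹ * β x) = x⁻¹ * β x := hA.1 (x⁻¹ * β x) (hA.2 x)
        have hfixp : ∀ j : ℕ, β ((x⁻¹ * β x) ^ j) = (x⁻¹ * β x) ^ j := fun j => by
          rw [map_pow, hfix]
        rw [pow_succ, MulAut.mul_apply, ih (β x)]
        have e1 : (β x)⁻¹ * β (β x) = x⁻¹ * β x := by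
          rw [← map_inv, ← map_mul, hfix]
        rw [e1]
        have e2 : β x = x * (x⁻¹ * β x) := by group
        nth_rewrite 1 [e2]
        rw [mul_assoc, ← pow_succ']
    have h3 := hpow (p ^ k) x
    have h4 : (x⁻¹ * β x) ^ p ^ k = 1 := by
      rw [← hk]
      exact pow_card_eq_one'
    rw [h4, mul_one] at h3
    rw [h3]
    rfl
  have hmem : (⟨α, hα⟩ : F.autGroup R) ∈ A := ⟨h1, h2⟩
  exact ⟨⟨α, hα⟩, Lib.Core.le_pCore hAn hAp hmem, rfl⟩

/-- `S5251`. -/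
theorem centric_inter_not_centric (hS : IsPGroup p S) (hF : F.IsSaturated p) {T : Subgroup Ω}
    {E : FusionSystem T} (hsub : E.IsSubsystemOf F) (hT : F.StronglyClosed T)
    (P : Subgroup Ω) (hP : F.IsCentric P) (hPT : ¬ E.IsCentric (P ⊓ T)) :
    (∃ φ ∈ F.Hom P, ∃ x ∈ S ⊓ Subgroup.normalizer (φ.range : Set Ω), x ∉ φ.range ∧
      ∃ α ∈ ((pCore p ↥(F.autGroup φ.range)).map (F.autGroup φ.range).subtype : Subgroup (MulAut ↥φ.range)),
        ∀ y : ↥φ.range, ((α y : ↥φ.range) : Ω) = x * (y : Ω) * x⁻¹) ∧ ¬ F.IsRadical p P := by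
  classical
  have hPS : P ≤ S := hP.1
  have hTS : T ≤ S := hT.1
  have hTN : S ≤ Subgroup.normalizer (T : Set Ω) := StronglyClosed.le_normalizer hT
  set Q : Subgroup Ω := P ⊓ T with hQ
  have hQT : Q ≤ T := inf_le_right
  have hQP : Q ≤ P := inf_le_left
  obtain ⟨Q', hQ', hCQ'⟩ : ∃ Q', E.IsConj Q Q' ∧ ¬ centralizerIn T Q' ≤ Q' := by
    by_contra hcon
    push Not at hcon
    exact hPT ⟨hQT, fun Q' hQ' => hcon Q' hQ'⟩
  have hQ'F : F.IsConj Q Q' := by
    obtain ⟨φ, hφ, h⟩ := hQ'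
    exact ⟨φ, hsub _ hφ, h⟩
  obtain ⟨Qs, hQ'Qs, hQsf⟩ := exists_fullyNormalized_conj (F := F) (IsConj.le_right hQ'F)
  have hQQs : F.IsConj Q Qs := IsConj.trans hQ'F hQ'Qs
  have hQsT : Qs ≤ T := by
    obtain ⟨φ, hφ, rfl⟩ := hQQs
    rintro _ ⟨y, rfl⟩
    exact hT.2 Q hQT φ hφ y
  -- the centralizer in `T` remains too large
  have hCs : ¬ centralizerIn T Qs ≤ Qs := by
    intro hle
    apply hCQ'
    obtain ⟨e₀, he₀⟩ := isConj_iff.1 hQ'Qs
    obtain ⟨e, he, ψ, hψ, hψN, hψe⟩ := IsSat.extend_to_normalizer hS hF hQsf he₀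
    intro c hc
    obtain ⟨hcT, hcc⟩ := mem_centralizerIn.1 hc
    have hcS := hTS hcT
    have hQ'S := IsConj.le_right hQ'F
    have hcN : c ∈ normalizerIn S Q' := by
      refine mem_normalizerIn.2 ⟨hcS, (mem_normalizerIn.1 (centralizerIn_le_normalizerIn (mem_centralizerIn.2 ⟨hcS, hcc⟩))).2⟩
    have hψT : ψ ⟨c, hcN⟩ ∈ T := by
      have hle : T ⊓ normalizerIn S Q' ≤ normalizerIn S Q' := inf_le_right
      exact hT.2 _ inf_le_left _ (res_mem F hψ hle) ⟨c, hcT, hcN⟩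
    have hq'N : ∀ q : Q', (q : Ω) ∈ normalizerIn S Q' := fun q =>
      mem_normalizerIn.2 ⟨hQ'S q.2, Subgroup.le_normalizer q.2⟩
    have hψc : ψ ⟨c, hcN⟩ ∈ centralizerIn T Qs := by
      refine mem_centralizerIn.2 ⟨hψT, fun z hz => ?_⟩
      obtain ⟨q, hq⟩ := e.surjective ⟨z, hz⟩
      have hz' : z = ψ ⟨q, hq'N q⟩ := by
        rw [hψe q q.2 (hq'N q), hq]
      have hqc := hcc q q.2
      rw [hz', ← map_mul, ← map_mul]
      congr 1
      exact Subtype.ext hqc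
    have hψq := hle hψc
    obtain ⟨q, hq⟩ := e.surjective ⟨_, hψq⟩
    have hq2 : ψ ⟨q, hq'N q⟩ = ψ ⟨c, hcN⟩ := by
      rw [hψe q q.2 (hq'N q), hq]
    have := hom_inj F hψ hq2
    have hc2 : (q : Ω) = c := congrArg Subtype.val this
    rw [← hc2]
    exact q.2
  -- extending the map to `P`
  obtain ⟨e₀, he₀⟩ := isConj_iff.1 hQQs
  obtain ⟨e, he, ψ, hψ, hψN, hψe⟩ := IsSat.extend_to_normalizer hS hF hQsf he₀
  have hPN : P ≤ normalizerIn S Q := by
    intro y hy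
    refine mem_normalizerIn.2 ⟨hPS hy, ?_⟩
    have := finite_of_le hPS
    have : Finite Q := finite_of_le (hQP.trans hPS)
    refine mem_normalizer_of_forall fun x hx => ⟨P.mul_mem (P.mul_mem hy (hQP hx)) (P.inv_mem hy), ?_⟩
    exact conj_mem_of_mem_normalizer (hTN (hPS hy)) (hQT hx)
  let φ : P →* Ω := ψ.comp (Subgroup.inclusion hPN)
  have hφ : φ ∈ F.Hom P := res_mem F hψ hPN
  have hφq : ∀ y : P, (y : Ω) ∈ Q → φ y ∈ Qs := by
    intro y hy
    have h1 := hψe y hy (hPN y.2)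
    have h2 : φ y = ψ ⟨y, hPN y.2⟩ := rfl
    rw [h2, h1]
    exact (e ⟨y, hy⟩).2
  have hrT : ∀ y : P, φ y ∈ T → φ y ∈ Qs := fun y hy =>
    hφq y ⟨y.2, mem_of_hom_mem hT hφ y hy⟩
  have hQsr : Qs ≤ φ.range := by
    intro z hz
    obtain ⟨q, hq⟩ := e.surjective ⟨z, hz⟩
    refine ⟨⟨q, hQP q.2⟩, ?_⟩
    have h1 := hψe q q.2 (hPN (hQP q.2))
    show ψ ⟨q, hPN (hQP q.2)⟩ = z
    rw [h1, hq]
  have hrS : φ.range ≤ S := by
    rintro _ ⟨y, rfl⟩
    exact hom_val F hφ y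
  have : Finite φ.range := finite_of_le hrS
  have hFinC : Finite (centralizerIn T Qs : Subgroup Ω) := by
    have h1 : centralizerIn T Qs ≤ S := (inf_le_left : centralizerIn T Qs ≤ T).trans hTS
    exact finite_of_le h1
  -- `Qs` is normalized by the image, and so is the centralizer in `T`
  have hQsNorm : ∀ a ∈ φ.range, ∀ z ∈ Qs, a * z * a⁻¹ ∈ Qs := by
    intro a ha z hz
    obtain ⟨y, hy⟩ := Subgroup.mul_mem _ (Subgroup.mul_mem _ ha (hQsr hz)) (Subgroup.inv_mem _ ha)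
    rw [← hy]
    apply hrT
    rw [hy]
    exact conj_mem_of_mem_normalizer (hTN (hrS ha)) (hQsT hz)
  have hCNorm : φ.range ≤ Subgroup.normalizer ((centralizerIn T Qs : Subgroup Ω) : Set Ω) := by
    intro a ha
    refine mem_normalizer_of_forall fun c hc => ?_
    obtain ⟨hcT, hcc⟩ := mem_centralizerIn.1 hc
    refine mem_centralizerIn.2 ⟨conj_mem_of_mem_normalizer (hTN (hrS ha)) hcT, fun z hz => ?_⟩
    have h1 : a⁻¹ * z * a⁻¹⁻¹ ∈ Qs := hQsNorm a⁻¹ (Subgroup.inv_mem _ ha) z hz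
    have h2 := hcc _ h1
    have e1 : z = a * (a⁻¹ * z * a⁻¹⁻¹) * a⁻¹ := by group
    have h3 : z * (a * c * a⁻¹) = a * ((a⁻¹ * z * a⁻¹⁻¹) * c) * a⁻¹ := by group
    have h4 : a * c * a⁻¹ * z = a * (c * (a⁻¹ * z * a⁻¹⁻¹)) * a⁻¹ := by group
    rw [h3, h4, h2]
  have hnotle : ¬ centralizerIn T Qs ≤ φ.range := by
    intro hle
    apply hCs
    intro c hc
    obtain ⟨y, hy⟩ := hle hc
    rw [← hy]
    apply hrT
    rw [hy]
    exact (inf_le_left : centralizerIn T Qs ≤ T) hc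
  -- growing normalizers
  obtain ⟨x, hxC, hxN, hxnot⟩ : ∃ x ∈ centralizerIn T Qs, x ∈ Subgroup.normalizer (φ.range : Set Ω) ∧ x ∉ φ.range := by
    have hX : centralizerIn T Qs ⊔ φ.range ≤ S := sup_le ((inf_le_left : centralizerIn T Qs ≤ T).trans hTS) hrS
    have hlt : φ.range < centralizerIn T Qs ⊔ φ.range := lt_of_le_of_ne le_sup_right fun heq => hnotle (by
      intro c hc
      have h3 : c ∈ centralizerIn T Qs ⊔ φ.range := Subgroup.mem_sup_left hc
      exact (le_of_eq heq.symm) h3)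
    have := finite_of_le hX
    have hgrow := lt_normalizerIn (hS.to_le hX) hlt
    obtain ⟨g, hg, hgT⟩ := SetLike.exists_of_lt hgrow
    obtain ⟨hg1, hg2⟩ := mem_normalizerIn.1 hg
    obtain ⟨q, hq, t, ht, rfl⟩ := exists_mul_of_mem_sup hCNorm hg1
    have htN : t ∈ Subgroup.normalizer (φ.range : Set Ω) := Subgroup.le_normalizer ht
    have hqN : q ∈ Subgroup.normalizer (φ.range : Set Ω) := by
      have := Subgroup.mul_mem _ hg2 (Subgroup.inv_mem _ htN)
      simpa using this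
    exact ⟨q, hq, hqN, fun hqr => hgT (Subgroup.mul_mem _ hqr ht)⟩
  obtain ⟨hxT, hxc⟩ := mem_centralizerIn.1 hxC
  have hxS := hTS hxT
  let α : MulAut φ.range := conjAut φ.range x hxN
  have hαv : ∀ y : φ.range, ((α y : φ.range) : Ω) = x * (y : Ω) * x⁻¹ := fun y => conjAut_coe _ _ _ _
  have hαmem : α ∈ F.autGroup φ.range := autInducedBy_le_autGroup F hrS (conjAut_mem hxS hxN)
  have hα1 : ∀ y : φ.range, (y : Ω) ∈ T → α y = y := by
    intro y hy
    apply Subtype.ext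
    rw [hαv]
    obtain ⟨w, hw⟩ := y.2
    have hys : (y : Ω) ∈ Qs := by
      rw [← hw] at hy ⊢
      exact hrT w hy
    have := hxc _ hys
    rw [← this]
    simp
  have hα2 : ∀ y : φ.range, (y : Ω)⁻¹ * ((α y : φ.range) : Ω) ∈ T := by
    intro y
    rw [hαv]
    have h1 : (y : Ω)⁻¹ * x * (y : Ω)⁻¹⁻¹ ∈ T :=
      conj_mem_of_mem_normalizer (hTN (S.inv_mem (hrS y.2))) hxT
    have e1 : (y : Ω)⁻¹ * (x * (y : Ω) * x⁻¹) = ((y : Ω)⁻¹ * x * (y : Ω)⁻¹⁻¹) * x⁻¹ := by group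
    rw [e1]
    exact T.mul_mem h1 (T.inv_mem hxT)
  refine ⟨⟨φ, hφ, x, ⟨hxS, hxN⟩, hxnot, α, stab_mem_pCore hS hT hrS hαmem hα1 hα2, hαv⟩, ?_⟩
  -- not radical
  intro hr
  let ei : P ≃* φ.range := isoRange hφ
  have hei : IsIso F ei := isoRange_isIso hφ
  have hαiso : IsIso F (P := φ.range) (Q := φ.range) α := (mem_autGroup_iff hrS).1 hαmem
  let α' : MulAut P := (ei.trans α).trans ei.symm
  have hα'iso : IsIso F (P := P) (Q := P) α' := IsIso.trans (IsIso.trans hei hαiso) (IsIso.symm hei)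
  have hα'mem : α' ∈ F.autGroup P := (mem_autGroup_iff hPS).2 hα'iso
  have heiv : ∀ y : P, ei (α' y) = α (ei y) := fun y => by
    show ei (ei.symm (α (ei y))) = α (ei y)
    simp
  have hcoe : ∀ y : P, ((ei y : φ.range) : Ω) = φ y := fun y => isoRange_coe hφ y
  have hin := stab_mem_pCore hS hT hPS hα'mem (by
      intro y hy
      have h1 : ((ei y : φ.range) : Ω) ∈ T := by
        rw [hcoe]
        exact hQsT (hφq y ⟨y.2, hy⟩)
      have h2 := hα1 _ h1
      apply ei.injective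
      rw [heiv, h2]) (by
      intro y
      have h1 := hα2 (ei y)
      have h2 : ((ei y : φ.range) : Ω)⁻¹ * ((α (ei y) : φ.range) : Ω) = φ (y⁻¹ * α' y) := by
        rw [map_mul, map_inv, ← hcoe, ← hcoe, heiv]
      rw [h2] at h1
      exact mem_of_hom_mem hT hφ _ h1)
  rw [hr.2] at hin
  obtain ⟨y₀, hy₀⟩ := hin
  have hcomm : (φ y₀)⁻¹ * x ∈ centralizerIn S φ.range := by
    refine mem_centralizerIn.2 ⟨S.mul_mem (S.inv_mem (hrS ⟨y₀, rfl⟩)) hxS, ?_⟩
    rintro _ ⟨w, rfl⟩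
    have h1 : α' w = y₀ * w * y₀⁻¹ := by
      have := congrArg (fun β : MulAut P => β w) hy₀
      exact this.symm
    have h2 := heiv w
    rw [h1] at h2
    have h3 := hαv (ei w)
    rw [← h2] at h3
    rw [hcoe, hcoe] at h3
    rw [map_mul, map_mul, map_inv] at h3
    have h4 : x * φ w = φ y₀ * φ w * (φ y₀)⁻¹ * x := by
      rw [h3]
      group
    have e2 : φ w * ((φ y₀)⁻¹ * x) = (φ y₀)⁻¹ * (φ y₀ * φ w * (φ y₀)⁻¹ * x) := by group
    rw [e2, ← h4]
    group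
  have hle := hP.2 φ.range ⟨φ, hφ, rfl⟩ hcomm
  apply hxnot
  have e3 : x = φ y₀ * ((φ y₀)⁻¹ * x) := by group
  rw [e3]
  exact Subgroup.mul_mem _ ⟨y₀, rfl⟩ hle

end Cfsg.Agent.Lib.Fusion
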