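import Cfsg.Agent.Lib.Fusion.ChainMain
import Cfsg.Agent.Lib.Core.Subnormal
import Cfsg.Agent.Lib.Core.Frattini
import Mathlib

/-! # The local condition from a quadratic element -/

set_option autoImplicit false

namespace Cfsg.Agent.Lib.Fusion

open Cfsg Cfsg.FusionSystem
open scoped commutatorElement

universe u

/-- An element acting quadratically on a normal abelian subgroup, whose `p`-th power centralizes it, centralizes the
`p`-th powers. -/
theorem commute_pow_of_quadratic {G : Type*} [Group G] {p : ℕ} {A : Subgroup G} (hAn : A.Normal)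
    (hAc : ∀ a ∈ A, ∀ b ∈ A, a * b = b * a) {g : G} (hg : ∀ a ∈ A, g ^ p * a = a * g ^ p)
    (hq : ∀ a ∈ A, g * (g * a * g⁻¹ * a⁻¹) = (g * a * g⁻¹ * a⁻¹) * g) {a : G} (ha : a ∈ A) :
    g * a ^ p * g⁻¹ = a ^ p := by
  set c := g * a * g⁻¹ * a⁻¹ with hc
  have hcA : c ∈ A := A.mul_mem (hAn.conj_mem a ha g) (A.inv_mem ha)
  have hgc : Commute g c := hq a ha
  have h1 : g * a = c * a * g := by rw [hc]; group
  have h2 : ∀ i : ℕ, g ^ i * a = c ^ i * a * g ^ i := by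
    intro i
    induction i with
    | zero => simp
    | succ i ih =>
      calc g ^ (i + 1) * a = g * (g ^ i * a) := by rw [pow_succ']; group
        _ = g * (c ^ i * a * g ^ i) := by rw [ih]
        _ = (g * c ^ i) * a * g ^ i := by group
        _ = (c ^ i * g) * a * g ^ i := by rw [(hgc.pow_right i).eq]
        _ = c ^ i * (g * a) * g ^ i := by group
        _ = c ^ i * (c * a * g) * g ^ i := by rw [h1]
        _ = c ^ (i + 1) * a * g ^ (i + 1) := by
          rw [pow_succ c i, pow_succ' g i]; group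
  have h3 : c ^ p = 1 := by
    have h4 := h2 p
    rw [hg a ha] at h4
    have h5 : a * g ^ p = (c ^ p * a) * g ^ p := h4
    have h6 := mul_right_cancel h5
    exact (mul_eq_right.1 h6.symm)
  have hcomm : Commute c a := hAc c hcA a ha
  calc g * a ^ p * g⁻¹ = (g * a * g⁻¹) ^ p := (conj_pow).symm
    _ = (c * a) ^ p := by rw [hc]; congr 1; group
    _ = c ^ p * a ^ p := hcomm.mul_pow p
    _ = a ^ p := by rw [h3, one_mul]

/-- **The local condition for `p`-th powers.** -/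
theorem localCond_of_quadratic {p : ℕ} [Fact p.Prime] {W : ∀ (Q : Type u) [Group Q], Subgroup Q}
    (hW2 : ∀ (Q R : Type u) [Group Q] [Group R] [Finite Q], IsPGroup p Q → ∀ φ : Q ≃* R, (W Q).map φ.toMonoidHom = W R)
    (hq : ∀ (G : Type u) [Group G] [Finite G] (P : Sylow p G), ¬ (((W ↥(P : Subgroup G)).map (P : Subgroup G).subtype : Subgroup G)).Normal → ∃ g : G, g ∈ (P : Subgroup G) ∧ g ∉ Cfsg.pCore p G ∧ ⁅⁅Subgroup.center ↥(Cfsg.pCore p G) |>.map (Cfsg.pCore p G).subtype, Subgroup.zpowers g⁆, Subgroup.zpowers g⁆ = ⊥) :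
    LocalCond p p W := by
  suffices H : ∀ (n : ℕ) (L : Type u) [Group L] [Finite L], Nat.card L ≤ n → ∀ (P : Sylow p L),
      Subgroup.centralizer ((pCore p L : Subgroup L) : Set L) ≤ pCore p L →
      ∀ z ∈ (P : Subgroup L), (∀ t ∈ (P : Subgroup L), t * z = z * t) → (∃ g : L, g * z ^ p * g⁻¹ ≠ z ^ p) →
        ∃ g ∈ Subgroup.normalizer (((W ↥(P : Subgroup L)).map (P : Subgroup L).subtype : Subgroup L) : Set L),
          g * z ^ p * g⁻¹ ≠ z ^ p from fun L _ _ P => H _ L le_rfl P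
  intro n
  induction n with
  | zero =>
    intro L _ _ hn
    have : 0 < Nat.card L := Nat.card_pos
    omega
  | succ n ih =>
    intro L _ _ hn P hCL z hz hzc hgm
    by_cases hWn : (((W ↥(P : Subgroup L)).map (P : Subgroup L).subtype : Subgroup L)).Normal
    · obtain ⟨g, hg⟩ := hgm
      exact ⟨g, by rw [Subgroup.normalizer_eq_top_iff.2 hWn]; trivial, hg⟩
    obtain ⟨g₀, hg₀P, hg₀O, hg₀q⟩ := hq L P hWn
    set O := Cfsg.pCore p L with hO
    have hOn : O.Normal := Lib.Core.pCore_normal p L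
    set A := (Subgroup.center ↥O).map O.subtype with hA
    have hAmem : ∀ {a : L}, a ∈ A ↔ a ∈ O ∧ ∀ y ∈ O, y * a = a * y := by
      intro a
      constructor
      · rintro ⟨b, hb, rfl⟩
        exact ⟨b.2, fun y hy => congrArg Subtype.val (Subgroup.mem_center_iff.1 hb ⟨y, hy⟩)⟩
      · rintro ⟨ha, hc⟩
        exact ⟨⟨a, ha⟩, Subgroup.mem_center_iff.2 fun y => Subtype.ext (hc y y.2), rfl⟩
    have hAO : ∀ a ∈ A, a ∈ O := fun a ha => (hAmem.1 ha).1
    have hAn : A.Normal := by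
      refine ⟨fun a ha g => hAmem.2 ⟨hOn.conj_mem a (hAO a ha) g, fun y hy => ?_⟩⟩
      have h1 := (hAmem.1 ha).2 _ (hOn.conj_mem y hy g⁻¹)
      have h2 : g⁻¹ * y * g⁻¹⁻¹ * a = a * (g⁻¹ * y * g⁻¹⁻¹) := h1
      calc y * (g * a * g⁻¹) = g * (g⁻¹ * y * g⁻¹⁻¹ * a) * g⁻¹ := by group
        _ = g * (a * (g⁻¹ * y * g⁻¹⁻¹)) * g⁻¹ := by rw [h2]
        _ = g * a * g⁻¹ * y := by group
    have hAc : ∀ a ∈ A, ∀ b ∈ A, a * b = b * a := fun a ha b hb => (hAmem.1 hb).2 a (hAO a ha)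
    -- choose the power
    obtain ⟨k₀, hk₀⟩ : ∃ j : ℕ, g₀ ^ (p ^ j) ∈ O := by
      obtain ⟨j, hj⟩ := P.isPGroup' ⟨g₀, hg₀P⟩
      refine ⟨j, ?_⟩
      have : g₀ ^ (p ^ j) = 1 := congrArg Subtype.val hj
      rw [this]
      exact O.one_mem
    classical
    set j := Nat.find (⟨k₀, hk₀⟩ : ∃ j : ℕ, g₀ ^ (p ^ j) ∈ O) with hj
    have hjs : g₀ ^ (p ^ j) ∈ O := Nat.find_spec (⟨k₀, hk₀⟩ : ∃ j : ℕ, g₀ ^ (p ^ j) ∈ O)
    have hj0 : j ≠ 0 := by
      intro h0
      rw [h0] at hjs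
      apply hg₀O
      simpa using hjs
    obtain ⟨i, hi⟩ := Nat.exists_eq_succ_of_ne_zero hj0
    have hmin : g₀ ^ (p ^ i) ∉ O := Nat.find_min (⟨k₀, hk₀⟩ : ∃ j : ℕ, g₀ ^ (p ^ j) ∈ O) (by omega)
    set g₁ := g₀ ^ (p ^ i) with hg₁
    have hg₁p : g₁ ^ p ∈ O := by
      have : g₁ ^ p = g₀ ^ (p ^ j) := by
        rw [hg₁, ← pow_mul, hi, pow_succ]
      rw [this]
      exact hjs
    have hg₁z : g₁ ∈ Subgroup.zpowers g₀ := Subgroup.npow_mem_zpowers g₀ _
    have hg₁P : g₁ ∈ (P : Subgroup L) := Subgroup.pow_mem _ hg₀P _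
    have hpow : ∀ a ∈ A, g₁ * a ^ p * g₁⁻¹ = a ^ p := by
      intro a ha
      refine commute_pow_of_quadratic hAn hAc (fun b hb => (hAmem.1 hb).2 _ hg₁p) (fun b hb => ?_) ha
      have h1 : ⁅b, g₁⁆ ∈ ⁅A, Subgroup.zpowers g₀⁆ := Subgroup.commutator_mem_commutator hb hg₁z
      have h2 : ⁅⁅b, g₁⁆, g₁⁆ ∈ ⁅⁅A, Subgroup.zpowers g₀⁆, Subgroup.zpowers g₀⁆ :=
        Subgroup.commutator_mem_commutator h1 hg₁z
      rw [hg₀q, Subgroup.mem_bot, commutatorElement_eq_one_iff_commute] at h2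
      have h3 : g₁ * ⁅b, g₁⁆ = ⁅b, g₁⁆ * g₁ := h2.eq.symm
      have h4 : g₁ * b * g₁⁻¹ * b⁻¹ = ⁅b, g₁⁆⁻¹ := by
        rw [commutatorElement_def]
        group
      rw [h4]
      calc g₁ * ⁅b, g₁⁆⁻¹ = ⁅b, g₁⁆⁻¹ * (⁅b, g₁⁆ * g₁) * ⁅b, g₁⁆⁻¹ := by group
        _ = ⁅b, g₁⁆⁻¹ * (g₁ * ⁅b, g₁⁆) * ⁅b, g₁⁆⁻¹ := by rw [h3]
        _ = ⁅b, g₁⁆⁻¹ * g₁ := by group
    -- the centralizer of the `p`-th powers
    set X : Set L := (fun a => a ^ p) '' (A : Set L) with hX
    set E := Subgroup.centralizer X with hE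
    have hEn : E.Normal := by
      refine ⟨fun e he g => Subgroup.mem_centralizer_iff.2 ?_⟩
      rintro _ ⟨a, ha, rfl⟩
      have h1 : g⁻¹ * a * g⁻¹⁻¹ ∈ A := hAn.conj_mem a ha g⁻¹
      have h2 : (g⁻¹ * a * g⁻¹⁻¹) ^ p * e = e * (g⁻¹ * a * g⁻¹⁻¹) ^ p := Subgroup.mem_centralizer_iff.1 he _ ⟨_, h1, rfl⟩
      have h3 : (g⁻¹ * a * g⁻¹⁻¹) ^ p = g⁻¹ * a ^ p * g⁻¹⁻¹ := conj_pow
      rw [h3] at h2
      show a ^ p * (g * e * g⁻¹) = (g * e * g⁻¹) * a ^ p
      calc a ^ p * (g * e * g⁻¹) = g * ((g⁻¹ * a ^ p * g⁻¹⁻¹) * e) * g⁻¹ := by group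
        _ = g * (e * (g⁻¹ * a ^ p * g⁻¹⁻¹)) * g⁻¹ := by rw [h2]
        _ = (g * e * g⁻¹) * a ^ p := by group
    have hg₁E : g₁ ∈ E := Subgroup.mem_centralizer_iff.2 (by
      rintro _ ⟨a, ha, rfl⟩
      have h1 := hpow a ha
      show a ^ p * g₁ = g₁ * a ^ p
      calc a ^ p * g₁ = (g₁ * a ^ p * g₁⁻¹) * g₁ := by rw [h1]
        _ = g₁ * a ^ p := by group)
    -- Frattini
    obtain ⟨Q, hQ⟩ := Lib.Core.sylow_inf_normal p E P
    have hFr := Lib.Core.sup_normalizer_of_sylow_le_normal E Q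
    have hQE : ((Q : Subgroup ↥E).map E.subtype : Subgroup L) = (P : Subgroup L) ⊓ E := by
      rw [hQ, Subgroup.subgroupOf_map_subtype]
    rw [hQE] at hFr
    set D := (P : Subgroup L) ⊓ E with hD
    set N := Subgroup.normalizer (D : Set L) with hN
    have hDnn : ¬ D.Normal := by
      intro hDn
      have : D ≤ O := Lib.Core.le_pCore hDn (P.isPGroup'.to_le inf_le_left)
      exact hmin (this ⟨hg₁P, hg₁E⟩)
    have hNtop : N ≠ ⊤ := fun h => hDnn (Subgroup.normalizer_eq_top_iff.1 h)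
    have hNcard : Nat.card N < Nat.card L := by
      by_contra hc
      apply hNtop
      apply Subgroup.eq_top_of_card_eq
      exact le_antisymm (Subgroup.card_le_card_group N) (not_lt.1 hc)
    have hPN : (P : Subgroup L) ≤ N := by
      intro t ht
      refine mem_normalizer_of_forall fun y hy => ?_
      exact ⟨(P : Subgroup L).mul_mem ((P : Subgroup L).mul_mem ht hy.1) ((P : Subgroup L).inv_mem ht), hEn.conj_mem y hy.2 t⟩
    obtain ⟨g, hg⟩ := hgm
    have hgsup : g ∈ E ⊔ N := by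
      rw [hFr]
      trivial
    obtain ⟨e, he, m, hm, rfl⟩ := Subgroup.mem_sup_of_normal_left.1 hgsup
    have hzO : z ∈ O := hCL (Subgroup.mem_centralizer_iff.2 fun y hy => hzc y (Lib.Core.pCore_le_sylow P hy))
    have hzA : z ∈ A := hAmem.2 ⟨hzO, fun y hy => hzc y (Lib.Core.pCore_le_sylow P hy)⟩
    have hem : e * z ^ p * e⁻¹ = z ^ p := by
      have h1 := Subgroup.mem_centralizer_iff.1 he _ ⟨z, hzA, rfl⟩
      have h2 : z ^ p * e = e * z ^ p := h1
      rw [← h2]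
      group
    have hmm : m * z ^ p * m⁻¹ ≠ z ^ p := by
      intro hc
      apply hg
      calc (e * m) * z ^ p * (e * m)⁻¹ = e * (m * z ^ p * m⁻¹) * e⁻¹ := by group
        _ = z ^ p := by rw [hc, hem]
    -- pass to the normalizer
    let P' : Sylow p N := P.subtype hPN
    have hP'c : (P' : Subgroup N) = (P : Subgroup L).subgroupOf N := P.coe_subtype hPN
    have hz' : (⟨z, hPN hz⟩ : N) ∈ (P' : Subgroup N) := by
      rw [hP'c]
      exact Subgroup.mem_subgroupOf.2 hz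
    have hzc' : ∀ t ∈ (P' : Subgroup N), t * (⟨z, hPN hz⟩ : N) = ⟨z, hPN hz⟩ * t := by
      intro t ht
      rw [hP'c] at ht
      exact Subtype.ext (hzc _ (Subgroup.mem_subgroupOf.1 ht))
    have hOP : O ≤ N := (Lib.Core.pCore_le_sylow P).trans hPN
    have hCN : Subgroup.centralizer ((pCore p N : Subgroup N) : Set N) ≤ pCore p N := by
      intro y hy
      have hO' : O.subgroupOf N ≤ pCore p N := by
        haveI : (O.subgroupOf N).Normal := Subgroup.normal_subgroupOf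
        refine Lib.Core.le_pCore ‹_› ?_
        exact (Lib.Core.pCore_isPGroup p L).comap_of_injective N.subtype N.subtype_injective |>.to_le (by
          intro w hw
          exact hw)
      refine hO' (Subgroup.mem_subgroupOf.2 (hCL (Subgroup.mem_centralizer_iff.2 fun w hw => ?_)))
      have := Subgroup.mem_centralizer_iff.1 hy ⟨w, hOP hw⟩ (hO' (Subgroup.mem_subgroupOf.2 hw))
      exact congrArg Subtype.val this
    have hmv : ∃ g' : N, g' * (⟨z, hPN hz⟩ : N) ^ p * g'⁻¹ ≠ (⟨z, hPN hz⟩ : N) ^ p := by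
      refine ⟨⟨m, hm⟩, fun hc => hmm ?_⟩
      exact congrArg Subtype.val hc
    have hcard' : Nat.card N ≤ n := by omega
    obtain ⟨g', hg'N, hg'⟩ := ih N hcard' P' hCN _ hz' hzc' hmv
    -- transport
    let f : ↥(P' : Subgroup N) ≃* ↥(P : Subgroup L) :=
      (MulEquiv.subgroupCongr hP'c).trans (Subgroup.subgroupOfEquivOfLe hPN)
    have hWf := hW2 _ _ (P'.isPGroup') f
    have hV : ((W ↥(P' : Subgroup N)).map (P' : Subgroup N).subtype).map N.subtype =
        (W ↥(P : Subgroup L)).map (P : Subgroup L).subtype := by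
      rw [← hWf, Subgroup.map_map, Subgroup.map_map]
      rfl
    refine ⟨g', ?_, fun hc => hg' (Subtype.ext hc)⟩
    have hfinV : Finite ((W ↥(P : Subgroup L)).map (P : Subgroup L).subtype : Subgroup L) := inferInstance
    refine mem_normalizer_of_forall fun y hy => ?_
    rw [← hV] at hy ⊢
    obtain ⟨v, hv, rfl⟩ := hy
    exact ⟨_, conj_mem_of_mem_normalizer hg'N hv, rfl⟩

end Cfsg.Agent.Lib.Fusion
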