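import Cfsg.Agent.Lib.Fusion.ModelThm
import Cfsg.Agent.Lib.Fusion.ModelUse
import Cfsg.Agent.Lib.Fusion.Chains
import Cfsg.Agent.Lib.Fusion.Join
import Mathlib

/-! # Saturated subsystems over strongly closed subgroups of constrained systems are constrained -/

set_option autoImplicit false
set_option linter.unusedSectionVars false
set_option linter.unusedVariables false

namespace Cfsg.Agent.Lib.Fusion

open Cfsg Cfsg.FusionSystem

universe u

section Group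

variable {G : Type*} [Group G] [Finite G] {p : ℕ} [Fact p.Prime]

/-- The group theoretic heart: a stability argument. -/
theorem mem_pCore_of_stable {V : Subgroup G} (hV : V.Normal) (hVO : V ≤ pCore p G)
    (hC : Subgroup.centralizer ((pCore p G : Subgroup G) : Set G) ≤ pCore p G) {u : G}
    (hu1 : ∀ v ∈ V, u * v * u⁻¹ = v) (hu2 : ∀ x ∈ pCore p G, u * x * u⁻¹ * x⁻¹ ∈ V) : u ∈ pCore p G := by
  classical
  have hp : p.Prime := Fact.out
  have hOn : (pCore p G).Normal := Lib.Core.pCore_normal _ _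
  let K : Subgroup G :=
    { carrier := {g | (∀ v ∈ V, g * v * g⁻¹ = v) ∧ ∀ x ∈ pCore p G, g * x * g⁻¹ * x⁻¹ ∈ V}
      mul_mem' := by
        rintro a b ⟨ha1, ha2⟩ ⟨hb1, hb2⟩
        refine ⟨fun v hv => ?_, fun x hx => ?_⟩
        · have e : a * b * v * (a * b)⁻¹ = a * (b * v * b⁻¹) * a⁻¹ := by group
          rw [e, hb1 v hv, ha1 v hv]
        · have e : a * b * x * (a * b)⁻¹ * x⁻¹ =
              (a * (b * x * b⁻¹ * x⁻¹) * a⁻¹) * (a * x * a⁻¹ * x⁻¹) := by group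
          rw [e, ha1 _ (hb2 x hx)]
          exact V.mul_mem (hb2 x hx) (ha2 x hx)
      one_mem' := by
        refine ⟨fun v _ => by simp, fun x _ => by simp [V.one_mem]⟩
      inv_mem' := by
        rintro a ⟨ha1, ha2⟩
        refine ⟨fun v hv => ?_, fun x hx => ?_⟩
        · have h1 := ha1 v hv
          have e : a⁻¹ * v * a⁻¹⁻¹ = a⁻¹ * (a * v * a⁻¹) * a⁻¹⁻¹ := by rw [h1]
          rw [e]
          group
        · have hy : a⁻¹ * x * a⁻¹⁻¹ ∈ pCore p G := hOn.conj_mem x hx a⁻¹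
          have h1 := ha2 _ hy
          have e : a * (a⁻¹ * x * a⁻¹⁻¹) * a⁻¹ * (a⁻¹ * x * a⁻¹⁻¹)⁻¹ = (a⁻¹ * x * a⁻¹⁻¹ * x⁻¹)⁻¹ := by group
          rw [e] at h1
          exact (V.inv_mem_iff).1 h1 }
  have hKn : K.Normal := by
    refine ⟨fun g hg h => ⟨fun v hv => ?_, fun x hx => ?_⟩⟩
    · have hv' : h⁻¹ * v * h⁻¹⁻¹ ∈ V := hV.conj_mem v hv h⁻¹
      have h1 := hg.1 _ hv'
      have e : h * g * h⁻¹ * v * (h * g * h⁻¹)⁻¹ = h * (g * (h⁻¹ * v * h⁻¹⁻¹) * g⁻¹) * h⁻¹ := by group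
      rw [e, h1]
      group
    · have hx' : h⁻¹ * x * h⁻¹⁻¹ ∈ pCore p G := hOn.conj_mem x hx h⁻¹
      have h1 := hV.conj_mem _ (hg.2 _ hx') h
      have e : h * g * h⁻¹ * x * (h * g * h⁻¹)⁻¹ * x⁻¹ =
          h * (g * (h⁻¹ * x * h⁻¹⁻¹) * g⁻¹ * (h⁻¹ * x * h⁻¹⁻¹)⁻¹) * h⁻¹ := by group
      rw [e]
      exact h1
  have hKp : IsPGroup p K := by
    rw [IsPGroup.iff_orderOf]
    rintro ⟨a, ha⟩
    rw [Subgroup.orderOf_mk]
    obtain ⟨l, m, hm, hlm⟩ := Nat.exists_eq_pow_mul_and_not_dvd (n := orderOf a) (orderOf_pos a).ne' p hp.ne_one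
    have hb : a ^ (p ^ l) ∈ K := K.pow_mem ha _
    set b := a ^ (p ^ l) with hbd
    have hbm : b ^ m = 1 := by
      rw [hbd, ← pow_mul, ← hlm, pow_orderOf_eq_one]
    have hcop : ∀ e, Nat.Coprime m (p ^ e) := fun e =>
      Nat.Coprime.pow_right _ (Nat.Coprime.symm ((Nat.Prime.coprime_iff_not_dvd hp).2 hm))
    have hOp := Lib.Core.pCore_isPGroup p G
    have hbc : b ∈ Subgroup.centralizer ((pCore p G : Subgroup G) : Set G) := by
      rw [Subgroup.mem_centralizer_iff]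
      intro x hx
      have hv := hb.2 x hx
      set v := b * x * b⁻¹ * x⁻¹ with hvd
      have hbx : b * x * b⁻¹ = v * x := by rw [hvd]; group
      have hpow : ∀ j : ℕ, b ^ j * x * (b ^ j)⁻¹ = v ^ j * x := by
        intro j
        induction j with
        | zero => simp
        | succ j ih =>
          have e : b ^ (j + 1) * x * (b ^ (j + 1))⁻¹ = b * (b ^ j * x * (b ^ j)⁻¹) * b⁻¹ := by
            rw [pow_succ']
            group
          have hvj : b * v ^ j * b⁻¹ = v ^ j := hb.1 _ (V.pow_mem hv j)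
          rw [e, ih]
          have e2 : b * (v ^ j * x) * b⁻¹ = (b * v ^ j * b⁻¹) * (b * x * b⁻¹) := by group
          rw [e2, hvj, hbx, pow_succ]
          exact (mul_assoc _ _ _).symm
      have hvm : v ^ m = 1 := by
        have h1 := hpow m
        rw [hbm] at h1
        simpa using h1.symm
      obtain ⟨e, he⟩ := hOp ⟨v, hVO hv⟩
      have hve : v ^ (p ^ e) = 1 := congrArg Subtype.val he
      have hv1 : v = 1 := by
        have h1 := orderOf_dvd_of_pow_eq_one hvm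
        have h2 := orderOf_dvd_of_pow_eq_one hve
        have h3 := Nat.Coprime.eq_one_of_dvd (Nat.Coprime.coprime_dvd_left h1 (hcop e)) h2
        exact orderOf_eq_one_iff.1 h3
      rw [hv1, one_mul] at hbx
      have : x * b = b * x := by
        have h1 : b * x = x * b := by
          calc b * x = (b * x * b⁻¹) * b := by group
            _ = x * b := by rw [hbx]
        exact h1.symm
      exact this
    obtain ⟨e, he⟩ := hOp ⟨b, hC hbc⟩
    have hbe : b ^ (p ^ e) = 1 := congrArg Subtype.val he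
    have hb1 : b = 1 := by
      have h1 := orderOf_dvd_of_pow_eq_one hbm
      have h2 := orderOf_dvd_of_pow_eq_one hbe
      have h3 := Nat.Coprime.eq_one_of_dvd (Nat.Coprime.coprime_dvd_left h1 (hcop e)) h2
      exact orderOf_eq_one_iff.1 h3
    obtain ⟨k, -, hk⟩ := (Nat.dvd_prime_pow hp).1 (orderOf_dvd_of_pow_eq_one (hbd ▸ hb1 : a ^ (p ^ l) = 1))
    exact ⟨k, hk⟩
  exact Lib.Core.le_pCore hKn hKp (⟨hu1, hu2⟩ : u ∈ K)

end Group

variable {Ω : Type u} [Group Ω] {S : Subgroup Ω} {F : FusionSystem S} {p : ℕ} [Fact p.Prime]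

/-- A saturated subsystem over a strongly closed subgroup of a constrained system is constrained. -/
theorem isConstrained_of_subsystem [Finite S] (hS : IsPGroup p S) (hF : F.IsConstrained p) {T : Subgroup Ω}
    {E : FusionSystem T} (hEsat : E.IsSaturated p) (hEF : E.IsSubsystemOf F) (hT : F.StronglyClosed T) :
    E.IsConstrained p := by
  classical
  obtain ⟨hFs, Q₁, hQ₁n, hQ₁c⟩ := hF
  obtain ⟨G, iG, ι, hM⟩ := exists_model hS hFs hQ₁n hQ₁c
  have hOn := IsModel.isNormal_pCore hM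
  set O : Subgroup Ω := preimageAlong ι (pCore p G) with hO
  have hTS := hT.1
  have : Finite T := finite_of_le hTS
  have hT' : IsPGroup p T := hS.to_le hTS
  have hTN : S ≤ Subgroup.normalizer (T : Set Ω) := StronglyClosed.le_normalizer hT
  have hONS : S ≤ Subgroup.normalizer (O : Set Ω) := StronglyClosed.le_normalizer (IsNormal.stronglyClosed hOn)
  set Q₀ : Subgroup Ω := O ⊓ T with hQ₀
  have hQ₀T : Q₀ ≤ T := inf_le_right
  have hQ₀O : Q₀ ≤ O := inf_le_left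
  have hsc : E.StronglyClosed Q₀ := ⟨hQ₀T, fun R hR φ hφ x =>
    ⟨(IsNormal.stronglyClosed hOn).2 R (hR.trans hQ₀O) φ (hEF _ hφ) x, hom_val E hφ x⟩⟩
  have hle : ∀ R : Subgroup Ω, E.IsCentric R → E.IsRadical p R → Q₀ ≤ R := by
    intro R hRc hRr
    have hRT := hRc.1
    have := finite_of_le hRT
    refine le_of_normal_pSubgroup hT' (StronglyClosed.le_normalizer hsc) hQ₀T hRc hRr
      (D := autInducedBy (normalizerIn Q₀ R) R) ?_ ?_ ?_ (fun g hg => conjAut_mem hg _)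
    · exact (autInducedBy_mono ((inf_le_left : normalizerIn Q₀ R ≤ Q₀).trans hQ₀T)).trans
        (autInducedBy_le_autGroup E hRT)
    · exact isPGroup_autInducedBy (hT'.to_le ((inf_le_left : normalizerIn Q₀ R ≤ Q₀).trans hQ₀T)) R
    · intro α hα δ hδ
      obtain ⟨g, hg, hv⟩ := mem_autInducedBy_iff.1 hδ
      have hiso : IsIso E (P := R) (Q := R) α := (mem_autGroup_iff hRT).1 hα
      obtain ⟨ψ, hψ, hψv, hψm⟩ := hOn.2 R _ (hEF _ hiso)
      have hgQ : g ∈ Q₀ := (mem_normalizerIn.1 hg).1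
      have hgN := (mem_normalizerIn.1 hg).2
      have h1 : ψ ⟨g, Subgroup.mem_sup_right (hQ₀O hgQ)⟩ ∈ O := map_eq_mem hψm _ (hQ₀O hgQ)
      have h1T : ψ ⟨g, Subgroup.mem_sup_right (hQ₀O hgQ)⟩ ∈ T := by
        have hle2 : T ⊓ (R ⊔ O) ≤ R ⊔ O := inf_le_right
        exact hT.2 (T ⊓ (R ⊔ O)) inf_le_left _ (res_mem F hψ hle2)
          ⟨g, hQ₀T hgQ, Subgroup.mem_sup_right (hQ₀O hgQ)⟩
      have hact : ∀ y : R, (((α * δ * α⁻¹) y : R) : Ω) =
          ψ ⟨g, Subgroup.mem_sup_right (hQ₀O hgQ)⟩ * (y : Ω) * (ψ ⟨g, Subgroup.mem_sup_right (hQ₀O hgQ)⟩)⁻¹ := by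
        intro y
        obtain ⟨x, rfl⟩ := α.surjective y
        have h2 : ∀ z : R, ψ ⟨z, Subgroup.mem_sup_left z.2⟩ = (α z : Ω) := hψv
        rw [MulAut.mul_apply, MulAut.mul_apply]
        have h3 : (α⁻¹ (α x)) = x := by simp
        rw [h3, ← h2 (δ x), ← h2 x, ← map_inv, ← map_mul, ← map_mul]
        congr 1
        exact Subtype.ext (hv x)
      have hN' := mem_normalizer_of_conj hact
      exact mem_autInducedBy_iff.2 ⟨_, mem_normalizerIn.2 ⟨⟨h1, h1T⟩, hN'⟩, hact⟩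
  have hQ₀n : E.IsNormal Q₀ := (isNormal_iff_stronglyClosed hT' hEsat).2 ⟨hsc, hle⟩
  -- the centralizer
  have hC : centralizerIn T Q₀ ≤ Q₀ := by
    intro c hc
    obtain ⟨hcT, hcc⟩ := mem_centralizerIn.1 hc
    have hcS := hTS hcT
    obtain ⟨hfin, hreal, ⟨Syl, hSyl⟩, hCG⟩ := id hM
    have hOle : pCore p G ≤ ι.range := hSyl ▸ Lib.Core.pCore_le_sylow Syl
    set V : Subgroup G := (Q₀.subgroupOf S).map ι with hVd
    have hmemV : ∀ (s : Ω) (hs : s ∈ S), s ∈ Q₀ → ι ⟨s, hs⟩ ∈ V := fun s hs h =>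
      ⟨⟨s, hs⟩, Subgroup.mem_subgroupOf.2 h, rfl⟩
    have hVO : V ≤ pCore p G := by
      rintro _ ⟨s, hs, rfl⟩
      exact (mem_preimageAlong.1 (hQ₀O (Subgroup.mem_subgroupOf.1 hs))).2
    have hVn : V.Normal := by
      refine ⟨?_⟩
      rintro _ ⟨s, hs, rfl⟩ g
      have hsQ : (s : Ω) ∈ Q₀ := Subgroup.mem_subgroupOf.1 hs
      have h1 : g * ι s * g⁻¹ ∈ pCore p G :=
        (Lib.Core.pCore_normal _ _).conj_mem _ (hVO ⟨s, hs, rfl⟩) g
      obtain ⟨s', hs'⟩ := hOle h1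
      have hzS : Subgroup.zpowers (s : Ω) ≤ S := (Subgroup.zpowers_le).2 s.2
      have hzT : Subgroup.zpowers (s : Ω) ≤ T := (Subgroup.zpowers_le).2 (hQ₀T hsQ)
      obtain ⟨φ, hφ, hφv⟩ := IsRealizedBy.exists_hom hreal hzS g (fun x => by
        obtain ⟨k, hk⟩ := x.2
        have hx : (⟨(x : Ω), hzS x.2⟩ : S) = s ^ k := Subtype.ext (by simp [← hk])
        rw [hx, map_zpow]
        have : g * ι s ^ k * g⁻¹ = (g * ι s * g⁻¹) ^ k := by simp [conj_zpow]
        rw [this]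
        exact Subgroup.zpow_mem _ (hOle.trans le_rfl h1 |> fun h => h) k)
      obtain ⟨hφS, hφe⟩ := hφv ⟨s, Subgroup.mem_zpowers _⟩
      have h2 : φ ⟨s, Subgroup.mem_zpowers _⟩ ∈ T := hT.2 _ hzT φ hφ _
      have h3 : φ ⟨s, Subgroup.mem_zpowers _⟩ ∈ O := by
        refine mem_preimageAlong.2 ⟨hφS, ?_⟩
        rw [hφe]
        exact h1
      have h4 := hmemV _ hφS ⟨h3, h2⟩
      rw [hφe] at h4
      exact h4
    have hmem := mem_pCore_of_stable hVn hVO hCG (u := ι ⟨c, hcS⟩) ?_ ?_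
    · exact ⟨mem_preimageAlong.2 ⟨hcS, hmem⟩, hcT⟩
    · rintro _ ⟨s, hs, rfl⟩
      have hsQ : (s : Ω) ∈ Q₀ := Subgroup.mem_subgroupOf.1 hs
      have h1 := hcc _ hsQ
      have h2 : (⟨c, hcS⟩ : S) * s = s * ⟨c, hcS⟩ := Subtype.ext h1.symm
      rw [← map_mul, h2, map_mul]
      group
    · intro x hx
      obtain ⟨s, rfl⟩ := hOle hx
      have hsO : (s : Ω) ∈ O := mem_preimageAlong.2 ⟨s.2, hx⟩
      have e : ι ⟨c, hcS⟩ * ι s * (ι ⟨c, hcS⟩)⁻¹ * (ι s)⁻¹ = ι (⟨c, hcS⟩ * s * (⟨c, hcS⟩)⁻¹ * s⁻¹) := by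
        simp
      rw [e]
      have hmem1 : c * (s : Ω) * c⁻¹ * (s : Ω)⁻¹ ∈ Q₀ := by
        refine ⟨O.mul_mem (conj_mem_of_mem_normalizer (hONS hcS) hsO) (O.inv_mem hsO), ?_⟩
        have h1 : (s : Ω) * c⁻¹ * (s : Ω)⁻¹ ∈ T := conj_mem_of_mem_normalizer (hTN s.2) (T.inv_mem hcT)
        have e2 : c * (s : Ω) * c⁻¹ * (s : Ω)⁻¹ = c * ((s : Ω) * c⁻¹ * (s : Ω)⁻¹) := by group
        rw [e2]
        exact T.mul_mem hcT h1
      exact hmemV _ (S.mul_mem (S.mul_mem (S.mul_mem hcS s.2) (S.inv_mem hcS)) (S.inv_mem s.2)) hmem1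
  refine ⟨hEsat, Q₀, hQ₀n, hQ₀T, fun Q' hQ' => ?_⟩
  obtain ⟨φ, hφ, rfl⟩ := hQ'
  rw [(StronglyClosed.weaklyClosed hsc).2 φ hφ]
  exact hC

/-- Subnormal subsystems of constrained systems are constrained. -/
theorem isConstrained_of_subnormal {T : Subgroup Ω} {E : FusionSystem T} {S : Subgroup Ω} {F : FusionSystem S}
    {p : ℕ} (hE : E.IsSubnormalIn F p) : ∀ [Fact p.Prime] [Finite S], IsPGroup p S → F.IsConstrained p →
    E.IsConstrained p := by
  induction hE with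
  | refl F p =>
    intro _ _ _ hF
    exact hF
  | step h1 h2 ih =>
    intro _ _ hS hF
    have hnorm := h2
    obtain ⟨⟨hDsat, -, hDF, hsc, -, -⟩, -⟩ := h2
    have := finite_of_le hsc.1
    exact ih (hS.to_le hsc.1) (isConstrained_of_subsystem hS hF hDsat hDF hsc)

end Cfsg.Agent.Lib.Fusion
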