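/-
A commuting criterion excluding essential subgroups.
-/
import Cfsg.Agent.Lib.Fusion.Embedded
import Cfsg.Agent.Lib.Fusion.Essential
import Cfsg.Agent.Lib.Fusion.Radical
import Mathlib

set_option autoImplicit false

namespace Cfsg.Agent.Lib.Fusion.EssCommuting

open Cfsg Cfsg.FusionSystem Cfsg.Agent.Lib.Fusion

/-- In a group with a strongly `p`-embedded subgroup, there is always an element `α` such that no two nontrivial
elements of a Sylow subgroup `T` commute after twisting by `α`. -/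
theorem false_of_commuting {X : Type*} [Group X] [Finite X] {p : ℕ} [Fact p.Prime] (T : Sylow p X) {Y : Subgroup X}
    (hY : IsStronglyPEmbedded p Y)
    (h : ∀ α : X, ∃ τ₁ ∈ (T : Subgroup X), ∃ τ' ∈ (T : Subgroup X), τ₁ ≠ 1 ∧ τ' ≠ 1 ∧
      τ₁ * (α * τ' * α⁻¹) = (α * τ' * α⁻¹) * τ₁) : False := by
  obtain ⟨hd, hne, P, hP⟩ := hY
  obtain ⟨g, hg⟩ := MulAction.exists_smul_eq X T P
  have hconj : ∀ t ∈ (T : Subgroup X), g * t * g⁻¹ ∈ (P : Subgroup X) := by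
    intro t ht
    rw [← hg, Sylow.coe_subgroup_smul]
    exact ⟨t, ht, by simp [MulAut.conj_apply]⟩
  have hPne : (P : Subgroup X) ≠ ⊥ := P.ne_bot_of_dvd_card hd
  have hPY : (P : Subgroup X) ≤ Y := Subgroup.le_normalizer.trans
    ((Cfsg.Agent.Lib.Cl.normalizer_le_kGeneratedCore_one le_rfl P.isPGroup' hPne).trans hP)
  have hall : ∀ α : X, α ∈ Y := by
    intro α
    obtain ⟨τ₁₀, hτ₁₀, τ₀, hτ₀, hne1, hne2, hc⟩ := h (g⁻¹ * α * g)
    set τ₁ := g * τ₁₀ * g⁻¹ with hτ₁d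
    set τ' := g * τ₀ * g⁻¹ with hτ'd
    have hτ₁ : τ₁ ∈ (P : Subgroup X) := hconj _ hτ₁₀
    have hτ' : τ' ∈ (P : Subgroup X) := hconj _ hτ₀
    have hτ₁1 : τ₁ ≠ 1 := fun h1 => hne1 (by
      have e : τ₁₀ = g⁻¹ * τ₁ * g := by rw [hτ₁d]; group
      rw [e, h1]
      group)
    have hτ'1 : τ' ≠ 1 := fun h1 => hne2 (by
      have e : τ₀ = g⁻¹ * τ' * g := by rw [hτ'd]; group
      rw [e, h1]
      group)
    set τ₂ := α * τ' * α⁻¹ with hτ₂d
    have hcomm : τ₁ * τ₂ = τ₂ * τ₁ := by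
      have e1 : τ₁ * τ₂ = g * (τ₁₀ * (g⁻¹ * α * g * τ₀ * (g⁻¹ * α * g)⁻¹)) * g⁻¹ := by
        rw [hτ₁d, hτ₂d, hτ'd]; group
      have e2 : τ₂ * τ₁ = g * ((g⁻¹ * α * g * τ₀ * (g⁻¹ * α * g)⁻¹) * τ₁₀) * g⁻¹ := by
        rw [hτ₁d, hτ₂d, hτ'd]; group
      rw [e1, e2, hc]
    -- the twisted element lies in `Y`
    have hR1 : Subgroup.zpowers τ₁ ≤ (P : Subgroup X) := (Subgroup.zpowers_le).2 hτ₁
    have hR1ne : Subgroup.zpowers τ₁ ≠ ⊥ := by
      rw [Ne, Subgroup.zpowers_eq_bot]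
      exact hτ₁1
    have hτ₂Y : τ₂ ∈ Y := by
      refine mem_of_conj_le P hP _ hR1 hR1ne τ₂ fun r hr => ?_
      obtain ⟨k, rfl⟩ := Subgroup.mem_zpowers_iff.1 hr
      have hc' : Commute τ₂ τ₁ := hcomm.symm
      have e : τ₂ * τ₁ ^ k * τ₂⁻¹ = τ₁ ^ k := by
        rw [(hc'.zpow_right k).eq]
        group
      rw [e]
      exact Subgroup.zpow_mem _ hτ₁ k
    -- conjugate it into `P`
    have hQY : Subgroup.zpowers τ₂ ≤ Y := (Subgroup.zpowers_le).2 hτ₂Y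
    have hQp : IsPGroup p (Subgroup.zpowers τ₂) := by
      obtain ⟨k, hk⟩ := P.isPGroup' ⟨τ', hτ'⟩
      have h1 : τ' ^ p ^ k = 1 := congrArg Subtype.val hk
      have h2 : τ₂ ^ p ^ k = 1 := by
        rw [hτ₂d, conj_pow, h1]
        group
      exact isPGroup_zpowers h2
    obtain ⟨m, hm, hmq⟩ := Cfsg.Agent.Lib.Cl.exists_conj_le_sylow_of_le hPY hQY hQp
    have hR2 : Subgroup.zpowers τ' ≤ (P : Subgroup X) := (Subgroup.zpowers_le).2 hτ'
    have hR2ne : Subgroup.zpowers τ' ≠ ⊥ := by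
      rw [Ne, Subgroup.zpowers_eq_bot]
      exact hτ'1
    have hmα : m * α ∈ Y := by
      refine mem_of_conj_le P hP _ hR2 hR2ne (m * α) fun r hr => ?_
      obtain ⟨k, rfl⟩ := Subgroup.mem_zpowers_iff.1 hr
      have h3 := hmq (τ₂ ^ k) (Subgroup.zpow_mem_zpowers _ _)
      have e2 : τ₂ ^ k = α * τ' ^ k * α⁻¹ := conj_zpow
      have e : m * α * τ' ^ k * (m * α)⁻¹ = m * τ₂ ^ k * m⁻¹ := by
        rw [e2]
        generalize τ' ^ k = c
        group
      rw [e]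
      exact h3
    have h4 := Y.mul_mem (Y.inv_mem hm) hmα
    simpa using h4
  exact hne (eq_top_iff.2 fun x _ => hall x)

variable {Ω : Type*} [Group Ω] {S : Subgroup Ω} {F : FusionSystem S} {p : ℕ} [Fact p.Prime]

/-- **A commuting criterion**: an essential subgroup `E` always has an automorphism `a` for which no two elements
of `N_S(E) ∖ E` induce automorphisms commuting modulo `Inn(E)` after twisting one of them by `a`. -/
theorem false_of_commuting_conj [Finite S] (hS : IsPGroup p S) (hF : F.IsSaturated p) {E : Subgroup Ω}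
    (he : F.IsEssential p E)
    (h : ∀ a ∈ F.autGroup E, ∃ t ∈ S, ∃ ht : t ∈ Subgroup.normalizer (E : Set Ω), t ∉ E ∧
      ∃ t' ∈ S, ∃ ht' : t' ∈ Subgroup.normalizer (E : Set Ω), t' ∉ E ∧
        (conjAut E t ht * (a * conjAut E t' ht' * a⁻¹)) * ((a * conjAut E t' ht' * a⁻¹) * conjAut E t ht)⁻¹ ∈ Inn E) :
    False := by
  have hES := he.1.1
  have := finite_of_le hES
  have := finite_autGroup F hES
  have hc : centralizerIn S E ≤ E := he.1.2 E (IsConj.refl (F := F) hES)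
  have hfa := IsSat.fullyAutomized_of_fullyNormalized hS hF he.2.1
  obtain ⟨-, -, hN, Y, hY⟩ := he
  haveI := hN
  set A := F.autGroup E with hA
  set N := (Inn E).subgroupOf A with hNd
  obtain ⟨U, hU⟩ := hfa.2
  have hUmem : ∀ a : A, a ∈ (U : Subgroup A) ↔ (a : MulAut E) ∈ autInducedBy S E := by
    intro a
    rw [hU, Subgroup.mem_subgroupOf]
  refine false_of_commuting (sylowQuot N U) hY fun α => ?_
  obtain ⟨a, rfl⟩ := QuotientGroup.mk'_surjective N α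
  obtain ⟨t, htS, ht, htE, t', ht'S, ht', ht'E, hcomm⟩ := h a a.2
  have hτ : conjAut E t ht ∈ A := autInducedBy_le_autGroup F hES (conjAut_mem htS ht)
  have hτ' : conjAut E t' ht' ∈ A := autInducedBy_le_autGroup F hES (conjAut_mem ht'S ht')
  refine ⟨QuotientGroup.mk' N ⟨_, hτ⟩, ?_, QuotientGroup.mk' N ⟨_, hτ'⟩, ?_, ?_, ?_, ?_⟩
  · rw [sylowQuot_coe]
    exact ⟨_, (hUmem _).2 (conjAut_mem htS ht), rfl⟩
  · rw [sylowQuot_coe]
    exact ⟨_, (hUmem _).2 (conjAut_mem ht'S ht'), rfl⟩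
  · intro h1
    have h2 : (⟨_, hτ⟩ : A) ∈ N := (QuotientGroup.eq_one_iff _).1 h1
    exact conjAut_not_mem_inn hc htS ht htE hES (Subgroup.mem_subgroupOf.1 h2)
  · intro h1
    have h2 : (⟨_, hτ'⟩ : A) ∈ N := (QuotientGroup.eq_one_iff _).1 h1
    exact conjAut_not_mem_inn hc ht'S ht' ht'E hES (Subgroup.mem_subgroupOf.1 h2)
  · rw [← map_inv, ← map_mul, ← map_mul, ← map_mul, ← map_mul, ← mul_inv_eq_one, ← map_inv, ← map_mul]
    refine (QuotientGroup.eq_one_iff _).2 (Subgroup.mem_subgroupOf.2 ?_)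
    exact hcomm

end Cfsg.Agent.Lib.Fusion.EssCommuting
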