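import Cfsg.Agent.Lib.Amalgam.ResOf
import Cfsg.Agent.Lib.PGroup.ClassTwo
import Cfsg.Agent.Lib.Transfer.Frat
import Cfsg.Agent.Lib.Classical.BinAlg
import Cfsg.Agent.Lib.PGroup.Heisenberg
import Mathlib

/-!
# Decomposition of groups of class two with an elementary abelian centralizer
-/

set_option autoImplicit false

namespace Cfsg.Agent.Lib.Fusion

open Cfsg
open scoped commutatorElement

universe u

section ClassTwo

variable {T : Type u} [Group T] {Z : Subgroup T}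

theorem comm_mul_left' (hZz : ∀ z ∈ Z, ∀ g : T, g * z = z * g) (hC : ∀ a b : T, ⁅a, b⁆ ∈ Z) (a b c : T) :
    ⁅a * b, c⁆ = ⁅a, c⁆ * ⁅b, c⁆ := by
  have hw : b * c * b⁻¹ = ⁅b, c⁆ * c := by simp [commutatorElement_def]
  have h1 := hZz _ (hC b c) a
  have h2 := hZz _ (hC b c) ⁅a, c⁆
  calc ⁅a * b, c⁆ = a * (b * c * b⁻¹) * a⁻¹ * c⁻¹ := by simp [commutatorElement_def, mul_assoc]
    _ = a * ⁅b, c⁆ * c * a⁻¹ * c⁻¹ := by rw [hw]; simp [mul_assoc]
    _ = ⁅b, c⁆ * (a * c * a⁻¹ * c⁻¹) := by rw [h1]; simp [mul_assoc]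
    _ = ⁅a, c⁆ * ⁅b, c⁆ := by rw [h2]; simp [commutatorElement_def, mul_assoc]

theorem comm_pow_left' (hZz : ∀ z ∈ Z, ∀ g : T, g * z = z * g) (hC : ∀ a b : T, ⁅a, b⁆ ∈ Z) (a c : T) (k : ℕ) :
    ⁅a ^ k, c⁆ = ⁅a, c⁆ ^ k := by
  induction k with
  | zero => simp
  | succ k ih => rw [pow_succ, comm_mul_left' hZz hC, ih, pow_succ]

theorem comm_symm' (a b : T) : ⁅a, b⁆ = ⁅b, a⁆⁻¹ := by
  simp [commutatorElement_def, mul_assoc]

/-- Commuting a product with a commutator. -/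
theorem swap_mul (hC : ∀ a b : T, ⁅a, b⁆ ∈ Z) (a b : T) : ∃ z ∈ Z, a * b = b * a * z := by
  refine ⟨⁅a⁻¹, b⁻¹⁆, hC _ _, ?_⟩
  simp [commutatorElement_def, mul_assoc]

variable {p : ℕ} [Fact p.Prime]

/-- The normal form in the subgroup generated by two elements. -/
theorem closure_form [Finite T] (hZz : ∀ z ∈ Z, ∀ g : T, g * z = z * g) (hC : ∀ a b : T, ⁅a, b⁆ ∈ Z) (x y : T) :
    ∀ e ∈ Subgroup.closure {x, y}, ∃ (k j : ℕ), ∃ z ∈ Z, e = x ^ k * y ^ j * z := by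
  have hmul : ∀ a b : T, (∃ (k j : ℕ), ∃ z ∈ Z, a = x ^ k * y ^ j * z) → (∃ (k j : ℕ), ∃ z ∈ Z, b = x ^ k * y ^ j * z) →
      ∃ (k j : ℕ), ∃ z ∈ Z, a * b = x ^ k * y ^ j * z := by
    rintro a b ⟨k, j, z, hz, rfl⟩ ⟨k', j', z', hz', rfl⟩
    obtain ⟨w, hw, hwe⟩ := swap_mul hC (y ^ j) (x ^ k')
    refine ⟨k + k', j + j', w * (z * z'), Z.mul_mem hw (Z.mul_mem hz hz'), ?_⟩
    have h1 : z * (x ^ k' * y ^ j' * z') = x ^ k' * y ^ j' * (z * z') := by
      rw [← mul_assoc, ← hZz z hz _, mul_assoc]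
    calc x ^ k * y ^ j * z * (x ^ k' * y ^ j' * z') = x ^ k * y ^ j * (z * (x ^ k' * y ^ j' * z')) := by simp only [mul_assoc]
      _ = x ^ k * (y ^ j * x ^ k') * y ^ j' * (z * z') := by rw [h1]; simp only [mul_assoc]
      _ = x ^ k * (x ^ k' * y ^ j * w) * y ^ j' * (z * z') := by rw [hwe]
      _ = x ^ k * x ^ k' * y ^ j * (w * y ^ j') * (z * z') := by simp only [mul_assoc]
      _ = x ^ k * x ^ k' * y ^ j * (y ^ j' * w) * (z * z') := by rw [(hZz w hw _)]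
      _ = x ^ (k + k') * y ^ (j + j') * (w * (z * z')) := by rw [pow_add, pow_add]; simp only [mul_assoc]
  intro e he
  induction he using Subgroup.closure_induction with
  | mem e he =>
    rcases he with rfl | he
    · exact ⟨1, 0, 1, Z.one_mem, by simp⟩
    · rw [Set.mem_singleton_iff] at he
      subst he
      exact ⟨0, 1, 1, Z.one_mem, by simp⟩
  | one => exact ⟨0, 0, 1, Z.one_mem, by simp⟩
  | mul a b _ _ ha hb => exact hmul a b ha hb
  | inv a _ ha =>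
    have hpow : ∀ n : ℕ, ∃ (k j : ℕ), ∃ z ∈ Z, a ^ n = x ^ k * y ^ j * z := by
      intro n
      induction n with
      | zero => exact ⟨0, 0, 1, Z.one_mem, by simp⟩
      | succ n ih =>
        rw [pow_succ]
        exact hmul _ _ ih ha
    have hinv : a⁻¹ = a ^ (orderOf a - 1) := by
      have hpos := orderOf_pos a
      apply inv_eq_of_mul_eq_one_right
      rw [← pow_succ', Nat.sub_add_cancel hpos, pow_orderOf_eq_one]
    rw [hinv]
    exact hpow _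

variable [Finite T]

/-- A subgroup of a central elementary abelian subgroup has a complement. -/
theorem exists_complement_central {D Z₀ : Subgroup T} (hZD : Z₀ ≤ D) (hDc : ∀ a ∈ D, ∀ g : T, a * g = g * a)
    (hDp : ∀ a ∈ D, a ^ p = 1) : ∃ A ≤ D, A ⊓ Z₀ = ⊥ ∧ ∀ d ∈ D, ∃ a ∈ A, ∃ z ∈ Z₀, d = a * z := by
  classical
  have hne : ∃ A : Subgroup T, A ≤ D ∧ A ⊓ Z₀ = ⊥ := ⟨⊥, bot_le, bot_inf_eq _⟩
  obtain ⟨A, hA⟩ := (Set.toFinite {A : Subgroup T | A ≤ D ∧ A ⊓ Z₀ = ⊥}).exists_maximal hne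
  obtain ⟨hAD, hAZ⟩ := hA.1
  refine ⟨A, hAD, hAZ, fun d hd => ?_⟩
  by_contra hcon
  push_neg at hcon
  let A' : Subgroup T := A ⊔ Subgroup.zpowers d
  have hsup : ∀ u ∈ A', ∃ a ∈ A, ∃ k : ℕ, u = a * d ^ k := by
    intro u hu
    have hdn : (Subgroup.zpowers d).Normal := ⟨fun c hc g => by
      have := hDc d hd
      obtain ⟨k, rfl⟩ := Subgroup.mem_zpowers_iff.1 hc
      have hcomm : Commute d g := hDc d hd g
      have : g * d ^ k * g⁻¹ = d ^ k := by
        rw [((hcomm.zpow_left k).symm).eq]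
        simp
      rw [this]
      exact ⟨k, rfl⟩⟩
    have hu' : u ∈ ((A ⊔ Subgroup.zpowers d : Subgroup T) : Set T) := hu
    rw [Subgroup.mul_normal] at hu'
    obtain ⟨a, ha, c, hc, rfl⟩ := Set.mem_mul.1 hu'
    obtain ⟨k, hk⟩ := (mem_powers_iff_mem_zpowers.2 hc)
    exact ⟨a, ha, k, by rw [← hk]⟩
  have hA'D : A' ≤ D := sup_le hAD ((Subgroup.zpowers_le).2 hd)
  have hA'Z : A' ⊓ Z₀ = ⊥ := by
    rw [eq_bot_iff]
    rintro u ⟨hu, huZ⟩
    obtain ⟨a, ha, k, rfl⟩ := hsup u hu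
    by_cases hpk : p ∣ k
    · obtain ⟨m, rfl⟩ := hpk
      rw [pow_mul, hDp d hd, one_pow, mul_one] at huZ ⊢
      have : a ∈ A ⊓ Z₀ := ⟨ha, huZ⟩
      rwa [hAZ] at this
    · exfalso
      have hco : Nat.Coprime k p := ((Nat.Prime.coprime_iff_not_dvd Fact.out).2 hpk).symm
      obtain ⟨m, -, hm⟩ := Nat.exists_mul_mod_eq_one_of_coprime hco (Fact.out : p.Prime).one_lt
      have hdm : (d ^ k) ^ m = d := by
        rw [← pow_mul, pow_eq_pow_mod _ (hDp d hd), hm, pow_one]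
      have hdk : d ^ k = a⁻¹ * (a * d ^ k) := by group
      have hcomm : Commute a⁻¹ (a * d ^ k) := hDc _ (D.inv_mem (hAD ha)) _
      apply hcon (a⁻¹ ^ m) (A.pow_mem (A.inv_mem ha) m) ((a * d ^ k) ^ m) (Z₀.pow_mem huZ m)
      rw [← hcomm.mul_pow, ← hdk, hdm]
  have hle : A ≤ A' := le_sup_left
  have := hA.2 ⟨hA'D, hA'Z⟩ hle
  have hdA : d ∈ A := this (Subgroup.mem_sup_right (Subgroup.mem_zpowers d))
  exact hcon d hdA 1 Z₀.one_mem (by simp)

theorem comm_inv_left' (hZz : ∀ z ∈ Z, ∀ g : T, g * z = z * g) (hC : ∀ a b : T, ⁅a, b⁆ ∈ Z) (a c : T) :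
    ⁅a⁻¹, c⁆ = ⁅a, c⁆⁻¹ := by
  have h := comm_mul_left' hZz hC a a⁻¹ c
  rw [mul_inv_cancel] at h
  have h1 : ⁅(1 : T), c⁆ = 1 := by simp [commutatorElement_def]
  rw [h1] at h
  exact eq_inv_of_mul_eq_one_right h.symm

section Gens

variable (hZc : Nat.card Z = p) (hZz : ∀ z ∈ Z, ∀ g : T, g * z = z * g) (hC : ∀ a b : T, ⁅a, b⁆ ∈ Z)
include hZc hZz hC

/-- `Z` is generated by any nontrivial commutator. -/
theorem mem_pow_of_comm {c d : T} (hcd : ⁅c, d⁆ ≠ 1) : ∀ z ∈ Z, ∃ k : ℕ, z = ⁅c, d⁆ ^ k := by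
  intro z hz
  have hpp : p.Prime := Fact.out
  have hr : ⁅c, d⁆ ∈ Z := hC c d
  have hrp : ⁅c, d⁆ ^ p = 1 := by
    have : (⟨⁅c, d⁆, hr⟩ : Z) ^ Nat.card Z = 1 := pow_card_eq_one'
    rw [hZc] at this
    exact congrArg Subtype.val this
  have hord : orderOf ⁅c, d⁆ = p := orderOf_eq_prime hrp hcd
  have hzeq : Subgroup.zpowers ⁅c, d⁆ = Z := by
    apply Subgroup.eq_of_le_of_card_ge
    · rw [Subgroup.zpowers_le]
      exact hr
    · rw [Nat.card_zpowers, hord, hZc]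
  rw [← hzeq] at hz
  obtain ⟨k, hk⟩ := mem_powers_iff_mem_zpowers.2 hz
  exact ⟨k, hk.symm⟩

theorem comm_pow_eq_one_iff {c d : T} (hcd : ⁅c, d⁆ ≠ 1) (k : ℕ) : ⁅c, d⁆ ^ k = 1 ↔ p ∣ k := by
  have hr : ⁅c, d⁆ ∈ Z := hC c d
  have hrp : ⁅c, d⁆ ^ p = 1 := by
    have : (⟨⁅c, d⁆, hr⟩ : Z) ^ Nat.card Z = 1 := pow_card_eq_one'
    rw [hZc] at this
    exact congrArg Subtype.val this
  have hord : orderOf ⁅c, d⁆ = p := orderOf_eq_prime hrp hcd
  rw [← hord]
  exact orderOf_dvd_iff_pow_eq_one.symm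

/-- Killing the commutator with `d` by a power of `c`. -/
theorem exists_comm_eq_one {c d : T} (hcd : ⁅c, d⁆ ≠ 1) (g : T) : ∃ k : ℕ, ⁅g * (c ^ k)⁻¹, d⁆ = 1 := by
  obtain ⟨k, hk⟩ := mem_pow_of_comm hZc hZz hC hcd _ (hC g d)
  refine ⟨k, ?_⟩
  rw [comm_mul_left' hZz hC, comm_inv_left' hZz hC, comm_pow_left' hZz hC, hk]
  simp

end Gens

/-- The decomposition. -/
theorem exists_decomp (hZc : Nat.card Z = p) (hZz : ∀ z ∈ Z, ∀ g : T, g * z = z * g) (hC : ∀ a b : T, ⁅a, b⁆ ∈ Z)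
    {x y : T} (hx : x ^ p = 1) (hy : y ^ p = 1) (hxy : ⁅x, y⁆ ≠ 1)
    (hB : ∀ a b : T, ⁅a, y⁆ = 1 → ⁅b, y⁆ = 1 → a * b = b * a) (hBp : ∀ a : T, ⁅a, y⁆ = 1 → a ^ p = 1) :
    ∃ A : Subgroup T, (∀ a ∈ A, a ^ p = 1) ∧ (∀ a ∈ A, ∀ g : T, a * g = g * a) ∧
      Nonempty (T ≃* ↥(Subgroup.closure {x, y}) × ↥A) := by
  classical
  have hpp : p.Prime := Fact.out
  have hyx : ⁅y, x⁆ ≠ 1 := by
    intro h
    apply hxy
    rw [comm_symm' x y, h, inv_one]
  let D : Subgroup T := Subgroup.centralizer {x, y}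
  have hDx : ∀ a ∈ D, a * x = x * a := fun a ha => (Subgroup.mem_centralizer_iff.1 ha x (by simp)).symm
  have hDy : ∀ a ∈ D, a * y = y * a := fun a ha => (Subgroup.mem_centralizer_iff.1 ha y (by simp)).symm
  have hDm : ∀ a, a * x = x * a → a * y = y * a → a ∈ D := by
    intro a h1 h2
    refine Subgroup.mem_centralizer_iff.2 fun g hg => ?_
    rcases hg with rfl | hg
    · exact h1.symm
    · rw [Set.mem_singleton_iff] at hg
      subst hg
      exact h2.symm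
  have hcommy : ∀ a, ⁅a, y⁆ = 1 ↔ a * y = y * a := fun a => commutatorElement_eq_one_iff_mul_comm
  have hcommx : ∀ a, ⁅a, x⁆ = 1 ↔ a * x = x * a := fun a => commutatorElement_eq_one_iff_mul_comm
  -- normal form of elements
  have hgen : ∀ g : T, ∃ (k j : ℕ), ∃ u ∈ D, g = u * y ^ j * x ^ k := by
    intro g
    obtain ⟨k, hk⟩ := exists_comm_eq_one hZc hZz hC hxy g
    obtain ⟨j, hj⟩ := exists_comm_eq_one hZc hZz hC hyx (g * (x ^ k)⁻¹)
    refine ⟨k, j, g * (x ^ k)⁻¹ * (y ^ j)⁻¹, ?_, by group⟩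
    refine hDm _ ((hcommx _).1 hj) ((hcommy _).1 ?_)
    rw [comm_mul_left' hZz hC, comm_inv_left' hZz hC, comm_pow_left' hZz hC, hk]
    simp [commutatorElement_def]
  have hDc : ∀ a ∈ D, ∀ g : T, a * g = g * a := by
    intro a ha g
    obtain ⟨k, j, u, hu, rfl⟩ := hgen g
    have h1 : a * u = u * a := hB a u ((hcommy _).2 (hDy a ha)) ((hcommy _).2 (hDy u hu))
    have h2 : Commute a (y ^ j) := (show Commute a y from hDy a ha).pow_right j
    have h3 : Commute a (x ^ k) := (show Commute a x from hDx a ha).pow_right k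
    calc a * (u * y ^ j * x ^ k) = (a * u) * y ^ j * x ^ k := by simp only [mul_assoc]
      _ = u * (a * y ^ j) * x ^ k := by rw [h1]; simp only [mul_assoc]
      _ = u * y ^ j * (a * x ^ k) := by rw [h2.eq]; simp only [mul_assoc]
      _ = u * y ^ j * x ^ k * a := by rw [h3.eq]; simp only [mul_assoc]
  have hDp : ∀ a ∈ D, a ^ p = 1 := fun a ha => hBp a ((hcommy _).2 (hDy a ha))
  have hZD : Z ≤ D := fun z hz => hDm z (hZz z hz x).symm (hZz z hz y).symm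
  obtain ⟨A, hAD, hAZ, hAsup⟩ := exists_complement_central hZD hDc hDp
  refine ⟨A, fun a ha => hDp a (hAD ha), fun a ha g => hDc a (hAD ha) g, ?_⟩
  obtain ⟨E, hEdef⟩ : ∃ E, E = Subgroup.closure {x, y} := ⟨_, rfl⟩
  rw [← hEdef]
  have hxE : x ∈ E := hEdef ▸ Subgroup.subset_closure (by simp)
  have hyE : y ∈ E := hEdef ▸ Subgroup.subset_closure (by simp)
  have hrE : ⁅x, y⁆ ∈ E := by
    rw [commutatorElement_def]
    exact E.mul_mem (E.mul_mem (E.mul_mem hxE hyE) (E.inv_mem hxE)) (E.inv_mem hyE)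
  have hZE : Z ≤ E := fun z hz => by
    obtain ⟨k, rfl⟩ := mem_pow_of_comm hZc hZz hC hxy z hz
    exact E.pow_mem hrE k
  have hAc : ∀ a ∈ A, ∀ g : T, a * g = g * a := fun a ha g => hDc a (hAD ha) g
  have hEA : ∀ e ∈ E, e ∈ A → e = 1 := by
    intro e he heA
    rw [hEdef] at he
    obtain ⟨k, j, z, hz, rfl⟩ := closure_form hZz hC x y _ he
    have hcy : ⁅x ^ k * y ^ j * z, y⁆ = 1 := (hcommy _).2 (hAc _ heA y)
    rw [comm_mul_left' hZz hC, comm_mul_left' hZz hC, comm_pow_left' hZz hC, comm_pow_left' hZz hC] at hcy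
    have hzc : ∀ c : T, ⁅z, c⁆ = 1 := fun c => commutatorElement_eq_one_iff_mul_comm.2 (hZz z hz c).symm
    have hyy : ⁅y, y⁆ = 1 := by simp [commutatorElement_def]
    rw [hzc, hyy] at hcy
    simp only [one_pow, mul_one] at hcy
    have hpk : p ∣ k := (comm_pow_eq_one_iff hZc hZz hC hxy k).1 hcy
    obtain ⟨k', rfl⟩ := hpk
    rw [pow_mul, hx, one_pow, one_mul] at heA ⊢
    have hcx : ⁅y ^ j * z, x⁆ = 1 := (hcommx _).2 (hAc _ heA x)
    rw [comm_mul_left' hZz hC, comm_pow_left' hZz hC, hzc, mul_one] at hcx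
    have hpj : p ∣ j := (comm_pow_eq_one_iff hZc hZz hC hyx j).1 hcx
    obtain ⟨j', rfl⟩ := hpj
    rw [pow_mul, hy, one_pow, one_mul] at heA ⊢
    have : z ∈ A ⊓ Z := ⟨heA, hz⟩
    rw [hAZ] at this
    exact Subgroup.mem_bot.1 this
  let m : ↥E × ↥A →* T := MonoidHom.mk' (fun u => (u.1 : T) * (u.2 : T)) (by
    rintro ⟨e, a⟩ ⟨e', a'⟩
    show (e : T) * e' * ((a : T) * a') = e * a * (e' * a')
    have : (a : T) * (e' * a') = e' * (a * a') := by
      rw [← mul_assoc, hAc a a.2 e', mul_assoc]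
    rw [mul_assoc (e : T) (a : T), this]
    simp only [mul_assoc])
  have hmv : ∀ u, m u = (u.1 : T) * (u.2 : T) := fun u => rfl
  have hminj : Function.Injective m := by
    rw [injective_iff_map_eq_one]
    rintro ⟨e, a⟩ h
    rw [hmv] at h
    have h1 : (e : T) = (a : T)⁻¹ := eq_inv_of_mul_eq_one_left h
    have h2 : (e : T) ∈ A := h1 ▸ A.inv_mem a.2
    have h3 := hEA _ e.2 h2
    have h4 : (a : T) = 1 := by
      rw [h3, one_mul] at h
      exact h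
    exact Prod.ext (Subtype.ext h3) (Subtype.ext h4)
  have hmsurj : Function.Surjective m := by
    intro g
    obtain ⟨k, j, u, hu, rfl⟩ := hgen g
    obtain ⟨a, ha, z, hz, rfl⟩ := hAsup u hu
    refine ⟨(⟨z * y ^ j * x ^ k, E.mul_mem (E.mul_mem (hZE hz) (E.pow_mem hyE j)) (E.pow_mem hxE k)⟩, ⟨a, ha⟩), ?_⟩
    rw [hmv]
    show z * y ^ j * x ^ k * a = a * z * y ^ j * x ^ k
    rw [(hAc a ha _).symm]
    simp only [mul_assoc]
  exact ⟨(MulEquiv.ofBijective m ⟨hminj, hmsurj⟩).symm⟩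

/-- The subgroup generated by two non-commuting elements of order dividing `p` has order `p³`. -/
theorem card_closure (hZc : Nat.card Z = p) (hZz : ∀ z ∈ Z, ∀ g : T, g * z = z * g) (hC : ∀ a b : T, ⁅a, b⁆ ∈ Z)
    {x y : T} (hx : x ^ p = 1) (hy : y ^ p = 1) (hxy : ⁅x, y⁆ ≠ 1) : Nat.card ↥(Subgroup.closure {x, y}) = p ^ 3 := by
  classical
  have hpp : p.Prime := Fact.out
  have : NeZero p := ⟨hpp.ne_zero⟩
  have hyx : ⁅y, x⁆ ≠ 1 := by
    intro h
    apply hxy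
    rw [comm_symm' x y, h, inv_one]
  obtain ⟨E, hEdef⟩ : ∃ E, E = Subgroup.closure {x, y} := ⟨_, rfl⟩
  rw [← hEdef]
  have hxE : x ∈ E := hEdef ▸ Subgroup.subset_closure (by simp)
  have hyE : y ∈ E := hEdef ▸ Subgroup.subset_closure (by simp)
  have hrE : ⁅x, y⁆ ∈ E := by
    rw [commutatorElement_def]
    exact E.mul_mem (E.mul_mem (E.mul_mem hxE hyE) (E.inv_mem hxE)) (E.inv_mem hyE)
  have hZE : Z ≤ E := fun z hz => by
    obtain ⟨k, rfl⟩ := mem_pow_of_comm hZc hZz hC hxy z hz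
    exact E.pow_mem hrE k
  have hzc : ∀ z ∈ Z, ∀ c : T, ⁅z, c⁆ = 1 := fun z hz c => commutatorElement_eq_one_iff_mul_comm.2 (hZz z hz c).symm
  have hyy : ⁅y, y⁆ = 1 := by simp [commutatorElement_def]
  have hxx : ⁅x, x⁆ = 1 := by simp [commutatorElement_def]
  let Φ : Fin p × Fin p × ↥Z → ↥E := fun u =>
    ⟨x ^ (u.1 : ℕ) * y ^ (u.2.1 : ℕ) * (u.2.2 : T), E.mul_mem (E.mul_mem (E.pow_mem hxE _) (E.pow_mem hyE _)) (hZE u.2.2.2)⟩
  have hΦ : Function.Bijective Φ := by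
    constructor
    · rintro ⟨k, j, z⟩ ⟨k', j', z'⟩ h
      have h0 : x ^ (k : ℕ) * y ^ (j : ℕ) * (z : T) = x ^ (k' : ℕ) * y ^ (j' : ℕ) * (z' : T) := congrArg Subtype.val h
      have h1 := congrArg (fun w => ⁅w, y⁆) h0
      simp only [comm_mul_left' hZz hC, comm_pow_left' hZz hC, hzc _ z.2, hzc _ z'.2, hyy, one_pow, mul_one] at h1
      have h2 := congrArg (fun w => ⁅w, x⁆) h0
      simp only [comm_mul_left' hZz hC, comm_pow_left' hZz hC, hzc _ z.2, hzc _ z'.2, hxx, one_pow, one_mul, mul_one] at h2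
      have hord : ∀ {c d : T} (hcd : ⁅c, d⁆ ≠ 1) (a b : Fin p), ⁅c, d⁆ ^ (a : ℕ) = ⁅c, d⁆ ^ (b : ℕ) → a = b := by
        intro c d hcd a b hab
        have hr : ⁅c, d⁆ ∈ Z := hC c d
        have hrp : ⁅c, d⁆ ^ p = 1 := by
          have : (⟨⁅c, d⁆, hr⟩ : Z) ^ Nat.card Z = 1 := pow_card_eq_one'
          rw [hZc] at this
          exact congrArg Subtype.val this
        have ho : orderOf ⁅c, d⁆ = p := orderOf_eq_prime hrp hcd
        have := pow_injOn_Iio_orderOf (x := ⁅c, d⁆) (x₁ := a) (x₂ := b) (by simp [ho]) (by simp [ho]) hab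
        exact Fin.ext this
      have hk : k = k' := hord hxy _ _ h1
      have hj : j = j' := hord hyx _ _ h2
      subst hk hj
      have hz : (z : T) = z' := mul_left_cancel h0
      exact Prod.ext rfl (Prod.ext rfl (Subtype.ext hz))
    · rintro ⟨e, he⟩
      have he' := he
      rw [hEdef] at he'
      obtain ⟨k, j, z, hz, hk⟩ := closure_form hZz hC x y e he'
      refine ⟨(⟨k % p, Nat.mod_lt _ hpp.pos⟩, ⟨j % p, Nat.mod_lt _ hpp.pos⟩, ⟨z, hz⟩), Subtype.ext ?_⟩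
      show x ^ (k % p) * y ^ (j % p) * z = e
      rw [hk, ← pow_eq_pow_mod k hx, ← pow_eq_pow_mod j hy]
  rw [← Nat.card_congr (Equiv.ofBijective Φ hΦ)]
  simp [Nat.card_prod, hZc, Nat.card_eq_fintype_card, pow_succ, mul_assoc]

/-- Elements of `Z` have exponent `p`. -/
theorem pow_eq_one_of_mem (hZc : Nat.card Z = p) {z : T} (hz : z ∈ Z) : z ^ p = 1 := by
  have : (⟨z, hz⟩ : Z) ^ Nat.card Z = 1 := pow_card_eq_one'
  rw [hZc] at this
  exact congrArg Subtype.val this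

/-- `p`-th powers in a group of class two. -/
theorem pow_mul_class2 (hZc : Nat.card Z = p) (hZz : ∀ z ∈ Z, ∀ g : T, g * z = z * g) (hC : ∀ a b : T, ⁅a, b⁆ ∈ Z)
    (a b : T) : (a * b) ^ p = a ^ p * b ^ p * ⁅b, a⁆ ^ (p.choose 2) :=
  Cfsg.Agent.Lib.Transfer.mul_pow_class2 (hZz _ (hC b a) a).symm (hZz _ (hC b a) b).symm p

/-- In odd characteristic the `p`-th power map is multiplicative. -/
theorem pow_mul_odd (hp : p ≠ 2) (hZc : Nat.card Z = p) (hZz : ∀ z ∈ Z, ∀ g : T, g * z = z * g)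
    (hC : ∀ a b : T, ⁅a, b⁆ ∈ Z) (a b : T) : (a * b) ^ p = a ^ p * b ^ p := by
  have hpp : p.Prime := Fact.out
  rw [pow_mul_class2 hZc hZz hC]
  have h1 : p ∣ p.choose 2 := hpp.dvd_choose_self (by norm_num) (by
    have := hpp.two_le
    omega)
  obtain ⟨m, hm⟩ := h1
  rw [hm, pow_mul, pow_eq_one_of_mem hZc (hC b a), one_pow, mul_one]

theorem closure_pow_eq_one_odd (hp : p ≠ 2) (hZc : Nat.card Z = p) (hZz : ∀ z ∈ Z, ∀ g : T, g * z = z * g)
    (hC : ∀ a b : T, ⁅a, b⁆ ∈ Z) {x y : T} (hx : x ^ p = 1) (hy : y ^ p = 1) :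
    ∀ e ∈ Subgroup.closure {x, y}, e ^ p = 1 := by
  intro e he
  obtain ⟨k, j, z, hz, rfl⟩ := closure_form hZz hC x y e he
  rw [pow_mul_odd hp hZc hZz hC, pow_mul_odd hp hZc hZz hC, pow_eq_one_of_mem hZc hz, ← pow_mul, ← pow_mul,
    mul_comm k, mul_comm j, pow_mul, pow_mul, hx, hy]
  simp

theorem closure_pow_mem (hZc : Nat.card Z = p) (hZz : ∀ z ∈ Z, ∀ g : T, g * z = z * g)
    (hC : ∀ a b : T, ⁅a, b⁆ ∈ Z) {x y : T} (hx : x ^ p = 1) (hy : y ^ p = 1) :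
    ∀ e ∈ Subgroup.closure {x, y}, e ^ p ∈ Z := by
  intro e he
  obtain ⟨k, j, z, hz, rfl⟩ := closure_form hZz hC x y e he
  rw [pow_mul_class2 hZc hZz hC, pow_mul_class2 hZc hZz hC, pow_eq_one_of_mem hZc hz, ← pow_mul, ← pow_mul,
    mul_comm k, mul_comm j, pow_mul, pow_mul, hx, hy]
  simp only [one_pow, mul_one, one_mul]
  exact Z.mul_mem (Z.pow_mem (hC _ _) _) (Z.pow_mem (hC _ _) _)

/-- The subgroup generated by two non-commuting elements of order dividing `p` is extraspecial. -/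
theorem isExtraspecial_closure (hZc : Nat.card Z = p) (hZz : ∀ z ∈ Z, ∀ g : T, g * z = z * g)
    (hC : ∀ a b : T, ⁅a, b⁆ ∈ Z) {x y : T} (hx : x ^ p = 1) (hy : y ^ p = 1) (hxy : ⁅x, y⁆ ≠ 1) :
    IsExtraspecial p ↥(Subgroup.closure {x, y}) := by
  classical
  have hpp : p.Prime := Fact.out
  have hyx : ⁅y, x⁆ ≠ 1 := by
    intro h
    apply hxy
    rw [comm_symm' x y, h, inv_one]
  have hcard := card_closure hZc hZz hC hx hy hxy
  obtain ⟨E, hEdef⟩ : ∃ E, E = Subgroup.closure {x, y} := ⟨_, rfl⟩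
  rw [← hEdef] at hcard ⊢
  have hxE : x ∈ E := hEdef ▸ Subgroup.subset_closure (by simp)
  have hyE : y ∈ E := hEdef ▸ Subgroup.subset_closure (by simp)
  have hrE : ⁅x, y⁆ ∈ E := by
    rw [commutatorElement_def]
    exact E.mul_mem (E.mul_mem (E.mul_mem hxE hyE) (E.inv_mem hxE)) (E.inv_mem hyE)
  have hZE : Z ≤ E := fun z hz => by
    obtain ⟨k, rfl⟩ := mem_pow_of_comm hZc hZz hC hxy z hz
    exact E.pow_mem hrE k
  have hzc : ∀ z ∈ Z, ∀ c : T, ⁅z, c⁆ = 1 := fun z hz c => commutatorElement_eq_one_iff_mul_comm.2 (hZz z hz c).symm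
  have hyy : ⁅y, y⁆ = 1 := by simp [commutatorElement_def]
  have hxx : ⁅x, x⁆ = 1 := by simp [commutatorElement_def]
  have hPg : IsPGroup p ↥E := IsPGroup.of_card hcard
  -- the centre of `E`
  let Z' : Subgroup E := Z.subgroupOf E
  have hZ'c : Nat.card Z' = p := by
    rw [← hZc]
    exact Nat.card_congr (Subgroup.subgroupOfEquivOfLe hZE).toEquiv
  have hcenter : Subgroup.center E = Z' := by
    apply le_antisymm
    · intro e he
      rw [Subgroup.mem_subgroupOf]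
      have he' : (e : T) ∈ Subgroup.closure {x, y} := hEdef ▸ e.2
      obtain ⟨k, j, z, hz, hk⟩ := closure_form hZz hC x y _ he'
      have hcy : ⁅(e : T), y⁆ = 1 := by
        have := Subgroup.mem_center_iff.1 he ⟨y, hyE⟩
        have h2 : y * (e : T) = e * y := congrArg Subtype.val this
        exact commutatorElement_eq_one_iff_mul_comm.2 h2.symm
      have hcx : ⁅(e : T), x⁆ = 1 := by
        have := Subgroup.mem_center_iff.1 he ⟨x, hxE⟩
        have h2 : x * (e : T) = e * x := congrArg Subtype.val this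
        exact commutatorElement_eq_one_iff_mul_comm.2 h2.symm
      rw [hk] at hcy hcx ⊢
      rw [comm_mul_left' hZz hC, comm_mul_left' hZz hC, comm_pow_left' hZz hC, comm_pow_left' hZz hC, hzc z hz, hyy] at hcy
      simp only [one_pow, mul_one] at hcy
      have hpk : p ∣ k := (comm_pow_eq_one_iff hZc hZz hC hxy k).1 hcy
      obtain ⟨k', rfl⟩ := hpk
      rw [pow_mul, hx, one_pow, one_mul] at hcx ⊢
      rw [comm_mul_left' hZz hC, comm_pow_left' hZz hC, hzc z hz, mul_one] at hcx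
      have hpj : p ∣ j := (comm_pow_eq_one_iff hZc hZz hC hyx j).1 hcx
      obtain ⟨j', rfl⟩ := hpj
      rw [pow_mul, hy, one_pow, one_mul]
      exact hz
    · intro e he
      rw [Subgroup.mem_subgroupOf] at he
      rw [Subgroup.mem_center_iff]
      intro g
      exact Subtype.ext (hZz _ he _)
  have hcomm : commutator E = Z' := by
    apply le_antisymm
    · rw [commutator_def, Subgroup.commutator_le]
      intro a _ b _
      rw [Subgroup.mem_subgroupOf]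
      exact hC _ _
    · intro e he
      rw [Subgroup.mem_subgroupOf] at he
      obtain ⟨k, hk⟩ := mem_pow_of_comm hZc hZz hC hxy _ he
      have h1 : (⁅(⟨x, hxE⟩ : E), (⟨y, hyE⟩ : E)⁆ : E) ∈ commutator E :=
        Subgroup.commutator_mem_commutator (Subgroup.mem_top _) (Subgroup.mem_top _)
      have h2 : e = ⁅(⟨x, hxE⟩ : E), (⟨y, hyE⟩ : E)⁆ ^ k := Subtype.ext hk
      rw [h2]
      exact Subgroup.pow_mem _ h1 k
  have hfrat : frattini E = Z' := by
    apply le_antisymm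
    · apply Cfsg.Agent.Lib.Amalgam.frattini_le_of_elementary_quotient (p := p) Z'
      · intro a b
        rw [Subgroup.mem_subgroupOf]
        exact hC _ _
      · intro a
        rw [Subgroup.mem_subgroupOf]
        have ha : (a : T) ∈ Subgroup.closure {x, y} := hEdef ▸ a.2
        simpa using closure_pow_mem hZc hZz hC hx hy _ ha
    · rw [← hcomm]
      exact Cfsg.Agent.Lib.Transfer.commutator_le_frattini hPg
  refine ⟨⟨hPg, ?_, ?_⟩, ?_⟩
  · rw [hfrat, hcenter]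
  · rw [hcomm, hcenter]
  · rw [hcenter, hZ'c]

/-- The dihedral case. -/
theorem dihedral_closure (hZc : Nat.card Z = 2) (hZz : ∀ z ∈ Z, ∀ g : T, g * z = z * g)
    (hC : ∀ a b : T, ⁅a, b⁆ ∈ Z) {x y : T} (hx : x ^ 2 = 1) (hy : y ^ 2 = 1) (hxy : ⁅x, y⁆ ≠ 1) :
    Nonempty (DihedralGroup 4 ≃* ↥(Subgroup.closure {x, y})) := by
  classical
  haveI : Fact (Nat.Prime 2) := ⟨Nat.prime_two⟩
  have hyx : ⁅y, x⁆ ≠ 1 := by
    intro h
    apply hxy
    rw [comm_symm' x y, h, inv_one]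
  obtain ⟨E, hEdef⟩ : ∃ E, E = Subgroup.closure {x, y} := ⟨_, rfl⟩
  rw [← hEdef]
  have hxE : x ∈ E := hEdef ▸ Subgroup.subset_closure (by simp)
  have hyE : y ∈ E := hEdef ▸ Subgroup.subset_closure (by simp)
  have hxx : x * x = 1 := by rw [← pow_two, hx]
  have hyy : y * y = 1 := by rw [← pow_two, hy]
  have hxi : x⁻¹ = x := inv_eq_of_mul_eq_one_left hxx
  have hyi : y⁻¹ = y := inv_eq_of_mul_eq_one_left hyy
  -- the generator of `Z`
  obtain ⟨c, hcdef⟩ : ∃ c, c = ⁅y, x⁆ := ⟨_, rfl⟩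
  have hcZ : c ∈ Z := hcdef ▸ hC y x
  have hc1 : c * c = 1 := by rw [← pow_two]; exact pow_eq_one_of_mem hZc hcZ
  have hcne : c ≠ 1 := hcdef ▸ hyx
  have hcinv : c⁻¹ = c := inv_eq_of_mul_eq_one_left hc1
  have htt : (x * y) * (x * y) = c := by
    rw [← hcinv, hcdef, commutatorElement_def]
    simp only [mul_inv_rev, inv_inv, hxi, hyi, mul_assoc]
  have ht2 : (x * y) ^ 2 = c := by rw [pow_two, htt]
  have ht3 : (x * y) ^ 3 = x * y * c := by rw [pow_succ', ht2]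
  have hxt : x * (x * y) = y := by rw [← mul_assoc, hxx, one_mul]
  let t : E := ⟨x * y, E.mul_mem hxE hyE⟩
  let s : E := ⟨x, hxE⟩
  have htv : ∀ k : ℕ, ((t ^ k : E) : T) = (x * y) ^ k := fun k => by simp [t]
  have hsv : ((s : E) : T) = x := rfl
  have ht : orderOf t = 4 := by
    have h1 : orderOf t = 2 ^ (1 + 1) := by
      apply orderOf_eq_prime_pow
      · intro h
        have := htv (2 ^ 1)
        rw [h, pow_one, ht2] at this
        exact hcne (this.symm)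
      · apply Subtype.ext
        rw [htv]
        norm_num
        rw [show (4 : ℕ) = 2 * 2 from rfl, pow_mul, ht2, pow_two, hc1]
    rw [h1]
    norm_num
  have hss : s * s = 1 := Subtype.ext hxx
  have hst : s * t * s = t⁻¹ := by
    apply Subtype.ext
    show x * (x * y) * x = (x * y)⁻¹
    rw [hxt, mul_inv_rev, hxi, hyi]
  have hnot : ∀ k : ℕ, s ≠ t ^ k := by
    intro k h
    have h1 : s * t = t * s := by
      rw [h]
      exact (Commute.pow_left (Commute.refl t) k)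
    have h2 : x * (x * y) = x * y * x := congrArg Subtype.val h1
    rw [mul_assoc x y x] at h2
    have h3 := mul_left_cancel h2
    exact hxy (commutatorElement_eq_one_iff_mul_comm.2 h3)
  have hcover : ∀ g : E, ∃ k : ℕ, g = t ^ k ∨ g = s * t ^ k := by
    intro g
    have hg : (g : T) ∈ Subgroup.closure {x, y} := hEdef ▸ g.2
    obtain ⟨k, j, z, hz, hg'⟩ := closure_form hZz hC x y _ hg
    obtain ⟨m, hm⟩ := mem_pow_of_comm hZc hZz hC hyx z hz
    rw [← hcdef] at hm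
    have hc2 : c ^ 2 = 1 := by rw [pow_two, hc1]
    have hk := pow_eq_pow_mod k hx
    have hj := pow_eq_pow_mod j hy
    have hm' := pow_eq_pow_mod m hc2
    rw [hk, hj, hm, hm'] at hg'
    have hzc : ∀ g : T, g * c = c * g := hZz c hcZ
    rcases Nat.mod_two_eq_zero_or_one k with h1 | h1 <;> rcases Nat.mod_two_eq_zero_or_one j with h2 | h2 <;>
      rcases Nat.mod_two_eq_zero_or_one m with h3 | h3 <;> rw [h1, h2, h3] at hg' <;> simp only [pow_zero, pow_one, one_mul, mul_one] at hg'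
    · exact ⟨0, Or.inl (Subtype.ext (by rw [hg', htv]; simp))⟩
    · exact ⟨2, Or.inl (Subtype.ext (by rw [hg', htv, ht2]))⟩
    · exact ⟨1, Or.inr (Subtype.ext (by
        rw [hg', Subgroup.coe_mul, htv, pow_one, hsv, hxt]))⟩
    · exact ⟨3, Or.inr (Subtype.ext (by
        rw [hg', Subgroup.coe_mul, htv, ht3, hsv, ← mul_assoc, ← mul_assoc, hxx, one_mul]))⟩
    · exact ⟨0, Or.inr (Subtype.ext (by
        rw [hg', Subgroup.coe_mul, htv, pow_zero, hsv]; simp))⟩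
    · exact ⟨2, Or.inr (Subtype.ext (by
        rw [hg', Subgroup.coe_mul, htv, ht2, hsv]))⟩
    · exact ⟨1, Or.inl (Subtype.ext (by rw [hg', htv, pow_one]))⟩
    · exact ⟨3, Or.inl (Subtype.ext (by rw [hg', htv, ht3]))⟩
  exact Cfsg.Agent.Lib.Classical.Bin.dihedral_recog t s ht hss hst hnot hcover

/-- Exponent of a group from its elements. -/
theorem exponent_eq_of_pow {E : Type*} [Group E] (hE : ∀ a : E, a ^ p = 1) {a : E} (ha : a ≠ 1) :
    Monoid.exponent E = p := by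
  have hpp : p.Prime := Fact.out
  have h1 : Monoid.exponent E ∣ p := Monoid.exponent_dvd_of_forall_pow_eq_one hE
  rcases (Nat.dvd_prime hpp).1 h1 with h | h
  · exfalso
    apply ha
    have := Monoid.pow_exponent_eq_one a
    rwa [h, pow_one] at this
  · exact h

/-- The forbidden decomposition, odd case. -/
theorem exists_forbidden_odd (hp : p ≠ 2) (hZc : Nat.card Z = p) (hZz : ∀ z ∈ Z, ∀ g : T, g * z = z * g)
    (hC : ∀ a b : T, ⁅a, b⁆ ∈ Z) {x y : T} (hx : x ^ p = 1) (hy : y ^ p = 1) (hxy : ⁅x, y⁆ ≠ 1)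
    (hB : ∀ a b : T, ⁅a, y⁆ = 1 → ⁅b, y⁆ = 1 → a * b = b * a) (hBp : ∀ a : T, ⁅a, y⁆ = 1 → a ^ p = 1) :
    ∃ (E : Type) (_ : Group E) (A : Type) (_ : CommGroup A), IsExtraspecial p E ∧ Nat.card E = p ^ 3 ∧
      Monoid.exponent E = p ∧ (∀ a : A, a ^ p = 1) ∧ Nonempty (T ≃* E × A) := by
  obtain ⟨A, hAp, hAc, ⟨e⟩⟩ := exists_decomp hZc hZz hC hx hy hxy hB hBp
  obtain ⟨E, hEdef⟩ : ∃ E, E = Subgroup.closure {x, y} := ⟨_, rfl⟩
  rw [← hEdef] at e
  have hEx : IsExtraspecial p ↥E := hEdef ▸ isExtraspecial_closure hZc hZz hC hx hy hxy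
  have hEc : Nat.card ↥E = p ^ 3 := hEdef ▸ card_closure hZc hZz hC hx hy hxy
  letI cg : CommGroup ↥A := { (inferInstance : Group ↥A) with
    mul_comm := fun a b => Subtype.ext (hAc _ a.2 _) }
  have e₁ : Shrink.{0} ↥E ≃* ↥E := Shrink.mulEquiv
  have e₂ : Shrink.{0} ↥A ≃* ↥A := Shrink.mulEquiv
  have hfin : Finite (Shrink.{0} ↥E) := Finite.of_equiv _ (equivShrink _)
  refine ⟨Shrink.{0} ↥E, inferInstance, Shrink.{0} ↥A, inferInstance, ?_, ?_, ?_, ?_, ?_⟩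
  · exact Cfsg.Agent.Lib.PGroup.isExtraspecial_of_equiv e₁.symm hEx
  · rw [Nat.card_congr e₁.toEquiv, hEc]
  · have hxE : x ∈ E := hEdef ▸ Subgroup.subset_closure (by simp)
    have hne : (⟨x, hxE⟩ : E) ≠ 1 := by
      intro h
      have h1 : x = 1 := congrArg Subtype.val h
      apply hxy
      simp [h1, commutatorElement_def]
    refine exponent_eq_of_pow (a := e₁.symm ⟨x, hxE⟩) (fun a => ?_) (fun h => hne ?_)
    · apply e₁.injective
      rw [map_pow, map_one]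
      apply Subtype.ext
      have h1 := closure_pow_eq_one_odd hp hZc hZz hC hx hy (e₁ a : T) (hEdef ▸ (e₁ a).2)
      simpa using h1
    · simpa using h
  · intro a
    apply e₂.injective
    rw [map_pow, map_one]
    apply Subtype.ext
    simpa using hAp _ (e₂ a).2
  · exact ⟨e.trans (MulEquiv.prodCongr e₁.symm e₂.symm)⟩

/-- The forbidden decomposition for `p = 2`. -/
theorem exists_forbidden_two (hp : p = 2) (hZc : Nat.card Z = p) (hZz : ∀ z ∈ Z, ∀ g : T, g * z = z * g)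
    (hC : ∀ a b : T, ⁅a, b⁆ ∈ Z) {x y : T} (hx : x ^ p = 1) (hy : y ^ p = 1) (hxy : ⁅x, y⁆ ≠ 1)
    (hB : ∀ a b : T, ⁅a, y⁆ = 1 → ⁅b, y⁆ = 1 → a * b = b * a) (hBp : ∀ a : T, ⁅a, y⁆ = 1 → a ^ p = 1) :
    ∃ (A : Type) (_ : CommGroup A), (∀ a : A, a ^ 2 = 1) ∧ Nonempty (T ≃* DihedralGroup 4 × A) := by
  subst hp
  obtain ⟨A, hAp, hAc, ⟨e⟩⟩ := exists_decomp hZc hZz hC hx hy hxy hB hBp
  obtain ⟨d⟩ := dihedral_closure hZc hZz hC hx hy hxy
  letI cg : CommGroup ↥A := { (inferInstance : Group ↥A) with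
    mul_comm := fun a b => Subtype.ext (hAc _ a.2 _) }
  have e₂ : Shrink.{0} ↥A ≃* ↥A := Shrink.mulEquiv
  refine ⟨Shrink.{0} ↥A, inferInstance, ?_, ?_⟩
  · intro a
    apply e₂.injective
    rw [map_pow, map_one]
    apply Subtype.ext
    simpa using hAp _ (e₂ a).2
  · exact ⟨e.trans (MulEquiv.prodCongr d.symm e₂.symm)⟩

/-- The residual case for `p = 2`. -/
theorem two_case (hp : p = 2) (hZc : Nat.card Z = p) (hZz : ∀ z ∈ Z, ∀ g : T, g * z = z * g)
    (hC : ∀ a b : T, ⁅a, b⁆ ∈ Z) (hfr : ∀ a : T, a ^ p ∈ Z) {x y : T} (hy : y ^ p = 1) (hxy : ⁅x, y⁆ ≠ 1)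
    (hcase : ∀ a : T, a ^ p = 1 → ⁅a, y⁆ = 1) : False := by
  subst hp
  have hyx : ⁅y, x⁆ ≠ 1 := by
    intro h
    apply hxy
    rw [comm_symm' x y, h, inv_one]
  have hxx : x ^ 2 ≠ 1 := fun h => hxy (hcase x h)
  -- the two nontrivial elements of `Z` agree
  obtain ⟨k, hk⟩ := mem_pow_of_comm hZc hZz hC hyx _ (hfr x)
  have hc2 : ⁅y, x⁆ ^ 2 = 1 := pow_eq_one_of_mem hZc (hC y x)
  have hx2 : x ^ 2 = ⁅y, x⁆ := by
    rw [hk, pow_eq_pow_mod k hc2] at hxx ⊢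
    rcases Nat.mod_two_eq_zero_or_one k with h | h <;> rw [h] at hxx ⊢
    · simp at hxx
    · simp
  have h1 : ⁅x * y, y⁆ ≠ 1 := by
    rw [comm_mul_left' hZz hC]
    simpa [commutatorElement_def] using hxy
  apply h1
  apply hcase
  rw [pow_mul_class2 hZc hZz hC, hy]
  norm_num
  rw [hx2, ← pow_two, hc2]

end ClassTwo

end Cfsg.Agent.Lib.Fusion
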