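/-
Metacyclic `2`-groups containing dihedral subgroups of order `8`.
-/
import Cfsg.Agent.Lib.Fusion.MetaEss
import Mathlib

set_option autoImplicit false

namespace Cfsg.Agent.Lib.Fusion.MetaEss

open Cfsg Cfsg.Agent.Lib.Techniques.MetaAut
open scoped commutatorElement

section Dihedral

variable {G : Type*} [Group G] [Finite G]

/-- A finite cyclic `2`-group has at most one involution. -/
theorem cyclic_invol_unique {X : Type*} [Group X] [Finite X] [IsCyclic X] (hX : IsPGroup 2 X) {x y : X}
    (hx : x * x = 1) (hy : y * y = 1) (hx1 : x ≠ 1) (hy1 : y ≠ 1) : x = y := by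
  haveI : Fact (Nat.Prime 2) := ⟨Nat.prime_two⟩
  obtain ⟨g, hg⟩ := IsCyclic.exists_generator (α := X)
  obtain ⟨k, hk⟩ := hX g
  obtain ⟨j, -, hj⟩ := (Nat.dvd_prime_pow Nat.prime_two).1 (orderOf_dvd_of_pow_eq_one hk)
  have hg1 : orderOf g ≠ 1 := by
    intro h
    have : g = 1 := orderOf_eq_one_iff.1 h
    have h2 := hg x
    rw [this, Subgroup.zpowers_one_eq_bot, Subgroup.mem_bot] at h2
    exact hx1 h2
  obtain ⟨a, rfl⟩ : ∃ a, j = a + 1 := by
    refine ⟨j - 1, ?_⟩
    have : j ≠ 0 := by
      rintro rfl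
      exact hg1 (by simpa using hj)
    omega
  rw [invol_unique hj (hg x) hx1 hx, invol_unique hj (hg y) hy1 hy]

/-- Explicit Klein subgroups. -/
theorem exists_klein {a b : G} (ha : a * a = 1) (hb : b * b = 1) (hab : a * b = b * a) :
    ∃ A : Subgroup G, ∀ x, x ∈ A ↔ x = 1 ∨ x = a ∨ x = b ∨ x = a * b := by
  have ha' : ∀ x : G, a * (a * x) = x := fun x => by rw [← mul_assoc, ha, one_mul]
  have hb' : ∀ x : G, b * (b * x) = x := fun x => by rw [← mul_assoc, hb, one_mul]
  have e1 : b * a = a * b := hab.symm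
  have e1' : ∀ x : G, b * (a * x) = a * (b * x) := fun x => by rw [← mul_assoc, e1, mul_assoc]
  have hai : a⁻¹ = a := inv_eq_of_mul_eq_one_left ha
  have hbi : b⁻¹ = b := inv_eq_of_mul_eq_one_left hb
  refine ⟨{ carrier := {x | x = 1 ∨ x = a ∨ x = b ∨ x = a * b}
            one_mem' := Or.inl rfl
            mul_mem' := ?_
            inv_mem' := ?_ }, fun x => Iff.rfl⟩
  · rintro x y (rfl | rfl | rfl | rfl) (rfl | rfl | rfl | rfl) <;>
      simp [mul_assoc, ha, hb, ha', hb', e1, e1']
  · rintro x (rfl | rfl | rfl | rfl) <;> simp [mul_inv_rev, hai, hbi, e1]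

/-- All squares lying in a subgroup bound the order of a metacyclic group. -/
theorem card_le_of_squares (hG : IsPGroup 2 G) (hm : IsMetacyclic G) (D : Subgroup G) (hD : ∀ x : G, x * x ∈ D) :
    Nat.card G ≤ 4 * Nat.card D := by
  haveI : Fact (Nat.Prime 2) := ⟨Nat.prime_two⟩
  have h1 : frattini G ≤ D := by
    refine Cfsg.Agent.Lib.Core.frattini_le_of_elementary 2 D ?_ (fun x => by rw [pow_two]; exact hD x)
    rw [_root_.commutator_def, Subgroup.commutator_le]
    intro x _ y _
    have e : ⁅x, y⁆ = (x * y) * (x * y) * (((y⁻¹ * x⁻¹ * y) * (y⁻¹ * x⁻¹ * y)) * (y⁻¹ * y⁻¹)) := by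
      rw [commutatorElement_def]
      group
    rw [e]
    exact D.mul_mem (hD _) (D.mul_mem (hD _) (hD _))
  have h2 := Cfsg.Agent.Lib.ClassSizes.Metacyclic.card_frattini_quotient_le hG hm
  have h3 := (frattini G).card_mul_index
  have h4 : Nat.card (frattini G) ≤ Nat.card D := Subgroup.card_le_of_le h1
  have h5 : (frattini G).index = Nat.card (G ⧸ frattini G) := rfl
  rw [← h3, h5]
  have h2' : Nat.card (G ⧸ frattini G) ≤ 4 := h2
  calc Nat.card (frattini G) * Nat.card (G ⧸ frattini G) ≤ Nat.card D * 4 := Nat.mul_le_mul h4 h2'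
    _ = 4 * Nat.card D := by ring

/-- **A metacyclic `2`-group containing a dihedral group of order `8` has maximal class.** -/
theorem maxClass_of_dihedral (hG : IsPGroup 2 G) (hm : IsMetacyclic G) {u w : G} (hu : u * u = 1) (hw2 : w * w ≠ 1)
    (hw4 : (w * w) * (w * w) = 1) (huw : u * w * u⁻¹ = w⁻¹) :
    ∃ n, 3 ≤ n ∧ Nat.card G = 2 ^ n ∧ Group.nilpotencyClass G = n - 1 := by
  classical
  haveI : Fact (Nat.Prime 2) := ⟨Nat.prime_two⟩
  obtain ⟨N, hNn, hNc, hQc⟩ := hm
  set z := w * w with hzd
  have hui : u⁻¹ = u := inv_eq_of_mul_eq_one_left hu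
  -- `u` does not commute with `w`
  have hnc : u * w ≠ w * u := by
    intro h
    apply hw2
    have h1 : u * w * u⁻¹ = w := by rw [h]; group
    rw [huw] at h1
    calc z = w * w := rfl
      _ = w⁻¹ * w := by rw [h1]
      _ = 1 := by group
  have hN2 : IsPGroup 2 N := hG.to_subgroup N
  have hQ2 : IsPGroup 2 (G ⧸ N) := hG.to_quotient N
  -- uniqueness of involutions
  have hinvN : ∀ y ∈ N, y * y = 1 → ∀ y' ∈ N, y' * y' = 1 → y ≠ 1 → y' ≠ 1 → y = y' := by
    intro y hy h1 y' hy' h2 h3 h4
    have := cyclic_invol_unique hN2 (x := ⟨y, hy⟩) (y := ⟨y', hy'⟩) (Subtype.ext h1) (Subtype.ext h2)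
      (fun h => h3 (congrArg Subtype.val h)) (fun h => h4 (congrArg Subtype.val h))
    exact congrArg Subtype.val this
  have hcQ : ∀ x y : G ⧸ N, x * y = y * x := by
    letI := IsCyclic.commGroup (α := G ⧸ N)
    exact fun x y => mul_comm x y
  have hzN : z ∈ N := by
    apply (QuotientGroup.eq_one_iff z).1
    have h1 : ((u * w * u⁻¹ : G) : G ⧸ N) = ((w⁻¹ : G) : G ⧸ N) := by rw [huw]
    rw [QuotientGroup.mk_mul, QuotientGroup.mk_mul, QuotientGroup.mk_inv, QuotientGroup.mk_inv, hcQ (u : G ⧸ N) (w : G ⧸ N)] at h1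
    have h2 : (w : G ⧸ N) = (w : G ⧸ N)⁻¹ := by
      rw [← h1]
      group
    rw [hzd, QuotientGroup.mk_mul]
    calc (w : G ⧸ N) * (w : G ⧸ N) = (w : G ⧸ N)⁻¹ * (w : G ⧸ N) := by rw [← h2]
      _ = 1 := by group
  have hz1 : z ≠ 1 := hw2
  have hNz : ∀ y ∈ N, y * y = 1 → y = 1 ∨ y = z := by
    intro y hy h
    by_cases h1 : y = 1
    · exact Or.inl h1
    · exact Or.inr (hinvN y hy h z hzN hw4 h1 hz1)
  -- `u` is outside `N`
  have hwz : w * z = z * w := by rw [hzd]; group
  have huN : u ∉ N := by
    intro h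
    rcases hNz u h hu with h1 | h1
    · apply hnc
      rw [h1]
      group
    · apply hnc
      rw [h1, hwz.symm]
  -- `w` lies in `N`
  have hwN : w ∈ N := by
    by_contra hw
    have h1 : (u : G ⧸ N) ≠ 1 := fun h => huN ((QuotientGroup.eq_one_iff _).1 h)
    have h2 : (w : G ⧸ N) ≠ 1 := fun h => hw ((QuotientGroup.eq_one_iff _).1 h)
    have h3 : (u : G ⧸ N) * (u : G ⧸ N) = 1 := by
      rw [← QuotientGroup.mk_mul, hu, QuotientGroup.mk_one]
    have h4 : (w : G ⧸ N) * (w : G ⧸ N) = 1 := by
      rw [← QuotientGroup.mk_mul]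
      exact (QuotientGroup.eq_one_iff _).2 hzN
    have h5 := cyclic_invol_unique hQ2 h3 h4 h1 h2
    have h6 : u⁻¹ * w ∈ N := QuotientGroup.eq.1 h5
    have h7 : (u⁻¹ * w) * (u⁻¹ * w) = 1 := by
      have e : (u⁻¹ * w) * (u⁻¹ * w) = (u * w * u⁻¹) * w := by
        rw [hui]
        group
      rw [e, huw]
      group
    rcases hNz _ h6 h7 with h8 | h8
    · apply hnc
      have : w = u := by
        calc w = u * (u⁻¹ * w) := by group
          _ = u := by rw [h8, mul_one]
      rw [this]
    · apply hnc
      have h9 : u⁻¹ = w := mul_right_cancel (h8.trans rfl)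
      have h10 : u = w⁻¹ := by rw [← h9]; group
      rw [h10]
      group
  -- the action on `w`
  have hord : orderOf w = 4 := by
    have := orderOf_eq_prime_pow (p := 2) (n := 1) (x := w) (by
      rw [pow_one, pow_two]
      exact hw2) (by
      rw [show 2 ^ (1 + 1) = 2 + 2 by norm_num, pow_add, pow_two]
      exact hw4)
    simpa using this
  have hcomN : ∀ x ∈ N, ∀ y ∈ N, x * y = y * x := by
    intro x hx y hy
    have := mul_comm' (⟨x, hx⟩ : N) ⟨y, hy⟩
    exact congrArg Subtype.val this
  have hact : ∀ y : G, y * w * y⁻¹ = w ∨ y * w * y⁻¹ = w⁻¹ := by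
    intro y
    set v := y * w * y⁻¹ with hvd
    have hvN : v ∈ N := hNn.conj_mem w hwN y
    have hvv : v * v = y * z * y⁻¹ := by rw [hvd, hzd]; group
    have hvz : v * v = z := by
      have h1 : (y * z * y⁻¹) * (y * z * y⁻¹) = 1 := by
        have e : (y * z * y⁻¹) * (y * z * y⁻¹) = y * (z * z) * y⁻¹ := by group
        rw [e, hw4]
        group
      have h2 : y * z * y⁻¹ ≠ 1 := by
        intro h
        apply hz1
        have e : z = y⁻¹ * (y * z * y⁻¹) * y := by group
        rw [e, h]
        group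
      rw [hvv]
      exact hinvN _ (hNn.conj_mem z hzN y) h1 z hzN hw4 h2 hz1
    have h3 : (v * w⁻¹) * (v * w⁻¹) = 1 := by
      have e : (v * w⁻¹) * (v * w⁻¹) = (v * v) * (w⁻¹ * w⁻¹) := by
        have h4 := hcomN w⁻¹ (N.inv_mem hwN) v hvN
        calc (v * w⁻¹) * (v * w⁻¹) = v * (w⁻¹ * v) * w⁻¹ := by group
          _ = v * (v * w⁻¹) * w⁻¹ := by rw [h4]
          _ = (v * v) * (w⁻¹ * w⁻¹) := by group
      rw [e, hvz, hzd]
      group
    rcases hNz _ (N.mul_mem hvN (N.inv_mem hwN)) h3 with h5 | h5
    · left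
      exact mul_inv_eq_one.1 h5
    · right
      have h6 : v = z * w := mul_inv_eq_iff_eq_mul.1 h5
      rw [h6, eq_inv_iff_mul_eq_one]
      have e : z * w * w = z * z := by rw [hzd]; group
      rw [e]
      exact hw4
  have hsqc : ∀ y : G, (y * y) * w * (y * y)⁻¹ = w := by
    intro y
    rcases hact y with h | h
    · have e : (y * y) * w * (y * y)⁻¹ = y * (y * w * y⁻¹) * y⁻¹ := by group
      rw [e, h, h]
    · have e : (y * y) * w * (y * y)⁻¹ = y * (y * w * y⁻¹) * y⁻¹ := by group
      have e2 : y * w⁻¹ * y⁻¹ = (y * w * y⁻¹)⁻¹ := by group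
      rw [e, h, e2, h]
      group
  -- the generator of the quotient
  obtain ⟨⟨g⟩, hg⟩ := hQc.exists_generator
  have hg' : ∀ x : G, ∃ l : ℤ, ((g ^ l : G) : G ⧸ N) = x := by
    intro x
    obtain ⟨l, hl⟩ := Subgroup.mem_zpowers_iff.1 (hg (x : G ⧸ N))
    exact ⟨l, by rw [QuotientGroup.mk_zpow]; exact hl⟩
  have hall : ∀ x : G, x ∈ N ∨ u⁻¹ * x ∈ N := by
    obtain ⟨k, hk⟩ := hg' u
    rcases Int.even_or_odd' k with ⟨j, rfl | rfl⟩
    · exfalso
      apply hnc
      have h1 : (g ^ (2 * j))⁻¹ * u ∈ N := QuotientGroup.eq.1 hk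
      set n := (g ^ (2 * j))⁻¹ * u with hnd
      have hun : u = g ^ (2 * j) * n := by rw [hnd]; group
      have h2 : n * w * n⁻¹ = w := by
        rw [hcomN n h1 w hwN]
        group
      have h3 : u * w * u⁻¹ = w := by
        have e1 : u * w * u⁻¹ = g ^ (2 * j) * (n * w * n⁻¹) * (g ^ (2 * j))⁻¹ := by
          rw [hun]; group
        rw [e1, h2]
        have e2 : g ^ (2 * j) = g ^ j * g ^ j := by
          rw [two_mul, zpow_add]
        rw [e2]
        exact hsqc (g ^ j)
      exact mul_inv_eq_iff_eq_mul.1 h3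
    · -- the generator is an involution modulo `N`
      have hsq : ((g : G ⧸ N)) * (g : G ⧸ N) = 1 := by
        obtain ⟨e, he⟩ := hQ2 (g : G ⧸ N)
        have h1 : orderOf (g : G ⧸ N) ∣ 2 ^ e := orderOf_dvd_of_pow_eq_one he
        obtain ⟨s, -, hs⟩ := (Nat.dvd_prime_pow Nat.prime_two).1 h1
        have h2 : ((g : G ⧸ N)) ^ (2 * (2 * j + 1)) = 1 := by
          have h3 : ((g : G ⧸ N)) ^ (2 * j + 1) = (u : G ⧸ N) := by
            rw [← QuotientGroup.mk_zpow]
            exact hk
          rw [mul_comm, zpow_mul, h3, zpow_two, ← QuotientGroup.mk_mul, hu, QuotientGroup.mk_one]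
        have h3 := orderOf_dvd_iff_zpow_eq_one.2 h2
        rw [hs] at h3
        have hs1 : s ≤ 1 := by
          by_contra hs2
          have h4 : (4 : ℤ) ∣ ((2 ^ s : ℕ) : ℤ) := by
            obtain ⟨q, rfl⟩ : ∃ q, s = q + 2 := ⟨s - 2, by omega⟩
            refine ⟨2 ^ q, ?_⟩
            push_cast
            ring
          have h5 := h4.trans h3
          omega
        have h6 : orderOf (g : G ⧸ N) ∣ 2 := by
          rw [hs]
          exact pow_dvd_pow 2 hs1 |>.trans (by norm_num)
        rw [← pow_two]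
        exact orderOf_dvd_iff_pow_eq_one.1 h6
      have hgu : (g : G ⧸ N) = (u : G ⧸ N) := by
        have h3 : ((g : G ⧸ N)) ^ (2 * j + 1) = (u : G ⧸ N) := by
          rw [← QuotientGroup.mk_zpow]
          exact hk
        rw [← h3, zpow_add, zpow_mul, zpow_two, hsq, one_zpow, one_mul, zpow_one]
      intro x
      obtain ⟨l, hl⟩ := hg' x
      rcases Int.even_or_odd' l with ⟨m, rfl | rfl⟩
      · left
        apply (QuotientGroup.eq_one_iff x).1
        rw [← hl, QuotientGroup.mk_zpow, zpow_mul, zpow_two, hsq, one_zpow]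
      · right
        apply QuotientGroup.eq.1
        rw [← hl, QuotientGroup.mk_zpow, zpow_add, zpow_mul, zpow_two, hsq, one_zpow, one_mul, zpow_one, hgu]
  -- the power map
  obtain ⟨⟨c, hcN⟩, hc⟩ := hNc.exists_generator
  have hNp : ∀ y ∈ N, ∃ k : ℤ, y = c ^ k := by
    intro y hy
    obtain ⟨k, hk⟩ := Subgroup.mem_zpowers_iff.1 (hc ⟨y, hy⟩)
    have h1 := congrArg Subtype.val hk
    refine ⟨k, ?_⟩
    rw [← show ((⟨c, hcN⟩ : N) ^ k : N).1 = y from h1]
    simp
  obtain ⟨r, hr⟩ := hNp _ (hNn.conj_mem c hcN u)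
  have hpow : ∀ x ∈ N, u * x * u⁻¹ = x ^ r := by
    intro x hx
    obtain ⟨i, rfl⟩ := hNp x hx
    rw [← conj_zpow, hr, ← zpow_mul, ← zpow_mul, mul_comm]
  have hr4 : (4 : ℤ) ∣ r + 1 := by
    have h1 : w ^ (r + 1) = 1 := by
      rw [zpow_add, ← hpow w hwN, huw, zpow_one]
      group
    have := orderOf_dvd_iff_zpow_eq_one.2 h1
    rwa [hord] at this
  have hfix : ∀ x ∈ N, u * x = x * u → x * x = 1 := by
    intro x hx hxu
    obtain ⟨q, hq⟩ := hr4
    have h1 : x ^ r = x := by
      rw [← hpow x hx, hxu]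
      group
    have h2 : (x * x) ^ (2 * q - 1) = 1 := by
      have e : x * x = x ^ (2 : ℤ) := by rw [zpow_two]
      rw [e, ← zpow_mul]
      have e2 : (2 : ℤ) * (2 * q - 1) = r - 1 := by linarith
      rw [e2, zpow_sub, h1, zpow_one]
      group
    obtain ⟨e, he⟩ := hG (x * x)
    have h3 : orderOf (x * x) ∣ 2 ^ e := orderOf_dvd_of_pow_eq_one he
    obtain ⟨s, -, hs⟩ := (Nat.dvd_prime_pow Nat.prime_two).1 h3
    have h4 := orderOf_dvd_iff_zpow_eq_one.2 h2
    rw [hs] at h4
    have hs0 : s = 0 := by
      by_contra hs1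
      obtain ⟨s', rfl⟩ : ∃ s', s = s' + 1 := ⟨s - 1, by omega⟩
      have h5 : (2 : ℤ) ∣ ((2 ^ (s' + 1) : ℕ) : ℤ) := ⟨2 ^ s', by push_cast; ring⟩
      have h6 := h5.trans h4
      omega
    rw [hs0, pow_zero] at hs
    exact orderOf_eq_one_iff.1 hs
  -- the Klein subgroup
  have hzu : z * u = u * z := by
    have h1 : u * z * u⁻¹ = w⁻¹ * w⁻¹ := by
      rw [← huw, hzd]
      group
    have h2 : w⁻¹ * w⁻¹ = z := by
      have h3 : z * z = 1 := hw4
      have h4 : z⁻¹ = z := inv_eq_of_mul_eq_one_left h3
      rw [← h4, hzd]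
      group
    rw [h2] at h1
    exact (mul_inv_eq_iff_eq_mul.1 h1).symm
  obtain ⟨A, hA⟩ := exists_klein hw4 hu hzu
  have hu1 : u ≠ 1 := by
    rintro rfl
    apply hnc
    group
  have hzune : z ≠ u := fun h => huN (h ▸ hzN)
  have hzuz : z * u ≠ z := by
    intro h
    exact hu1 (mul_left_cancel (h.trans (mul_one z).symm))
  have hzuu : z * u ≠ u := by
    intro h
    exact hz1 (mul_right_cancel (h.trans (one_mul u).symm))
  have hzu1 : z * u ≠ 1 := by
    intro h
    apply hzune
    have h1 : z⁻¹ = z := inv_eq_of_mul_eq_one_left hw4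
    have h2 : u = z⁻¹ := eq_inv_of_mul_eq_one_right h
    rw [h2, h1]
  have hcard : Nat.card A = 2 ^ 2 := by
    have h1 : (A : Set G) = ↑({1, z, u, z * u} : Finset G) := by
      ext x
      simp [hA x]
    have h0 : Nat.card A = Set.ncard (A : Set G) := Nat.card_coe_set_eq (A : Set G)
    rw [h0, h1, Set.ncard_coe_finset, Finset.card_insert_of_notMem (by simp [hz1.symm, hu1.symm, hzu1.symm]),
      Finset.card_insert_of_notMem (by simp [hzune, hzuz.symm]),
      Finset.card_insert_of_notMem (by simp [hzuu.symm]), Finset.card_singleton]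
    norm_num
  have hC : Subgroup.centralizer (A : Set G) = A := by
    apply le_antisymm
    · intro x hx
      have hxu : u * x = x * u := Subgroup.mem_centralizer_iff.1 hx u ((hA u).2 (Or.inr (Or.inr (Or.inl rfl))))
      rcases hall x with h | h
      · rcases hNz x h (hfix x h hxu) with h1 | h1
        · exact (hA x).2 (Or.inl h1)
        · exact (hA x).2 (Or.inr (Or.inl h1))
      · have h2 : u * (u⁻¹ * x) = (u⁻¹ * x) * u := by
          rw [mul_assoc u⁻¹, ← hxu]
          group
        rcases hNz _ h (hfix _ h h2) with h1 | h1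
        · refine (hA x).2 (Or.inr (Or.inr (Or.inl ?_)))
          calc x = u * (u⁻¹ * x) := by group
            _ = u := by rw [h1, mul_one]
        · refine (hA x).2 (Or.inr (Or.inr (Or.inr ?_)))
          calc x = u * (u⁻¹ * x) := by group
            _ = z * u := by rw [h1, hzu]
    · intro x hx
      refine Subgroup.mem_centralizer_iff.2 fun y hy => ?_
      have e1 : u * z = z * u := hzu.symm
      have e1' : ∀ t : G, u * (z * t) = z * (u * t) := fun t => by rw [← mul_assoc, e1, mul_assoc]
      have hz' : ∀ t : G, z * (z * t) = t := fun t => by rw [← mul_assoc, hw4, one_mul]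
      have hu' : ∀ t : G, u * (u * t) = t := fun t => by rw [← mul_assoc, hu, one_mul]
      have hx' := (hA x).1 hx
      have hy' := (hA y).1 (by exact_mod_cast hy)
      rcases hx' with rfl | rfl | rfl | rfl <;> rcases hy' with rfl | rfl | rfl | rfl <;>
        simp [mul_assoc, e1, e1', hz', hu', hw4, hu]
  obtain ⟨n, hn⟩ := IsPGroup.iff_card.1 hG
  refine ⟨n, ?_, hn, Cfsg.Agent.S0112.result n hn A hcard hC⟩
  by_contra hn3
  have h1 : 2 ^ 2 ∣ 2 ^ n := by
    rw [← hcard, ← hn]
    exact Subgroup.card_subgroup_dvd_card A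
  have h2 : 2 ≤ n := (Nat.pow_dvd_pow_iff_le_right (by norm_num)).1 h1
  have h3 : n = 2 := by omega
  subst h3
  have h4 : A = ⊤ := Subgroup.eq_top_of_card_eq A (by rw [hcard, hn])
  have h5 : w ∈ A := by rw [h4]; trivial
  rcases (hA w).1 h5 with h | h | h | h
  · exact hz1 (by rw [hzd, h, mul_one])
  · have h1 : w = 1 := by
      have h2 : w * w = w * 1 := by rw [mul_one]; exact h.symm
      exact mul_left_cancel h2
    exact hz1 (by rw [hzd, h1, mul_one])
  · exact hnc (by rw [h])
  · apply hnc
    have h1 : w * u = 1 := by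
      have h2 : w * (w * u) = w * 1 := by
        rw [mul_one, ← mul_assoc]
        exact h.symm
      exact mul_left_cancel h2
    have h2 : u = w⁻¹ := eq_inv_of_mul_eq_one_right h1
    rw [h2]
    group

/-- The action of an element on an abelian subgroup in a metacyclic group, at the level of subgroups. -/
theorem commutator_square' (hG : IsPGroup 2 G) (hm : IsMetacyclic G) (R : Subgroup G)
    (hcomm : ∀ x ∈ R, ∀ y ∈ R, x * y = y * x) {t : G} (htn : t ∈ Subgroup.normalizer (R : Set G)) (ht2 : t * t ∈ R)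
    (H1 : ∀ x ∈ R, x * x = 1 → ∃ y ∈ R, x = y * y) {a : G} (ha : a ∈ R) : ∃ y ∈ R, t * a * t⁻¹ * a⁻¹ = y * y := by
  set M := extSub R htn ht2 with hMd
  have hPM : R ≤ M := fun x hx => Or.inl hx
  have htM : t ∈ M := Or.inr (by simp [R.one_mem])
  have hM2 : IsPGroup 2 M := hG.to_subgroup M
  have hMm : IsMetacyclic M := Cfsg.Agent.Lib.ClassSizes.Metacyclic.isMetacyclic_subgroup hm M
  have hres := commutator_square (M := M) hM2 hMm (R.subgroupOf M) (t := ⟨t, htM⟩)
    (fun x hx y hy => by
      apply Subtype.ext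
      exact hcomm _ (Subgroup.mem_subgroupOf.1 hx) _ (Subgroup.mem_subgroupOf.1 hy))
    (fun x hx => Subgroup.mem_subgroupOf.2 ((Subgroup.mem_normalizer_iff.1 htn x.1).1 (Subgroup.mem_subgroupOf.1 hx)))
    (Subgroup.mem_subgroupOf.2 ht2)
    (fun g => g.2.imp (fun h => Subgroup.mem_subgroupOf.2 h) (fun h => Subgroup.mem_subgroupOf.2 h))
    (fun x hx hxx => by
      have hxP := Subgroup.mem_subgroupOf.1 hx
      obtain ⟨v, hv, hvv⟩ := H1 x.1 hxP (congrArg Subtype.val hxx)
      refine ⟨⟨v, hPM hv⟩, Subgroup.mem_subgroupOf.2 hv, ?_⟩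
      apply Subtype.ext
      exact hvv)
    (a := ⟨a, hPM ha⟩) (Subgroup.mem_subgroupOf.2 ha)
  obtain ⟨y, hy, hyy⟩ := hres
  exact ⟨y.1, Subgroup.mem_subgroupOf.1 hy, congrArg Subtype.val hyy⟩

/-- In a metacyclic `2`-group a quaternion subgroup of order `8` contains its centralizer. -/
theorem centralizer_quaternion_le (hG : IsPGroup 2 G) (hm : IsMetacyclic G) (R : Subgroup G)
    (e : R ≃* QuaternionGroup 2) : Subgroup.centralizer (R : Set G) ≤ R := by
  classical
  intro x₀ hx₀
  by_contra hx₀R
  obtain ⟨e₀, he₀⟩ := hG x₀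
  obtain ⟨k, hxR, hx2⟩ := exists_sq_mem hx₀R he₀
  set x := x₀ ^ 2 ^ k with hxd
  have hxC : x ∈ Subgroup.centralizer (R : Set G) := Subgroup.pow_mem _ hx₀ _
  have hcx : ∀ r ∈ R, r * x = x * r := fun r hr => Subgroup.mem_centralizer_iff.1 hxC r hr
  have hxn : x ∈ Subgroup.normalizer (R : Set G) := by
    refine Subgroup.mem_normalizer_iff.2 fun r => ?_
    have e1 : ∀ r : G, r ∈ R → x * r * x⁻¹ = r := fun r hr => by rw [← hcx r hr]; group
    constructor
    · intro hr
      rw [e1 r hr]
      exact hr
    · intro hr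
      have h2 := hcx _ hr
      have h3 : x * r * x⁻¹ * x = x * r := by group
      rw [h3] at h2
      have h4 : x * r = x * (x * r * x⁻¹) := h2
      rw [mul_left_cancel h4]
      exact hr
  set z : G := ((e.symm (QuaternionGroup.a 2) : R) : G) with hzd
  have hzR : z ∈ R := (e.symm (QuaternionGroup.a 2) : R).2
  have hzz : z * z = 1 := by
    have h1 : (e.symm (QuaternionGroup.a 2) : R) * e.symm (QuaternionGroup.a 2) = 1 := by
      rw [← map_mul]
      have : (QuaternionGroup.a 2 : QuaternionGroup 2) * QuaternionGroup.a 2 = 1 := by decide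
      rw [this, map_one]
    exact congrArg Subtype.val h1
  have hsqR : ∀ r ∈ R, r * r = 1 ∨ r * r = z := by
    intro r hr
    have h1 : ∀ q : QuaternionGroup 2, q * q = 1 ∨ q * q = QuaternionGroup.a 2 := by decide
    rcases h1 (e ⟨r, hr⟩) with h | h
    · left
      rw [← map_mul] at h
      have := (map_eq_one_iff e e.injective).1 h
      exact congrArg Subtype.val this
    · right
      rw [← map_mul] at h
      have := (e.eq_symm_apply).2 h
      exact congrArg Subtype.val this
  have hxx : x * x = 1 ∨ x * x = z := by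
    have h1 : ∀ q : QuaternionGroup 2, (∀ q', q * q' = q' * q) → q = 1 ∨ q = QuaternionGroup.a 2 := by decide
    have hc : ∀ q', e ⟨x * x, hx2⟩ * q' = q' * e ⟨x * x, hx2⟩ := by
      intro q'
      have h2 : (⟨x * x, hx2⟩ : R) * e.symm q' = e.symm q' * ⟨x * x, hx2⟩ := by
        apply Subtype.ext
        show x * x * (e.symm q' : R) = (e.symm q' : R) * (x * x)
        have h3 := hcx _ (e.symm q' : R).2
        calc x * x * (e.symm q' : R) = x * (x * (e.symm q' : R)) := by group
          _ = x * ((e.symm q' : R) * x) := by rw [h3]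
          _ = (x * (e.symm q' : R)) * x := by group
          _ = ((e.symm q' : R) * x) * x := by rw [h3]
          _ = (e.symm q' : R) * (x * x) := by group
      have h4 := congrArg e h2
      rwa [map_mul, map_mul, e.apply_symm_apply] at h4
    rcases h1 _ hc with h | h
    · left
      have := (map_eq_one_iff e e.injective).1 h
      exact congrArg Subtype.val this
    · right
      have := (e.eq_symm_apply).2 h
      exact congrArg Subtype.val this
  set M := extSub R hxn hx2 with hMd
  have hRM : R ≤ M := fun y hy => Or.inl hy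
  have hxM : x ∈ M := Or.inr (by simp [R.one_mem])
  have hM2 : IsPGroup 2 M := hG.to_subgroup M
  have hMm : IsMetacyclic M := Cfsg.Agent.Lib.ClassSizes.Metacyclic.isMetacyclic_subgroup hm M
  let z' : M := ⟨z, hRM hzR⟩
  have hz'z' : z' * z' = 1 := Subtype.ext hzz
  have hD : ∀ y : M, y * y ∈ Subgroup.zpowers z' := by
    have hmem : ∀ y : M, ((y : G) = 1 ∨ (y : G) = z) → y ∈ Subgroup.zpowers z' := by
      intro y hy
      rcases hy with h | h
      · have : y = 1 := Subtype.ext h
        rw [this]
        exact Subgroup.one_mem _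
      · have : y = z' := Subtype.ext h
        rw [this]
        exact Subgroup.mem_zpowers _
    intro y
    apply hmem
    show (y : G) * y = 1 ∨ (y : G) * y = z
    rcases y.2 with h | h
    · exact hsqR _ h
    · set r := (y : G) * x⁻¹ with hrd
      have hy : (y : G) = r * x := by rw [hrd]; group
      have e1 : (y : G) * y = (r * r) * (x * x) := by
        rw [hy]
        have h3 := hcx r h
        calc r * x * (r * x) = r * (x * r) * x := by group
          _ = r * (r * x) * x := by rw [h3]
          _ = (r * r) * (x * x) := by group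
      rw [e1]
      rcases hsqR r h with h1 | h1 <;> rcases hxx with h2 | h2 <;> rw [h1, h2]
      · left; simp
      · right; simp
      · right; simp
      · left; exact hzz
  have h1 := card_le_of_squares hM2 hMm _ hD
  have hcD : Nat.card (Subgroup.zpowers z') ≤ 2 := by
    rw [Nat.card_zpowers]
    exact orderOf_le_of_pow_eq_one (by norm_num) (by rw [pow_two]; exact hz'z')
  have hcR : Nat.card R = 8 := by
    rw [Nat.card_congr e.toEquiv, Nat.card_eq_fintype_card, QuaternionGroup.card]
  have hlt : Nat.card R < Nat.card M := by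
    apply Cfsg.Agent.Lib.Fusion.card_lt_of_lt (S := (⊤ : Subgroup G)) le_top
    exact lt_of_le_of_ne hRM (fun h => hxR (h ▸ hxM))
  omega

theorem zmod_two_sq : ∀ v : Multiplicative (ZMod (2 ^ 1)), v * v = 1 := by decide

/-- The action on a subgroup with non-`2`-group of automorphisms forces maximal class. -/
theorem maxClass_of_action (hG : IsPGroup 2 G) (hm : IsMetacyclic G) (R : Subgroup G) {t : G}
    (htn : t ∈ Subgroup.normalizer (R : Set G)) (ht2 : t * t ∈ R) {a : G} (ha : a ∈ R)
    (hna : ¬ ∃ y ∈ R, t * a * t⁻¹ * a⁻¹ = y * y)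
    (hR : Nonempty (R ≃* QuaternionGroup 2) ∨
      ∃ n : ℕ, Nonempty (R ≃* Multiplicative (ZMod (2 ^ n)) × Multiplicative (ZMod (2 ^ n)))) :
    ∃ n, 3 ≤ n ∧ Nat.card G = 2 ^ n ∧ Group.nilpotencyClass G = n - 1 := by
  classical
  haveI : Fact (Nat.Prime 2) := ⟨Nat.prime_two⟩
  obtain ⟨m, hmc⟩ := IsPGroup.iff_card.1 hG
  rcases hR with ⟨⟨e⟩⟩ | ⟨n, ⟨e⟩⟩
  · have hC := centralizer_quaternion_le hG hm R e
    have hcR : Nat.card R = 2 ^ 3 := by
      rw [Nat.card_congr e.toEquiv, Nat.card_eq_fintype_card, QuaternionGroup.card]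
      norm_num
    have hna' : ¬ IsMulCommutative R := by
      intro hcomm
      have h1 : ∀ x y : QuaternionGroup 2, x * y = y * x := by
        intro x y
        apply e.symm.injective
        rw [map_mul, map_mul]
        exact hcomm.is_comm.comm _ _
      exact absurd (h1 (QuaternionGroup.a 1) (QuaternionGroup.xa 0)) (by decide)
    refine ⟨m, ?_, hmc, Cfsg.Agent.S4143.result m hmc R hcR hna' hC⟩
    have h1 : 2 ^ 3 ∣ 2 ^ m := by
      rw [← hcR, ← hmc]
      exact Subgroup.card_subgroup_dvd_card R
    exact (Nat.pow_dvd_pow_iff_le_right (by norm_num)).1 h1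
  · have hcommP : ∀ x y : R, x * y = y * x := by
      intro x y
      apply e.injective
      rw [map_mul, map_mul, mul_comm]
    have hcomm : ∀ x ∈ R, ∀ y ∈ R, x * y = y * x := fun x hx y hy =>
      congrArg Subtype.val (hcommP ⟨x, hx⟩ ⟨y, hy⟩)
    rcases Nat.lt_or_ge n 2 with hn | hn
    · interval_cases n
      · -- trivial
        exfalso
        have h1 : (⟨a, ha⟩ : R) = 1 := by
          apply e.injective
          rw [map_one]
          haveI hs : Subsingleton (ZMod (2 ^ 0)) := inferInstanceAs (Subsingleton (Fin 1))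
          apply Prod.ext
          · apply Multiplicative.toAdd.injective
            exact Subsingleton.elim (α := ZMod (2 ^ 0)) _ _
          · apply Multiplicative.toAdd.injective
            exact Subsingleton.elim (α := ZMod (2 ^ 0)) _ _
        have h2 : a = 1 := congrArg Subtype.val h1
        exact hna ⟨1, R.one_mem, by rw [h2]; group⟩
      · -- the Klein four-group
        have hC2 := zmod_two_sq
        have hsq : ∀ x ∈ R, x * x = 1 := by
          intro x hx
          have h1 : (⟨x, hx⟩ : R) * ⟨x, hx⟩ = 1 := by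
            apply e.injective
            rw [map_mul, map_one]
            exact Prod.ext (hC2 _) (hC2 _)
          exact congrArg Subtype.val h1
        have hcR : Nat.card R = 4 := by
          have h : Nat.card (Multiplicative (ZMod (2 ^ 1))) = 2 := by
            rw [Nat.card_congr Multiplicative.toAdd, Nat.card_zmod]
            norm_num
          rw [Nat.card_congr e.toEquiv, Nat.card_prod, h]
        set b := t * a * t⁻¹ with hbd
        have hbR : b ∈ R := (Subgroup.mem_normalizer_iff.1 htn a).1 ha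
        have hai : a⁻¹ = a := inv_eq_of_mul_eq_one_left (hsq a ha)
        have hbi : b⁻¹ = b := inv_eq_of_mul_eq_one_left (hsq b hbR)
        have hne1 : b * a ≠ 1 := by
          intro h
          apply hna
          refine ⟨1, R.one_mem, ?_⟩
          rw [hai, h]
          group
        have hab1 : a * b ≠ 1 := by
          rw [hcomm a ha b hbR]
          exact hne1
        have ha1 : a ≠ 1 := by
          rintro h
          apply hab1
          rw [h, one_mul]
          rw [hbd, h]
          group
        have hb1 : b ≠ 1 := by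
          intro h
          apply ha1
          have h2 : t * a * t⁻¹ = 1 := h
          have h3 : a = t⁻¹ * (t * a * t⁻¹) * t := by group
          rw [h3, h2]
          group
        have hab : a ≠ b := by
          intro h
          apply hab1
          rw [← h]
          exact hsq a ha
        have htb : t * b * t⁻¹ = a := by
          have h1 : t * b * t⁻¹ = (t * t) * a * (t * t)⁻¹ := by rw [hbd]; group
          rw [h1, hcomm _ ht2 _ ha]
          group
        -- the enumeration
        have h4 := Cfsg.Agent.Lib.Techniques.MetaAut.mem_of_four (Q := R) hcR.le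
          (a := 1) (b := ⟨a, ha⟩) (c := ⟨b, hbR⟩) (d := ⟨a, ha⟩ * ⟨b, hbR⟩) (w := ⟨t * t, ht2⟩)
          (fun h => ha1 (congrArg Subtype.val h).symm)
          (fun h => hb1 (congrArg Subtype.val h).symm)
          (fun h => hab1 (congrArg Subtype.val h).symm)
          (fun h => hab (congrArg Subtype.val h))
          (fun h => hb1 (by
            have h2 : a = a * b := congrArg Subtype.val h
            exact mul_left_cancel (h2.symm.trans (mul_one a).symm)))
          (fun h => ha1 (by
            have h2 : b = a * b := congrArg Subtype.val h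
            exact mul_right_cancel (h2.symm.trans (one_mul b).symm)))
        obtain ⟨u, w, hu, hw2, hw4, huw⟩ : ∃ u w : G, u * u = 1 ∧ w * w ≠ 1 ∧ (w * w) * (w * w) = 1 ∧ u * w * u⁻¹ = w⁻¹ := by
          rcases h4 with h | h | h | h
          · have htt : t * t = 1 := congrArg Subtype.val h
            have hti : t⁻¹ = t := inv_eq_of_mul_eq_one_left htt
            have e1 : (t * a) * (t * a) = b * a := by
              calc (t * a) * (t * a) = (t * a * t⁻¹) * (t * t) * a := by group
                _ = b * a := by rw [htt, mul_one]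
            refine ⟨t, t * a, htt, ?_, ?_, ?_⟩
            · rw [e1]
              exact hne1
            · rw [e1]
              exact hsq _ (R.mul_mem hbR ha)
            · rw [mul_inv_rev, hai]
              calc t * (t * a) * t⁻¹ = (t * t) * a * t⁻¹ := by group
                _ = a * t⁻¹ := by rw [htt, one_mul]
          · exfalso
            have htt : t * t = a := congrArg Subtype.val h
            apply hab
            rw [hbd, ← htt]
            group
          · exfalso
            have htt : t * t = b := congrArg Subtype.val h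
            apply hab
            rw [← htb, ← htt]
            group
          · have htt : t * t = a * b := congrArg Subtype.val h
            refine ⟨a, t, hsq a ha, ?_, ?_, ?_⟩
            · rw [htt]
              exact hab1
            · rw [htt]
              exact hsq _ (R.mul_mem ha hbR)
            · rw [eq_inv_iff_mul_eq_one]
              have e1 : a * t * a⁻¹ * t = a * (t * a * t⁻¹) * (t * t) := by
                rw [hai]
                group
              rw [e1, htt]
              show a * b * (a * b) = 1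
              exact hsq _ (R.mul_mem ha hbR)
        exact maxClass_of_dihedral hG hm hu hw2 hw4 huw
    · -- homocyclic of exponent at least `4`
      exfalso
      refine hna (commutator_square' hG hm R hcomm htn ht2 ?_ ha)
      intro x hx hxx
      have h2 : (⟨x, hx⟩ : R) * ⟨x, hx⟩ = 1 := Subtype.ext hxx
      obtain ⟨v, hv⟩ := homocyclic_prod_inv hn (e ⟨x, hx⟩) (by rw [← map_mul, h2, map_one])
      have h3 : (⟨x, hx⟩ : R) = e.symm v * e.symm v := by
        apply e.injective
        rw [map_mul, e.apply_symm_apply, hv]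
      exact ⟨(e.symm v : R).1, (e.symm v : R).2, congrArg Subtype.val h3⟩

end Dihedral

end Cfsg.Agent.Lib.Fusion.MetaEss
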