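/-
Elements of small order detect coprime automorphisms, with applications to the hyperfocal and focal subgroups of a
saturated fusion system.
-/
import Cfsg.Agent.Lib.Transfer.Critical2
import Cfsg.Agent.Lib.Fusion.Closed
import Cfsg.Agent.Lib.Fusion.Top
import Cfsg.Agent.Lib.Fusion.NormalSub
import Cfsg.Agent.Lib.Fusion.SylowAut
import Mathlib

set_option autoImplicit false

namespace Cfsg.Agent.Lib.Fusion.SmallExp

open Cfsg Cfsg.FusionSystem Cfsg.Agent.Lib.Fusion
open scoped commutatorElement

universe u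

section Group

variable {G : Type*} [Group G] {p : ℕ}

/-- On a critical subgroup the fourth power map is multiplicative. -/
theorem mul_pow_four_of_critical (H : Subgroup G)
    (h1 : ∀ c : G, c ∈ H → c ^ 2 ∈ H ⊓ Subgroup.centralizer (H : Set G))
    (h2 : ∀ r c : G, c ∈ H → ⁅r, c⁆ ∈ H ⊓ Subgroup.centralizer (H : Set G)) :
    ∀ x ∈ H, ∀ y ∈ H, (x * y) ^ 4 = x ^ 4 * y ^ 4 := by
  intro x hx y hy
  have hc := h2 y x hx
  have hcx : Commute ⁅y, x⁆ x := ((Subgroup.mem_centralizer_iff.1 hc.2) x hx).symm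
  have hcy : Commute ⁅y, x⁆ y := ((Subgroup.mem_centralizer_iff.1 hc.2) y hy).symm
  have hyp : Commute (y ^ 2) x := ((Subgroup.mem_centralizer_iff.1 (h1 y hy).2) x hx).symm
  have hcp : ⁅y, x⁆ ^ 2 = 1 := by
    rw [← Cfsg.Agent.Lib.Transfer.comm_pow_left hcy, commutatorElement_eq_one_iff_commute]
    exact hyp
  rw [Cfsg.Agent.Lib.Transfer.mul_pow_class2 hcx hcy]
  have e : Nat.choose 4 2 = 2 * 3 := by decide
  rw [e, pow_mul, hcp, one_pow, mul_one]

/-- For `p = 2`, an odd order automorphism of a `2`-group fixing all elements of order dividing `4` is trivial. -/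
theorem eq_one_of_fix_four [Finite G] [Fact (2 : ℕ).Prime] (hG : IsPGroup 2 G) (a : MulAut G)
    (ha : Nat.Coprime (orderOf a) 2) (h : ∀ x : G, x ^ 4 = 1 → a x = x) : a = 1 := by
  obtain ⟨H, hch, h1, h2, h3⟩ := Cfsg.Agent.Lib.Transfer.exists_critical hG
  haveI : H.Normal := inferInstance
  apply Cfsg.Agent.Lib.Transfer.eq_one_of_fix_normal hG a ha H h3
  have hH : ∀ x ∈ H, a x ∈ H := fun x hx => (Subgroup.characteristic_iff_le_comap.mp hch a) hx
  have hpow := mul_pow_four_of_critical H h1 h2
  have key : ∀ k : ℕ, ∀ x ∈ H, x ^ 4 ^ k = 1 → a x = x := by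
    intro k
    induction k with
    | zero =>
      intro x _ hx
      rw [pow_zero, pow_one] at hx
      rw [hx, map_one]
    | succ k ih =>
      intro x hx hxk
      have hw : a (x ^ 4) = x ^ 4 := by
        apply ih _ (H.pow_mem hx 4)
        rw [← pow_mul, ← pow_succ']
        exact hxk
      rw [map_pow] at hw
      have hc : x⁻¹ * a x ∈ H := H.mul_mem (H.inv_mem hx) (hH x hx)
      have hcp : (x⁻¹ * a x) ^ 4 = 1 := by
        rw [hpow _ (H.inv_mem hx) _ (hH x hx), hw, inv_pow, inv_mul_cancel]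
      exact Cfsg.Agent.Lib.Transfer.fix_of_step hG a ha x (h _ hcp)
  intro x hx
  obtain ⟨k, hk⟩ := hG x
  refine key k x hx ?_
  have e : (4 : ℕ) ^ k = 2 ^ k * 2 ^ k := by
    rw [← mul_pow]
    norm_num
  rw [e, pow_mul, hk, one_pow]

/-- The small elements. -/
def IsSmall (p : ℕ) (x : G) : Prop := x ^ p = 1 ∨ (p = 2 ∧ x ^ 4 = 1)

/-- The subgroup form of Thompson's lemma on small elements. -/
theorem fix_subgroup_of_fix_small [Finite G] [Fact p.Prime] (hG : IsPGroup p G) (a : MulAut G)
    (ha : Nat.Coprime (orderOf a) p) (W : Subgroup G) (hW : ∀ x ∈ W, a x ∈ W)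
    (hs : ∀ x ∈ W, IsSmall p x → a x = x) : ∀ x ∈ W, a x = x := by
  have hpow : ∀ (n : ℕ), ∀ x ∈ W, (a ^ n) x ∈ W := by
    intro n
    induction n with
    | zero => exact fun x hx => hx
    | succ n ih =>
      intro x hx
      rw [pow_succ]
      exact ih _ (hW x hx)
  have hinv : ∀ x ∈ W, a⁻¹ x ∈ W := by
    intro x hx
    have h1 : a⁻¹ = a ^ (orderOf a - 1) := by
      rw [eq_comm, ← mul_right_inj a, ← pow_succ', mul_inv_cancel]
      have : orderOf a - 1 + 1 = orderOf a := Nat.sub_add_cancel (orderOf_pos a)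
      rw [this, pow_orderOf_eq_one]
    rw [h1]
    exact hpow _ x hx
  let b : MulAut W :=
    { toFun := fun x => ⟨a x, hW x x.2⟩
      invFun := fun x => ⟨a⁻¹ (x : G), hinv x x.2⟩
      left_inv := fun x => Subtype.ext (by simp)
      right_inv := fun x => Subtype.ext (by simp)
      map_mul' := fun x y => Subtype.ext (map_mul a (x : G) (y : G)) }
  have hbv : ∀ x : W, ((b x : W) : G) = a (x : G) := fun _ => rfl
  have hbp : ∀ (n : ℕ) (x : W), (((b ^ n) x : W) : G) = (a ^ n) (x : G) := by
    intro n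
    induction n with
    | zero => intro x; rfl
    | succ n ih =>
      intro x
      rw [pow_succ, MulAut.mul_apply, ih, pow_succ, MulAut.mul_apply]
      rfl
  have hbo : b ^ orderOf a = 1 := by
    ext x
    rw [hbp, pow_orderOf_eq_one]
    rfl
  have hco : Nat.Coprime (orderOf b) p :=
    Nat.Coprime.coprime_dvd_left (orderOf_dvd_of_pow_eq_one hbo) ha
  have hWp : IsPGroup p W := hG.to_subgroup W
  have hb1 : b = 1 := by
    by_cases hp2 : p = 2
    · subst hp2
      refine eq_one_of_fix_four hWp b hco fun x hx => Subtype.ext ?_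
      exact hs x x.2 (Or.inr ⟨rfl, by exact_mod_cast congrArg Subtype.val hx⟩)
    · refine Cfsg.Agent.Lib.Transfer.eq_one_of_fix_omega hp2 hWp b hco fun x hx => Subtype.ext ?_
      exact hs x x.2 (Or.inl (by exact_mod_cast congrArg Subtype.val hx))
  intro x hx
  have h1 : b ⟨x, hx⟩ = ⟨x, hx⟩ := by rw [hb1]; rfl
  exact congrArg Subtype.val h1

/-- A coprime automorphism whose commutators lie in `D` and which fixes the small elements of `D` is trivial. -/
theorem eq_one_of_fix_small [Finite G] [Fact p.Prime] (hG : IsPGroup p G) (a : MulAut G)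
    (ha : Nat.Coprime (orderOf a) p) (D : Subgroup G) (hD : ∀ x, x⁻¹ * a x ∈ D)
    (hs : ∀ x ∈ D, IsSmall p x → a x = x) : a = 1 := by
  have hW : ∀ x ∈ D, a x ∈ D := by
    intro x hx
    have e : a x = x * (x⁻¹ * a x) := by group
    rw [e]
    exact D.mul_mem hx (hD x)
  have h1 := fix_subgroup_of_fix_small hG a ha D hW hs
  ext x
  exact Cfsg.Agent.Lib.Transfer.fix_of_step hG a ha x (h1 _ (hD x))

end Group

section Fusion

variable {Ω : Type u} [Group Ω] {S : Subgroup Ω} {F : FusionSystem S} {p : ℕ} [Fact p.Prime]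

theorem isPGroup_of_coprime_trivial {A : Type*} [Group A] [Finite A] (h : ∀ a : A, Nat.Coprime (orderOf a) p → a = 1) :
    IsPGroup p A := by
  have hp := (Fact.out : p.Prime)
  intro α
  obtain ⟨k, m, hm, he⟩ := Nat.exists_eq_pow_mul_and_not_dvd (n := orderOf α) (orderOf_pos α).ne' p hp.ne_one
  refine ⟨k, h _ ?_⟩
  have hβ : (α ^ p ^ k) ^ m = 1 := by rw [← pow_mul, ← he, pow_orderOf_eq_one]
  exact Nat.Coprime.coprime_dvd_left (orderOf_dvd_of_pow_eq_one hβ) ((Nat.Prime.coprime_iff_not_dvd hp).2 hm).symm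

variable [Finite S]

theorem eq_inner_of_coprime_trivial (hS : IsPGroup p S) (hF : F.IsSaturated p)
    (h : ∀ P, F.IsFullyNormalized P → ∀ α ∈ F.autGroup P, Nat.Coprime (orderOf α) p → α = 1) :
    F = innerFusionSystem S :=
  eq_inner_of_isPGroup hS hF fun P hP => by
    have := finite_of_le hP.1
    have : Finite (MulAut P) := finite_mulAut P
    refine isPGroup_of_coprime_trivial fun a ha => Subtype.ext (h P hP a a.2 ?_)
    rw [Subgroup.orderOf_coe]
    exact ha

theorem isSmall_coe {P : Subgroup Ω} {x : P} : IsSmall p x ↔ IsSmall p (x : Ω) := by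
  unfold IsSmall
  constructor
  · rintro (h | ⟨h1, h2⟩)
    · exact Or.inl (by exact_mod_cast congrArg Subtype.val h)
    · exact Or.inr ⟨h1, by exact_mod_cast congrArg Subtype.val h2⟩
  · rintro (h | ⟨h1, h2⟩)
    · exact Or.inl (Subtype.ext (by exact_mod_cast h))
    · exact Or.inr ⟨h1, Subtype.ext (by exact_mod_cast h2)⟩

theorem eq_one_of_fix_small_hyper (hS : IsPGroup p S) {P : Subgroup Ω} (hP : P ≤ S) {α : MulAut P} (hα : α ∈ F.autGroup P)
    (hco : Nat.Coprime (orderOf α) p)
    (hs : ∀ x : P, (x : Ω) ∈ F.hyperfocalSubgroup p → IsSmall p (x : Ω) → α x = x) : α = 1 := by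
  have := finite_of_le hP
  refine eq_one_of_fix_small (hS.to_le hP) α hco ((F.hyperfocalSubgroup p).subgroupOf P) (fun x => ?_)
    (fun x hx hsm => hs x (Subgroup.mem_subgroupOf.1 hx) (isSmall_coe.1 hsm))
  refine Subgroup.mem_subgroupOf.2 ?_
  refine mem_hyperfocal hP ⟨α, hα⟩ (Subgroup.subset_closure ?_) x
  show (orderOf (⟨α, hα⟩ : F.autGroup P)).Coprime p
  rw [Subgroup.orderOf_mk]
  exact hco

/-- The upper central series of `S` in the ambient group. -/
abbrev zetaS (S : Subgroup Ω) (i : ℕ) : Subgroup Ω := (Subgroup.upperCentralSeries S i).map S.subtype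

theorem zetaS_conj {i : ℕ} {x g : Ω} (hx : x ∈ zetaS S i) (hg : g ∈ S) : g * x * g⁻¹ ∈ zetaS S i := by
  obtain ⟨y, hy, rfl⟩ := hx
  have h1 := (inferInstance : (Subgroup.upperCentralSeries S i).Normal).conj_mem y hy ⟨g, hg⟩
  exact ⟨_, h1, rfl⟩

theorem zetaS_comm {i : ℕ} {x g : Ω} (hx : x ∈ zetaS S (i + 1)) (hg : g ∈ S) : x * g * x⁻¹ * g⁻¹ ∈ zetaS S i := by
  obtain ⟨y, hy, rfl⟩ := hx
  have h1 := Subgroup.mem_upperCentralSeries_succ_iff.mp hy ⟨g, hg⟩
  exact ⟨_, h1, rfl⟩

/-- A coprime automorphism moving small hyperfocal elements only by conjugation in `S` is trivial. -/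
theorem eq_one_of_conj_small (hS : IsPGroup p S) {P : Subgroup Ω} (hP : P ≤ S) {α : MulAut P} (hα : α ∈ F.autGroup P)
    (hco : Nat.Coprime (orderOf α) p)
    (hC : ∀ x : P, (x : Ω) ∈ F.hyperfocalSubgroup p → IsSmall p (x : Ω) → ∃ g ∈ S, ((α x : P) : Ω) = g * x * g⁻¹) : α = 1 := by
  have := finite_of_le hP
  have hPp : IsPGroup p P := hS.to_le hP
  set R := F.hyperfocalSubgroup p with hR
  have hres : (⟨α, hα⟩ : F.autGroup P) ∈ pResidual p (F.autGroup P) := by
    refine Subgroup.subset_closure ?_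
    show (orderOf (⟨α, hα⟩ : F.autGroup P)).Coprime p
    rw [Subgroup.orderOf_mk]
    exact hco
  have hcomm : ∀ x : P, (((x⁻¹ * α x : P)) : Ω) ∈ R := fun x => mem_hyperfocal hP ⟨α, hα⟩ hres x
  have claim : ∀ i : ℕ, ∀ x : P, (x : Ω) ∈ R → IsSmall p (x : Ω) → (x : Ω) ∈ zetaS S i → α x = x := by
    intro i
    induction i with
    | zero =>
      intro x _ _ hx
      obtain ⟨y, hy, hye⟩ := hx
      have hy1 : y = 1 := by
        have : y ∈ (⊥ : Subgroup S) := by
          rw [← Subgroup.upperCentralSeries_zero]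
          exact hy
        exact Subgroup.mem_bot.1 this
      have : x = 1 := by
        apply Subtype.ext
        rw [← hye, hy1]
        rfl
      rw [this, map_one]
    | succ i ih =>
      let gens : Set P := {x | (x : Ω) ∈ R ∧ IsSmall p (x : Ω) ∧ (x : Ω) ∈ zetaS S (i + 1)}
      let Y : Subgroup P := Subgroup.closure gens
      have hYinv : ∀ y ∈ Y, α y ∈ Y := by
        intro y hy
        induction hy using Subgroup.closure_induction with
        | mem x hx =>
          obtain ⟨h1, h2, h3⟩ := hx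
          obtain ⟨g, hg, hv⟩ := hC x h1 h2
          refine Subgroup.subset_closure ⟨?_, ?_, ?_⟩
          · rw [hv]
            exact hyperfocal_conj_mem hg h1
          · rw [hv]
            rcases h2 with h2 | ⟨h4, h5⟩
            · refine Or.inl ?_
              rw [conj_pow, h2]
              simp
            · refine Or.inr ⟨h4, ?_⟩
              rw [conj_pow, h5]
              simp
          · rw [hv]
            exact zetaS_conj h3 hg
        | one => rw [map_one]; exact Y.one_mem
        | mul a b _ _ ha hb => rw [map_mul]; exact Y.mul_mem ha hb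
        | inv a _ ha => rw [map_inv]; exact Y.inv_mem ha
      have hYM : ∀ y ∈ Y, (((y⁻¹ * α y : P)) : Ω) ∈ zetaS S i := by
        intro y hy
        induction hy using Subgroup.closure_induction with
        | mem x hx =>
          obtain ⟨h1, h2, h3⟩ := hx
          obtain ⟨g, hg, hv⟩ := hC x h1 h2
          have e : (((x⁻¹ * α x : P)) : Ω) = (x : Ω)⁻¹ * g * ((x : Ω)⁻¹)⁻¹ * g⁻¹ := by
            show (x : Ω)⁻¹ * ((α x : P) : Ω) = _
            rw [hv]
            group
          rw [e]
          exact zetaS_comm (Subgroup.inv_mem _ h3) hg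
        | one => simp
        | mul a b _ _ ha hb =>
          have e : (((a * b)⁻¹ * α (a * b) : P) : Ω) =
              (b : Ω)⁻¹ * ((a⁻¹ * α a : P) : Ω) * ((b : Ω)⁻¹)⁻¹ * ((b⁻¹ * α b : P) : Ω) := by
            rw [map_mul]
            push_cast
            group
          rw [e]
          exact Subgroup.mul_mem _ (zetaS_conj ha (S.inv_mem (hP b.2))) hb
        | inv a _ ha =>
          have e : ((a⁻¹⁻¹ * α a⁻¹ : P) : Ω) = (a : Ω) * ((a⁻¹ * α a : P) : Ω)⁻¹ * (a : Ω)⁻¹ := by
            rw [map_inv]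
            push_cast
            group
          rw [e]
          exact zetaS_conj (Subgroup.inv_mem _ ha) (hP a.2)
      let W : Subgroup P := Subgroup.closure {w | ∃ y ∈ Y, w = y⁻¹ * α y}
      have hWP : ∀ w ∈ W, (w : Ω) ∈ R ∧ (w : Ω) ∈ zetaS S i := by
        intro w hw
        induction hw using Subgroup.closure_induction with
        | mem x hx =>
          obtain ⟨y, hy, rfl⟩ := hx
          exact ⟨hcomm y, hYM y hy⟩
        | one => exact ⟨R.one_mem, Subgroup.one_mem _⟩
        | mul a b _ _ ha hb => exact ⟨R.mul_mem ha.1 hb.1, Subgroup.mul_mem _ ha.2 hb.2⟩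
        | inv a _ ha => exact ⟨R.inv_mem ha.1, Subgroup.inv_mem _ ha.2⟩
      have hWinv : ∀ w ∈ W, α w ∈ W := by
        intro w hw
        induction hw using Subgroup.closure_induction with
        | mem x hx =>
          obtain ⟨y, hy, rfl⟩ := hx
          refine Subgroup.subset_closure ⟨α y, hYinv y hy, ?_⟩
          rw [map_mul, map_inv]
        | one => rw [map_one]; exact W.one_mem
        | mul a b _ _ ha hb => rw [map_mul]; exact W.mul_mem ha hb
        | inv a _ ha => rw [map_inv]; exact W.inv_mem ha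
      have hfix := fix_subgroup_of_fix_small hPp α hco W hWinv
        (fun w hw hsm => ih w (hWP w hw).1 (isSmall_coe.1 hsm) (hWP w hw).2)
      intro x h1 h2 h3
      have hxY : x ∈ Y := Subgroup.subset_closure ⟨h1, h2, h3⟩
      exact Cfsg.Agent.Lib.Transfer.fix_of_step hPp α hco x (hfix _ (Subgroup.subset_closure ⟨x, hxY, rfl⟩))
  haveI : Group.IsNilpotent S := hS.isNilpotent
  obtain ⟨n, hn⟩ := Group.IsNilpotent.nilpotent S
  refine eq_one_of_fix_small_hyper hS hP hα hco fun x hx hsm => claim n x hx hsm ?_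
  refine ⟨⟨x, hP x.2⟩, ?_, rfl⟩
  rw [hn]
  exact Subgroup.mem_top _

/-- The order of a nontrivial small element. -/
theorem card_zpowers_of_small {x : Ω} (hx : IsSmall p x) (hne : x ≠ 1) :
    Nat.card (Subgroup.zpowers x) = p ∨ Nat.card (Subgroup.zpowers x) = 4 := by
  have hp := (Fact.out : p.Prime)
  rw [Nat.card_zpowers]
  rcases hx with h | ⟨h1, h2⟩
  · exact Or.inl (orderOf_eq_prime h hne)
  · have h3 : orderOf x ∣ 2 ^ 2 := orderOf_dvd_of_pow_eq_one (by simpa using h2)
    obtain ⟨k, hk, hk2⟩ := (Nat.dvd_prime_pow Nat.prime_two).1 h3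
    interval_cases k
    · simp only [pow_zero, orderOf_eq_one_iff] at hk2
      exact absurd hk2 hne
    · left
      rw [hk2, h1]
      norm_num
    · right
      rw [hk2]
      norm_num

/-- The criterion for the inner system in terms of small elements of the hyperfocal subgroup. -/
theorem eq_inner_of_small (hS : IsPGroup p S) (hF : F.IsSaturated p)
    (h : ∀ A B : Subgroup Ω, A ≤ F.hyperfocalSubgroup p → B ≤ F.hyperfocalSubgroup p → IsCyclic A →
      (Nat.card A = p ∨ Nat.card A = 4) → IsCyclic B → (Nat.card B = p ∨ Nat.card B = 4) →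
      F.homSet A B ⊆ (innerFusionSystem S).Hom A) : F = innerFusionSystem S := by
  have hsc := hyperfocal_stronglyClosed (F := F) hS hF
  refine eq_inner_of_coprime_trivial hS hF fun P hPn α hα hco => ?_
  have hP := hPn.1
  have hφ := (mem_autGroup_iff hP).1 hα
  refine eq_one_of_conj_small hS hP hα hco fun x hx hsm => ?_
  by_cases hne : (x : Ω) = 1
  · refine ⟨1, S.one_mem, ?_⟩
    have : x = 1 := Subtype.ext hne
    rw [this, map_one]
    simp
  have hA : Subgroup.zpowers (x : Ω) ≤ P := by
    rw [Subgroup.zpowers_le]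
    exact x.2
  have hφA := res_mem F hφ hA
  have hxy : ((α x : P) : Ω) ∈ F.hyperfocalSubgroup p :=
    hsc.2 _ (Subgroup.zpowers_le.2 hx) _ hφA ⟨x, Subgroup.mem_zpowers _⟩
  have hord : orderOf ((α x : P) : Ω) = orderOf (x : Ω) := by
    rw [Subgroup.orderOf_coe, Subgroup.orderOf_coe, MulEquiv.orderOf_eq]
  have hsmB : Nat.card (Subgroup.zpowers ((α x : P) : Ω)) = p ∨ Nat.card (Subgroup.zpowers ((α x : P) : Ω)) = 4 := by
    have := card_zpowers_of_small hsm hne
    rwa [Nat.card_zpowers, ← hord, ← Nat.card_zpowers] at this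
  have hmem := h _ _ (Subgroup.zpowers_le.2 hx) (Subgroup.zpowers_le.2 hxy) inferInstance
    (card_zpowers_of_small hsm hne) inferInstance hsmB ⟨hφA, fun y => by
      obtain ⟨y, hy⟩ := y
      obtain ⟨k, rfl⟩ := Subgroup.mem_zpowers_iff.1 hy
      refine Subgroup.mem_zpowers_iff.2 ⟨k, ?_⟩
      have e : (⟨(x : Ω) ^ k, hy⟩ : Subgroup.zpowers (x : Ω)) = (⟨x, Subgroup.mem_zpowers _⟩ : Subgroup.zpowers (x : Ω)) ^ k :=
        Subtype.ext (by simp)
      rw [e, map_zpow]
      rfl⟩
  obtain ⟨-, g, hg, hv⟩ := mem_inner_hom.1 hmem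
  exact ⟨g, hg, hv ⟨x, Subgroup.mem_zpowers _⟩⟩

/-- Conjugation by a `p`-element on a normal cyclic subgroup of order `p` is trivial. -/
theorem conj_eq_of_pow_prime {G : Type*} [Group G] {x g : G} (hx : x ^ p = 1) {e : ℕ} (hg : g ^ p ^ e = 1)
    (hm : g * x * g⁻¹ ∈ Subgroup.zpowers x) : g * x * g⁻¹ = x := by
  have hp := (Fact.out : p.Prime)
  have hfin : IsOfFinOrder x := isOfFinOrder_iff_pow_eq_one.2 ⟨p, hp.pos, hx⟩
  obtain ⟨n, hn⟩ : ∃ n : ℕ, x ^ n = g * x * g⁻¹ := by
    have := (hfin.mem_powers_iff_mem_zpowers).2 hm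
    exact this
  have hit : ∀ k : ℕ, g ^ k * x * (g ^ k)⁻¹ = x ^ n ^ k := by
    intro k
    induction k with
    | zero => simp
    | succ k ih =>
      have h1 : g * x ^ n ^ k * g⁻¹ = (g * x * g⁻¹) ^ n ^ k := (conj_pow).symm
      calc g ^ (k + 1) * x * (g ^ (k + 1))⁻¹ = g * (g ^ k * x * (g ^ k)⁻¹) * g⁻¹ := by
            rw [pow_succ']
            group
        _ = x ^ n ^ (k + 1) := by
            rw [ih, h1, ← hn, ← pow_mul, pow_succ' n k]
  have h2 := hit (p ^ e)
  rw [hg] at h2
  simp only [one_mul, inv_one, mul_one] at h2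
  have h3 : n ^ (n ^ 0 * p ^ e) ≡ n [MOD p] := by
    haveI := Fact.mk hp
    have := (ZMod.natCast_eq_natCast_iff (n ^ (n ^ 0 * p ^ e)) n p).1 (by
      push_cast
      simp [ZMod.pow_card_pow])
    exact this
  have h4 : x ^ n ^ p ^ e = x ^ n := by
    have h5 : n ^ p ^ e ≡ n [MOD orderOf x] := by
      have h6 : orderOf x ∣ p := orderOf_dvd_of_pow_eq_one hx
      have h7 : n ^ (n ^ 0 * p ^ e) = n ^ p ^ e := by simp
      rw [h7] at h3
      exact h3.of_dvd h6
    exact (pow_eq_pow_iff_modEq).2 h5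
  rw [← hn, ← h4, ← h2]

/-- An essential subgroup forces a nontrivial coprime element generated by `p`-elements. -/
theorem false_of_essential (hS : IsPGroup p S) {P : Subgroup Ω} (he : F.IsEssential p P)
    (hK : ∀ a ∈ Subgroup.closure {a : F.autGroup P | ∃ k, orderOf a = p ^ k}, Nat.Coprime (orderOf a) p → a = 1) : False := by
  have hp := (Fact.out : p.Prime)
  have hPS := he.1.1
  have := finite_of_le hPS
  have := finite_autGroup F hPS
  set A := F.autGroup P with hA
  set K : Subgroup A := Subgroup.closure {a : A | ∃ k, orderOf a = p ^ k} with hKd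
  have hsplit : ∀ a : A, ∃ k m : ℕ, ¬ p ∣ m ∧ orderOf a = p ^ k * m := fun a =>
    Nat.exists_eq_pow_mul_and_not_dvd (orderOf_pos a).ne' p hp.ne_one
  have hKp : IsPGroup p K := by
    rintro ⟨κ, hκ⟩
    obtain ⟨k, m, hm, he⟩ := hsplit κ
    refine ⟨k, Subtype.ext (hK _ (K.pow_mem hκ _) ?_)⟩
    have hβ : (κ ^ p ^ k) ^ m = 1 := by rw [← pow_mul, ← he, pow_orderOf_eq_one]
    exact Nat.Coprime.coprime_dvd_left (orderOf_dvd_of_pow_eq_one hβ) ((Nat.Prime.coprime_iff_not_dvd hp).2 hm).symm
  have hKn : K.Normal := by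
    refine ⟨fun n hn g => ?_⟩
    induction hn using Subgroup.closure_induction with
    | mem a ha =>
      obtain ⟨k, hk⟩ := ha
      refine Subgroup.subset_closure ⟨k, ?_⟩
      rw [← hk, ← MulAut.conj_apply, MulEquiv.orderOf_eq]
    | one => simp [K.one_mem]
    | mul a b _ _ ha hb =>
      have e : g * (a * b) * g⁻¹ = (g * a * g⁻¹) * (g * b * g⁻¹) := by group
      rw [e]
      exact K.mul_mem ha hb
    | inv a _ ha =>
      have e : g * a⁻¹ * g⁻¹ = (g * a * g⁻¹)⁻¹ := by group
      rw [e]
      exact K.inv_mem ha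
  have hKO := Cfsg.Agent.Lib.Core.le_pCore hKn hKp
  have hR := (isRadical_of_essential hS he).2
  obtain ⟨-, -, hN, E, hE⟩ := he
  have hcard := hE.1
  haveI : Fact p.Prime := ⟨hp⟩
  obtain ⟨q, hq⟩ := exists_prime_orderOf_dvd_card' p hcard
  obtain ⟨g, rfl⟩ := QuotientGroup.mk_surjective q
  obtain ⟨k, m, hm, he⟩ := hsplit g
  have h1 : g ^ m ∈ K := by
    refine Subgroup.subset_closure ?_
    have h2 : (g ^ m) ^ p ^ k = 1 := by
      rw [← pow_mul, mul_comm, ← he, pow_orderOf_eq_one]
    obtain ⟨j, -, hj⟩ := (Nat.dvd_prime_pow hp).1 (orderOf_dvd_of_pow_eq_one h2)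
    exact ⟨j, hj⟩
  have h2 : ((g ^ m : A) : MulAut P) ∈ Inn P := by
    rw [← hR]
    exact ⟨_, hKO h1, rfl⟩
  have h3 : ((g : A ⧸ (Inn P).subgroupOf A)) ^ m = 1 := by
    rw [← QuotientGroup.mk_pow]
    exact (QuotientGroup.eq_one_iff _).2 (Subgroup.mem_subgroupOf.2 h2)
  have h4 := orderOf_dvd_of_pow_eq_one h3
  rw [hq] at h4
  exact hm h4

/-- No essential subgroups when small elements of the focal subgroup generate normal subgroups of `S`. -/
theorem not_essential_of_focal (hS : IsPGroup p S) (hF : F.IsSaturated p)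
    (hnorm : ∀ x ∈ F.focalSubgroup, (x ^ p = 1 ∨ (p = 2 ∧ x ^ 4 = 1)) → ∀ s ∈ S, s * x * s⁻¹ ∈ Subgroup.zpowers x)
    {P : Subgroup Ω} (he : F.IsEssential p P) : False := by
  have hp := (Fact.out : p.Prime)
  have hPS := he.1.1
  have := finite_of_le hPS
  have := finite_autGroup F hPS
  have hPp : IsPGroup p P := hS.to_le hPS
  set A := F.autGroup P with hA
  have hfoc : ∀ (β : A) (x : P), (x : Ω) ∈ F.focalSubgroup → (((β : MulAut P) x : P) : Ω) ∈ F.focalSubgroup := by
    intro β x hx
    have h1 : (x : Ω)⁻¹ * (((β : MulAut P) x : P) : Ω) ∈ F.focalSubgroup :=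
      Subgroup.subset_closure ⟨P, P.subtype.comp (β : MulAut P).toMonoidHom, x, (mem_autGroup_iff hPS).1 β.2, rfl⟩
    have e : (((β : MulAut P) x : P) : Ω) = (x : Ω) * ((x : Ω)⁻¹ * (((β : MulAut P) x : P) : Ω)) := by group
    rw [e]
    exact Subgroup.mul_mem _ hx h1
  -- the property of the generated group
  let Pr : A → Prop := fun κ => ∀ x : P, (x : Ω) ∈ F.focalSubgroup →
    (x ^ p = 1 → (κ : MulAut P) x = x) ∧ (p = 2 → x ^ 4 = 1 → (κ : MulAut P) x = x ∨ (κ : MulAut P) x = x⁻¹)
  have hgen : ∀ t : A, (∃ k, orderOf t = p ^ k) → Pr t := by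
    rintro t ⟨k, hk⟩ x hx
    have hfa := (IsSat.fullyAutomized_of_fullyNormalized hS hF he.2.1).2
    have htk : (t : MulAut P) ^ p ^ k = 1 := by
      have := pow_orderOf_eq_one t
      rw [hk] at this
      exact congrArg Subtype.val this
    obtain ⟨β, hβ, hv⟩ := IsSylowIn.exists_conj_le hfa (isPGroup_zpowers htk) (Subgroup.zpowers_le.2 t.2)
    have h1 := hv _ (Subgroup.mem_zpowers _)
    obtain ⟨g, hg, hgv⟩ := mem_autInducedBy_iff.1 h1
    set β' : A := ⟨β, hβ⟩ with hβ'
    set x' : P := β x with hx'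
    have hx'f : (x' : Ω) ∈ F.focalSubgroup := hfoc β' x hx
    have hstep : β ((t : MulAut P) x) = ⟨g * x' * g⁻¹, by
        have := (β * (t : MulAut P) * β⁻¹ : MulAut P) x' |>.2
        rw [hgv] at this
        exact this⟩ := by
      apply Subtype.ext
      show ((β ((t : MulAut P) x) : P) : Ω) = g * x' * g⁻¹
      rw [← hgv x', MulAut.mul_apply, MulAut.mul_apply, hx']
      simp
    have hgp : ∃ e, g ^ p ^ e = 1 := by
      obtain ⟨e, he⟩ := hS ⟨g, hg⟩
      exact ⟨e, by simpa using congrArg Subtype.val he⟩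
    obtain ⟨e, he⟩ := hgp
    constructor
    · intro hxp
      have hx'p : (x' : Ω) ^ p = 1 := by
        have : x' ^ p = 1 := by rw [hx', ← map_pow, hxp, map_one]
        exact_mod_cast congrArg Subtype.val this
      have h2 := hnorm _ hx'f (Or.inl hx'p) g hg
      have h3 := conj_eq_of_pow_prime hx'p he h2
      apply β.injective
      rw [hstep]
      exact Subtype.ext h3
    · intro hp2 hx4
      subst hp2
      have hx'4 : (x' : Ω) ^ 4 = 1 := by
        have : x' ^ 4 = 1 := by rw [hx', ← map_pow, hx4, map_one]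
        exact_mod_cast congrArg Subtype.val this
      have h2 := hnorm _ hx'f (Or.inr ⟨rfl, hx'4⟩) g hg
      by_cases hsq : (x' : Ω) ^ 2 = 1
      · left
        have h3 := conj_eq_of_pow_prime hsq he (hnorm _ hx'f (Or.inl hsq) g hg)
        apply β.injective
        rw [hstep]
        exact Subtype.ext h3
      · have hord : orderOf (x' : Ω) = 4 := by
          have h5 : orderOf (x' : Ω) ∣ 2 ^ 2 := orderOf_dvd_of_pow_eq_one (by simpa using hx'4)
          obtain ⟨j, hj, hj2⟩ := (Nat.dvd_prime_pow Nat.prime_two).1 h5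
          interval_cases j
          · have h6 : (x' : Ω) = 1 := orderOf_eq_one_iff.1 (by simpa using hj2)
            exact absurd (by rw [h6]; simp) hsq
          · have h7 : orderOf (x' : Ω) = 2 := by simpa using hj2
            exact absurd (by rw [← h7]; exact pow_orderOf_eq_one _) hsq
          · simpa using hj2
        have hconj4 : orderOf (g * (x' : Ω) * g⁻¹) = 4 := by
          rw [← MulAut.conj_apply, MulEquiv.orderOf_eq, hord]
        obtain ⟨n, hn⟩ : ∃ n : ℕ, (x' : Ω) ^ n = g * (x' : Ω) * g⁻¹ := by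
          have hfin : IsOfFinOrder (x' : Ω) := isOfFinOrder_iff_pow_eq_one.2 ⟨4, by norm_num, hx'4⟩
          exact (hfin.mem_powers_iff_mem_zpowers).2 h2
        have hn4 : (x' : Ω) ^ (n % 4) = g * (x' : Ω) * g⁻¹ := by
          rw [← hn, ← hord, pow_mod_orderOf]
        have hlt : n % 4 < 4 := Nat.mod_lt _ (by norm_num)
        have hcases : g * (x' : Ω) * g⁻¹ = x' ∨ g * (x' : Ω) * g⁻¹ = (x' : Ω)⁻¹ := by
          generalize n % 4 = r at hn4 hlt
          interval_cases r
          · rw [pow_zero] at hn4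
            rw [← hn4] at hconj4
            simp at hconj4
          · left
            rw [← hn4, pow_one]
          · exfalso
            have : (g * (x' : Ω) * g⁻¹) ^ 2 = 1 := by
              rw [← hn4, ← pow_mul]
              exact hx'4
            have h6 := orderOf_dvd_of_pow_eq_one this
            rw [hconj4] at h6
            omega
          · right
            rw [← hn4]
            have : (x' : Ω) ^ 3 * (x' : Ω) = 1 := by
              rw [← pow_succ]
              exact hx'4
            exact eq_inv_of_mul_eq_one_left this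
        rcases hcases with h3 | h3
        · left
          apply β.injective
          rw [hstep]
          exact Subtype.ext h3
        · right
          apply β.injective
          rw [hstep, map_inv]
          exact Subtype.ext h3
  have hall : ∀ κ ∈ Subgroup.closure {a : A | ∃ k, orderOf a = p ^ k}, Pr κ := by
    intro κ hκ
    induction hκ using Subgroup.closure_induction with
    | mem t ht => exact hgen t ht
    | one => exact fun x _ => ⟨fun _ => rfl, fun _ _ => Or.inl rfl⟩
    | mul a b _ _ ha hb =>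
      intro x hx
      constructor
      · intro h1
        show (a : MulAut P) ((b : MulAut P) x) = x
        rw [(hb x hx).1 h1, (ha x hx).1 h1]
      · intro h1 h2
        show (a : MulAut P) ((b : MulAut P) x) = x ∨ (a : MulAut P) ((b : MulAut P) x) = x⁻¹
        rcases (hb x hx).2 h1 h2 with h3 | h3 <;> rw [h3]
        · exact (ha x hx).2 h1 h2
        · rw [map_inv]
          rcases (ha x hx).2 h1 h2 with h4 | h4 <;> rw [h4]
          · exact Or.inr rfl
          · exact Or.inl (inv_inv x)
    | inv a _ ha =>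
      intro x hx
      have hy : (((a⁻¹ : A) : MulAut P) x : Ω) ∈ F.focalSubgroup := hfoc a⁻¹ x hx
      constructor
      · intro h1
        have h2 : (((a⁻¹ : A) : MulAut P) x) ^ p = 1 := by rw [← map_pow, h1, map_one]
        have h3 := (ha _ hy).1 h2
        have h4 : (a : MulAut P) (((a⁻¹ : A) : MulAut P) x) = x := by simp
        rw [h4] at h3
        exact h3.symm
      · intro h1 h2
        have h3 : (((a⁻¹ : A) : MulAut P) x) ^ 4 = 1 := by rw [← map_pow, h2, map_one]
        have h4 : (a : MulAut P) (((a⁻¹ : A) : MulAut P) x) = x := by simp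
        rcases (ha _ hy).2 h1 h3 with h5 | h5
        · left
          rw [h4] at h5
          exact h5.symm
        · right
          rw [h4] at h5
          have h6 := congrArg (·⁻¹) h5
          simp only [inv_inv] at h6
          exact h6.symm
  refine false_of_essential hS he fun a ha hco => ?_
  have hco' : Nat.Coprime (orderOf (a : MulAut P)) p := by
    rw [Subgroup.orderOf_coe]
    exact hco
  apply Subtype.ext
  refine eq_one_of_fix_small hPp (a : MulAut P) hco' (F.focalSubgroup.subgroupOf P) (fun x => ?_) (fun x hx hsm => ?_)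
  · refine Subgroup.mem_subgroupOf.2 (Subgroup.subset_closure ⟨P, P.subtype.comp (a : MulAut P).toMonoidHom, x, (mem_autGroup_iff hPS).1 a.2, rfl⟩)
  · have hxf := Subgroup.mem_subgroupOf.1 hx
    have hPr := hall a ha x hxf
    rcases hsm with h1 | ⟨h1, h2⟩
    · exact hPr.1 h1
    · rcases hPr.2 h1 h2 with h3 | h3
      · exact h3
      · -- odd order forces the element to be fixed
        subst h1
        have hodd : Odd (orderOf (a : MulAut P)) := by
          rw [Nat.odd_iff]
          have := Nat.Coprime.symm hco'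
          have h4 := (Nat.Prime.coprime_iff_not_dvd Nat.prime_two).1 this
          omega
        have hpow : ∀ n : ℕ, ((a : MulAut P) ^ (2 * n)) x = x := by
          intro n
          induction n with
          | zero => simp
          | succ n ih =>
            have e : 2 * (n + 1) = 2 * n + 2 := by ring
            rw [e, pow_add, pow_two, MulAut.mul_apply, MulAut.mul_apply, h3, map_inv, h3, inv_inv, ih]
        obtain ⟨n, hn⟩ := hodd
        have h5 := pow_orderOf_eq_one (a : MulAut P)
        rw [hn, pow_succ] at h5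
        have h6 : (((a : MulAut P) ^ (2 * n)) * (a : MulAut P)) x = x := by rw [h5]; rfl
        rw [MulAut.mul_apply, h3, map_inv, hpow n] at h6
        have h7 : x = x⁻¹ := by
          rw [eq_comm] at h6
          exact h6
        rw [h3, ← h7]

/-- **A small focal criterion**: `S` is normal in the system. -/
theorem isNormal_of_focal (hS : IsPGroup p S) (hF : F.IsSaturated p)
    (hnorm : ∀ x ∈ F.focalSubgroup, (x ^ p = 1 ∨ (p = 2 ∧ x ^ 4 = 1)) → ∀ s ∈ S, s * x * s⁻¹ ∈ Subgroup.zpowers x) :
    F.IsNormal S :=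
  isNormal_of_autGroup hS hF (Subgroup.le_normalizer) le_rfl (fun P hP => by
    have hPS : P = S := hP.elim id (fun he => (not_essential_of_focal hS hF hnorm he).elim)
    subst hPS
    refine ⟨le_rfl, fun α _ => ?_⟩
    rw [Subgroup.subgroupOf_self]
    exact Subgroup.map_top_of_surjective _ α.surjective)

end Fusion

end Cfsg.Agent.Lib.Fusion.SmallExp
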