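/-
A characteristic-type subgroup of small elements in a subgroup of a `p`-group, detecting coprime automorphisms.
-/
import Cfsg.Agent.Lib.Fusion.SmallExp
import Cfsg.Agent.Lib.Fusion.Stable
import Mathlib

set_option autoImplicit false

namespace Cfsg.Agent.Lib.Fusion.SmallGroup

open Cfsg Cfsg.FusionSystem Cfsg.Agent.Lib.Fusion Cfsg.Agent.Lib.Fusion.SmallExp
open scoped commutatorElement

universe u

section Group

variable {G : Type*} [Group G] {p : ℕ}

/-- Restriction of an automorphism of a finite group to an invariant subgroup. -/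
noncomputable def restrictAut [Finite G] (a : MulAut G) (W : Subgroup G) (hW : ∀ x ∈ W, a x ∈ W) : MulAut W := by
  let f : W →* W := (a.toMonoidHom.comp W.subtype).codRestrict W (fun x => hW x x.2)
  have hinj : Function.Injective f := fun x y h => by
    apply Subtype.ext
    exact a.injective (congrArg (fun y : W => (y : G)) h)
  exact MulEquiv.ofBijective f ⟨hinj, Finite.injective_iff_surjective.1 hinj⟩

@[simp] theorem restrictAut_coe [Finite G] (a : MulAut G) (W : Subgroup G) (hW : ∀ x ∈ W, a x ∈ W) (x : W) :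
    ((restrictAut a W hW x : W) : G) = a x := rfl

theorem orderOf_restrictAut_dvd [Finite G] (a : MulAut G) (W : Subgroup G) (hW : ∀ x ∈ W, a x ∈ W) :
    orderOf (restrictAut a W hW) ∣ orderOf a := by
  apply orderOf_dvd_of_pow_eq_one
  have hbp : ∀ (n : ℕ) (x : W), (((restrictAut a W hW ^ n) x : W) : G) = (a ^ n) (x : G) := by
    intro n
    induction n with
    | zero => intro x; rfl
    | succ n ih =>
      intro x
      rw [pow_succ, MulAut.mul_apply, ih, pow_succ, MulAut.mul_apply]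
      rfl
  ext x
  rw [hbp, pow_orderOf_eq_one]
  rfl

/-- A subgroup of small elements of `D`, preserved by the automorphisms preserving `D`, which detects coprime automorphisms. -/
theorem exists_small_group [Finite G] [Fact p.Prime] (hG : IsPGroup p G) (D : Subgroup G) :
    ∃ M : Subgroup G, M ≤ D ∧ (∀ x ∈ M, IsSmall p x) ∧ (∀ β : MulAut G, (∀ x ∈ D, β x ∈ D) → ∀ x ∈ M, β x ∈ M) ∧
      (∀ a : MulAut G, Nat.Coprime (orderOf a) p → (∀ x ∈ D, a x ∈ D) → (∀ x ∈ M, a x = x) → ∀ x ∈ D, a x = x) := by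
  have hD : IsPGroup p D := hG.to_subgroup D
  obtain ⟨C, hch, h1, h2, h3⟩ := Cfsg.Agent.Lib.Transfer.exists_critical hD
  haveI : C.Normal := inferInstance
  have hmul : ∀ x ∈ C, ∀ y ∈ C, IsSmall p (x : G) → IsSmall p (y : G) → IsSmall p ((x * y : D) : G) := by
    intro x hx y hy hsx hsy
    by_cases hp2 : p = 2
    · subst hp2
      have hx4 : (x : G) ^ 4 = 1 := by
        rcases hsx with h | ⟨_, h⟩
        · rw [show (4 : ℕ) = 2 * 2 by norm_num, pow_mul, h, one_pow]
        · exact h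
      have hy4 : (y : G) ^ 4 = 1 := by
        rcases hsy with h | ⟨_, h⟩
        · rw [show (4 : ℕ) = 2 * 2 by norm_num, pow_mul, h, one_pow]
        · exact h
      refine Or.inr ⟨rfl, ?_⟩
      have := mul_pow_four_of_critical C h1 h2 x hx y hy
      have h4 := congrArg (fun z : D => (z : G)) this
      simp only [Subgroup.coe_pow, Subgroup.coe_mul, hx4, hy4, mul_one] at h4
      exact_mod_cast h4
    · have hx1 : (x : G) ^ p = 1 := by
        rcases hsx with h | ⟨h, _⟩
        · exact h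
        · exact absurd h hp2
      have hy1 : (y : G) ^ p = 1 := by
        rcases hsy with h | ⟨h, _⟩
        · exact h
        · exact absurd h hp2
      refine Or.inl ?_
      have := Cfsg.Agent.Lib.Transfer.mul_pow_of_critical hp2 C h1 h2 x hx y hy
      have h4 := congrArg (fun z : D => (z : G)) this
      simp only [Subgroup.coe_pow, Subgroup.coe_mul, hx1, hy1, mul_one] at h4
      exact_mod_cast h4
  have hone : IsSmall p (1 : G) := Or.inl (one_pow _)
  have hinv : ∀ x : G, IsSmall p x → IsSmall p x⁻¹ := by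
    rintro x (h | ⟨h1, h2⟩)
    · exact Or.inl (by rw [inv_pow, h, inv_one])
    · exact Or.inr ⟨h1, by rw [inv_pow, h2, inv_one]⟩
  let M : Subgroup G :=
    { carrier := {x | ∃ hx : x ∈ D, (⟨x, hx⟩ : D) ∈ C ∧ IsSmall p x}
      mul_mem' := by
        rintro a b ⟨ha, hca, hsa⟩ ⟨hb, hcb, hsb⟩
        exact ⟨D.mul_mem ha hb, C.mul_mem hca hcb, hmul _ hca _ hcb hsa hsb⟩
      one_mem' := ⟨D.one_mem, C.one_mem, hone⟩
      inv_mem' := by
        rintro a ⟨ha, hca, hsa⟩
        exact ⟨D.inv_mem ha, C.inv_mem hca, hinv _ hsa⟩ }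
  have hmem : ∀ x, x ∈ M ↔ ∃ hx : x ∈ D, (⟨x, hx⟩ : D) ∈ C ∧ IsSmall p x := fun _ => Iff.rfl
  have hbC : ∀ (β : MulAut G) (hβ : ∀ x ∈ D, β x ∈ D) (x : D), x ∈ C → restrictAut β D hβ x ∈ C := by
    intro β hβ x hx
    exact (Subgroup.characteristic_iff_le_comap.mp hch (restrictAut β D hβ)) hx
  refine ⟨M, ?_, ?_, ?_, ?_⟩
  · rintro x ⟨hx, -, -⟩
    exact hx
  · rintro x ⟨-, -, hs⟩
    exact hs
  · rintro β hβ x ⟨hx, hc, hs⟩
    refine ⟨hβ x hx, hbC β hβ ⟨x, hx⟩ hc, ?_⟩
    rcases hs with h | ⟨h1, h2⟩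
    · exact Or.inl (by rw [← map_pow, h, map_one])
    · exact Or.inr ⟨h1, by rw [← map_pow, h2, map_one]⟩
  · intro a ha hinvD hfix x hx
    let b := restrictAut a D hinvD
    have hco : Nat.Coprime (orderOf b) p :=
      Nat.Coprime.coprime_dvd_left (orderOf_restrictAut_dvd a D hinvD) ha
    have hfC : ∀ y ∈ C, b y = y := by
      refine fix_subgroup_of_fix_small hD b hco C (hbC a hinvD) ?_
      intro y hy hsy
      apply Subtype.ext
      exact hfix y ⟨y.2, hy, isSmall_coe.1 hsy⟩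
    have hb1 : b = 1 := Cfsg.Agent.Lib.Transfer.eq_one_of_fix_normal hD b hco C h3 hfC
    have : b ⟨x, hx⟩ = ⟨x, hx⟩ := by rw [hb1]; rfl
    exact congrArg Subtype.val this

end Group

section Fusion

variable {Ω : Type u} [Group Ω] {S : Subgroup Ω} [Finite S] {F : FusionSystem S} {p : ℕ} [Fact p.Prime]

/-- If the automorphisms of an essential subgroup preserve a chain in the small hyperfocal elements, contradiction. -/
theorem false_of_chain (hS : IsPGroup p S) (hF : F.IsSaturated p) {P : Subgroup Ω} (he : F.IsEssential p P)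
    (hC : ∀ (β : F.autGroup P) (x : P) (i : ℕ), (x : Ω) ∈ F.hyperfocalSubgroup p → IsSmall p (x : Ω) → (x : Ω) ∈ zetaS S i →
      (((β : MulAut P) x : P) : Ω) ∈ zetaS S i) : False := by
  have hPS := he.1.1
  have := finite_of_le hPS
  have := finite_autGroup F hPS
  have hPp : IsPGroup p P := hS.to_le hPS
  set A := F.autGroup P with hA
  set R := F.hyperfocalSubgroup p with hR
  have hsc := hyperfocal_stronglyClosed (F := F) hS hF
  let D : Subgroup P := R.subgroupOf P
  have hDinv : ∀ (β : A), ∀ x ∈ D, (β : MulAut P) x ∈ D := by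
    intro β x hx
    have hφ := (mem_autGroup_iff hPS).1 β.2
    have hx' : (x : Ω) ∈ R := Subgroup.mem_subgroupOf.1 hx
    have hA : Subgroup.zpowers (x : Ω) ≤ P := by
      rw [Subgroup.zpowers_le]
      exact x.2
    have hφA := res_mem F hφ hA
    exact Subgroup.mem_subgroupOf.2 (hsc.2 _ (Subgroup.zpowers_le.2 hx') _ hφA ⟨x, Subgroup.mem_zpowers _⟩)
  obtain ⟨M, hMD, hMs, hMinv, hMdet⟩ := exists_small_group hPp D
  have hMA : ∀ (β : A), ∀ x ∈ M, (β : MulAut P) x ∈ M := fun β => hMinv _ (hDinv β)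
  have hMi : ∀ (β : A) (i : ℕ) (x : P), x ∈ M → (x : Ω) ∈ zetaS S i → (((β : MulAut P) x : P) : Ω) ∈ zetaS S i := by
    intro β i x hx hz
    exact hC β x i (Subgroup.mem_subgroupOf.1 (hMD hx)) (isSmall_coe.1 (hMs x hx)) hz
  -- `p`-elements push the chain down
  let Pr : A → Prop := fun κ => ∀ (i : ℕ) (x : P), x ∈ M → (x : Ω) ∈ zetaS S (i + 1) →
    (((x⁻¹ * (κ : MulAut P) x : P)) : Ω) ∈ zetaS S i
  have hgen : ∀ t : A, (∃ k, orderOf t = p ^ k) → Pr t := by
    rintro t ⟨k, hk⟩ i x hx hz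
    have hfa := (IsSat.fullyAutomized_of_fullyNormalized hS hF he.2.1).2
    have htk : (t : MulAut P) ^ p ^ k = 1 := by
      have := pow_orderOf_eq_one t
      rw [hk] at this
      exact congrArg Subtype.val this
    obtain ⟨β, hβ, hv⟩ := IsSylowIn.exists_conj_le hfa (isPGroup_zpowers htk) (Subgroup.zpowers_le.2 t.2)
    have h1 := hv _ (Subgroup.mem_zpowers _)
    obtain ⟨g, hg, hgv⟩ := mem_autInducedBy_iff.1 h1
    set β' : A := ⟨β, hβ⟩ with hβ'
    set x' : P := β x with hx'
    have hx'M : x' ∈ M := hMA β' x hx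
    have hx'z : (x' : Ω) ∈ zetaS S (i + 1) := hMi β' _ x hx hz
    -- the conjugate
    have hcM : (β * (t : MulAut P) * β⁻¹ : MulAut P) ∈ A := A.mul_mem (A.mul_mem hβ t.2) (A.inv_mem hβ)
    have hy : (β * (t : MulAut P) * β⁻¹ : MulAut P) x' ∈ M := hMA ⟨_, hcM⟩ x' hx'M
    have hyv : (((β * (t : MulAut P) * β⁻¹ : MulAut P) x' : P) : Ω) = g * x' * g⁻¹ := hgv x'
    have hw : x'⁻¹ * (β * (t : MulAut P) * β⁻¹ : MulAut P) x' ∈ M := M.mul_mem (M.inv_mem hx'M) hy
    have hwz : (((x'⁻¹ * (β * (t : MulAut P) * β⁻¹ : MulAut P) x' : P)) : Ω) ∈ zetaS S i := by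
      have e : (((x'⁻¹ * (β * (t : MulAut P) * β⁻¹ : MulAut P) x' : P)) : Ω) = (x' : Ω)⁻¹ * g * ((x' : Ω)⁻¹)⁻¹ * g⁻¹ := by
        push_cast
        rw [hyv]
        group
      rw [e]
      exact zetaS_comm (Subgroup.inv_mem _ hx'z) hg
    have hres := hMi ⟨β⁻¹, A.inv_mem hβ⟩ i _ hw hwz
    have e : (⟨β⁻¹, A.inv_mem hβ⟩ : A).1 (x'⁻¹ * (β * (t : MulAut P) * β⁻¹ : MulAut P) x') = x⁻¹ * (t : MulAut P) x := by
      show β⁻¹ (x'⁻¹ * (β * (t : MulAut P) * β⁻¹ : MulAut P) x') = _
      rw [hx', map_mul, map_inv]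
      simp
    rw [e] at hres
    exact hres
  have hMiz : ∀ (i : ℕ) (y z : P), y ∈ M → z ∈ M → (y : Ω) ∈ zetaS S i → (z : Ω) ∈ zetaS S i → ((y * z : P) : Ω) ∈ zetaS S i :=
    fun i y z _ _ h1 h2 => Subgroup.mul_mem _ h1 h2
  have hmono : ∀ (i : ℕ), zetaS S i ≤ zetaS S (i + 1) := by
    intro i
    exact Subgroup.map_mono (Subgroup.upperCentralSeries_mono S (Nat.le_succ i))
  have hall : ∀ κ ∈ Subgroup.closure {a : A | ∃ k, orderOf a = p ^ k}, Pr κ := by
    intro κ hκ
    induction hκ using Subgroup.closure_induction with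
    | mem t ht => exact hgen t ht
    | one =>
      intro i x _ _
      have : (((x⁻¹ * ((1 : A) : MulAut P) x : P)) : Ω) = 1 := by simp
      rw [this]
      exact Subgroup.one_mem _
    | mul a b _ _ ha hb =>
      intro i x hx hz
      have hbx : (b : MulAut P) x ∈ M := hMA b x hx
      have hbz : (((b : MulAut P) x : P) : Ω) ∈ zetaS S (i + 1) := hMi b _ x hx hz
      have e : (((x⁻¹ * ((a * b : A) : MulAut P) x : P)) : Ω) =
          ((x⁻¹ * (b : MulAut P) x : P) : Ω) * ((((b : MulAut P) x)⁻¹ * (a : MulAut P) ((b : MulAut P) x) : P) : Ω) := by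
        show (x : Ω)⁻¹ * (((a : MulAut P) ((b : MulAut P) x) : P) : Ω) = _
        push_cast
        group
      rw [e]
      exact Subgroup.mul_mem _ (hb i x hx hz) (ha i _ hbx hbz)
    | inv a _ ha =>
      intro i x hx hz
      set y : P := ((a⁻¹ : A) : MulAut P) x with hy
      have hyM : y ∈ M := hMA a⁻¹ x hx
      have hyz : (y : Ω) ∈ zetaS S (i + 1) := hMi a⁻¹ _ x hx hz
      have h1 := ha i y hyM hyz
      have hay : (a : MulAut P) y = x := by simp [hy]
      rw [hay] at h1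
      have e : (((x⁻¹ * ((a⁻¹ : A) : MulAut P) x : P)) : Ω) = (((y⁻¹ * x : P)) : Ω)⁻¹ := by
        show (x : Ω)⁻¹ * (y : Ω) = ((y : Ω)⁻¹ * (x : Ω))⁻¹
        group
      rw [e]
      exact Subgroup.inv_mem _ h1
  refine false_of_essential hS he fun a ha hco => ?_
  have hco' : Nat.Coprime (orderOf (a : MulAut P)) p := by
    rw [Subgroup.orderOf_coe]
    exact hco
  -- `a` fixes the chain
  have hfix : ∀ (i : ℕ) (x : P), x ∈ M → (x : Ω) ∈ zetaS S i → (a : MulAut P) x = x := by
    intro i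
    induction i with
    | zero =>
      intro x _ hx
      obtain ⟨y, hy, hye⟩ := hx
      have hy1 : y = 1 := by
        have : y ∈ (⊥ : Subgroup S) := by
          rw [← Subgroup.upperCentralSeries_zero]
          exact hy
        exact Subgroup.mem_bot.1 this
      have : x = 1 := by
        apply Subtype.ext
        rw [← hye, hy1]
        rfl
      rw [this, map_one]
    | succ i ih =>
      intro x hx hz
      apply Cfsg.Agent.Lib.Transfer.fix_of_step hPp (a : MulAut P) hco' x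
      exact ih _ (M.mul_mem (M.inv_mem hx) (hMA a x hx)) (hall a ha i x hx hz)
  haveI : Group.IsNilpotent S := hS.isNilpotent
  obtain ⟨n, hn⟩ := Group.IsNilpotent.nilpotent S
  have hfixM : ∀ x ∈ M, (a : MulAut P) x = x := by
    intro x hx
    refine hfix n x hx ⟨⟨x, hPS x.2⟩, ?_, rfl⟩
    rw [hn]
    exact Subgroup.mem_top _
  have hfixD := hMdet a hco' (hDinv a) hfixM
  apply Subtype.ext
  ext x
  show (((a : MulAut P) x : P) : Ω) = x
  have hres : (⟨a, a.2⟩ : A) ∈ pResidual p A := by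
    refine Subgroup.subset_closure ?_
    show (orderOf (⟨a, a.2⟩ : A)).Coprime p
    exact hco
  have hmem : (((x⁻¹ * (a : MulAut P) x : P)) : Ω) ∈ R := mem_hyperfocal hPS ⟨a, a.2⟩ hres x
  have := Cfsg.Agent.Lib.Transfer.fix_of_step hPp (a : MulAut P) hco' x (hfixD _ (Subgroup.mem_subgroupOf.2 hmem))
  exact congrArg Subtype.val this

/-- An automorphism of `S` given as an element of the system preserves the upper central series. -/
theorem map_zetaS {ψ : S →* Ω} (hψ : ψ ∈ F.Hom S) (hv : ∀ y : S, ψ y ∈ S) {i : ℕ} {y : S} (hy : (y : Ω) ∈ zetaS S i) :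
    ψ y ∈ zetaS S i := by
  obtain ⟨β, -, hβ⟩ := exists_aut_of_map hψ hv
  obtain ⟨w, hw, hwe⟩ := hy
  have hwy : w = y := Subtype.ext hwe
  subst hwy
  refine ⟨β w, ?_, hβ w⟩
  haveI : (Subgroup.upperCentralSeries S i).Characteristic := inferInstance
  exact (Subgroup.characteristic_iff_le_comap.mp this β) hw

end Fusion

end Cfsg.Agent.Lib.Fusion.SmallGroup
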