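/-
Metacyclic strongly closed subgroups of `2`-groups are normal.
-/
import Cfsg.Agent.Lib.Fusion.MetaDihedral
import Cfsg.Agent.Lib.Fusion.SmallGroup
import Cfsg.Agent.Lib.Fusion.NormalSub
import Cfsg.Agent.Lib.Fusion.SmallExp
import Mathlib

set_option autoImplicit false

namespace Cfsg.Agent.Lib.Fusion.MetaEss

open Cfsg Cfsg.FusionSystem Cfsg.Agent.Lib.Fusion Cfsg.Agent.Lib.Fusion.SmallGroup

section Frat

/-- The automorphisms acting trivially on the Frattini quotient. -/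
def fratTriv (X : Type*) [Group X] [Finite X] : Subgroup (MulAut X) where
  carrier := {β | ∀ x : X, β x * x⁻¹ ∈ frattini X}
  one_mem' := fun x => by simp [Subgroup.one_mem]
  mul_mem' := fun {β γ} hβ hγ x => by
    have e : (β * γ) x * x⁻¹ = (β (γ x) * (γ x)⁻¹) * (γ x * x⁻¹) := by
      simp [MulAut.mul_apply]
    rw [e]
    exact Subgroup.mul_mem _ (hβ _) (hγ _)
  inv_mem' := fun {β} hβ x => by
    have e : β⁻¹ x * x⁻¹ = (β (β⁻¹ x) * (β⁻¹ x)⁻¹)⁻¹ := by
      simp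
    rw [e]
    exact Subgroup.inv_mem _ (hβ _)

theorem fratTriv_normal (X : Type*) [Group X] [Finite X] : (fratTriv X).Normal := by
  refine ⟨fun κ hκ γ x => ?_⟩
  have h1 : κ (γ⁻¹ x) * (γ⁻¹ x)⁻¹ ∈ frattini X := hκ _
  have h2 := (Subgroup.characteristic_iff_le_comap.mp (inferInstance : (frattini X).Characteristic) γ) h1
  have e : (γ * κ * γ⁻¹) x * x⁻¹ = γ (κ (γ⁻¹ x) * (γ⁻¹ x)⁻¹) := by
    simp [MulAut.mul_apply]
  rw [e]
  exact h2

theorem isPGroup_fratTriv {p : ℕ} [Fact p.Prime] {X : Type*} [Group X] [Finite X] (hX : IsPGroup p X) :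
    IsPGroup p (fratTriv X) := by
  have hp := (Fact.out : p.Prime)
  obtain ⟨n, hn⟩ := IsPGroup.iff_card.1 hX
  obtain ⟨r, hr⟩ : ∃ r, (frattini X).index = p ^ r := by
    have h1 : (frattini X).index ∣ p ^ n := by
      rw [← hn]
      exact Subgroup.index_dvd_card _
    obtain ⟨r, -, hr⟩ := (Nat.dvd_prime_pow hp).1 h1
    exact ⟨r, hr⟩
  have h2 := Cfsg.Agent.Lib.ClassSizes.AutFrattini.card_dvd_of_trivial_on_frattini hn hr (fratTriv X) (fun β hβ x => hβ x)
  obtain ⟨e, -, he⟩ := (Nat.dvd_prime_pow hp).1 h2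
  exact IsPGroup.of_card he

end Frat

variable {Ω : Type*} [Group Ω] {S : Subgroup Ω} {F : FusionSystem S} {p : ℕ} [Fact p.Prime]

/-- An `F`-automorphism of a radical subgroup `Q` that acts trivially on `Q/W`, and on an invariant subgroup `W` through
a normal `p`-subgroup of automorphisms, is inner. -/
theorem mem_inn_of_chain [Finite S] (hS : IsPGroup p S) {Q : Subgroup Ω} [Finite Q] (hR : F.IsRadical p Q) (W : Subgroup Q)
    (hW : ∀ β ∈ F.autGroup Q, ∀ x ∈ W, β x ∈ W) (B : Subgroup (MulAut W)) (hBn : B.Normal) (hB : IsPGroup p B)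
    {α : MulAut Q} (hα : α ∈ F.autGroup Q) (h1 : ∀ x : Q, x⁻¹ * α x ∈ W)
    (h2 : restrictAut (G := Q) α W (hW α hα) ∈ B) : α ∈ Inn Q := by
  have hp := (Fact.out : p.Prime)
  have hQS := hR.1
  have := finite_autGroup F hQS
  have hQp : IsPGroup p Q := hS.to_le hQS
  let resH : F.autGroup Q →* MulAut W :=
    { toFun := fun β => restrictAut (G := Q) β.1 W (hW β.1 β.2)
      map_one' := by
        ext x
        rfl
      map_mul' := fun a b => by
        ext x
        rfl }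
  let K₁ : Subgroup (F.autGroup Q) :=
    { carrier := {β | ∀ x : Q, x⁻¹ * (β : MulAut Q) x ∈ W}
      one_mem' := fun x => by simp [Subgroup.one_mem]
      mul_mem' := fun {β γ} hβ hγ x => by
        have e : x⁻¹ * ((β * γ : F.autGroup Q) : MulAut Q) x =
            (x⁻¹ * (γ : MulAut Q) x) * (((γ : MulAut Q) x)⁻¹ * (β : MulAut Q) ((γ : MulAut Q) x)) := by
          simp [MulAut.mul_apply]
        rw [e]
        exact W.mul_mem (hγ _) (hβ _)
      inv_mem' := fun {β} hβ x => by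
        have h3 := hβ (((β⁻¹ : F.autGroup Q) : MulAut Q) x)
        have e : x⁻¹ * ((β⁻¹ : F.autGroup Q) : MulAut Q) x =
            ((((β⁻¹ : F.autGroup Q) : MulAut Q) x)⁻¹ * (β : MulAut Q) (((β⁻¹ : F.autGroup Q) : MulAut Q) x))⁻¹ := by
          have e2 : (β : MulAut Q) (((β⁻¹ : F.autGroup Q) : MulAut Q) x) = x := by
            have : ((β * β⁻¹ : F.autGroup Q) : MulAut Q) x = x := by simp
            exact this
          rw [e2]
          group
        rw [e]
        exact W.inv_mem h3 }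
  have hK₁n : K₁.Normal := by
    refine ⟨fun κ hκ γ x => ?_⟩
    have h3 : (((γ⁻¹ : F.autGroup Q) : MulAut Q) x)⁻¹ * (κ : MulAut Q) (((γ⁻¹ : F.autGroup Q) : MulAut Q) x) ∈ W := hκ _
    have h4 := hW (γ : MulAut Q) γ.2 _ h3
    have e : x⁻¹ * ((γ * κ * γ⁻¹ : F.autGroup Q) : MulAut Q) x =
        (γ : MulAut Q) ((((γ⁻¹ : F.autGroup Q) : MulAut Q) x)⁻¹ * (κ : MulAut Q) (((γ⁻¹ : F.autGroup Q) : MulAut Q) x)) := by
      have e2 : (γ : MulAut Q) (((γ⁻¹ : F.autGroup Q) : MulAut Q) x) = x := by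
        have : ((γ * γ⁻¹ : F.autGroup Q) : MulAut Q) x = x := by simp
        exact this
      rw [map_mul, map_inv, e2]
      rfl
    rw [e]
    exact h4
  let K : Subgroup (F.autGroup Q) := K₁ ⊓ B.comap resH
  have hKn : K.Normal := by
    haveI := hK₁n
    haveI := hBn
    exact Subgroup.normal_inf_normal _ _
  have hKp : IsPGroup p K := by
    apply Cfsg.Agent.Lib.Fusion.SmallExp.isPGroup_of_coprime_trivial
    intro a hco
    have hb : resH a.1 ∈ B := a.2.2
    have h3 : orderOf (resH a.1) ∣ orderOf a.1 := orderOf_map_dvd _ _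
    have h4 : orderOf a.1 = orderOf a := Subgroup.orderOf_coe a
    obtain ⟨k, hk⟩ := hB ⟨_, hb⟩
    have h5 : (resH a.1) ^ p ^ k = 1 := congrArg Subtype.val hk
    have h6 : orderOf (resH a.1) ∣ p ^ k := orderOf_dvd_of_pow_eq_one h5
    have h7 : orderOf (resH a.1) = 1 := by
      rw [h4] at h3
      exact Nat.eq_one_of_dvd_coprimes (Nat.Coprime.pow_right k hco) h3 h6
    have h8 : resH a.1 = 1 := orderOf_eq_one_iff.1 h7
    have h9 : ∀ y : W, ((a.1 : F.autGroup Q) : MulAut Q) y = y := by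
      intro y
      have : resH a.1 y = y := by rw [h8]; rfl
      exact congrArg Subtype.val this
    have hco2 : Nat.Coprime (orderOf ((a.1 : F.autGroup Q) : MulAut Q)) p := by
      rw [Subgroup.orderOf_coe, h4]
      exact hco
    have h10 : ((a.1 : F.autGroup Q) : MulAut Q) = 1 := by
      ext x
      have h11 := h9 ⟨_, a.2.1 x⟩
      have := Cfsg.Agent.Lib.Transfer.fix_of_step hQp _ hco2 x h11
      rw [this]
      rfl
    exact Subtype.ext (Subtype.ext h10)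
  have h3 : (⟨α, hα⟩ : F.autGroup Q) ∈ K := ⟨h1, h2⟩
  have h4 := Cfsg.Agent.Lib.Core.le_pCore hKn hKp h3
  rw [← hR.2]
  exact ⟨_, h4, rfl⟩

/-- **A metacyclic strongly closed subgroup lies in every essential subgroup**, outside the exceptions. -/
theorem le_of_essential_metacyclic [Finite S] (hS : IsPGroup 2 S) {P : Subgroup Ω} (hP : F.StronglyClosed P)
    (hm : IsMetacyclic P) (hd : ¬ ∃ m : ℕ, Nonempty (↥P ≃* DihedralGroup m))
    (hq : ¬ ∃ m : ℕ, Nonempty (↥P ≃* QuaternionGroup m)) (hsd : ¬ IsQuasiDihedral ↥P)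
    {Q : Subgroup Ω} (he : F.IsEssential 2 Q) : P ≤ Q := by
  haveI : Fact (Nat.Prime 2) := ⟨Nat.prime_two⟩
  by_contra hPQ
  have hQS := he.1.1
  have hPS := hP.1
  have := finite_of_le hQS
  have := finite_of_le hPS
  have := finite_autGroup F hQS
  have hc : centralizerIn S Q ≤ Q := he.1.2 Q (IsConj.refl (F := F) hQS)
  have hR : F.IsRadical 2 Q := isRadical_of_essential hS he
  have hNP := StronglyClosed.le_normalizer hP
  have hQp : IsPGroup 2 Q := hS.to_le hQS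
  have hPp : IsPGroup 2 P := hS.to_le hPS
  -- an element of `P` outside `Q` normalizing `Q`
  obtain ⟨t₀, ht₀P, ht₀Q, ht₀n⟩ : ∃ t₀ ∈ P, t₀ ∉ Q ∧ t₀ ∈ Subgroup.normalizer (Q : Set Ω) := by
    have hXS : Q ⊔ P ≤ S := sup_le hQS hPS
    have hX : IsPGroup 2 ↥(Q ⊔ P) := hS.to_le hXS
    have := finite_of_le hXS
    have hlt : Q < Q ⊔ P := lt_of_le_of_ne le_sup_left (fun h => hPQ (h ▸ le_sup_right))
    obtain ⟨x, hxN, hxQ⟩ := SetLike.exists_of_lt (lt_normalizerIn hX hlt)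
    have hxX := (mem_normalizerIn.1 hxN).1
    have hxn := (mem_normalizerIn.1 hxN).2
    rw [← SetLike.mem_coe, Subgroup.coe_mul_of_left_le_normalizer_right Q P (hQS.trans hNP)] at hxX
    obtain ⟨q, hq', r, hr, rfl⟩ := Set.mem_mul.1 hxX
    refine ⟨r, hr, fun h => hxQ (Q.mul_mem hq' h), ?_⟩
    have e : r = q⁻¹ * (q * r) := by group
    rw [e]
    exact Subgroup.mul_mem _ (Subgroup.inv_mem _ (Subgroup.le_normalizer hq')) hxn
  obtain ⟨e₀, he₀⟩ : ∃ e₀ : ℕ, t₀ ^ 2 ^ e₀ = 1 := by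
    obtain ⟨k, hk⟩ := hPp ⟨t₀, ht₀P⟩
    exact ⟨k, congrArg Subtype.val hk⟩
  obtain ⟨k, htQ, ht2⟩ := exists_sq_mem ht₀Q he₀
  set t := t₀ ^ 2 ^ k with htd
  have htP : t ∈ P := P.pow_mem ht₀P _
  have htS : t ∈ S := hPS htP
  have htn : t ∈ Subgroup.normalizer (Q : Set Ω) := Subgroup.pow_mem _ ht₀n _
  -- the invariant subgroup
  set W : Subgroup Q := P.subgroupOf Q with hWd
  have hW : ∀ β ∈ F.autGroup Q, ∀ x ∈ W, β x ∈ W := by
    intro β hβ x hx
    have hiso := (mem_autGroup_iff hQS).1 hβ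
    have h1 := hP.2 (P ⊓ Q) inf_le_left _ (res_mem F hiso inf_le_right) ⟨x.1, ⟨Subgroup.mem_subgroupOf.1 hx, x.2⟩⟩
    exact Subgroup.mem_subgroupOf.2 h1
  have hαt : conjAut Q t htn ∈ F.autGroup Q := autInducedBy_le_autGroup F hQS (conjAut_mem htS htn)
  have htnot := conjAut_not_mem_inn hc htS htn htQ hQS
  have h1 : ∀ x : Q, x⁻¹ * conjAut Q t htn x ∈ W := by
    intro x
    refine Subgroup.mem_subgroupOf.2 ?_
    show (x : Ω)⁻¹ * (t * x * t⁻¹) ∈ P
    have e : (x : Ω)⁻¹ * (t * x * t⁻¹) = ((x : Ω)⁻¹ * t * ((x : Ω)⁻¹)⁻¹) * t⁻¹ := by group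
    rw [e]
    exact P.mul_mem (StronglyClosed.conj_mem hP (S.inv_mem (hQS x.2)) htP) (P.inv_mem htP)
  have hnotP : ¬ IsPGroup 2 (MulAut W) := by
    intro h2
    exact htnot (mem_inn_of_chain hS hR W hW ⊤ inferInstance (h2.to_subgroup _) hαt h1 (Subgroup.mem_top _))
  obtain ⟨a, ha⟩ : ∃ a : W, ∀ y : W, restrictAut (G := Q) (conjAut Q t htn) W (hW _ hαt) a * a⁻¹ ≠ y * y := by
    by_contra hno
    push Not at hno
    apply htnot
    refine mem_inn_of_chain hS hR W hW (fratTriv W) (fratTriv_normal W) (isPGroup_fratTriv (hQp.to_subgroup W)) hαt h1 fun a => ?_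
    obtain ⟨y, hy⟩ := hno a
    rw [hy]
    exact Cfsg.Agent.Lib.Techniques.MetaAut.sq_mem_frattini (hQp.to_subgroup W) y
  -- the pure group theory
  let R : Subgroup P := Q.subgroupOf P
  let eRW : R ≃* W :=
    { toFun := fun x => ⟨⟨x.1.1, x.2⟩, x.1.2⟩
      invFun := fun x => ⟨⟨x.1.1, x.2⟩, x.1.2⟩
      left_inv := fun x => rfl
      right_inv := fun x => rfl
      map_mul' := fun x y => rfl }
  have hWm : IsMetacyclic W := Cfsg.Agent.Lib.ClassSizes.Metacyclic.isMetacyclic_of_equiv eRW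
    (Cfsg.Agent.Lib.ClassSizes.Metacyclic.isMetacyclic_subgroup hm R)
  have hRform : Nonempty (R ≃* QuaternionGroup 2) ∨
      ∃ n : ℕ, Nonempty (R ≃* Multiplicative (ZMod (2 ^ n)) × Multiplicative (ZMod (2 ^ n))) := by
    rcases Cfsg.Agent.Lib.Techniques.MetaAut.main_meta (hQp.to_subgroup W) hWm hnotP with ⟨⟨e⟩⟩ | ⟨n, ⟨e⟩⟩
    · exact Or.inl ⟨eRW.trans e⟩
    · exact Or.inr ⟨n, ⟨eRW.trans e⟩⟩
  obtain ⟨n, h3, hcard, hcl⟩ := maxClass_of_action hPp hm R (t := ⟨t, htP⟩)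
    (Subgroup.mem_normalizer_iff.2 fun x => by
      have := Subgroup.mem_normalizer_iff.1 htn x.1
      exact this)
    (Subgroup.mem_subgroupOf.2 ht2) (a := ⟨a.1.1, a.2⟩) (Subgroup.mem_subgroupOf.2 a.1.2)
    (by
      rintro ⟨y, hy, hyy⟩
      apply ha (⟨⟨y.1, Subgroup.mem_subgroupOf.1 hy⟩, y.2⟩ : W)
      apply Subtype.ext
      apply Subtype.ext
      have h4 := congrArg Subtype.val hyy
      exact h4)
    hRform
  exact false_of_maxClass n h3 hcard hcl hd hq hsd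

/-- **Metacyclic strongly closed subgroups are normal**, outside the exceptions. -/
theorem isNormal_of_metacyclic [Finite S] (hS : IsPGroup 2 S) (hF : F.IsSaturated 2) {P : Subgroup Ω}
    (hP : F.StronglyClosed P) (hm : IsMetacyclic P) (hd : ¬ ∃ m : ℕ, Nonempty (↥P ≃* DihedralGroup m))
    (hq : ¬ ∃ m : ℕ, Nonempty (↥P ≃* QuaternionGroup m)) (hsd : ¬ IsQuasiDihedral ↥P) : F.IsNormal P := by
  haveI : Fact (Nat.Prime 2) := ⟨Nat.prime_two⟩
  refine isNormal_of_autGroup hS hF (StronglyClosed.le_normalizer hP) hP.1 fun Q hQ => ?_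
  have hPQ : P ≤ Q := by
    rcases hQ with rfl | he
    · exact hP.1
    · exact le_of_essential_metacyclic hS hP hm hd hq hsd he
  exact ⟨hPQ, fun α hα => map_eq_of_stronglyClosed hP hPQ hα⟩

end Cfsg.Agent.Lib.Fusion.MetaEss
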