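/-
Essential subgroups contained in an extraspecial subgroup.
-/
import Cfsg.Agent.Lib.Fusion.EssCommuting
import Cfsg.Agent.Lib.Fusion.MetaClosed
import Mathlib

set_option autoImplicit false

namespace Cfsg.Agent.Lib.Fusion.ExtraEss

open Cfsg Cfsg.FusionSystem Cfsg.Agent.Lib.Fusion Cfsg.Agent.Lib.Fusion.EssCommuting
open scoped commutatorElement

variable {Ω : Type*} [Group Ω]

/-- Conjugation into a central abelian subgroup is a homomorphism with kernel the centralizer. -/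
theorem card_le_of_comm {H Z : Subgroup Ω} [Finite H] (y : Ω) (hc : ∀ u ∈ H, u * y * u⁻¹ * y⁻¹ ∈ Z)
    (hcen : ∀ z ∈ Z, ∀ u ∈ H, u * z = z * u) (hZc : ∀ a ∈ Z, ∀ b ∈ Z, a * b = b * a) [Finite Z] :
    Nat.card H ≤ Nat.card Z * Nat.card ↥(H ⊓ Subgroup.centralizer ({y} : Set Ω)) := by
  let f : H →* Z :=
    { toFun := fun u => ⟨u * y * (u : Ω)⁻¹ * y⁻¹, hc u u.2⟩
      map_one' := by
        apply Subtype.ext
        simp
      map_mul' := fun u v => by
        apply Subtype.ext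
        show (u * v : Ω) * y * ((u : Ω) * v)⁻¹ * y⁻¹ = (u * y * (u : Ω)⁻¹ * y⁻¹) * (v * y * (v : Ω)⁻¹ * y⁻¹)
        have h1 := hc v v.2
        have h2 := hc u u.2
        generalize hcv : (v : Ω) * y * (v : Ω)⁻¹ * y⁻¹ = c at h1 ⊢
        have hv : (v : Ω) * y * (v : Ω)⁻¹ = c * y := by rw [← hcv]; group
        have e := hcen c h1 u u.2
        calc (u * v : Ω) * y * ((u : Ω) * v)⁻¹ * y⁻¹ = u * ((v : Ω) * y * (v : Ω)⁻¹) * (u : Ω)⁻¹ * y⁻¹ := by group
          _ = (u * c) * y * (u : Ω)⁻¹ * y⁻¹ := by rw [hv]; group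
          _ = c * (u * y * (u : Ω)⁻¹ * y⁻¹) := by rw [e]; group
          _ = (u * y * (u : Ω)⁻¹ * y⁻¹) * c := hZc _ h1 _ h2 }
  have h1 := f.ker.card_mul_index
  rw [Subgroup.index_ker] at h1
  have h2 : Nat.card f.range ≤ Nat.card Z := Subgroup.card_le_card_group _
  have h3 : Nat.card f.ker ≤ Nat.card ↥(H ⊓ Subgroup.centralizer ({y} : Set Ω)) := by
    have hfin : Finite ↥(H ⊓ Subgroup.centralizer ({y} : Set Ω)) := finite_of_le (inf_le_left : H ⊓ Subgroup.centralizer ({y} : Set Ω) ≤ H)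
    have hk : ∀ k : f.ker, ((k.1 : H) : Ω) ∈ Subgroup.centralizer ({y} : Set Ω) := by
      intro k
      have h4 : f k.1 = 1 := k.2
      have h5 : ((k.1 : H) : Ω) * y * ((k.1 : H) : Ω)⁻¹ * y⁻¹ = 1 := congrArg Subtype.val h4
      rw [Subgroup.mem_centralizer_singleton_iff]
      have h6 : ((k.1 : H) : Ω) * y * ((k.1 : H) : Ω)⁻¹ = y := by
        rw [mul_inv_eq_one] at h5
        exact h5
      exact mul_inv_eq_iff_eq_mul.1 h6
    refine Nat.card_le_card_of_injective (fun k => (⟨k.1.1, k.1.2, hk k⟩ : ↥(H ⊓ Subgroup.centralizer ({y} : Set Ω)))) ?_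
    intro a b hab
    have : ((a.1 : H) : Ω) = b.1 := congrArg (fun x : ↥(H ⊓ Subgroup.centralizer ({y} : Set Ω)) => (x : Ω)) hab
    exact Subtype.ext (Subtype.ext this)
  rw [← h1, mul_comm]
  exact Nat.mul_le_mul h2 h3

variable {S : Subgroup Ω} {F : FusionSystem S} {p : ℕ} [Fact p.Prime]

/-- **No proper subgroup of a large extraspecial subgroup is essential.** -/
theorem eq_of_essential_le_extraspecial [Finite S] (hS : IsPGroup p S) (hF : F.IsSaturated p) {Q : Subgroup Ω} (hQS : Q ≤ S)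
    (hQ : IsExtraspecial p ↥Q) (hQ5 : p ^ 5 ≤ Nat.card Q) {E : Subgroup Ω} (hEQ : E ≤ Q) (he : F.IsEssential p E) :
    E = Q := by
  classical
  have hp := (Fact.out : p.Prime)
  by_contra hne
  have hES := he.1.1
  have := finite_of_le hES
  have := finite_of_le hQS
  have hEQlt : E < Q := lt_of_le_of_ne hEQ hne
  have hc : centralizerIn S E ≤ E := he.1.2 E (IsConj.refl (F := F) hES)
  obtain ⟨⟨-, -, hcomQ⟩, hZcard⟩ := hQ
  set Z : Subgroup Ω := (Subgroup.center ↥Q).map Q.subtype with hZd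
  have hZcard' : Nat.card Z = p := by
    rw [← hZcard]
    exact Nat.card_congr (Subgroup.equivMapOfInjective _ _ Q.subtype_injective).symm.toEquiv
  have hZQ : Z ≤ Q := by
    rintro _ ⟨z, -, rfl⟩
    exact z.2
  have : Finite Z := finite_of_le hZQ
  have hcen : ∀ z ∈ Z, ∀ u ∈ Q, u * z = z * u := by
    rintro _ ⟨z, hz, rfl⟩ u hu
    have := Subgroup.mem_center_iff.1 hz ⟨u, hu⟩
    exact congrArg Subtype.val this
  have hZc : ∀ a ∈ Z, ∀ b ∈ Z, a * b = b * a := fun a ha b hb => hcen a ha b (hZQ hb) |>.symm ▸ rfl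
  have hcomm : ∀ u ∈ Q, ∀ v ∈ Q, u * v * u⁻¹ * v⁻¹ ∈ Z := by
    intro u hu v hv
    have h1 : ⁅(⟨u, hu⟩ : Q), (⟨v, hv⟩ : Q)⁆ ∈ commutator ↥Q :=
      Subgroup.commutator_mem_commutator (Subgroup.mem_top _) (Subgroup.mem_top _)
    rw [hcomQ] at h1
    exact ⟨_, h1, rfl⟩
  have hZE : Z ≤ E := by
    intro z hz
    refine hc (mem_centralizerIn.2 ⟨hQS (hZQ hz), fun y hy => ?_⟩)
    exact hcen z hz y (hEQ hy)
  have hnorm : ∀ u ∈ Q, u ∈ Subgroup.normalizer (E : Set Ω) := by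
    intro u hu
    refine mem_normalizer_of_forall fun x hx => ?_
    have e : u * x * u⁻¹ = (u * x * u⁻¹ * x⁻¹) * x := by group
    rw [e]
    exact E.mul_mem (hZE (hcomm u hu x (hEQ hx))) hx
  obtain ⟨t₀, ht₀Q, ht₀E⟩ := SetLike.exists_of_lt hEQlt
  by_cases hab : ∀ x ∈ E, ∀ y ∈ E, x * y = y * x
  · -- the abelian case
    obtain ⟨⟨z₀, hz₀⟩, hgen⟩ := (isCyclic_of_prime_card (p := p) hZcard').exists_generator
    have hZp : ∀ z ∈ Z, ∃ k : ℤ, z = z₀ ^ k := by
      intro z hz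
      obtain ⟨k, hk⟩ := Subgroup.mem_zpowers_iff.1 (hgen ⟨z, hz⟩)
      have h1 := congrArg Subtype.val hk
      refine ⟨k, ?_⟩
      rw [← show ((⟨z₀, hz₀⟩ : Z) ^ k : Z).1 = z from h1]
      simp
    -- the index of `E` in `Q`
    have hpos : 0 < Nat.card E := Nat.card_pos
    have hbound : p ^ 2 * Nat.card E ≤ Nat.card Q := by
      have hd : Nat.card E ∣ Nat.card Q := Subgroup.card_dvd_of_le hEQ
      obtain ⟨m, hm⟩ := hd
      obtain ⟨n, hn⟩ := IsPGroup.iff_card.1 (hS.to_le hQS)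
      have hmd : m ∣ p ^ n := ⟨Nat.card E, by rw [← hn, hm, mul_comm]⟩
      obtain ⟨j, -, rfl⟩ := (Nat.dvd_prime_pow hp).1 hmd
      have hlt : Nat.card E < Nat.card Q := card_lt_of_lt le_rfl hEQlt |>.trans_le le_rfl
      rcases Nat.lt_or_ge j 2 with hj | hj
      · exfalso
        interval_cases j
        · simp at hm
          omega
        · rw [pow_one] at hm
          -- `E` has index `p`: then `|E| ≤ p²`
          have h1 := card_le_of_comm (H := E) (Z := Z) t₀ (fun x hx => hcomm x (hEQ hx) t₀ ht₀Q)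
            (fun z hz x hx => hcen z hz x (hEQ hx)) hZc
          rw [hZcard'] at h1
          have hfin : Finite ↥(E ⊓ Subgroup.centralizer ({t₀} : Set Ω)) := finite_of_le (inf_le_left : E ⊓ Subgroup.centralizer ({t₀} : Set Ω) ≤ E)
          have hKZ : E ⊓ Subgroup.centralizer ({t₀} : Set Ω) ≤ Z := by
            rintro k ⟨hkE, hkc⟩
            have hkt : k * t₀ = t₀ * k := Subgroup.mem_centralizer_singleton_iff.1 hkc
            have hfin2 : Finite ↥(Q ⊓ Subgroup.centralizer ({k} : Set Ω)) := finite_of_le (inf_le_left : Q ⊓ Subgroup.centralizer ({k} : Set Ω) ≤ Q)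
            have hEC : E ≤ Q ⊓ Subgroup.centralizer ({k} : Set Ω) := fun x hx =>
              ⟨hEQ hx, Subgroup.mem_centralizer_singleton_iff.2 (hab _ hx _ hkE)⟩
            have hCQ : Q ⊓ Subgroup.centralizer ({k} : Set Ω) ≤ Q := inf_le_left
            have ht₀C : t₀ ∈ Q ⊓ Subgroup.centralizer ({k} : Set Ω) :=
              ⟨ht₀Q, Subgroup.mem_centralizer_singleton_iff.2 hkt.symm⟩
            have hdvd1 : Nat.card E ∣ Nat.card ↥(Q ⊓ Subgroup.centralizer ({k} : Set Ω)) := Subgroup.card_dvd_of_le hEC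
            have hdvd2 : Nat.card ↥(Q ⊓ Subgroup.centralizer ({k} : Set Ω)) ∣ Nat.card Q := Subgroup.card_dvd_of_le hCQ
            obtain ⟨d, hd⟩ := hdvd1
            rw [hd, hm] at hdvd2
            have hdp : d ∣ p := (Nat.mul_dvd_mul_iff_left hpos).1 hdvd2
            rcases (Nat.dvd_prime hp).1 hdp with rfl | rfl
            · exfalso
              rw [mul_one] at hd
              have h2 : E = Q ⊓ Subgroup.centralizer ({k} : Set Ω) := Subgroup.eq_of_le_of_card_ge hEC hd.le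
              exact ht₀E (h2 ▸ ht₀C)
            · have h2 : Q ⊓ Subgroup.centralizer ({k} : Set Ω) = Q := Subgroup.eq_of_le_of_card_ge hCQ (by rw [hd, hm])
              have h3 : (⟨k, hEQ hkE⟩ : Q) ∈ Subgroup.center ↥Q := by
                refine Subgroup.mem_center_iff.2 fun g => Subtype.ext ?_
                have h4 : (g : Ω) ∈ Q ⊓ Subgroup.centralizer ({k} : Set Ω) := by rw [h2]; exact g.2
                exact Subgroup.mem_centralizer_singleton_iff.1 h4.2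
              exact ⟨_, h3, rfl⟩
          have h2 : Nat.card ↥(E ⊓ Subgroup.centralizer ({t₀} : Set Ω)) ≤ p := by
            rw [← hZcard']
            exact Subgroup.card_le_of_le hKZ
          have h3 : Nat.card E ≤ p * p := h1.trans (Nat.mul_le_mul_left _ h2)
          have h4 : Nat.card Q ≤ p ^ 3 := by
            rw [hm]
            calc Nat.card E * p ≤ (p * p) * p := Nat.mul_le_mul_right _ h3
              _ = p ^ 3 := by ring
          have h5 : p ^ 3 < p ^ 5 := Nat.pow_lt_pow_right hp.one_lt (by norm_num)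
          omega
      · rw [hm, mul_comm]
        exact Nat.mul_le_mul_left _ (Nat.pow_le_pow_right hp.pos hj)
    have hex : ∀ y ∈ E, ∃ t ∈ Q, t ∉ E ∧ t * y = y * t := by
      intro y hy
      have h1 := card_le_of_comm (H := Q) (Z := Z) y (fun u hu => hcomm u hu y (hEQ hy)) hcen hZc
      rw [hZcard'] at h1
      have hfin : Finite ↥(Q ⊓ Subgroup.centralizer ({y} : Set Ω)) := finite_of_le (inf_le_left : Q ⊓ Subgroup.centralizer ({y} : Set Ω) ≤ Q)
      by_contra hno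
      push Not at hno
      have hle : Q ⊓ Subgroup.centralizer ({y} : Set Ω) ≤ E := by
        rintro t ⟨htQ, htc⟩
        by_contra htE
        exact hno t htQ htE (Subgroup.mem_centralizer_singleton_iff.1 htc)
      have h2 : Nat.card ↥(Q ⊓ Subgroup.centralizer ({y} : Set Ω)) ≤ Nat.card E := Subgroup.card_le_of_le hle
      have h3 : p ^ 2 * Nat.card E ≤ p * Nat.card E := hbound.trans (h1.trans (Nat.mul_le_mul_left _ h2))
      have h4 : p ^ 2 ≤ p := Nat.le_of_mul_le_mul_right h3 hpos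
      have h5 : 2 ≤ p := hp.two_le
      nlinarith
    refine false_of_commuting_conj hS hF he fun a ha => ?_
    have hz₀E : z₀ ∈ E := hZE hz₀
    obtain ⟨t, htQ, htE, hty⟩ := hex _ (a ⟨z₀, hz₀E⟩).2
    obtain ⟨t', ht'Q, ht'E, ht'y⟩ := hex _ (a⁻¹ ⟨z₀, hz₀E⟩).2
    refine ⟨t, hQS htQ, hnorm t htQ, htE, t', hQS ht'Q, hnorm t' ht'Q, ht'E, ?_⟩
    have hEcomm : ∀ x y : E, x * y = y * x := fun x y => Subtype.ext (hab _ x.2 _ y.2)
    have hfix1 : ∀ z ∈ Z, ∀ hz : z ∈ E, conjAut E t (hnorm t htQ) (a ⟨z, hz⟩) = a ⟨z, hz⟩ := by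
      intro z hz hzE
      obtain ⟨k, rfl⟩ := hZp z hz
      have e : (⟨z₀ ^ k, hzE⟩ : E) = (⟨z₀, hz₀E⟩ : E) ^ k := Subtype.ext (by simp)
      rw [e, map_zpow]
      apply Subtype.ext
      show t * (((a ⟨z₀, hz₀E⟩ : E) ^ k : E) : Ω) * t⁻¹ = (((a ⟨z₀, hz₀E⟩ : E) ^ k : E) : Ω)
      have hc' : Commute t ((a ⟨z₀, hz₀E⟩ : E) : Ω) := hty
      rw [Subgroup.coe_zpow, (hc'.zpow_right k).eq]
      group
    have hfix2 : ∀ z ∈ Z, ∀ hz : z ∈ E, conjAut E t' (hnorm t' ht'Q) (a⁻¹ ⟨z, hz⟩) = a⁻¹ ⟨z, hz⟩ := by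
      intro z hz hzE
      obtain ⟨k, rfl⟩ := hZp z hz
      have e : (⟨z₀ ^ k, hzE⟩ : E) = (⟨z₀, hz₀E⟩ : E) ^ k := Subtype.ext (by simp)
      rw [e, map_zpow]
      apply Subtype.ext
      show t' * (((a⁻¹ ⟨z₀, hz₀E⟩ : E) ^ k : E) : Ω) * t'⁻¹ = (((a⁻¹ ⟨z₀, hz₀E⟩ : E) ^ k : E) : Ω)
      have hc' : Commute t' ((a⁻¹ ⟨z₀, hz₀E⟩ : E) : Ω) := ht'y
      rw [Subgroup.coe_zpow, (hc'.zpow_right k).eq]
      group
    have hshift : ∀ (u : Ω) (hu : u ∈ Q) (x : E), ∃ (w : Ω) (hw : w ∈ Z), conjAut E u (hnorm u hu) x = x * ⟨w, hZE hw⟩ := by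
      intro u hu x
      have h1 := hcomm u hu x (hEQ x.2)
      refine ⟨_, h1, ?_⟩
      apply Subtype.ext
      show u * x * u⁻¹ = x * (u * x * u⁻¹ * (x : Ω)⁻¹)
      have h2 : x * (u * x * u⁻¹ * (x : Ω)⁻¹) = (u * x * u⁻¹ * (x : Ω)⁻¹) * x := (hcen _ h1 _ (hEQ x.2))
      rw [h2]
      group
    have hcommτ : conjAut E t (hnorm t htQ) * (a * conjAut E t' (hnorm t' ht'Q) * a⁻¹) =
        (a * conjAut E t' (hnorm t' ht'Q) * a⁻¹) * conjAut E t (hnorm t htQ) := by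
      ext x
      obtain ⟨w, hw, hw'⟩ := hshift t' ht'Q (a⁻¹ x)
      obtain ⟨v, hv, hv'⟩ := hshift t htQ x
      have e1 : (conjAut E t (hnorm t htQ) * (a * conjAut E t' (hnorm t' ht'Q) * a⁻¹)) x = x * ⟨v, hZE hv⟩ * a ⟨w, hZE hw⟩ := by
        rw [MulAut.mul_apply, MulAut.mul_apply, MulAut.mul_apply, hw', map_mul, map_mul, hfix1 w hw, MulAut.apply_inv_self, hv']
      have e2 : ((a * conjAut E t' (hnorm t' ht'Q) * a⁻¹) * conjAut E t (hnorm t htQ)) x = x * a ⟨w, hZE hw⟩ * ⟨v, hZE hv⟩ := by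
        rw [MulAut.mul_apply, hv', MulAut.mul_apply, MulAut.mul_apply, map_mul, map_mul, map_mul, hfix2 v hv, hw', map_mul,
          MulAut.apply_inv_self, MulAut.apply_inv_self]
      rw [e1, e2, mul_assoc, mul_assoc, hEcomm ⟨v, hZE hv⟩]
    rw [hcommτ]
    simp [Subgroup.one_mem]
  · -- the nonabelian case
    push Not at hab
    obtain ⟨x₀, hx₀, y₀, hy₀, hxy⟩ := hab
    have hR : F.IsRadical p E := isRadical_of_essential hS he
    set W : Subgroup E := commutator ↥E with hWd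
    have hWZ : ∀ w ∈ W, (w : Ω) ∈ Z := by
      have h1 : W ≤ Z.subgroupOf E := by
        rw [hWd, _root_.commutator_def, Subgroup.commutator_le]
        intro u _ v _
        refine Subgroup.mem_subgroupOf.2 ?_
        have h2 := hcomm u (hEQ u.2) v (hEQ v.2)
        rw [commutatorElement_def]
        exact h2
      exact fun w hw => Subgroup.mem_subgroupOf.1 (h1 hw)
    -- the commutator subgroup is `Z`
    have hZW : ∀ z ∈ Z, ∀ hz : z ∈ E, (⟨z, hz⟩ : E) ∈ W := by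
      have h1 : (W.map E.subtype) ≤ Z := by
        rintro _ ⟨w, hw, rfl⟩
        exact hWZ w hw
      have h2 : W.map E.subtype ≠ ⊥ := by
        intro h
        have h3 : ⁅(⟨x₀, hx₀⟩ : E), (⟨y₀, hy₀⟩ : E)⁆ ∈ W :=
          Subgroup.commutator_mem_commutator (Subgroup.mem_top _) (Subgroup.mem_top _)
        have h4 : ((⁅(⟨x₀, hx₀⟩ : E), (⟨y₀, hy₀⟩ : E)⁆ : E) : Ω) ∈ W.map E.subtype := ⟨_, h3, rfl⟩
        rw [h, Subgroup.mem_bot] at h4
        apply hxy
        have h5 : x₀ * y₀ * x₀⁻¹ * y₀⁻¹ = 1 := h4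
        rw [mul_inv_eq_one, mul_inv_eq_iff_eq_mul] at h5
        exact h5
      have h3 : W.map E.subtype = Z := by
        have hd : Nat.card ↥(W.map E.subtype) ∣ Nat.card Z := Subgroup.card_dvd_of_le h1
        rw [hZcard'] at hd
        rcases (Nat.dvd_prime hp).1 hd with h4 | h4
        · exact absurd (Subgroup.eq_bot_of_card_eq _ h4) h2
        · exact Subgroup.eq_of_le_of_card_ge h1 (by rw [h4, hZcard'])
      intro z hz hzE
      rw [← h3] at hz
      obtain ⟨w, hw, hwz⟩ := hz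
      have : w = ⟨z, hzE⟩ := Subtype.ext hwz
      rwa [← this]
    have hW : ∀ β ∈ F.autGroup E, ∀ x ∈ W, β x ∈ W := fun β _ x hx =>
      (Subgroup.characteristic_iff_le_comap.mp (inferInstance : W.Characteristic) β) hx
    have hαt : conjAut E t₀ (hnorm t₀ ht₀Q) ∈ F.autGroup E :=
      autInducedBy_le_autGroup F hES (conjAut_mem (hQS ht₀Q) (hnorm t₀ ht₀Q))
    apply conjAut_not_mem_inn hc (hQS ht₀Q) (hnorm t₀ ht₀Q) ht₀E hES
    refine Cfsg.Agent.Lib.Fusion.MetaEss.mem_inn_of_chain hS hR W hW ⊥ inferInstance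
      (IsPGroup.of_card (n := 0) (by simp)) hαt ?_ ?_
    · intro x
      have h1 := hcomm t₀ ht₀Q x (hEQ x.2)
      have e : (x : Ω)⁻¹ * (t₀ * x * t₀⁻¹) = t₀ * x * t₀⁻¹ * (x : Ω)⁻¹ := by
        have h2 := hcen _ h1 _ (hEQ x.2)
        have e3 : t₀ * x * t₀⁻¹ = (t₀ * x * t₀⁻¹ * (x : Ω)⁻¹) * x := by group
        calc (x : Ω)⁻¹ * (t₀ * x * t₀⁻¹) = (x : Ω)⁻¹ * ((t₀ * x * t₀⁻¹ * (x : Ω)⁻¹) * x) := by rw [← e3]
          _ = (x : Ω)⁻¹ * (x * (t₀ * x * t₀⁻¹ * (x : Ω)⁻¹)) := by rw [h2]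
          _ = t₀ * x * t₀⁻¹ * (x : Ω)⁻¹ := by group
      have h3 : (x⁻¹ * conjAut E t₀ (hnorm t₀ ht₀Q) x : E) = ⟨t₀ * x * t₀⁻¹ * (x : Ω)⁻¹, hZE h1⟩ := Subtype.ext e
      rw [h3]
      exact hZW _ h1 _
    · rw [Subgroup.mem_bot]
      ext w
      show t₀ * w * t₀⁻¹ = w
      have := hcen _ (hWZ w w.2) _ ht₀Q
      rw [this]
      group

end Cfsg.Agent.Lib.Fusion.ExtraEss
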