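import Cfsg.Agent.Lib.Fusion.GTRel
import Cfsg.Agent.Lib.PLocal.ZJ
import Mathlib

/-! # The axiomatic `ZJ`-theorem and Glauberman--Thompson for groups -/

set_option autoImplicit false
set_option linter.style.haveILetI false

namespace Cfsg.Agent.Lib.Fusion.GTRel

open Cfsg Cfsg.Agent.Lib.Transfer Cfsg.Agent.Lib.Core Cfsg.Agent.Lib.Techniques Cfsg.Agent.Lib.PLocal
open scoped commutatorElement

universe u

section axiomatic

variable {G : Type*} [Group G] [Finite G] {p : ℕ} [Fact p.Prime]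

/-- **The ZJ-theorem, axiomatic form.** -/
theorem zj_axiomatic (T : Sylow p G) (𝒜 : Set (Subgroup G)) (h𝒜 : ∀ A ∈ 𝒜, A ≤ T ∧ IsMulCommutative A) (hne : 𝒜.Nonempty)
    (hinv : ∀ Y : Subgroup G, Y ≤ T → (∃ A ∈ 𝒜, A ≤ Y) → ∀ n ∈ Subgroup.normalizer (Y : Set G), ∀ z : G,
      (∀ A ∈ 𝒜, A ≤ Y → z ∈ A) → ∀ A ∈ 𝒜, A ≤ Y → n * z * n⁻¹ ∈ A)
    (hrep : ∀ W : Subgroup G, W ≤ T → ⁅⁅W, W⁆, W⁆ = ⊥ → (∃ U ∈ 𝒜, ⁅W, W⁆ ≤ U ∧ ¬ W ≤ U) →
      ∃ A ∈ 𝒜, ⁅W, W⁆ ≤ A ∧ ¬ W ≤ A ∧ W ≤ Subgroup.normalizer (A : Set G))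
    (hc : Subgroup.centralizer (pCore p G : Set G) ≤ pCore p G)
    (hst : ∀ (W : Subgroup G) [W.Normal], IsPGroup p W → ∀ a ∈ (T : Subgroup G),
      ⁅⁅W, Subgroup.zpowers a⁆, Subgroup.zpowers a⁆ = ⊥ →
      (QuotientGroup.mk a : G ⧸ Subgroup.centralizer (W : Set G)) ∈ pCore p (G ⧸ Subgroup.centralizer (W : Set G))) :
    (sInf 𝒜).Normal := by
  classical
  set Z₀ := sInf 𝒜 with hZ₀
  set Q := pCore p G with hQ
  have hQn : Q.Normal := inferInstance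
  have hQT : Q ≤ T := pCore_le_sylow T
  have hQp : IsPGroup p Q := pCore_isPGroup p G
  obtain ⟨A₀, hA₀⟩ := hne
  have hZA : ∀ A ∈ 𝒜, Z₀ ≤ A := fun A hA => sInf_le hA
  have hZcomm : ∀ x ∈ Z₀, ∀ y ∈ Z₀, x * y = y * x := fun x hx y hy =>
    ab_comm (h𝒜 _ hA₀).2 (hZA _ hA₀ hx) (hZA _ hA₀ hy)
  have hTN : ∀ t ∈ (T : Subgroup G), t ∈ Subgroup.normalizer (Z₀ : Set G) := by
    intro t ht
    apply mem_normalizer_of_conj_mem
    intro z hz
    rw [Subgroup.mem_sInf]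
    intro A hA
    exact hinv T le_rfl ⟨A₀, hA₀, (h𝒜 _ hA₀).1⟩ t (Subgroup.le_normalizer ht) z (fun A' hA' _ => hZA A' hA' hz) A hA (h𝒜 _ hA).1
  have hZQ : Z₀ ≤ Q := by
    intro z hz
    have hzT : z ∈ (T : Subgroup G) := (h𝒜 _ hA₀).1 (hZA _ hA₀ hz)
    apply pCore_of_stab hc
    apply hst Q hQp z hzT
    rw [eq_bot_iff]
    have h1 : ⁅Q, Subgroup.zpowers z⁆ ≤ Z₀ := by
      rw [Subgroup.commutator_le]
      rintro q hq _ ⟨i, rfl⟩
      have hzi : z ^ i ∈ Z₀ := zpow_mem hz i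
      have e : ⁅q, z ^ i⁆ = (q * z ^ i * q⁻¹) * (z ^ i)⁻¹ := by rw [commutatorElement_def]
      show ⁅q, z ^ i⁆ ∈ Z₀
      rw [e]
      exact mul_mem (conj_mem_of_mem_normalizer (hTN q (hQT hq)) hzi) (inv_mem hzi)
    have h2 : ⁅Z₀, Subgroup.zpowers z⁆ = ⊥ := comm_zpowers_eq_bot_of_commute fun a ha => hZcomm a ha z hz
    rw [← h2]
    exact Subgroup.commutator_mono h1 le_rfl
  set N := Z₀.normalCore with hN
  have hNn : N.Normal := inferInstance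
  have hNZ : N ≤ Z₀ := Subgroup.normalCore_le Z₀
  by_contra hnn
  have hZN : ¬ Z₀ ≤ N := by
    intro h
    apply hnn
    have : Z₀ = N := le_antisymm h hNZ
    rw [this]
    exact hNn
  -- a minimal `X`
  let F := {X : Subgroup G // X ≤ Z₀ ∧ Q ≤ Subgroup.normalizer (X : Set G) ∧ ¬ X ≤ N}
  haveI : Nonempty F := ⟨⟨Z₀, le_rfl, fun q hq => hTN q (hQT hq), hZN⟩⟩
  obtain ⟨⟨X, hXZ, hXQ, hXN⟩, hmin⟩ := Finite.exists_min (fun X : F => Nat.card (X : Subgroup G))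
  have hZhQ : ∀ h : G, conjS h Z₀ ≤ Q := by
    intro h y hy
    obtain ⟨z, hz, rfl⟩ := hy
    exact hQn.conj_mem z (hZQ hz) h
  have hZhN : ∀ h : G, ∀ q ∈ Q, q ∈ Subgroup.normalizer ((conjS h Z₀ : Subgroup G) : Set G) := by
    intro h q hq
    rw [conj_normalizer, mem_conjS]
    apply hTN
    apply hQT
    have := hQn.conj_mem q hq h⁻¹
    simpa using this
  have hZhcomm : ∀ h : G, ∀ x ∈ conjS h Z₀, ∀ y ∈ conjS h Z₀, x * y = y * x := by
    rintro h _ ⟨x, hx, rfl⟩ _ ⟨y, hy, rfl⟩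
    have := hZcomm x hx y hy
    show h * x * h⁻¹ * (h * y * h⁻¹) = h * y * h⁻¹ * (h * x * h⁻¹)
    calc h * x * h⁻¹ * (h * y * h⁻¹) = h * (x * y) * h⁻¹ := by group
      _ = h * (y * x) * h⁻¹ := by rw [this]
      _ = _ := by group
  have hf7 : ∀ h : G, ∀ x ∈ X, ∀ y ∈ conjS h Z₀, ⁅x, y⁆ ∈ N := by
    intro h x hx y hy
    by_cases hcase : X ⊓ conjS h Z₀ ≤ N
    · apply hcase
      refine Subgroup.mem_inf.mpr ⟨?_, ?_⟩
      · have e : ⁅x, y⁆ = x * (y * x⁻¹ * y⁻¹) := by rw [commutatorElement_def]; group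
        rw [e]
        exact mul_mem hx (conj_mem_of_mem_normalizer (hXQ (hZhQ h hy)) (inv_mem hx))
      · have e : ⁅x, y⁆ = (x * y * x⁻¹) * y⁻¹ := by rw [commutatorElement_def]
        rw [e]
        exact mul_mem (conj_mem_of_mem_normalizer (hZhN h x (hZQ (hXZ hx))) hy) (inv_mem hy)
    · have hin : Q ≤ Subgroup.normalizer (((X ⊓ conjS h Z₀ : Subgroup G)) : Set G) := by
        intro q hq
        apply mem_normalizer_of_conj_mem
        intro u hu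
        exact Subgroup.mem_inf.mpr ⟨conj_mem_of_mem_normalizer (hXQ hq) (Subgroup.mem_inf.mp hu).1,
          conj_mem_of_mem_normalizer (hZhN h q hq) (Subgroup.mem_inf.mp hu).2⟩
      have h1 := hmin ⟨X ⊓ conjS h Z₀, inf_le_left.trans hXZ, hin, hcase⟩
      have hle : X ⊓ conjS h Z₀ = X := Subgroup.eq_of_le_of_card_ge inf_le_left h1
      have hxZh : x ∈ conjS h Z₀ := by
        rw [← hle] at hx
        exact (Subgroup.mem_inf.mp hx).2
      have h2 : Commute x y := hZhcomm h x hxZh y hy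
      rw [commutatorElement_eq_one_iff_commute.mpr h2]
      exact one_mem _
  set V := Subgroup.normalClosure (Z₀ : Set G) with hV
  have hVn : V.Normal := inferInstance
  have hVQ : V ≤ Q := Subgroup.normalClosure_le_normal hZQ
  -- the commutator with `V`
  have hXV : ∀ x ∈ X, ∀ v ∈ V, ⁅x, v⁆ ∈ N := by
    intro x hx v hv
    rw [hV, Subgroup.normalClosure] at hv
    induction hv using Subgroup.closure_induction with
    | mem g hg =>
      rw [Group.mem_conjugatesOfSet_iff] at hg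
      obtain ⟨z, hz, hzg⟩ := hg
      obtain ⟨h, rfl⟩ := isConj_iff.mp hzg
      exact hf7 h x hx _ (conj_mem_conjS hz)
    | one => simp
    | mul a c _ _ iha ihc =>
      have e : ⁅x, a * c⁆ = ⁅x, a⁆ * (a * ⁅x, c⁆ * a⁻¹) := by
        simp only [commutatorElement_def]; group
      rw [e]
      exact mul_mem iha (hNn.conj_mem _ ihc a)
    | inv a _ iha =>
      have e : ⁅x, a⁻¹⁆ = a⁻¹ * ⁅x, a⁆⁻¹ * a⁻¹⁻¹ := by
        simp only [commutatorElement_def]; group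
      rw [e]
      exact hNn.conj_mem _ (inv_mem iha) _
  have hNV : ∀ n ∈ N, ∀ v : G, ⁅n, v⁆ ∈ N := by
    intro n hn v
    have e : ⁅n, v⁆ = n * (v * n⁻¹ * v⁻¹) := by rw [commutatorElement_def]; group
    rw [e]
    exact mul_mem hn (hNn.conj_mem _ (inv_mem hn) v)
  -- the subgroup of elements commuting with `V` modulo `N`
  set K : Subgroup G := (Subgroup.centralizer ((V.map (QuotientGroup.mk' N) : Subgroup (G ⧸ N)) : Set (G ⧸ N))).comap
    (QuotientGroup.mk' N) with hK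
  have hVmapn : (V.map (QuotientGroup.mk' N)).Normal := hVn.map _ (QuotientGroup.mk'_surjective N)
  have hKn : K.Normal := inferInstance
  have hKmem : ∀ w : G, (∀ v ∈ V, ⁅w, v⁆ ∈ N) → w ∈ K := by
    intro w hw
    refine Subgroup.mem_centralizer_iff.mpr ?_
    rintro _ ⟨v, hv, rfl⟩
    have h1 := hw v hv
    have h2 : QuotientGroup.mk' N ⁅w, v⁆ = 1 := (QuotientGroup.eq_one_iff _).mpr h1
    rw [commutatorElement_def] at h2
    simp only [map_mul, map_inv] at h2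
    have h3 : QuotientGroup.mk' N w * QuotientGroup.mk' N v = QuotientGroup.mk' N v * QuotientGroup.mk' N w := by
      have h4 := h2
      rw [mul_inv_eq_one, mul_inv_eq_iff_eq_mul] at h4
      exact h4
    exact h3.symm
  have hKcomm : ∀ w ∈ K, ∀ v ∈ V, ⁅w, v⁆ ∈ N := by
    intro w hw v hv
    have h1 := Subgroup.mem_centralizer_iff.mp hw (QuotientGroup.mk' N v) ⟨v, hv, rfl⟩
    have h2 : QuotientGroup.mk' N ⁅w, v⁆ = 1 := by
      rw [commutatorElement_def]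
      simp only [map_mul, map_inv]
      rw [mul_inv_eq_one, mul_inv_eq_iff_eq_mul]
      exact h1.symm
    exact (QuotientGroup.eq_one_iff _).mp h2
  set W := Subgroup.normalClosure (((X ⊔ N : Subgroup G)) : Set G) with hW
  have hWn : W.Normal := inferInstance
  have hXNZ : X ⊔ N ≤ Z₀ := sup_le hXZ hNZ
  have hZV : Z₀ ≤ V := Subgroup.le_normalClosure
  have hXNW : X ⊔ N ≤ W := Subgroup.le_normalClosure
  have hWV : W ≤ V := Subgroup.normalClosure_le_normal (hXNZ.trans hZV)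
  have hWK : W ≤ K := by
    apply Subgroup.normalClosure_le_normal
    exact sup_le (show X ≤ K from fun x hx => hKmem x (hXV x hx)) (show N ≤ K from fun n hn => hKmem n (fun v _ => hNV n hn v))
  have hWW : ⁅W, W⁆ ≤ N := by
    rw [Subgroup.commutator_le]
    intro u hu v hv
    exact hKcomm u (hWK hu) v (hWV hv)
  have hWT : W ≤ T := (hWV.trans hVQ).trans hQT
  have hWp : IsPGroup p W := hQp.to_le (hWV.trans hVQ)
  have hWZ : ¬ W ≤ Z₀ := by
    intro h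
    have h1 : W ≤ N := Subgroup.normal_le_normalCore.mpr h
    exact hXN ((le_sup_left.trans hXNW).trans h1)
  have hU : ∃ U ∈ 𝒜, ⁅W, W⁆ ≤ U ∧ ¬ W ≤ U := by
    by_contra hno
    push Not at hno
    apply hWZ
    apply le_sInf
    intro U hU
    exact hno U hU (hWW.trans (hNZ.trans (hZA U hU)))
  have hclass : ⁅⁅W, W⁆, W⁆ = ⊥ := by
    have hVC : V ≤ Subgroup.centralizer (N : Set G) := by
      apply Subgroup.normalClosure_le_normal
      intro z hz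
      exact Subgroup.mem_centralizer_iff.2 fun n hn => hZcomm n (hNZ hn) z hz
    rw [eq_bot_iff, Subgroup.commutator_le]
    intro x hx w hw
    rw [Subgroup.mem_bot, commutatorElement_eq_one_iff_mul_comm]
    exact Subgroup.mem_centralizer_iff.1 (hVC (hWV hw)) x (hWW hx)
  obtain ⟨A₁, hA₁, hA₁W, hA₁n, hA₁N⟩ := hrep W hWT hclass hU
  have hA₁comm := (h𝒜 _ hA₁).2
  -- quadratic action
  have hquad : ∀ a ∈ A₁, ⁅⁅W, Subgroup.zpowers a⁆, Subgroup.zpowers a⁆ = ⊥ := by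
    intro a ha
    rw [eq_bot_iff]
    have h1 : ⁅W, Subgroup.zpowers a⁆ ≤ A₁ := by
      rw [Subgroup.commutator_le]
      rintro w hw _ ⟨i, rfl⟩
      have hai : a ^ i ∈ A₁ := zpow_mem ha i
      have e : ⁅w, a ^ i⁆ = (w * a ^ i * w⁻¹) * (a ^ i)⁻¹ := by rw [commutatorElement_def]
      show ⁅w, a ^ i⁆ ∈ A₁
      rw [e]
      exact mul_mem (conj_mem_of_mem_normalizer (hA₁N hw) hai) (inv_mem hai)
    have h2 : ⁅A₁, Subgroup.zpowers a⁆ = ⊥ := comm_zpowers_eq_bot_of_commute fun u hu => ab_comm hA₁comm hu ha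
    rw [← h2]
    exact Subgroup.commutator_mono h1 le_rfl
  set C := Subgroup.centralizer (W : Set G) with hC
  have hCn : C.Normal := inferInstance
  set D : Subgroup G := (pCore p (G ⧸ C)).comap (QuotientGroup.mk' C) with hD
  have hDn : D.Normal := inferInstance
  have hCD : C ≤ D := by
    intro c hc'
    show QuotientGroup.mk' C c ∈ pCore p (G ⧸ C)
    have h1 : QuotientGroup.mk' C c = 1 := (QuotientGroup.eq_one_iff c).mpr hc'
    rw [h1]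
    exact one_mem _
  have hA₁D : A₁ ≤ D := fun a ha => hst W hWp a ((h𝒜 _ hA₁).1 ha) (hquad a ha)
  set Y := (T : Subgroup G) ⊓ D with hY
  have hA₁Y : A₁ ≤ Y := le_inf (h𝒜 _ hA₁).1 hA₁D
  apply hA₁n
  rw [hW, Subgroup.normalClosure, Subgroup.closure_le]
  intro w hw
  rw [Group.mem_conjugatesOfSet_iff] at hw
  obtain ⟨w₀, hw₀, hw₀g⟩ := hw
  obtain ⟨g, rfl⟩ := isConj_iff.mp hw₀g
  obtain ⟨c, hcC, n, hnY, rfl⟩ := exists_mul_normalizer_inf T C D hCD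
    (fun d hd => exists_sylow_mul_of_mem_pCore C hd T) g
  have hw₀W : w₀ ∈ W := hXNW hw₀
  have h3 : n * w₀ * n⁻¹ ∈ W := hWn.conj_mem _ hw₀W n
  have h4 := Subgroup.mem_centralizer_iff.mp hcC _ h3
  have e : c * n * w₀ * (c * n)⁻¹ = n * w₀ * n⁻¹ := by
    calc c * n * w₀ * (c * n)⁻¹ = (c * (n * w₀ * n⁻¹)) * c⁻¹ := by group
      _ = ((n * w₀ * n⁻¹) * c) * c⁻¹ := by rw [← h4]
      _ = _ := by group
  rw [SetLike.mem_coe, e]
  exact hinv Y inf_le_left ⟨A₁, hA₁, hA₁Y⟩ n hnY w₀ (fun A hA _ => hZA A hA (hXNZ hw₀)) A₁ hA₁ hA₁Y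

end axiomatic

section overgroup

open Cfsg.Agent.Lib.FrobThm Cfsg.Agent.Lib.PLocal.QuadMat

variable {G : Type u} [Group G] [Finite G] {p : ℕ} [hfp : Fact p.Prime]

theorem exists_star_overgroup (hp : p ≠ 2) (P : Sylow p G) (hne : (P : Subgroup G) ≠ ⊤) :
    ∃ L : Subgroup G, (P : Subgroup G) < L ∧ Star p L := by
  obtain ⟨L, hL, hLmin⟩ := Set.exists_min_image {H : Subgroup G | (P : Subgroup G) < H} (fun H => Nat.card H)
    (Set.toFinite _) ⟨⊤, lt_top_iff_ne_top.2 hne⟩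
  refine ⟨L, hL, ?_⟩
  have hLlt : (P : Subgroup G) < L := hL
  have hPL : (P : Subgroup G) ≤ L := le_of_lt hLlt
  let P₁ : Sylow p L := P.subtype hPL
  have hP₁ : (P₁ : Subgroup L) = (P : Subgroup G).subgroupOf L := P.coe_subtype hPL
  have hne₁ : (P₁ : Subgroup L) ≠ ⊤ := by
    intro h
    apply not_le_of_gt hLlt
    intro x hx
    have h1 : (⟨x, hx⟩ : L) ∈ (P₁ : Subgroup L) := by rw [h]; trivial
    rw [hP₁] at h1
    exact Subgroup.mem_subgroupOf.1 h1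
  have hmax : ∀ H : Subgroup L, (P₁ : Subgroup L) ≤ H → H ≠ ⊤ → H = P₁ := by
    intro H hH hHt
    have hPH : (P : Subgroup G) ≤ H.map L.subtype := by
      intro x hx
      refine ⟨⟨x, hPL hx⟩, hH ?_, rfl⟩
      rw [hP₁]
      exact Subgroup.mem_subgroupOf.2 hx
    have hHL : H.map L.subtype ≤ L := Subgroup.map_subtype_le _
    by_cases hPeq : (P : Subgroup G) = H.map L.subtype
    · apply le_antisymm _ hH
      rintro x hx
      rw [hP₁]
      apply Subgroup.mem_subgroupOf.2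
      rw [hPeq]
      exact ⟨x, hx, rfl⟩
    · exfalso
      have hlt : (P : Subgroup G) < H.map L.subtype := lt_of_le_of_ne hPH hPeq
      have h1 := hLmin _ hlt
      have h2 : H.map L.subtype = L := Subgroup.eq_of_le_of_card_ge hHL h1
      apply hHt
      rw [eq_top_iff]
      rintro ⟨x, hx⟩ _
      have hx' : x ∈ H.map L.subtype := by rw [h2]; exact hx
      obtain ⟨y, hy, hye⟩ := hx'
      have e : y = ⟨x, hx⟩ := Subtype.ext hye
      rwa [e] at hy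
  exact star_of_maximal hp P₁ hne₁ hmax

/-- **A proper overgroup of `P` normalizes `I(P)`.** -/
theorem exists_overgroup_axiomatic (hp : p ≠ 2) (P : Sylow p G) (𝒜 : Set (Subgroup G))
    (h𝒜 : ∀ A ∈ 𝒜, A ≤ P ∧ IsMulCommutative A) (hne𝒜 : 𝒜.Nonempty)
    (hinv : ∀ Y : Subgroup G, Y ≤ P → (∃ A ∈ 𝒜, A ≤ Y) → ∀ n ∈ Subgroup.normalizer (Y : Set G), ∀ z : G,
      (∀ A ∈ 𝒜, A ≤ Y → z ∈ A) → ∀ A ∈ 𝒜, A ≤ Y → n * z * n⁻¹ ∈ A)
    (hrep : ∀ W : Subgroup G, W ≤ P → ⁅⁅W, W⁆, W⁆ = ⊥ → (∃ U ∈ 𝒜, ⁅W, W⁆ ≤ U ∧ ¬ W ≤ U) →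
      ∃ A ∈ 𝒜, ⁅W, W⁆ ≤ A ∧ ¬ W ≤ A ∧ W ≤ Subgroup.normalizer (A : Set G))
    (hc : Subgroup.centralizer (pCore p G : Set G) ≤ pCore p G) (hne : (P : Subgroup G) ≠ ⊤) :
    ∃ L : Subgroup G, (P : Subgroup G) < L ∧ L ≤ Subgroup.normalizer ((sInf 𝒜 : Subgroup G) : Set G) := by
  obtain ⟨L, hLlt, hSt⟩ := exists_star_overgroup hp P hne
  have hPL : (P : Subgroup G) ≤ L := hLlt.le
  let P₁ : Sylow p L := P.subtype hPL
  have hP₁ : (P₁ : Subgroup L) = (P : Subgroup G).subgroupOf L := P.coe_subtype hPL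
  have hAL : ∀ A ∈ 𝒜, A ≤ L := fun A hA => (h𝒜 A hA).1.trans hPL
  let 𝒜₁ : Set (Subgroup L) := (fun A => A.subgroupOf L) '' 𝒜
  have hPN : pCore p G ≤ Subgroup.normalizer (L : Set G) := by
    intro x hx
    exact Subgroup.le_normalizer (hPL (Cfsg.Agent.Lib.Core.pCore_le_sylow P hx))
  have hc₁ := Cfsg.Agent.Lib.FF.charP_of_normalized hc L hPN
  have key : (sInf 𝒜₁).Normal := by
    refine zj_axiomatic P₁ 𝒜₁ ?_ (hne𝒜.image _) ?_ ?_ hc₁ (fun W _ hWp a _ hq => isPStableOn_pgroup_of_star hp hSt W hWp a hq)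
    · rintro _ ⟨A, hA, rfl⟩
      refine ⟨fun x hx => ?_, ?_⟩
      · rw [hP₁]
        exact (h𝒜 A hA).1 hx
      · apply Cfsg.Agent.Lib.PLocal.isMulCommutative_of_comm
        intro x hx y hy
        exact Subtype.ext (Cfsg.Agent.Lib.PLocal.ab_comm (h𝒜 A hA).2 hx hy)
    · rintro Y₁ hY₁ ⟨_, ⟨A₀, hA₀, rfl⟩, hA₀Y⟩ n₁ hn₁ z₁ hz₁ _ ⟨A, hA, rfl⟩ hAY
      have hkey : ∀ A ∈ 𝒜, (A ≤ Y₁.map L.subtype ↔ A.subgroupOf L ≤ Y₁) := by
        intro A hA
        constructor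
        · intro h x hx
          obtain ⟨y, hy, hye⟩ := h (Subgroup.mem_subgroupOf.1 hx)
          have e : y = x := Subtype.ext hye
          rwa [← e]
        · intro h x hx
          exact ⟨⟨x, hAL A hA hx⟩, h (Subgroup.mem_subgroupOf.2 hx), rfl⟩
      have hYP : Y₁.map L.subtype ≤ P := by
        rintro _ ⟨y, hy, rfl⟩
        have := hY₁ hy
        rw [hP₁] at this
        exact Subgroup.mem_subgroupOf.1 this
      have hn : (n₁ : G) ∈ Subgroup.normalizer ((Y₁.map L.subtype : Subgroup G) : Set G) := by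
        apply mem_normalizer_of_forall_conj_mem
        rintro _ ⟨y, hy, rfl⟩
        exact ⟨n₁ * y * n₁⁻¹, Cfsg.Agent.Lib.FrobThm.conj_mem_of_mem_normalizer hn₁ hy, rfl⟩
      have h := hinv _ hYP ⟨A₀, hA₀, (hkey A₀ hA₀).2 hA₀Y⟩ n₁ hn (z₁ : G)
        (fun A' hA' hA'Y => Subgroup.mem_subgroupOf.1 (hz₁ _ ⟨A', hA', rfl⟩ ((hkey A' hA').1 hA'Y))) A hA ((hkey A hA).2 hAY)
      exact Subgroup.mem_subgroupOf.2 h
    · rintro W₁ hW₁ hcl ⟨_, ⟨U, hU, rfl⟩, hWU, hnot⟩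
      have hWP : W₁.map L.subtype ≤ P := by
        rintro _ ⟨y, hy, rfl⟩
        have := hW₁ hy
        rw [hP₁] at this
        exact Subgroup.mem_subgroupOf.1 this
      have hcm : ⁅W₁.map L.subtype, W₁.map L.subtype⁆ = (⁅W₁, W₁⁆).map L.subtype := (Subgroup.map_commutator _ _ _).symm
      have hcl' : ⁅⁅W₁.map L.subtype, W₁.map L.subtype⁆, W₁.map L.subtype⁆ = ⊥ := by
        rw [hcm, ← Subgroup.map_commutator, hcl, Subgroup.map_bot]
      have hk1 : ∀ A : Subgroup G, ⁅W₁.map L.subtype, W₁.map L.subtype⁆ ≤ A ↔ ⁅W₁, W₁⁆ ≤ A.subgroupOf L := by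
        intro A
        rw [hcm, Subgroup.map_le_iff_le_comap]
        rfl
      have hk2 : ∀ A : Subgroup G, W₁.map L.subtype ≤ A ↔ W₁ ≤ A.subgroupOf L := by
        intro A
        rw [Subgroup.map_le_iff_le_comap]
        rfl
      obtain ⟨A, hA, h1, h2, h3⟩ := hrep _ hWP hcl' ⟨U, hU, (hk1 U).2 hWU, fun h => hnot ((hk2 U).1 h)⟩
      refine ⟨_, ⟨A, hA, rfl⟩, (hk1 A).1 h1, fun h => h2 ((hk2 A).2 h), ?_⟩
      intro w hw
      apply mem_normalizer_of_forall_conj_mem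
      intro a ha
      exact Subgroup.mem_subgroupOf.2 (Cfsg.Agent.Lib.FrobThm.conj_mem_of_mem_normalizer (h3 ⟨w, hw, rfl⟩) (Subgroup.mem_subgroupOf.1 ha))
  refine ⟨L, hLlt, fun l hl => ?_⟩
  apply mem_normalizer_of_forall_conj_mem
  intro z hz
  rw [Subgroup.mem_sInf] at hz ⊢
  intro A hA
  obtain ⟨A₀, hA₀⟩ := hne𝒜
  have hzL : z ∈ L := hAL A₀ hA₀ (hz A₀ hA₀)
  have h1 : (⟨z, hzL⟩ : L) ∈ sInf 𝒜₁ := Subgroup.mem_sInf.2 (by
    rintro _ ⟨A', hA', rfl⟩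
    exact Subgroup.mem_subgroupOf.2 (hz A' hA'))
  have h2 := key.conj_mem _ h1 ⟨l, hl⟩
  have h3 := Subgroup.mem_sInf.1 h2 _ ⟨A, hA, rfl⟩
  exact Subgroup.mem_subgroupOf.1 h3

/-- **The axiomatic Glauberman--Thompson theorem for groups.** -/
theorem rel_gt_axiomatic (hp : p ≠ 2) (P : Sylow p G) (𝒜 : Set (Subgroup G))
    (h𝒜 : ∀ A ∈ 𝒜, A ≤ P ∧ IsMulCommutative A) (hne𝒜 : 𝒜.Nonempty)
    (hinv : ∀ Y : Subgroup G, Y ≤ P → (∃ A ∈ 𝒜, A ≤ Y) → ∀ n ∈ Subgroup.normalizer (Y : Set G), ∀ z : G,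
      (∀ A ∈ 𝒜, A ≤ Y → z ∈ A) → ∀ A ∈ 𝒜, A ≤ Y → n * z * n⁻¹ ∈ A)
    (hrep : ∀ W : Subgroup G, W ≤ P → ⁅⁅W, W⁆, W⁆ = ⊥ → (∃ U ∈ 𝒜, ⁅W, W⁆ ≤ U ∧ ¬ W ≤ U) →
      ∃ A ∈ 𝒜, ⁅W, W⁆ ≤ A ∧ ¬ W ≤ A ∧ W ≤ Subgroup.normalizer (A : Set G))
    (hc : Subgroup.centralizer (pCore p G : Set G) ≤ pCore p G)
    (hN : PNil p (Subgroup.normalizer ((sInf 𝒜 : Subgroup G) : Set G))) : (P : Subgroup G) = ⊤ := by
  by_contra hne
  obtain ⟨L, hPL, hLN⟩ := exists_overgroup_axiomatic hp P 𝒜 h𝒜 hne𝒜 hinv hrep hc hne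
  have hnil : PNil p L := hN.mono hLN
  have hOp : IsPGroup p (pCore p G) := Cfsg.Agent.Lib.Core.pCore_isPGroup p G
  have hOP : pCore p G ≤ P := Cfsg.Agent.Lib.Core.pCore_le_sylow P
  have h2 : ∀ x ∈ L, (orderOf x).Coprime p → x = 1 := by
    intro x hx hx'
    have hxk : x ∈ hnil.ker := ⟨hx, hx'⟩
    have h3 : x ∈ Subgroup.centralizer (pCore p G : Set G) := by
      rw [Subgroup.mem_centralizer_iff]
      intro d hd
      have := hnil.commute_of_normal_pgroup hOp (hOP.trans hPL.le)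
        (by rw [Subgroup.normalizer_eq_top (pCore p G)]; exact le_top) hxk hd
      exact this.symm
    exact eq_one_of_isPGroup_of_coprime hfp.out hOp (hc h3) hx'
  have h3 := P.is_maximal' (isPGroup_of_pprime_trivial h2) hPL.le
  exact (ne_of_lt hPL) h3.symm

end overgroup

end Cfsg.Agent.Lib.Fusion.GTRel
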