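import Cfsg.Agent.Lib.Fusion.GTRel
import Cfsg.Agent.Lib.Fusion.FrameworkThm
import Mathlib

/-! # The relative Glauberman--Thompson theorem for fusion systems -/

set_option autoImplicit false

namespace Cfsg.Agent.Lib.Fusion

open Cfsg Cfsg.FusionSystem

universe u

section

variable {A B : Type u} [Group A] [Group B]

theorem center_eq_map_zjFun (T : Subgroup A) : centerThompsonAOf T = (zjFun T).map T.subtype := (funW_zjFun T).symm

theorem centerThompsonAOf_map (f : A →* B) (hf : Function.Injective f) (D : Subgroup A) :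
    centerThompsonAOf (D.map f) = (centerThompsonAOf D).map f := by
  rw [center_eq_map_zjFun, center_eq_map_zjFun, ← zjFun_map_equiv (D.equivMapOfInjective f hf), Subgroup.map_map,
    Subgroup.map_map]
  rfl

theorem centerThompsonAOf_subgroupOf {S D : Subgroup A} (hD : D ≤ S) :
    centerThompsonAOf (D.subgroupOf S) = (centerThompsonAOf D).subgroupOf S := by
  have h1 := centerThompsonAOf_map S.subtype S.subtype_injective (D.subgroupOf S)
  rw [Subgroup.map_subgroupOf_eq_of_le hD] at h1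
  rw [h1]
  exact (Subgroup.comap_map_eq_self_of_injective S.subtype_injective _).symm

theorem centerThompsonAOf_le (D : Subgroup A) : centerThompsonAOf D ≤ D := by
  rw [← funW_zjFun]
  exact funW_le _ _

theorem centerThompsonAOf_char (D : Subgroup A) : ((centerThompsonAOf D).subgroupOf D).Characteristic := by
  rw [← funW_zjFun]
  exact funW_char (fun _ _ _ _ φ => zjFun_map_equiv φ) D

end

section

variable {Ω : Type u} [Group Ω] {S : Subgroup Ω} {p : ℕ} [Fact p.Prime] {F : FusionSystem S}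

/-- The image of a strongly closed subgroup in a model. -/
theorem isStronglyClosed_model {L : Type*} [Group L] {ι : S →* L} (hreal : F.IsRealizedBy ι) {D : Subgroup Ω}
    (hD : F.StronglyClosed D) : IsStronglyClosed ((D.subgroupOf S).map ι) ι.range := by
  refine ⟨Subgroup.map_le_iff_le_comap.2 fun x _ => ⟨x, rfl⟩, ?_⟩
  rintro _ ⟨s₀, hs₀, rfl⟩ g ⟨s₁, hs₁⟩
  have hs₀D : (s₀ : Ω) ∈ D := Subgroup.mem_subgroupOf.1 hs₀
  have hR : Subgroup.zpowers (s₀ : Ω) ≤ D := (Subgroup.zpowers_le).2 hs₀D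
  have hRS : Subgroup.zpowers (s₀ : Ω) ≤ S := hR.trans hD.1
  have hv : ∀ x : Subgroup.zpowers (s₀ : Ω), g * ι ⟨x, hRS x.2⟩ * g⁻¹ ∈ ι.range := by
    rintro ⟨_, k, rfl⟩
    refine ⟨s₁ ^ k, ?_⟩
    have e : (⟨(s₀ : Ω) ^ k, hRS ⟨k, rfl⟩⟩ : S) = s₀ ^ k := rfl
    show ι (s₁ ^ k) = g * ι ⟨(s₀ : Ω) ^ k, hRS ⟨k, rfl⟩⟩ * g⁻¹
    rw [e, map_zpow, map_zpow, hs₁, conj_zpow]
  obtain ⟨φ, hφ, hφv⟩ := IsRealizedBy.exists_hom hreal hRS g hv
  obtain ⟨hx, hxe⟩ := hφv ⟨s₀, Subgroup.mem_zpowers _⟩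
  have h1 := hD.2 _ hR φ hφ ⟨s₀, Subgroup.mem_zpowers _⟩
  refine ⟨⟨_, hx⟩, Subgroup.mem_subgroupOf.2 h1, ?_⟩
  exact hxe

/-- The normalizer of `Z(J(D))` is non-inner for every strongly closed `D`. -/
def BadRel (p : ℕ) {Ω : Type u} [Group Ω] {S : Subgroup Ω} (F : FusionSystem S) : Prop :=
  ∀ D : Subgroup Ω, F.StronglyClosed D →
    ∀ N : FusionSystem (normalizerIn S (centerThompsonAOf D)), F.IsNormalizerSystem (centerThompsonAOf D) N → NonInner p N

theorem badRel_of_constrained (hp : p ≠ 2) [Finite S] (hS : IsPGroup p S) (hcon : F.IsConstrained p) (hnon : NonInner p F) :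
    BadRel p F := by
  intro D hD
  have hDS := hD.1
  obtain ⟨Z, hZ⟩ : ∃ Z, Z = centerThompsonAOf D := ⟨_, rfl⟩
  rw [← hZ]
  intro N hN
  by_contra hNn
  obtain ⟨hsat, Q₀, hQ₀n, hQ₀c⟩ := hcon
  obtain ⟨L, _, ι, hm⟩ := exists_model hS hsat hQ₀n hQ₀c
  have hfin : Finite L := hm.1
  have hreal := hm.2.1
  obtain ⟨P₀, hP₀⟩ := hm.2.2.1
  have hC := hm.2.2.2
  have hZD : Z ≤ D := hZ ▸ centerThompsonAOf_le D
  have hZS : Z ≤ S := hZD.trans hDS
  have : Finite Z := finite_of_le hZS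
  have hSN : S ≤ Subgroup.normalizer (Z : Set Ω) := fun g hg =>
    normalizer_le_of_char hZD (hZ ▸ centerThompsonAOf_char D) (StronglyClosed.le_normalizer hD hg)
  have hZ₁ : centerThompsonAOf ((D.subgroupOf S).map ι) = (Z.subgroupOf S).map ι := by
    rw [centerThompsonAOf_map _ hreal.1, centerThompsonAOf_subgroupOf hDS, hZ]
  have hPM : (P₀ : Subgroup L) ≤ Subgroup.normalizer (((Z.subgroupOf S).map ι : Subgroup L) : Set L) := by
    rw [hP₀]
    rintro _ ⟨s, rfl⟩
    refine mem_normalizer_of_forall ?_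
    rintro _ ⟨z, hz, rfl⟩
    refine ⟨s * z * s⁻¹, Subgroup.mem_subgroupOf.2 ?_, by simp⟩
    exact conj_mem_of_mem_normalizer (hSN s.2) (Subgroup.mem_subgroupOf.1 hz)
  have h1 := hasNormalPComplement_of_model hm P₀ hP₀ hPM hNn (fun g hg => mem_normalizerIn.2 ⟨hg, hSN hg⟩)
    (fun Q₀ hQ₀ g hg hv => model_real_normalizer hreal hZS hSN hN Q₀ hQ₀ g hg hv)
  have h2 : Cfsg.Agent.Lib.FrobThm.PNil p (Subgroup.normalizer (centerThompsonAOf ((D.subgroupOf S).map ι) : Set L)) := by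
    rw [hZ₁]
    exact (Cfsg.Agent.Lib.FrobThm.hasNormalPComplement_iff_pNil _).1 h1
  have hD₁ : IsStronglyClosed ((D.subgroupOf S).map ι) (P₀ : Subgroup L) := hP₀ ▸ isStronglyClosed_model hreal hD
  have htop := GTRel.rel_gt hp P₀ hD₁ hC h2
  have h3 : HasNormalPComplement p L := by
    apply Cfsg.Agent.Lib.FrobThm.hasNormalPComplement_of_pNil_top
    refine Cfsg.Agent.Lib.FrobThm.PNil.of_forall_pprime_trivial fun x _ hx => ?_
    exact Cfsg.Agent.Lib.FrobThm.eq_one_of_isPGroup_of_coprime (Fact.out : p.Prime) P₀.isPGroup' (by rw [htop]; trivial) hx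
  exact not_nonInner_of_model hm h3 hnon

end

/-- **Relative Glauberman--Thompson**, framework form. -/
theorem badRel {p : ℕ} [Fact p.Prime] (hp : p ≠ 2) {Ω : Type u} [Group Ω] {S : Subgroup Ω} [Finite S] {F : FusionSystem S}
    (hS : IsPGroup p S) (hF : F.IsSaturated p) (hnon : NonInner p F) : BadRel p F :=
  framework (p := p) (fun _ => True) (fun F => BadRel p F)
    (fun _ _ _ _ _ _ _ => trivial) (fun _ _ _ _ _ _ _ _ _ _ _ => trivial)
    (by
      intro Ω _ S _ F hS _ hBad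
      have h : BadW zjFun.{u} p F := by
        have h1 := hBad S ⟨le_rfl, fun R _ φ hφ x => hom_val F hφ x⟩
        rw [← funW_zjFun] at h1
        exact h1
      exact BadW.char (fun _ _ _ _ φ => zjFun_map_equiv φ) center_le_zjFun hS h)
    (by
      intro Ω _ S T F D₀ hTS hsub hBad
      subst hTS
      intro D hD N hN
      have hZS : centerThompsonAOf D ≤ T := (centerThompsonAOf_le D).trans hD.1
      obtain ⟨ND, hND⟩ := Cfsg.Agent.S5096.result D₀ _ hZS
      have hD₀ : D₀.StronglyClosed D := ⟨hD.1, fun R hR φ hφ x => hD.2 R hR φ (hsub _ hφ) x⟩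
      exact NonInner.mono (normalizer_hom_sub hsub le_rfl hND hN) le_rfl (hBad D hD₀ ND hND))
    (fun hS hcon _ hnon => badRel_of_constrained hp hS hcon hnon)
    _ hS hF trivial le_rfl hnon

end Cfsg.Agent.Lib.Fusion
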