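import Cfsg.Agent.Lib.Fusion.GTAxiom
import Cfsg.Agent.Lib.Fusion.GTRelFus
import Mathlib

/-! # The axiomatic Glauberman--Thompson theorem for fusion systems -/

set_option autoImplicit false

namespace Cfsg.Agent.Lib.Fusion

open Cfsg Cfsg.FusionSystem
open scoped commutatorElement

universe u

section

variable {Ω : Type u} [Group Ω] {S : Subgroup Ω} {p : ℕ} [Fact p.Prime]

/-- The hypotheses of the axiomatic theorem. -/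
def AxFam (F : FusionSystem S) (𝒜 : Set (Subgroup Ω)) : Prop :=
  (∀ A ∈ 𝒜, A ≤ S ∧ IsMulCommutative ↥A) ∧ 𝒜.Nonempty ∧
  (∀ Q : Subgroup Ω, Q ≤ S → (∃ A ∈ 𝒜, A ≤ Q) → ∀ α ∈ F.autGroup Q, ∀ x : ↥Q,
    (x : Ω) ∈ (⨅ A ∈ {A : Subgroup Ω | A ∈ 𝒜 ∧ A ≤ Q}, A) →
    (((α : MulAut ↥Q) x : ↥Q) : Ω) ∈ (⨅ A ∈ {A : Subgroup Ω | A ∈ 𝒜 ∧ A ≤ Q}, A)) ∧
  (∀ B : Subgroup Ω, B ≤ S → ⁅⁅B, B⁆, B⁆ = ⊥ → (∃ A ∈ 𝒜, ⁅B, B⁆ ≤ A ∧ ¬ B ≤ A) →
    ∃ A ∈ 𝒜, ⁅B, B⁆ ≤ A ∧ ¬ B ≤ A ∧ B ≤ Subgroup.normalizer (A : Set Ω))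

variable {F : FusionSystem S} {𝒜 : Set (Subgroup Ω)}

theorem mem_biInf_iff {z : Ω} : z ∈ (⨅ A ∈ 𝒜, A) ↔ ∀ A ∈ 𝒜, z ∈ A := by
  simp only [Subgroup.mem_iInf]

theorem mem_biInf_le_iff {z : Ω} {Q : Subgroup Ω} :
    z ∈ (⨅ A ∈ {A : Subgroup Ω | A ∈ 𝒜 ∧ A ≤ Q}, A) ↔ ∀ A ∈ 𝒜, A ≤ Q → z ∈ A := by
  simp only [Subgroup.mem_iInf, Set.mem_setOf_eq, and_imp]

theorem AxFam.inv' (h : AxFam F 𝒜) {Q : Subgroup Ω} (hQ : Q ≤ S) (hA : ∃ A ∈ 𝒜, A ≤ Q) {α : MulAut Q} (hα : α ∈ F.autGroup Q)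
    (x : Q) (hx : ∀ A ∈ 𝒜, A ≤ Q → (x : Ω) ∈ A) : ∀ A ∈ 𝒜, A ≤ Q → ((α x : Q) : Ω) ∈ A :=
  mem_biInf_le_iff.1 (h.2.2.1 Q hQ hA α hα x (mem_biInf_le_iff.2 hx))

theorem AxFam.le (h : AxFam F 𝒜) : (⨅ A ∈ 𝒜, A) ≤ S := by
  obtain ⟨A₀, hA₀⟩ := h.2.1
  intro z hz
  exact (h.1 A₀ hA₀).1 (mem_biInf_iff.1 hz A₀ hA₀)

theorem AxFam.le_normalizer [Finite S] (h : AxFam F 𝒜) : S ≤ Subgroup.normalizer ((⨅ A ∈ 𝒜, A : Subgroup Ω) : Set Ω) := by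
  obtain ⟨A₀, hA₀⟩ := h.2.1
  have hZS := h.le
  have : Finite (⨅ A ∈ 𝒜, A : Subgroup Ω) := finite_of_le hZS
  intro g hg
  refine mem_normalizer_of_forall fun z hz => ?_
  have hzS := hZS hz
  have hgN : g ∈ Subgroup.normalizer (S : Set Ω) := Subgroup.le_normalizer hg
  have hα : conjAut S g hgN ∈ F.autGroup S := autInducedBy_le_autGroup F le_rfl (conjAut_mem hg hgN)
  have h1 := h.inv' le_rfl ⟨A₀, hA₀, (h.1 A₀ hA₀).1⟩ hα ⟨z, hzS⟩ (fun A hA _ => mem_biInf_iff.1 hz A hA)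
  refine mem_biInf_iff.2 fun A hA => ?_
  have h2 := h1 A hA (h.1 A hA).1
  rwa [conjAut_coe] at h2

theorem badAx_of_constrained (hp : p ≠ 2) [Finite S] (hS : IsPGroup p S) (hcon : F.IsConstrained p) (hnon : NonInner p F)
    (h : AxFam F 𝒜) :
    ∀ N : FusionSystem (normalizerIn S (⨅ A ∈ 𝒜, A)), F.IsNormalizerSystem (⨅ A ∈ 𝒜, A) N → NonInner p N := by
  have hZS := h.le
  have hSN := h.le_normalizer
  obtain ⟨Z, hZ⟩ : ∃ Z, Z = (⨅ A ∈ 𝒜, A : Subgroup Ω) := ⟨_, rfl⟩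
  rw [← hZ] at hZS hSN ⊢
  have hZmem : ∀ z, z ∈ Z ↔ ∀ A ∈ 𝒜, z ∈ A := fun z => by rw [hZ]; exact mem_biInf_iff
  intro N hN
  by_contra hNn
  obtain ⟨hsat, Q₀, hQ₀n, hQ₀c⟩ := hcon
  obtain ⟨L, _, ι, hm⟩ := exists_model hS hsat hQ₀n hQ₀c
  have hfin : Finite L := hm.1
  have hreal := hm.2.1
  obtain ⟨P₀, hP₀⟩ := hm.2.2.1
  have hC := hm.2.2.2
  have hι := hreal.1
  have : Finite Z := finite_of_le hZS
  obtain ⟨A₀, hA₀⟩ := h.2.1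
  have hPM : (P₀ : Subgroup L) ≤ Subgroup.normalizer (((Z.subgroupOf S).map ι : Subgroup L) : Set L) := by
    rw [hP₀]
    rintro _ ⟨s, rfl⟩
    refine mem_normalizer_of_forall ?_
    rintro _ ⟨z, hz, rfl⟩
    refine ⟨s * z * s⁻¹, Subgroup.mem_subgroupOf.2 ?_, by simp⟩
    exact conj_mem_of_mem_normalizer (hSN s.2) (Subgroup.mem_subgroupOf.1 hz)
  have h1 := hasNormalPComplement_of_model hm P₀ hP₀ hPM hNn (fun g hg => mem_normalizerIn.2 ⟨hg, hSN hg⟩)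
    (fun Q₀ hQ₀ g hg hv => model_real_normalizer hreal hZS hSN hN Q₀ hQ₀ g hg hv)
  have hnil : Cfsg.Agent.Lib.FrobThm.PNil p (Subgroup.normalizer (((Z.subgroupOf S).map ι : Subgroup L) : Set L)) :=
    (Cfsg.Agent.Lib.FrobThm.hasNormalPComplement_iff_pNil _).1 h1
  -- the family in the model
  let mp : Subgroup Ω → Subgroup L := fun A => (A.subgroupOf S).map ι
  have hmem : ∀ (A : Subgroup Ω) (s : S), ι s ∈ mp A ↔ (s : Ω) ∈ A := by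
    intro A s
    constructor
    · rintro ⟨s', hs', hse⟩
      rw [← hι hse]
      exact Subgroup.mem_subgroupOf.1 hs'
    · intro hs
      exact ⟨s, Subgroup.mem_subgroupOf.2 hs, rfl⟩
  have hsInf : sInf (mp '' 𝒜) = mp Z := by
    ext y
    rw [Subgroup.mem_sInf]
    constructor
    · intro hy
      obtain ⟨s₀, -, rfl⟩ := hy _ ⟨A₀, hA₀, rfl⟩
      refine (hmem Z s₀).2 ((hZmem _).2 fun A hA => (hmem A s₀).1 (hy _ ⟨A, hA, rfl⟩))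
    · rintro ⟨s, hs, rfl⟩ _ ⟨A, hA, rfl⟩
      exact (hmem A s).2 ((hZmem _).1 (Subgroup.mem_subgroupOf.1 hs) A hA)
  have hmapS : ∀ A : Subgroup Ω, A ≤ S → (A.subgroupOf S).map S.subtype = A := fun A hA => Subgroup.map_subgroupOf_eq_of_le hA
  have htop : (P₀ : Subgroup L) = ⊤ := by
    refine GTRel.rel_gt_axiomatic hp P₀ (mp '' 𝒜) ?_ (h.2.1.image _) ?_ ?_ hC (by rw [hsInf]; exact hnil)
    · rintro _ ⟨A, hA, rfl⟩
      refine ⟨?_, ?_⟩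
      · rw [hP₀]
        rintro _ ⟨s, -, rfl⟩
        exact ⟨s, rfl⟩
      · apply Cfsg.Agent.Lib.PLocal.isMulCommutative_of_comm
        rintro _ ⟨a, ha, rfl⟩ _ ⟨b, hb, rfl⟩
        rw [← map_mul, ← map_mul]
        congr 1
        exact Subtype.ext (Cfsg.Agent.Lib.PLocal.ab_comm (h.1 A hA).2 (Subgroup.mem_subgroupOf.1 ha) (Subgroup.mem_subgroupOf.1 hb))
    · rintro Y hY ⟨_, ⟨A₁, hA₁, rfl⟩, hA₁Y⟩ n hn z hz _ ⟨A, hA, rfl⟩ hAY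
      have hQS : preimageAlong ι Y ≤ S := preimageAlong_le Y
      have hkey : ∀ A ∈ 𝒜, (A ≤ preimageAlong ι Y ↔ mp A ≤ Y) := by
        intro A hA
        constructor
        · rintro h' _ ⟨s, hs, rfl⟩
          exact (mem_preimageAlong.1 (h' (Subgroup.mem_subgroupOf.1 hs))).2
        · intro h' a ha
          have haS := (h.1 A hA).1 ha
          exact mem_preimageAlong.2 ⟨haS, h' ((hmem A ⟨a, haS⟩).2 ha)⟩
      have hYr : Y ≤ ι.range := hP₀ ▸ hY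
      have hconjY : ∀ y ∈ Y, n * y * n⁻¹ ∈ Y := fun y hy => Cfsg.Agent.Lib.FrobThm.conj_mem_of_mem_normalizer hn hy
      have hv : ∀ x : preimageAlong ι Y, n * ι ⟨x, hQS x.2⟩ * n⁻¹ ∈ ι.range := fun x =>
        hYr (hconjY _ (mem_preimageAlong.1 x.2).2)
      obtain ⟨φ, hφ, hφv⟩ := IsRealizedBy.exists_hom hreal hQS n hv
      have hm' : ∀ y : preimageAlong ι Y, φ y ∈ preimageAlong ι Y := by
        intro y
        obtain ⟨hx, hxe⟩ := hφv y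
        refine mem_preimageAlong.2 ⟨hx, ?_⟩
        rw [hxe]
        exact hconjY _ (mem_preimageAlong.1 y.2).2
      obtain ⟨α, hα, hαv⟩ := exists_aut_of_map hφ hm'
      obtain ⟨s₀, hs₀, rfl⟩ := hz _ ⟨A₁, hA₁, rfl⟩ hA₁Y
      have hs₀A₁ : (s₀ : Ω) ∈ A₁ := Subgroup.mem_subgroupOf.1 hs₀
      have hs₀Q : (s₀ : Ω) ∈ preimageAlong ι Y := (hkey A₁ hA₁).2 hA₁Y hs₀A₁
      have h2 := h.inv' hQS ⟨A₁, hA₁, (hkey A₁ hA₁).2 hA₁Y⟩ hα ⟨s₀, hs₀Q⟩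
        (fun A' hA' hA'Q => (hmem A' s₀).1 (hz _ ⟨A', hA', rfl⟩ ((hkey A' hA').1 hA'Q))) A hA ((hkey A hA).2 hAY)
      obtain ⟨hx, hxe⟩ := hφv ⟨s₀, hs₀Q⟩
      rw [hαv] at h2
      rw [show n * ι s₀ * n⁻¹ = ι ⟨_, hx⟩ from hxe.symm]
      exact (hmem A ⟨_, hx⟩).2 h2
    · rintro W hW hcl ⟨_, ⟨U, hU, rfl⟩, hWU, hnot⟩
      have hWr : W ≤ ι.range := hP₀ ▸ hW
      obtain ⟨W₀, hW₀d⟩ : ∃ W₀, W₀ = preimageAlong ι W := ⟨_, rfl⟩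
      have hW₀S : W₀ ≤ S := hW₀d ▸ preimageAlong_le W
      obtain ⟨W', hW'⟩ : ∃ W', W' = W₀.subgroupOf S := ⟨_, rfl⟩
      have hW'ι : W'.map ι = W := by
        apply le_antisymm
        · rintro _ ⟨s, hs, rfl⟩
          rw [hW', hW₀d] at hs
          exact (mem_preimageAlong.1 (Subgroup.mem_subgroupOf.1 hs)).2
        · intro y hy
          obtain ⟨s, rfl⟩ := hWr hy
          exact ⟨s, by rw [hW', hW₀d]; exact Subgroup.mem_subgroupOf.2 (mem_preimageAlong.2 ⟨s.2, hy⟩), rfl⟩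
      have hW'S : W'.map S.subtype = W₀ := by rw [hW']; exact hmapS _ hW₀S
      have hcl' : ⁅⁅W', W'⁆, W'⁆ = ⊥ := by
        apply (Subgroup.map_eq_bot_iff_of_injective _ hι).1
        rw [Subgroup.map_commutator, Subgroup.map_commutator, hW'ι]
        exact hcl
      have hcl₀ : ⁅⁅W₀, W₀⁆, W₀⁆ = ⊥ := by
        rw [← hW'S, ← Subgroup.map_commutator, ← Subgroup.map_commutator, hcl', Subgroup.map_bot]
      have e₀ : ⁅W₀, W₀⁆ = (⁅W', W'⁆).map S.subtype := by rw [Subgroup.map_commutator, hW'S]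
      have hk1 : ∀ A ∈ 𝒜, (⁅W, W⁆ ≤ mp A ↔ ⁅W₀, W₀⁆ ≤ A) := by
        intro A hA
        show ⁅W, W⁆ ≤ (A.subgroupOf S).map ι ↔ _
        rw [← hW'ι, ← Subgroup.map_commutator, Subgroup.map_le_map_iff_of_injective hι, e₀, Subgroup.map_le_iff_le_comap]
        rfl
      have hk2 : ∀ A ∈ 𝒜, (W ≤ mp A ↔ W₀ ≤ A) := by
        intro A hA
        show W ≤ (A.subgroupOf S).map ι ↔ _
        rw [← hW'ι, Subgroup.map_le_map_iff_of_injective hι, ← hW'S, Subgroup.map_le_iff_le_comap]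
        rfl
      obtain ⟨A, hA, h1, h2, h3⟩ := h.2.2.2 _ hW₀S hcl₀ ⟨U, hU, (hk1 U hU).1 hWU, fun h' => hnot ((hk2 U hU).2 h')⟩
      refine ⟨_, ⟨A, hA, rfl⟩, (hk1 A hA).2 h1, fun h' => h2 ((hk2 A hA).1 h'), ?_⟩
      intro w hw
      obtain ⟨s, rfl⟩ := hWr hw
      have hs : (s : Ω) ∈ W₀ := by
        rw [hW₀d]
        exact mem_preimageAlong.2 ⟨s.2, hw⟩
      refine Cfsg.Agent.Lib.FrobThm.mem_normalizer_of_forall_conj_mem ?_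
      rintro _ ⟨a, ha, rfl⟩
      have h4 := Cfsg.Agent.Lib.FrobThm.conj_mem_of_mem_normalizer (h3 hs) (Subgroup.mem_subgroupOf.1 ha)
      refine ⟨s * a * s⁻¹, Subgroup.mem_subgroupOf.2 h4, ?_⟩
      simp
  have h3 : HasNormalPComplement p L := by
    apply Cfsg.Agent.Lib.FrobThm.hasNormalPComplement_of_pNil_top
    refine Cfsg.Agent.Lib.FrobThm.PNil.of_forall_pprime_trivial fun x _ hx => ?_
    exact Cfsg.Agent.Lib.FrobThm.eq_one_of_isPGroup_of_coprime (Fact.out : p.Prime) P₀.isPGroup' (by rw [htop]; trivial) hx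
  exact not_nonInner_of_model hm h3 hnon

/-- The condition for the framework. -/
def BadAx (p : ℕ) {Ω : Type u} [Group Ω] {S : Subgroup Ω} (F : FusionSystem S) : Prop :=
  BadW zjFun.{u} p F ∧ ∀ 𝒜 : Set (Subgroup Ω), AxFam F 𝒜 →
    ∀ N : FusionSystem (normalizerIn S (⨅ A ∈ 𝒜, A)), F.IsNormalizerSystem (⨅ A ∈ 𝒜, A) N → NonInner p N

end

/-- **Axiomatic Glauberman--Thompson**, framework form. -/
theorem badAx {p : ℕ} [Fact p.Prime] (hp : p ≠ 2) {Ω : Type u} [Group Ω] {S : Subgroup Ω} [Finite S] {F : FusionSystem S}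
    (hS : IsPGroup p S) (hF : F.IsSaturated p) (hnon : NonInner p F) : BadAx p F :=
  framework (p := p) (fun _ => True) (fun F => BadAx p F)
    (fun _ _ _ _ _ _ _ => trivial) (fun _ _ _ _ _ _ _ _ _ _ _ => trivial)
    (fun hS _ hBad => BadW.char (fun _ _ _ _ φ => zjFun_map_equiv φ) center_le_zjFun hS hBad.1)
    (by
      intro Ω _ S T F D₀ hTS hsub hBad
      subst hTS
      refine ⟨BadW.of_sub rfl hsub hBad.1, fun 𝒜 h𝒜 N hN => ?_⟩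
      have hZS := h𝒜.le
      obtain ⟨ND, hND⟩ := Cfsg.Agent.S5096.result D₀ _ hZS
      have hA₀ : AxFam D₀ 𝒜 := ⟨h𝒜.1, h𝒜.2.1, fun Q hQ hA α hα x hx =>
        h𝒜.2.2.1 Q hQ hA α ((mem_autGroup_iff hQ).2 (hsub _ ((mem_autGroup_iff hQ).1 hα))) x hx, h𝒜.2.2.2⟩
      exact NonInner.mono (normalizer_hom_sub hsub le_rfl hND hN) le_rfl (hBad.2 𝒜 hA₀ ND hND))
    (fun hS hcon _ hnon => ⟨badW_zj_of_constrained hp hS hcon hnon, fun _ h𝒜 => badAx_of_constrained hp hS hcon hnon h𝒜⟩)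
    _ hS hF trivial le_rfl hnon

end Cfsg.Agent.Lib.Fusion
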