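import Cfsg.Agent.Lib.PLocal.GTMain
import Cfsg.Agent.Lib.FF.ZJ
import Mathlib

/-! # The relative Glauberman--Thompson theorem for groups -/

set_option autoImplicit false
set_option linter.style.haveILetI false

namespace Cfsg.Agent.Lib.Fusion.GTRel

open Cfsg Cfsg.Agent.Lib.Techniques Cfsg.Agent.Lib.FrobThm Cfsg.Agent.Lib.PLocal Cfsg.Agent.Lib.PLocal.QuadMat
open Cfsg.Agent.Lib.PLocal.GT Cfsg.Agent.Lib.Core
open scoped commutatorElement

universe u

section star

variable {G : Type u} [Group G] [Finite G] {p : ℕ} [hfp : Fact p.Prime]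

/-- A group in which a Sylow subgroup is a maximal subgroup has the series `Star`. -/
theorem star_of_maximal (hp : p ≠ 2) (P : Sylow p G) (hne : (P : Subgroup G) ≠ ⊤)
    (hPmax : ∀ H : Subgroup G, (P : Subgroup G) ≤ H → H ≠ ⊤ → H = P) : Star p G := by
  obtain ⟨O, hOd⟩ : ∃ O : Subgroup G, O = pCore p G := ⟨_, rfl⟩
  haveI hOn : O.Normal := hOd ▸ pCore_normal p G
  have hOp : IsPGroup p O := hOd ▸ pCore_isPGroup p G
  have hOP : O ≤ P := hOd ▸ pCore_le_sylow P
  have hOmax : ∀ X : Subgroup G, X.Normal → IsPGroup p X → X ≤ O := fun X hX hXp => by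
    rw [hOd]
    exact le_pCore hX hXp
  let f := QuotientGroup.mk' O
  have hf : Function.Surjective f := QuotientGroup.mk'_surjective O
  have hfO : ∀ x, f x = 1 ↔ x ∈ O := fun x => QuotientGroup.eq_one_iff x
  let Pb : Sylow p (G ⧸ O) := P.mapSurjective hf
  have hPb : (Pb : Subgroup (G ⧸ O)) = (P : Subgroup G).map f := Sylow.coe_mapSurjective hf P
  have hnil : PNil p (⊤ : Subgroup (G ⧸ O)) := by
    obtain ⟨Wb, hWb⟩ : ∃ Wb, Wb = centerThompsonAOf (Pb : Subgroup (G ⧸ O)) := ⟨_, rfl⟩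
    have hWp : IsPGroup p Wb := Pb.isPGroup'.to_le (hWb ▸ centerA_le _)
    let M : Subgroup G := (Subgroup.normalizer (Wb : Set (G ⧸ O))).comap f
    have hPM : (P : Subgroup G) ≤ M := fun t ht => by
      have ht' : f t ∈ (Pb : Subgroup (G ⧸ O)) := by rw [hPb]; exact ⟨t, ht, rfl⟩
      show f t ∈ Subgroup.normalizer (Wb : Set (G ⧸ O))
      rw [hWb]
      exact W_normalized (funA p) (Subgroup.le_normalizer ht')
    by_cases hM : M = ⊤
    · have hWn : Wb.Normal := by
        apply Subgroup.normalizer_eq_top_iff.1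
        rw [eq_top_iff]
        intro y _
        obtain ⟨x, rfl⟩ := hf y
        have : x ∈ M := by rw [hM]; trivial
        exact this
      have hcomap : Wb.comap f ≤ O := by
        apply hOmax _ inferInstance
        apply IsPGroup.comap_of_ker_isPGroup hWp
        rw [QuotientGroup.ker_mk']
        exact hOp
      have hWbot : Wb = ⊥ := by
        rw [eq_bot_iff]
        intro y hy
        obtain ⟨x, rfl⟩ := hf y
        rw [Subgroup.mem_bot]
        exact (hfO x).2 (hcomap hy)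
      have hPbot : (Pb : Subgroup (G ⧸ O)) = ⊥ := by
        by_contra h
        exact zj_ne_bot Pb.isPGroup' h (hWb ▸ hWbot)
      have hnd : ¬ p ∣ Nat.card (G ⧸ O) := by
        have := Pb.not_dvd_index
        rwa [hPbot, Subgroup.index_bot] at this
      intro x _ y _ _ _
      exact Nat.Coprime.coprime_dvd_left (orderOf_dvd_natCard _) ((Nat.Prime.coprime_iff_not_dvd hfp.out).2 hnd).symm
    · have h1 := hPmax M hPM hM
      have hsub : Subgroup.normalizer (Wb : Set (G ⧸ O)) ≤ (Pb : Subgroup (G ⧸ O)) := by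
        intro y hy
        obtain ⟨x, rfl⟩ := hf y
        have hx : x ∈ M := hy
        rw [h1] at hx
        rw [hPb]
        exact ⟨x, hx, rfl⟩
      have h2 : PNil p (Subgroup.normalizer (centerThompsonAOf (Pb : Subgroup (G ⧸ O))  : Set (G ⧸ O))) := by
        rw [← hWb]
        refine PNil.of_forall_pprime_trivial fun x hx hc => ?_
        exact eq_one_of_isPGroup_of_coprime hfp.out Pb.isPGroup' (hsub hx) hc
      exact gt_abelian hp Pb h2
  let Kb : Subgroup (G ⧸ O) := hnil.ker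
  have hKbm : ∀ x : G ⧸ O, x ∈ Kb ↔ (orderOf x).Coprime p := fun x =>
    ⟨fun h => h.2, fun h => ⟨Subgroup.mem_top _, h⟩⟩
  let K : Subgroup G := Kb.comap f
  have hKmem : ∀ x : G, x ∈ K ↔ (orderOf (f x)).Coprime p := fun x => hKbm (f x)
  haveI hKbn : Kb.Normal := hnil.ker_normal
  haveI hKn : K.Normal := inferInstance
  have hKall : ∀ x : G, (orderOf x).Coprime p → x ∈ K := fun x hx =>
    (hKmem x).2 (coprime_orderOf_map f hx)
  have hKm : ∀ k ∈ K, ∃ m : ℕ, m.Coprime p ∧ k ^ m ∈ O := by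
    intro k hk
    refine ⟨orderOf (f k), (hKmem k).1 hk, ?_⟩
    rw [← hfO, map_pow, pow_orderOf_eq_one]
  have hOK : O ≤ K := by
    intro d hd
    rw [hKmem, (hfO d).2 hd]
    simp
  have hKPD : K ⊓ (P : Subgroup G) ≤ O := by
    rintro x ⟨hxK, hxP⟩
    rw [← hfO]
    obtain ⟨k, hk⟩ := P.isPGroup' ⟨x, hxP⟩
    have h1 : x ^ p ^ k = 1 := by simpa using congrArg Subtype.val hk
    have h2 : f x ^ p ^ k = 1 := by rw [← map_pow, h1, map_one]
    exact eq_one_of_pow_p_of_coprime hfp.out h2 ((hKmem x).1 hxK)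
  have hKne : K ≠ O := by
    intro hKD
    apply hne
    have hGp : IsPGroup p (⊤ : Subgroup G) := by
      apply isPGroup_of_pprime_trivial
      intro x _ hx
      have h1 : x ∈ O := hKD ▸ hKall x hx
      exact eq_one_of_isPGroup_of_coprime hfp.out hOp h1 hx
    exact P.is_maximal' hGp le_top |>.symm
  have hmin : ∀ S : Subgroup G, S ≤ K → O ≤ S → S ≠ O →
      (P : Subgroup G) ≤ Subgroup.normalizer (S : Set G) → S = K := by
    intro S hSK hDS hSD hPS
    have htop : (P : Subgroup G) ⊔ S = ⊤ := by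
      by_contra hne
      have h1 := hPmax _ le_sup_left hne
      have h2 : S ≤ (P : Subgroup G) := by rw [← h1]; exact le_sup_right
      exact hSD (le_antisymm (fun x hx => hKPD ⟨hSK hx, h2 hx⟩) hDS)
    apply le_antisymm hSK
    intro k hk
    have h1 : k ∈ (P : Subgroup G) ⊔ S := by rw [htop]; exact Subgroup.mem_top _
    obtain ⟨t, ht, s, hs, rfl⟩ := (mem_sup_of_le_normalizer hPS).1 h1
    have h2 : t ∈ K := by
      have := K.mul_mem hk (K.inv_mem (hSK hs))
      simpa using this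
    have h3 : t ∈ S := hDS (hKPD ⟨h2, ht⟩)
    exact S.mul_mem h3 hs
  have hfP : ∀ t ∈ (P : Subgroup G), f t ∈ ((P : Subgroup G).map f) := fun t ht => ⟨t, ht, rfl⟩
  have hminb : ∀ Y : Subgroup (G ⧸ O), Y ≤ Kb → Y ≠ ⊥ →
      (∀ t ∈ (P : Subgroup G), f t ∈ Subgroup.normalizer (Y : Set (G ⧸ O))) → Kb ≤ Y := by
    intro Y hYK hYb hPY
    let S : Subgroup G := Y.comap f
    have hSK : S ≤ K := fun x hx => hYK hx
    have hDS : O ≤ S := by
      intro d hd
      show f d ∈ Y
      rw [(hfO d).2 hd]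
      exact one_mem _
    have hSD : S ≠ O := by
      intro h
      apply hYb
      rw [eq_bot_iff]
      intro y hy
      obtain ⟨x, rfl⟩ := hf y
      have : x ∈ O := h ▸ (show x ∈ S from hy)
      rw [(hfO x).2 this]
      exact one_mem _
    have hPS : (P : Subgroup G) ≤ Subgroup.normalizer (S : Set G) := by
      intro t ht
      apply mem_normalizer_of_forall_conj_mem
      intro s hs
      show f (t * s * t⁻¹) ∈ Y
      rw [map_mul, map_mul, map_inv]
      exact conj_mem_of_mem_normalizer (hPY t ht) hs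
    have hSeq := hmin S hSK hDS hSD hPS
    intro y hy
    obtain ⟨x, rfl⟩ := hf y
    have : x ∈ S := hSeq ▸ (show x ∈ K from hy)
    exact this
  have hKbb : Kb ≠ ⊥ := by
    intro h
    apply hKne
    apply le_antisymm _ hOK
    intro x hx
    have h1 : f x ∈ Kb := hx
    rw [h, Subgroup.mem_bot] at h1
    exact (hfO x).1 h1
  have hKbnd : ¬ p ∣ Nat.card Kb := hnil.ker_not_dvd
  have hPbp : IsPGroup p ((P : Subgroup G).map f) := P.isPGroup'.map f
  have hKbcard : Nat.card Kb ≠ 1 := fun h => hKbb ((Subgroup.card_eq_one).1 h)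
  obtain ⟨q, hq, hqd⟩ := Nat.exists_prime_and_dvd hKbcard
  haveI : Fact q.Prime := ⟨hq⟩
  obtain ⟨R, hR⟩ := Cfsg.Agent.Lib.PSolv.exists_invariant_sylow (p := q) (q := p)
    ((P : Subgroup G).map f) Kb hPbp hKbnd
  have hRb := R.ne_bot_of_dvd_card hqd
  have hKbR : Kb ≤ (R : Subgroup Kb).map Kb.subtype := by
    apply hminb _ (Subgroup.map_subtype_le _)
    · intro h
      apply hRb
      exact (Subgroup.map_eq_bot_iff_of_injective _ Kb.subtype_injective).1 h
    · intro t ht
      apply mem_normalizer_of_forall_conj_mem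
      rintro _ ⟨r, hr, rfl⟩
      have := hR (f t) (hfP t ht) r hr
      exact ⟨_, this, rfl⟩
  have hKbq : IsPGroup q Kb := (R.isPGroup'.map Kb.subtype).to_le hKbR
  have hKbZ : Kb ≤ ZZ Kb := by
    apply hminb _ (ZZ_le Kb) (ZZ_ne_bot hKbq hKbb)
    intro t _
    exact ZZ_normalized (by rw [Subgroup.normalizer_eq_top Kb]; exact Subgroup.mem_top _)
  have hKc : ∀ a ∈ K, ∀ b ∈ K, ⁅a, b⁆ ∈ O := by
    intro a ha b hb
    rw [← hfO]
    have h1 := commute_of_mem_ZZ (hKbZ ha) hb
    rw [commutatorElement_def, map_mul, map_mul, map_mul, map_inv, map_inv, h1]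
    group
  refine ⟨O, K, hOn, hKn, hOp, hOK, hKc, hKm, fun x => ?_⟩
  obtain ⟨k, hk⟩ := exists_pow_coprime_order (p := p) (f x)
  refine ⟨k, ?_⟩
  rw [hKmem, map_pow]
  exact hk

theorem mk_mem_pCore_of_eq {X : Type*} [Group X] {C₁ C₂ : Subgroup X} [C₁.Normal] [C₂.Normal] (h : C₁ = C₂) (a : X)
    (ha : (QuotientGroup.mk a : X ⧸ C₁) ∈ pCore p (X ⧸ C₁)) : (QuotientGroup.mk a : X ⧸ C₂) ∈ pCore p (X ⧸ C₂) := by
  subst h
  exact ha

/-- The series `Star` gives `p`-stability in the normalizer form. -/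
theorem isNormalizerPStable_of_star (hp : p ≠ 2) (hS : Star p G) : IsNormalizerPStable p G := by
  intro Q hQ g hg hq
  obtain ⟨N, hN⟩ : ∃ N, N = Subgroup.normalizer (Q : Set G) := ⟨_, rfl⟩
  subst hN
  have hQN : Q ≤ Subgroup.normalizer (Q : Set G) := Subgroup.le_normalizer
  let Q' : Subgroup (Subgroup.normalizer (Q : Set G)) := Q.subgroupOf _
  haveI hQ'n : Q'.Normal := Subgroup.normal_subgroupOf_of_le_normalizer le_rfl
  have hQ'p : IsPGroup p Q' := hQ.comap_of_injective _ (Subgroup.subtype_injective _)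
  have h1 := isPStableOn_pgroup_of_star hp (hS.subgroup _) Q' hQ'p
  have hq' : ⁅⁅Q', Subgroup.zpowers (⟨g, hg⟩ : Subgroup.normalizer (Q : Set G))⁆,
      Subgroup.zpowers (⟨g, hg⟩ : Subgroup.normalizer (Q : Set G))⁆ = ⊥ := by
    apply (Subgroup.map_eq_bot_iff_of_injective _ (Subgroup.subtype_injective _)).1
    rw [Subgroup.map_commutator, Subgroup.map_commutator, MonoidHom.map_zpowers]
    have h2 : Q'.map (Subgroup.normalizer (Q : Set G)).subtype = Q := Subgroup.map_subgroupOf_eq_of_le hQN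
    rw [h2]
    exact hq
  have h2 := h1 ⟨g, hg⟩ hq'
  have hC : Subgroup.centralizer (Q' : Set (Subgroup.normalizer (Q : Set G))) =
      (Subgroup.centralizer (Q : Set G)).subgroupOf _ := by
    ext ⟨x, hx⟩
    rw [Subgroup.mem_subgroupOf, Subgroup.mem_centralizer_iff, Subgroup.mem_centralizer_iff]
    constructor
    · intro h y hy
      have h3 := h ⟨y, hQN hy⟩ (Subgroup.mem_subgroupOf.2 hy)
      exact congrArg Subtype.val h3
    · intro h y hy
      exact Subtype.ext (h y (Subgroup.mem_subgroupOf.1 hy))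
  exact mk_mem_pCore_of_eq hC _ h2

/-- **A proper overgroup of `P` normalizes `Z(J(D))`.** -/
theorem exists_overgroup_normalizer (hp : p ≠ 2) (P : Sylow p G) {D : Subgroup G} (hD : IsStronglyClosed D (P : Subgroup G))
    (hc : Subgroup.centralizer (pCore p G : Set G) ≤ pCore p G) (hne : (P : Subgroup G) ≠ ⊤) :
    ∃ L : Subgroup G, (P : Subgroup G) < L ∧ L ≤ Subgroup.normalizer (centerThompsonAOf D : Set G) := by
  obtain ⟨L, hL, hLmin⟩ := Set.exists_min_image {H : Subgroup G | (P : Subgroup G) < H} (fun H => Nat.card H)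
    (Set.toFinite _) ⟨⊤, lt_top_iff_ne_top.2 hne⟩
  refine ⟨L, hL, ?_⟩
  have hLlt : (P : Subgroup G) < L := hL
  have hPL : (P : Subgroup G) ≤ L := le_of_lt hLlt
  let P₁ : Sylow p L := P.subtype hPL
  have hP₁ : (P₁ : Subgroup L) = (P : Subgroup G).subgroupOf L := P.coe_subtype hPL
  have hne₁ : (P₁ : Subgroup L) ≠ ⊤ := by
    intro h
    apply not_le_of_gt hLlt
    intro x hx
    have h1 : (⟨x, hx⟩ : L) ∈ (P₁ : Subgroup L) := by rw [h]; trivial
    rw [hP₁] at h1
    exact Subgroup.mem_subgroupOf.1 h1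
  have hmax : ∀ H : Subgroup L, (P₁ : Subgroup L) ≤ H → H ≠ ⊤ → H = P₁ := by
    intro H hH hHt
    have hPH : (P : Subgroup G) ≤ H.map L.subtype := by
      intro x hx
      refine ⟨⟨x, hPL hx⟩, hH ?_, rfl⟩
      rw [hP₁]
      exact Subgroup.mem_subgroupOf.2 hx
    have hHL : H.map L.subtype ≤ L := Subgroup.map_subtype_le _
    by_cases hPeq : (P : Subgroup G) = H.map L.subtype
    · apply le_antisymm _ hH
      rintro x hx
      rw [hP₁]
      apply Subgroup.mem_subgroupOf.2
      rw [hPeq]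
      exact ⟨x, hx, rfl⟩
    · exfalso
      have hlt : (P : Subgroup G) < H.map L.subtype := lt_of_le_of_ne hPH hPeq
      have h1 := hLmin _ hlt
      have h2 : H.map L.subtype = L := Subgroup.eq_of_le_of_card_ge hHL h1
      apply hHt
      rw [eq_top_iff]
      rintro ⟨x, hx⟩ _
      have hx' : x ∈ H.map L.subtype := by rw [h2]; exact hx
      obtain ⟨y, hy, hye⟩ := hx'
      have e : y = ⟨x, hx⟩ := Subtype.ext hye
      rwa [e] at hy
  have hSt := star_of_maximal hp P₁ hne₁ hmax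
  have hst := isNormalizerPStable_of_star hp hSt
  have hPN : pCore p G ≤ Subgroup.normalizer (L : Set G) := by
    intro x hx
    exact Subgroup.le_normalizer (hPL (pCore_le_sylow P hx))
  have hc₁ := Cfsg.Agent.Lib.FF.charP_of_normalized hc L hPN
  have hDL : D ≤ L := hD.1.trans hPL
  have hD₁ : IsStronglyClosed (D.subgroupOf L) (P₁ : Subgroup L) := by
    refine ⟨?_, ?_⟩
    · intro x hx
      rw [hP₁]
      exact hD.1 hx
    · intro x hx g hg
      rw [hP₁] at hg
      exact hD.2 x hx g hg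
  have hn := Cfsg.Agent.Lib.FF.Zee_normal hp (Nat.card L) _ L rfl P₁ (D.subgroupOf L) hD₁ hst hc₁
  rw [Cfsg.Agent.Lib.FF.Zee_card_eq] at hn
  have hmap : centerThompsonAOf ((D.subgroupOf L).map L.subtype) = (centerThompsonAOf (D.subgroupOf L)).map L.subtype :=
    zj_map_of_injOn (fun x _ h => Subtype.ext h)
  rw [Subgroup.map_subgroupOf_eq_of_le hDL] at hmap
  intro l hl
  apply mem_normalizer_of_forall_conj_mem
  intro z hz
  rw [hmap] at hz ⊢
  obtain ⟨z₁, hz₁, rfl⟩ := hz
  exact ⟨_, hn.conj_mem z₁ hz₁ ⟨l, hl⟩, rfl⟩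

/-- **The relative Glauberman--Thompson theorem.** -/
theorem rel_gt (hp : p ≠ 2) (P : Sylow p G) {D : Subgroup G} (hD : IsStronglyClosed D (P : Subgroup G))
    (hc : Subgroup.centralizer (pCore p G : Set G) ≤ pCore p G)
    (hN : PNil p (Subgroup.normalizer (centerThompsonAOf D : Set G))) : (P : Subgroup G) = ⊤ := by
  by_contra hne
  obtain ⟨L, hPL, hLN⟩ := exists_overgroup_normalizer hp P hD hc hne
  have hnil : PNil p L := hN.mono hLN
  have hOp : IsPGroup p (pCore p G) := pCore_isPGroup p G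
  have hOP : pCore p G ≤ P := pCore_le_sylow P
  have h2 : ∀ x ∈ L, (orderOf x).Coprime p → x = 1 := by
    intro x hx hx'
    have hxk : x ∈ hnil.ker := ⟨hx, hx'⟩
    have h3 : x ∈ Subgroup.centralizer (pCore p G : Set G) := by
      rw [Subgroup.mem_centralizer_iff]
      intro d hd
      have := hnil.commute_of_normal_pgroup hOp (hOP.trans hPL.le)
        (by rw [Subgroup.normalizer_eq_top (pCore p G)]; exact le_top) hxk hd
      exact this.symm
    exact eq_one_of_isPGroup_of_coprime hfp.out hOp (hc h3) hx'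
  have h3 := P.is_maximal' (isPGroup_of_pprime_trivial h2) hPL.le
  exact (ne_of_lt hPL) h3.symm

end star

end Cfsg.Agent.Lib.Fusion.GTRel
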