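import Cfsg.Agent.Lib.Fusion.ExtraDecomp
import Cfsg.Agent.Lib.Fusion.Metacyc
import Cfsg.Agent.S0199
import Mathlib

/-!
# Strongly closed generalized extraspecial subgroups
-/

set_option autoImplicit false

namespace Cfsg.Agent.Lib.Fusion

open Cfsg Cfsg.FusionSystem
open scoped commutatorElement

section Transvections

variable {p : ℕ} [Fact p.Prime] {B : Type*} [Group B]

/-- A stabilized chain `1 ≤ ⟨a⟩ ≤ ⟨a, b⟩ ≤ B` makes the acting group a `p`-group. -/
theorem isPGroup_closure_of_chain [Finite B] (hBp : IsPGroup p B) (hcomm : ∀ a b : B, a * b = b * a)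
    {t₁ t₂ : MulAut B} {a b : B} (h1a : t₁ a = a) (h1b : t₁ b = b) (h1u : ∀ u, ∃ c : ℕ, t₁ u = u * b ^ c)
    (h2a : t₂ a = a) (h2b : ∃ c : ℕ, t₂ b = b * a ^ c) (h2u : ∀ u, ∃ d : ℕ, t₂ u = u * a ^ d) :
    IsPGroup p ↥(Subgroup.closure {t₁, t₂}) := by
  classical
  obtain ⟨A₀, hA₀⟩ : ∃ A₀ : Subgroup B, A₀ = Subgroup.zpowers a := ⟨_, rfl⟩
  obtain ⟨W, hW⟩ : ∃ W : Subgroup B, W = Subgroup.closure {a, b} := ⟨_, rfl⟩
  have haA : a ∈ A₀ := hA₀ ▸ Subgroup.mem_zpowers a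
  have haW : a ∈ W := hW ▸ Subgroup.subset_closure (by simp)
  have hbW : b ∈ W := hW ▸ Subgroup.subset_closure (by simp)
  have hAW : A₀ ≤ W := by
    rw [hA₀, Subgroup.zpowers_le]
    exact haW
  let St : MulAut B → Prop := fun h => h a = a ∧ b⁻¹ * h b ∈ A₀ ∧ ∀ u, u⁻¹ * h u ∈ W
  have hWinv : ∀ h, St h → ∀ w ∈ W, h w ∈ W := by
    rintro h ⟨h1, h2, -⟩ w hw
    rw [hW] at hw
    induction hw using Subgroup.closure_induction with
    | mem w hw =>
      rcases hw with rfl | hw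
      · rw [h1]
        exact haW
      · rw [Set.mem_singleton_iff] at hw
        subst hw
        have := W.mul_mem hbW (hAW h2)
        simpa using this
    | one => simp
    | mul x y _ _ hx hy =>
      rw [map_mul]
      exact W.mul_mem hx hy
    | inv x _ hx =>
      rw [map_inv]
      exact W.inv_mem hx
  have hAfix : ∀ h, St h → ∀ w ∈ A₀, h w = w := by
    rintro h ⟨h1, -, -⟩ w hw
    rw [hA₀] at hw
    obtain ⟨k, rfl⟩ := Subgroup.mem_zpowers_iff.1 hw
    rw [map_zpow, h1]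
  have hSmul : ∀ h₁ h₂, St h₁ → St h₂ → St (h₁ * h₂) := by
    intro h₁ h₂ H₁ H₂
    refine ⟨by rw [MulAut.mul_apply, H₂.1, H₁.1], ?_, fun u => ?_⟩
    · rw [MulAut.mul_apply]
      have h1 : h₂ b = b * (b⁻¹ * h₂ b) := by group
      rw [h1, map_mul, hAfix h₁ H₁ _ H₂.2.1]
      have h2 : b⁻¹ * (h₁ b * (b⁻¹ * h₂ b)) = (b⁻¹ * h₁ b) * (b⁻¹ * h₂ b) := by group
      rw [h2]
      exact A₀.mul_mem H₁.2.1 H₂.2.1
    · rw [MulAut.mul_apply]
      have h1 : h₂ u = u * (u⁻¹ * h₂ u) := by group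
      rw [h1, map_mul]
      have h2 : u⁻¹ * (h₁ u * h₁ (u⁻¹ * h₂ u)) = (u⁻¹ * h₁ u) * h₁ (u⁻¹ * h₂ u) := by group
      rw [h2]
      exact W.mul_mem (H₁.2.2 u) (hWinv h₁ H₁ _ (H₂.2.2 u))
  have hSone : St 1 := ⟨rfl, by simp, fun u => by simp⟩
  have hSpow : ∀ h, St h → ∀ n : ℕ, St (h ^ n) := by
    intro h H n
    induction n with
    | zero => simpa using hSone
    | succ n ih =>
      rw [pow_succ]
      exact hSmul _ _ ih H
  have hS1 : St t₁ := by
    refine ⟨h1a, by rw [h1b]; simp, fun u => ?_⟩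
    obtain ⟨c, hc⟩ := h1u u
    rw [hc, inv_mul_cancel_left]
    exact W.pow_mem hbW c
  have hS2 : St t₂ := by
    refine ⟨h2a, ?_, fun u => ?_⟩
    · obtain ⟨c, hc⟩ := h2b
      rw [hc, inv_mul_cancel_left]
      exact A₀.pow_mem haA c
    · obtain ⟨c, hc⟩ := h2u u
      rw [hc, inv_mul_cancel_left]
      exact W.pow_mem haW c
  have hSall : ∀ h ∈ Subgroup.closure {t₁, t₂}, St h := by
    intro h hh
    induction hh using Subgroup.closure_induction with
    | mem h hh =>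
      rcases hh with rfl | hh
      · exact hS1
      · rw [Set.mem_singleton_iff] at hh
        subst hh
        exact hS2
    | one => exact hSone
    | mul x y _ _ hx hy => exact hSmul x y hx hy
    | inv x _ hx =>
      have hinv : x⁻¹ = x ^ (orderOf x - 1) := by
        have hpos := orderOf_pos x
        apply inv_eq_of_mul_eq_one_right
        rw [← pow_succ', Nat.sub_add_cancel hpos, pow_orderOf_eq_one]
      rw [hinv]
      exact hSpow x hx _
  rintro ⟨h, hh⟩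
  have H := hSall h hh
  -- three steps of the chain
  obtain ⟨N₁, hN₁⟩ := pow_fix_step (p := p) hBp h (A := ⊥) (B := A₀) bot_le
    (fun x hx => by
      rw [hAfix h H x hx]
      simp) (N := 0) (fun x hx => by
      rw [Subgroup.mem_bot.1 hx]
      simp)
  obtain ⟨N₂, hN₂⟩ := pow_fix_step (p := p) hBp h (A := A₀) (B := W) hAW
    (fun x hx => by
      rw [hW] at hx
      induction hx using Subgroup.closure_induction with
      | mem x hx =>
        rcases hx with rfl | hx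
        · rw [H.1]
          simp
        · rw [Set.mem_singleton_iff] at hx
          subst hx
          exact H.2.1
      | one => simp
      | mul x y _ _ hx hy =>
        rw [map_mul]
        have e : (x * y)⁻¹ * (h x * h y) = (x⁻¹ * h x) * (y⁻¹ * h y) := by
          have h1 : (x * y)⁻¹ = x⁻¹ * y⁻¹ := by rw [mul_inv_rev, hcomm]
          rw [h1]
          calc x⁻¹ * y⁻¹ * (h x * h y) = x⁻¹ * (y⁻¹ * h x) * h y := by group
            _ = x⁻¹ * (h x * y⁻¹) * h y := by rw [hcomm y⁻¹]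
            _ = _ := by group
        rw [e]
        exact A₀.mul_mem hx hy
      | inv x _ hx =>
        rw [map_inv]
        have e : x⁻¹⁻¹ * (h x)⁻¹ = (x⁻¹ * h x)⁻¹ := by
          rw [mul_inv_rev, inv_inv, hcomm]
        rw [e]
        exact A₀.inv_mem hx) hN₁
  obtain ⟨N₃, hN₃⟩ := pow_fix_step (p := p) hBp h (A := W) (B := ⊤) le_top (fun x _ => H.2.2 x) hN₂
  refine ⟨N₃, Subtype.ext ?_⟩
  have : h ^ p ^ N₃ = 1 := by
    ext u
    simpa using congrArg (fun w : B => w) (hN₃ u (Subgroup.mem_top u))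
  simpa using this

/-- Solving a linear congruence. -/
theorem exists_add_dvd (hp : p.Prime) {a : ℕ} (ha : ¬ p ∣ a) (c : ℕ) : ∃ m : ℕ, p ∣ a * m + c := by
  haveI : Fact p.Prime := ⟨hp⟩
  have ha' : (a : ZMod p) ≠ 0 := by
    intro h
    exact ha ((ZMod.natCast_eq_zero_iff a p).1 h)
  refine ⟨((-(c : ZMod p)) / a).val, ?_⟩
  rw [← ZMod.natCast_eq_zero_iff]
  push_cast
  rw [ZMod.natCast_val, ZMod.cast_id', id, mul_div_cancel₀ _ ha']
  simp

theorem comm_pow_calc {B : Type*} [CommGroup B] (hpow : ∀ u : B, u ^ p = 1) {r v u : B} {a c l m : ℕ} (hd : p ∣ a * m + c) :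
    u * r ^ c * r ^ l * (v * r ^ a) ^ m = u * r ^ l * v ^ m := by
  have h1 : r ^ (a * m + c) = 1 := by
    obtain ⟨k, hk⟩ := hd
    rw [hk, pow_mul, hpow, one_pow]
  have h2 : u * r ^ c * r ^ l * (v * r ^ a) ^ m = u * r ^ l * v ^ m * r ^ (a * m + c) := by
    rw [mul_pow, pow_add, pow_mul]
    simp only [mul_assoc, mul_comm, mul_left_comm]
  rw [h2, h1, mul_one]

/-- Two transvections whose centres are moved produce an inversion commuting with the first. -/
theorem transvection_inversion [Finite B] (hcomm : ∀ a b : B, a * b = b * a) (hpow : ∀ u : B, u ^ p = 1)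
    {t s : MulAut B} {r v : B} (ht1 : t r = r) (htu : ∀ u, ∃ c : ℕ, t u = u * r ^ c) (hs1 : s v = v)
    (hsu : ∀ u, ∃ d : ℕ, s u = u * v ^ d) (hnp : ¬ IsPGroup p ↥(Subgroup.closure {t, s})) :
    ∃ i ∈ Subgroup.closure {t, s}, i r = r⁻¹ ∧ ∀ u, i (t u) = t (i u) := by
  classical
  have hpp : p.Prime := Fact.out
  have hBp : IsPGroup p B := fun u => ⟨1, by simpa using hpow u⟩
  have htv : t v ≠ v := fun h => hnp (isPGroup_closure_of_chain hBp hcomm h ht1 htu hs1 (hsu r) hsu)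
  have hsr : s r ≠ r := fun h => hnp (by
    have := isPGroup_closure_of_chain hBp hcomm h hs1 hsu ht1 (htu v) htu
    rwa [Set.pair_comm] at this)
  obtain ⟨a, ha⟩ := htu v
  obtain ⟨b, hb⟩ := hsu r
  have hpa : ¬ p ∣ a := by
    rintro ⟨k, rfl⟩
    apply htv
    rw [ha, pow_mul, hpow, one_pow, mul_one]
  have hpb : ¬ p ∣ b := by
    rintro ⟨k, rfl⟩
    apply hsr
    rw [hb, pow_mul, hpow, one_pow, mul_one]
  obtain ⟨i, hi, hir, hiv⟩ := exists_inversion (p := p) hcomm hpow (Subgroup.closure {t, s})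
    (t := t) (s := s) (Subgroup.subset_closure (by simp)) (Subgroup.subset_closure (by simp)) r v hpa hpb ht1 ha hs1 hb
  refine ⟨i, hi, hir, ?_⟩
  have hfix : ∀ j ∈ Subgroup.closure {t, s}, ∀ k : B, t k = k → s k = k → j k = k := by
    intro j hj k hk1 hk2
    induction hj using Subgroup.closure_induction with
    | mem j hj =>
      rcases hj with rfl | hj
      · exact hk1
      · rw [Set.mem_singleton_iff] at hj
        subst hj
        exact hk2
    | one => rfl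
    | mul x y _ _ hx hy => rw [MulAut.mul_apply, hy, hx]
    | inv x _ hx =>
      have h0 : x⁻¹ (x k) = k := by simp
      rwa [hx] at h0
  let Eq' : Subgroup B := MonoidHom.eqLocus (i.toMonoidHom.comp t.toMonoidHom) (t.toMonoidHom.comp i.toMonoidHom)
  have hEq : ∀ u, u ∈ Eq' ↔ i (t u) = t (i u) := fun u => Iff.rfl
  have hrE : r ∈ Eq' := by
    rw [hEq, ht1, hir, map_inv, ht1]
  have hvE : v ∈ Eq' := by
    rw [hEq, ha, map_mul, map_pow, hiv, hir, map_inv, ha, mul_inv_rev, inv_pow, hcomm]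
  intro u
  rw [← hEq]
  obtain ⟨c, hc⟩ := htu u
  obtain ⟨d, hd⟩ := hsu u
  obtain ⟨m, hm⟩ := exists_add_dvd hpp hpa c
  obtain ⟨l, hl⟩ := exists_add_dvd hpp hpb d
  letI cg : CommGroup B := { (inferInstance : Group B) with mul_comm := hcomm }
  have h1 : t (u * r ^ l * v ^ m) = u * r ^ l * v ^ m := by
    rw [map_mul, map_mul, map_pow, map_pow, hc, ht1, ha]
    exact comm_pow_calc hpow hm
  have h2 : s (u * r ^ l * v ^ m) = u * r ^ l * v ^ m := by
    rw [map_mul, map_mul, map_pow, map_pow, hd, hs1, hb]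
    have := comm_pow_calc (p := p) hpow (u := u) (r := v) (v := r) (a := b) (c := d) (l := m) (m := l) hl
    calc u * v ^ d * (r * v ^ b) ^ l * v ^ m = u * v ^ d * v ^ m * (r * v ^ b) ^ l := by
          simp only [mul_assoc, mul_comm, mul_left_comm]
      _ = u * v ^ m * r ^ l := this
      _ = u * r ^ l * v ^ m := by simp only [mul_assoc, mul_comm, mul_left_comm]
  have h3 : i (u * r ^ l * v ^ m) = u * r ^ l * v ^ m := hfix i hi _ h1 h2
  have h4 : u * r ^ l * v ^ m ∈ Eq' := by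
    rw [hEq, h1, h3, h1]
  have h5 : u = (u * r ^ l * v ^ m) * (v ^ m)⁻¹ * (r ^ l)⁻¹ := by
    simp [mul_assoc]
  rw [h5]
  exact Eq'.mul_mem (Eq'.mul_mem h4 (Eq'.inv_mem (Eq'.pow_mem hvE m))) (Eq'.inv_mem (Eq'.pow_mem hrE l))

end Transvections

section Main

variable {Ω : Type*} [Group Ω] {S : Subgroup Ω} [Finite S] {F : FusionSystem S} {p : ℕ} [Fact p.Prime]

/-- Any nontrivial element generates a subgroup of prime order. -/
theorem exists_pow_of_card_prime {G : Type*} [Group G] {Z : Subgroup G} [Finite Z] (hZc : Nat.card Z = p) {z z' : G}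
    (hz : z ∈ Z) (hne : z ≠ 1) (hz' : z' ∈ Z) : ∃ k : ℕ, z' = z ^ k := by
  have hpp : p.Prime := Fact.out
  let w : Z := ⟨z, hz⟩
  have hw : w ≠ 1 := fun h => hne (congrArg Subtype.val h)
  have hwp : w ^ p = 1 := by
    rw [← hZc]
    exact pow_card_eq_one'
  have hord : orderOf w = p := orderOf_eq_prime hwp hw
  have htop : Subgroup.zpowers w = ⊤ := by
    apply Subgroup.eq_top_of_card_eq
    rw [Nat.card_zpowers, hord, hZc]
  have hm : (⟨z', hz'⟩ : Z) ∈ Subgroup.zpowers w := by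
    rw [htop]
    exact Subgroup.mem_top _
  obtain ⟨k, hk⟩ := mem_powers_iff_mem_zpowers.2 hm
  refine ⟨k, ?_⟩
  have := congrArg Subtype.val hk
  simpa using this.symm

/-- Going back along a map on a subgroup of prime order normal in `S`. -/
theorem exists_back_hom (hS : IsPGroup p S) (hF : F.IsSaturated p) {R B : Subgroup Ω} (hRS : R ≤ S)
    (hRc : Nat.card R = p) (hRn : S ≤ Subgroup.normalizer (R : Set Ω)) {φ : R →* Ω} (hφ : φ ∈ F.Hom R) {r : R}
    (hr : (r : Ω) ≠ 1) (hBS : B ≤ S) (hyB : φ r ∈ B) (hBc : ∀ g ∈ B, g * φ r = φ r * g) :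
    ∃ ψ ∈ F.Hom B, ψ ⟨φ r, hyB⟩ = r := by
  classical
  have : Finite R := finite_of_le hRS
  have hRn' : normalizerIn S R = S := le_antisymm (normalizerIn_le _) fun g hg =>
    mem_normalizerIn.2 ⟨hg, hRn hg⟩
  have hfn : F.IsFullyNormalized R := isFullyNormalized_of_normalizerIn_eq hRS hRn'
  have hrec := IsSat.receptive_of_fullyNormalized hS hF hfn
  obtain ⟨e₁, he₁, he₁v⟩ := exists_isIso_of_mem hφ rfl
  have hgen : ∀ c : R, ∃ k : ℕ, c = r ^ k := by
    intro c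
    have hZ' : Nat.card (⊤ : Subgroup R) = p := by rw [Nat.card_congr Subgroup.topEquiv.toEquiv, hRc]
    exact exists_pow_of_card_prime hZ' (Subgroup.mem_top r) (fun h => hr (congrArg Subtype.val h)) (Subgroup.mem_top c)
  have hcommY : ∀ g ∈ B, ∀ a : φ.range, g * (a : Ω) * g⁻¹ = a := by
    rintro g hg ⟨_, c, rfl⟩
    obtain ⟨k, rfl⟩ := hgen c
    have h1 : Commute g (φ r) := hBc g hg
    simp only [map_pow]
    rw [(h1.pow_right k).eq]
    simp
  have hYfin : Finite φ.range := by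
    have : φ.range ≤ S := by
      rintro _ ⟨a, rfl⟩
      exact (F.le_of_mem hφ).2 a
    exact finite_of_le this
  obtain ⟨ψ, hψ, hψv⟩ := IsReceptive.extend_sup hrec (IsIso.symm he₁) (N := B) (fun g hg => ⟨hBS hg,
    mem_normalizer_of_forall fun a ha => by
      have := hcommY g hg ⟨a, ha⟩
      simp only at this
      rw [this]
      exact ha, 1, S.one_mem, fun a ha => by
      have h1 : (⟨g * (a : Ω) * g⁻¹, ha⟩ : φ.range) = a := Subtype.ext (hcommY g hg a)
      rw [h1]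
      simp⟩)
  have hle : B ≤ φ.range ⊔ B := le_sup_right
  refine ⟨ψ.comp (Subgroup.inclusion hle), res_mem F hψ hle, ?_⟩
  have hyr : φ r ∈ φ.range := ⟨r, rfl⟩
  have := hψv (φ r) hyr (Subgroup.mem_sup_left hyr)
  show ψ _ = _
  refine Eq.trans ?_ (this.trans ?_)
  · rfl
  · have h1 : (⟨φ r, hyr⟩ : φ.range) = e₁ r := Subtype.ext (he₁v r).symm
    rw [h1]
    simp

/-- Extending along a power of an element. -/
theorem extend_over_zpowers (hS : IsPGroup p S) (hF : F.IsSaturated p) {B P : Subgroup Ω} (hB : F.StronglyClosed B)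
    {x : Ω} (hxS : x ∈ S) (hgen : P ≤ B ⊔ Subgroup.zpowers x) {γ : MulAut B} (hγ : γ ∈ F.autGroup B) {h₀ : Ω} (hh₀ : h₀ ∈ S)
    (hcomp : ∀ (u : B) (hu : x * (u : Ω) * x⁻¹ ∈ B), ((γ ⟨x * u * x⁻¹, hu⟩ : B) : Ω) = h₀ * (γ u : Ω) * h₀⁻¹) :
    ∃ β ∈ F.Hom P, ∀ (a : P) (ha : (a : Ω) ∈ B), β a = (γ ⟨a, ha⟩ : Ω) := by
  classical
  have hBS := hB.1
  have : Finite B := finite_of_le hBS
  have hSN := StronglyClosed.le_normalizer hB
  have hBn : normalizerIn S B = S := le_antisymm (normalizerIn_le _) fun g hg =>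
    mem_normalizerIn.2 ⟨hg, hSN hg⟩
  have hfn : F.IsFullyNormalized B := isFullyNormalized_of_normalizerIn_eq hBS hBn
  have hrec := IsSat.receptive_of_fullyNormalized hS hF hfn
  have hiso : IsIso F (P := B) (Q := B) γ := (mem_autGroup_iff hBS).1 hγ
  have hxfin : IsOfFinOrder x := by
    obtain ⟨k, hk⟩ := hS ⟨x, hxS⟩
    refine isOfFinOrder_iff_pow_eq_one.2 ⟨p ^ k, pow_pos (Fact.out : p.Prime).pos k, ?_⟩
    simpa using congrArg Subtype.val hk
  have hpowmem : ∀ k : ℕ, ∀ (u : B), x ^ k * (u : Ω) * (x ^ k)⁻¹ ∈ B := fun k u =>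
    conj_mem_of_mem_normalizer (hSN (S.pow_mem hxS k)) u.2
  have hkey : ∀ k : ℕ, ∀ (u : B) (hu : x ^ k * (u : Ω) * (x ^ k)⁻¹ ∈ B),
      ((γ ⟨x ^ k * u * (x ^ k)⁻¹, hu⟩ : B) : Ω) = h₀ ^ k * (γ u : Ω) * (h₀ ^ k)⁻¹ := by
    intro k
    induction k with
    | zero =>
      intro u hu
      simp
    | succ k ih =>
      intro u hu
      have h1 := ih u (hpowmem k u)
      have h2 := hcomp ⟨_, hpowmem k u⟩ (conj_mem_of_mem_normalizer (hSN hxS) (hpowmem k u))
      have h3 : (⟨x ^ (k + 1) * u * (x ^ (k + 1))⁻¹, hu⟩ : B) =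
          ⟨x * ((⟨_, hpowmem k u⟩ : B) : Ω) * x⁻¹, conj_mem_of_mem_normalizer (hSN hxS) (hpowmem k u)⟩ := by
        apply Subtype.ext
        simp only [pow_succ']
        group
      rw [h3, h2, h1, pow_succ' h₀]
      group
  obtain ⟨ψ, hψ, hψv⟩ := IsReceptive.extend_sup hrec hiso (N := Subgroup.zpowers x) (fun g hg => by
    obtain ⟨k, rfl⟩ := (hxfin.mem_powers_iff_mem_zpowers).2 hg
    exact ⟨S.pow_mem hxS k, hSN (S.pow_mem hxS k), h₀ ^ k, S.pow_mem hh₀ k, fun u hu => hkey k u hu⟩)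
  refine ⟨ψ.comp (Subgroup.inclusion hgen), res_mem F hψ hgen, fun a ha => ?_⟩
  exact hψv a ha (hgen a.2)

/-- The commutator subgroup of a strongly closed generalized extraspecial subgroup is strongly closed, unless the
forbidden decompositions occur. -/
theorem genExtra_closed (hS : IsPGroup p S) (hF : F.IsSaturated p) {P : Subgroup Ω} (hP : F.StronglyClosed P)
    (hge : frattini ↥P = commutator ↥P ∧ Nat.card ↥(commutator ↥P) = p)
    (h2 : p = 2 → ¬ ∃ (A : Type) (_ : CommGroup A), (∀ a : A, a ^ 2 = 1) ∧ Nonempty (↥P ≃* DihedralGroup 4 × A))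
    (hodd : p ≠ 2 → ¬ ∃ (E : Type) (_ : Group E) (A : Type) (_ : CommGroup A), IsExtraspecial p E ∧ Nat.card E = p ^ 3 ∧
      Monoid.exponent E = p ∧ (∀ a : A, a ^ p = 1) ∧ Nonempty (↥P ≃* E × A)) :
    F.StronglyClosed ((commutator ↥P).map P.subtype) := by
  classical
  have hpp : p.Prime := Fact.out
  have hPS := hP.1
  have : Finite P := finite_of_le hPS
  have hPp : IsPGroup p ↥P := hS.to_le hPS
  have hZc := hge.2
  obtain ⟨Zt, hZt⟩ : ∃ Zt : Subgroup ↥P, Zt = commutator ↥P := ⟨_, rfl⟩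
  rw [← hZt] at hZc ⊢
  have hC : ∀ a b : ↥P, ⁅a, b⁆ ∈ Zt := fun a b => by
    rw [hZt]
    exact Subgroup.commutator_mem_commutator (Subgroup.mem_top _) (Subgroup.mem_top _)
  have hfr : ∀ a : ↥P, a ^ p ∈ Zt := fun a => by
    rw [hZt, ← hge.1]
    exact Cfsg.Agent.Lib.PGroup.pow_mem_frattini hPp a
  have hZtn : Zt.Normal := by
    rw [hZt]
    unfold commutator
    infer_instance
  have hZz : ∀ z ∈ Zt, ∀ g : ↥P, g * z = z * g := by
    have hnil : Group.IsNilpotent ↥P := hPp.isNilpotent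
    have hne : Zt ≠ ⊥ := by
      intro h
      rw [h] at hZc
      simp at hZc
      exact hpp.one_lt.ne hZc
    have h3 := Cfsg.Agent.Lib.Core.normal_inf_center_ne_bot Zt hne
    obtain ⟨⟨c, hcZ, hcC⟩, hcne⟩ := (Subgroup.ne_bot_iff_exists_ne_one).1 h3
    have hcne' : c ≠ 1 := fun h => hcne (Subtype.ext h)
    intro z hz g
    obtain ⟨k, rfl⟩ := exists_pow_of_card_prime hZc hcZ hcne' hz
    have h4 : Commute g c := (Subgroup.mem_center_iff.1 hcC g)
    exact (h4.pow_right k).eq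
  -- the subgroup in the ambient group
  obtain ⟨Z, hZdef⟩ : ∃ Z : Subgroup Ω, Z = Zt.map P.subtype := ⟨_, rfl⟩
  rw [← hZdef]
  have hZP : Z ≤ P := by
    rw [hZdef]
    rintro _ ⟨a, -, rfl⟩
    exact a.2
  have hZS : Z ≤ S := hZP.trans hPS
  have : Finite Z := finite_of_le hZS
  have hZin : ∀ a : ↥P, a ∈ Zt → (a : Ω) ∈ Z := fun a ha => by
    rw [hZdef]
    exact ⟨a, ha, rfl⟩
  have hZout : ∀ (a : Ω) (ha : a ∈ P), a ∈ Z → (⟨a, ha⟩ : ↥P) ∈ Zt := by
    intro a ha h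
    rw [hZdef] at h
    obtain ⟨b, hb, rfl⟩ := h
    exact hb
  have hZcard : Nat.card Z = p := by
    rw [hZdef, ← hZc]
    exact Nat.card_congr (Subgroup.equivMapOfInjective _ _ P.subtype_injective).symm.toEquiv
  have hZcomm : ∀ a ∈ P, ∀ b ∈ P, ⁅a, b⁆ ∈ Z := fun a ha b hb => hZin _ (hC ⟨a, ha⟩ ⟨b, hb⟩)
  have hZpow : ∀ a ∈ P, a ^ p ∈ Z := fun a ha => hZin _ (hfr ⟨a, ha⟩)
  have hZcen : ∀ z ∈ Z, ∀ g ∈ P, g * z = z * g := fun z hz g hg =>
    congrArg Subtype.val (hZz ⟨z, hZP hz⟩ (hZout z (hZP hz) hz) ⟨g, hg⟩)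
  -- `Z` is normal in `S`
  have hZn : S ≤ Subgroup.normalizer (Z : Set Ω) := by
    have hPn := StronglyClosed.le_normalizer hP
    intro g hg
    apply mem_normalizer_of_forall
    intro a ha
    -- conjugation by `g` on `P` preserves the commutator subgroup
    let c : MulAut ↥P := conjAut P g (hPn hg)
    have hcv : ∀ u : ↥P, ((c u : ↥P) : Ω) = g * (u : Ω) * g⁻¹ := fun u => conjAut_coe _ _ _ _
    have h1 : (⟨a, hZP ha⟩ : ↥P) ∈ Zt := hZout a _ ha
    have h2 : c ⟨a, hZP ha⟩ ∈ Zt := by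
      rw [hZt] at h1 ⊢
      have h3 := (Subgroup.Characteristic.fixed (H := commutator ↥P) (ϕ := c))
      have h4 : c ⟨a, hZP ha⟩ ∈ (commutator ↥P).map c.toMonoidHom := ⟨_, h1, rfl⟩
      rw [Subgroup.characteristic_iff_map_eq.1 inferInstance c] at h4
      exact h4
    exact hZin _ h2
  refine ⟨hZS, ?_⟩
  by_contra hcon
  push_neg at hcon
  obtain ⟨R, hRZ, φ, hφ, r₀, hr₀⟩ := hcon
  have hr₀ne : (r₀ : Ω) ≠ 1 := by
    intro h
    have : r₀ = 1 := Subtype.ext h
    rw [this, map_one] at hr₀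
    exact hr₀ Z.one_mem
  have hRfin : Finite R := finite_of_le (hRZ.trans hZS)
  have hRcard : Nat.card R = p := by
    have h1 : Nat.card R ∣ Nat.card Z := Subgroup.card_dvd_of_le hRZ
    rw [hZcard] at h1
    rcases (Nat.dvd_prime hpp).1 h1 with h | h
    · exfalso
      have : Subsingleton R := (Nat.card_eq_one_iff_unique.1 h).1
      exact hr₀ne (congrArg Subtype.val (Subsingleton.elim r₀ 1))
    · exact h
  have hRZeq : R = Z := eq_of_le_of_card_le hZS hRZ (by rw [hRcard, hZcard])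
  subst hRZeq
  -- the elements
  obtain ⟨r, hrdef⟩ : ∃ r : Ω, r = r₀ := ⟨_, rfl⟩
  have hrZ : r ∈ R := hrdef ▸ r₀.2
  have hrne : r ≠ 1 := hrdef ▸ hr₀ne
  obtain ⟨y, hydef⟩ : ∃ y : Ω, y = φ r₀ := ⟨_, rfl⟩
  have hyZ : y ∉ R := hydef ▸ hr₀
  have hyP : y ∈ P := hydef ▸ hP.2 R hZP φ hφ r₀
  let B : Subgroup Ω := P ⊓ Subgroup.centralizer ({y} : Set Ω)
  have hBm : ∀ a, a ∈ B ↔ a ∈ P ∧ a * y = y * a := by
    intro a
    simp only [B, Subgroup.mem_inf, Subgroup.mem_centralizer_iff, Set.mem_singleton_iff, forall_eq]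
    exact and_congr_right fun _ => ⟨fun h => h.symm, fun h => h.symm⟩
  have hBP : B ≤ P := inf_le_left
  have hBS : B ≤ S := hBP.trans hPS
  have : Finite B := finite_of_le hBS
  have hyB : y ∈ B := (hBm y).2 ⟨hyP, rfl⟩
  have hrB : r ∈ B := (hBm r).2 ⟨hZP hrZ, (hZcen r hrZ y hyP).symm⟩
  have hRB : R ≤ B := fun z hz => (hBm z).2 ⟨hZP hz, (hZcen z hz y hyP).symm⟩
  obtain ⟨ψ, hψ, hψy⟩ : ∃ ψ ∈ F.Hom B, ψ ⟨y, hyB⟩ = r := by
    subst hydef hrdef
    exact exists_back_hom hS hF hZS hRcard hZn hφ hr₀ne hBS hyB (fun g hg => ((hBm g).1 hg).2)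
  have hψP : ∀ u : B, ψ u ∈ P := fun u => hP.2 B hBP ψ hψ u
  have hψinj := hom_inj F hψ
  -- the main trick
  have hstar : ∀ w : B, (w : Ω) ∈ R → (w : Ω) ≠ 1 → ψ w ∈ R → False := by
    intro w hwZ hw1 hψw
    have hne : ψ w ≠ 1 := by
      intro h
      have : w = 1 := hψinj (by rw [h, map_one])
      exact hw1 (congrArg Subtype.val this)
    obtain ⟨k, hk⟩ := exists_pow_of_card_prime hZcard hψw hne hrZ
    apply hyZ
    have h1 : (⟨y, hyB⟩ : B) = w ^ k := by
      apply hψinj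
      rw [hψy, map_pow, hk]
    have h2 : y = (w : Ω) ^ k := by simpa using congrArg Subtype.val h1
    rw [h2]
    exact R.pow_mem hwZ k
  have hBcomm : ∀ a b : B, a * b = b * a := by
    intro a b
    by_contra hab
    have hne : ⁅(a : Ω), (b : Ω)⁆ ≠ 1 := by
      intro h
      apply hab
      exact Subtype.ext (commutatorElement_eq_one_iff_mul_comm.1 h)
    have hmem : ⁅a, b⁆ = ⟨⁅(a : Ω), (b : Ω)⁆, by
      exact (B.mul_mem (B.mul_mem (B.mul_mem a.2 b.2) (B.inv_mem a.2)) (B.inv_mem b.2))⟩ := rfl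
    refine hstar ⁅a, b⁆ (hZcomm _ (hBP a.2) _ (hBP b.2)) hne ?_
    have : ψ ⁅a, b⁆ = ⁅ψ a, ψ b⁆ := map_commutatorElement ψ a b
    rw [this]
    exact hZcomm _ (hψP a) _ (hψP b)
  have hBpow : ∀ a : B, a ^ p = 1 := by
    intro a
    by_contra hap
    have hne : (a : Ω) ^ p ≠ 1 := fun h => hap (Subtype.ext (by simpa using h))
    refine hstar (a ^ p) (by simpa using hZpow _ (hBP a.2)) (by simpa using hne) ?_
    rw [map_pow]
    exact hZpow _ (hψP a)
  -- passing to `↥P`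
  let y' : ↥P := ⟨y, hyP⟩
  have hBT : ∀ a : ↥P, ⁅a, y'⁆ = 1 ↔ (a : Ω) ∈ B := by
    intro a
    rw [commutatorElement_eq_one_iff_mul_comm, hBm]
    constructor
    · intro h
      exact ⟨a.2, congrArg Subtype.val h⟩
    · intro h
      exact Subtype.ext h.2
  have hTB : ∀ a b : ↥P, ⁅a, y'⁆ = 1 → ⁅b, y'⁆ = 1 → a * b = b * a := by
    intro a b ha hb
    have := hBcomm ⟨a, (hBT a).1 ha⟩ ⟨b, (hBT b).1 hb⟩
    exact Subtype.ext (congrArg (fun w : B => (w : Ω)) this)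
  have hTp : ∀ a : ↥P, ⁅a, y'⁆ = 1 → a ^ p = 1 := by
    intro a ha
    have := hBpow ⟨a, (hBT a).1 ha⟩
    apply Subtype.ext
    simpa using congrArg Subtype.val this
  have hy'p : y' ^ p = 1 := hTp y' (by simp [commutatorElement_def])
  -- an element not commuting with `y`
  obtain ⟨x, hxy⟩ : ∃ x : ↥P, ⁅x, y'⁆ ≠ 1 := by
    by_contra hno
    push_neg at hno
    have hab : ∀ a b : ↥P, a * b = b * a := fun a b => hTB a b (hno a) (hno b)
    have hbot : Zt = ⊥ := by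
      rw [hZt, eq_bot_iff, commutator_def, Subgroup.commutator_le]
      intro a _ b _
      rw [Subgroup.mem_bot]
      exact commutatorElement_eq_one_iff_mul_comm.2 (hab a b)
    rw [hbot] at hZc
    simp at hZc
    exact hpp.one_lt.ne hZc
  -- the forbidden decompositions
  have hcase : ∀ a : ↥P, a ^ p = 1 → ⁅a, y'⁆ = 1 := by
    intro a ha
    by_contra hay
    by_cases hp2 : p = 2
    · exact h2 hp2 (exists_forbidden_two hp2 hZc hZz hC ha hy'p hay hTB hTp)
    · exact hodd hp2 (exists_forbidden_odd hp2 hZc hZz hC ha hy'p hay hTB hTp)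
  have hp2 : p ≠ 2 := fun h => two_case h hZc hZz hC hfr hy'p hxy hcase
  -- `B` is strongly closed
  have hBcl : F.StronglyClosed B := by
    refine ⟨hBS, fun R' hR' φ' hφ' a => ?_⟩
    have h1 : φ' a ∈ P := hP.2 R' (hR'.trans hBP) φ' hφ' a
    have h3 : a ^ p = 1 := by
      have := hBpow ⟨a, hR' a.2⟩
      apply Subtype.ext
      simpa using congrArg (fun w : B => (w : Ω)) this
    have h2 : (⟨φ' a, h1⟩ : ↥P) ^ p = 1 := by
      apply Subtype.ext
      simp only [Subgroup.coe_pow, Subgroup.coe_one]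
      rw [← map_pow, h3, map_one]
    exact (hBT _).1 (hcase _ h2)
  have hxB : (x : Ω) ∉ B := fun h => hxy ((hBT x).2 h)
  have hxS : (x : Ω) ∈ S := hPS x.2
  have hgen : P ≤ B ⊔ Subgroup.zpowers (x : Ω) := by
    intro g hg
    obtain ⟨k, hk⟩ := exists_comm_eq_one hZc hZz hC hxy ⟨g, hg⟩
    have h1 := (hBT _).1 hk
    have h2 : g = ((⟨g, hg⟩ * (x ^ k)⁻¹ : ↥P) : Ω) * (x : Ω) ^ k := by
      simp
    rw [h2]
    exact Subgroup.mul_mem _ (Subgroup.mem_sup_left h1)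
      (Subgroup.mem_sup_right (Subgroup.pow_mem _ (Subgroup.mem_zpowers _) k))
  -- the automizer
  have hψB : ∀ u : B, ψ u ∈ B := fun u => hBcl.2 B le_rfl ψ hψ u
  obtain ⟨α, hα, hαv⟩ := exists_aut_of_map hψ hψB
  have hSN := StronglyClosed.le_normalizer hBcl
  have hBn : normalizerIn S B = S := le_antisymm (normalizerIn_le _) fun g hg =>
    mem_normalizerIn.2 ⟨hg, hSN hg⟩
  have hfn : F.IsFullyNormalized B := isFullyNormalized_of_normalizerIn_eq hBS hBn
  have := finite_autGroup F hBS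
  let t : MulAut B := conjAut B x (hSN hxS)
  have htv : ∀ u : B, ((t u : B) : Ω) = x * (u : Ω) * (x : Ω)⁻¹ := fun u => conjAut_coe _ _ _ _
  have htS : t ∈ autInducedBy S B := conjAut_mem hxS _
  have htA : t ∈ F.autGroup B := autInducedBy_le_autGroup F hBS htS
  let r' : B := ⟨r, hrB⟩
  have hr'gen : ∀ z ∈ R, ∃ k : ℕ, z = r ^ k := fun z hz => exists_pow_of_card_prime hZcard hrZ hrne hz
  have hpowB : IsPGroup p B := hS.to_le hBS
  have ht1 : t r' = r' := by
    apply Subtype.ext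
    rw [htv]
    show (x : Ω) * r * (x : Ω)⁻¹ = r
    rw [hZcen r hrZ x x.2]
    simp
  have htu : ∀ u : B, ∃ c : ℕ, t u = u * r' ^ c := by
    intro u
    have h1 : ⁅(x : Ω), (u : Ω)⁆ ∈ R := hZcomm _ x.2 _ (hBP u.2)
    obtain ⟨c, hc⟩ := hr'gen _ h1
    refine ⟨c, Subtype.ext ?_⟩
    rw [htv]
    have h2 : (x : Ω) * (u : Ω) * (x : Ω)⁻¹ = ⁅(x : Ω), (u : Ω)⁆ * u := by
      simp [commutatorElement_def]
    rw [h2, hc]
    have h3 := hZcen (r ^ c) (R.pow_mem hrZ c) u (hBP u.2)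
    rw [← h3]
    simp [r']
  -- the Baer–Suzuki dichotomy
  let A : Subgroup (MulAut B) := F.autGroup B
  let t₀ : ↥A := ⟨t, htA⟩
  let X : Subgroup ↥A := Subgroup.zpowers t₀
  have hXp : IsPGroup p X := by
    obtain ⟨N, hN⟩ := isPGroup_autInducedBy hS B ⟨t, htS⟩
    have h1 : t ^ p ^ N = 1 := by simpa using congrArg Subtype.val hN
    have h2 : t₀ ^ p ^ N = 1 := Subtype.ext h1
    rintro ⟨_, k, rfl⟩
    refine ⟨N, Subtype.ext ?_⟩
    show (t₀ ^ k) ^ p ^ N = 1
    rw [← zpow_natCast, ← zpow_mul, mul_comm, zpow_mul, zpow_natCast, h2, one_zpow]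
  by_cases hBS' : ∀ g : ↥A, IsPGroup p ↥(X ⊔ X.map (MulAut.conj g).toMonoidHom)
  · -- the normal `p`-subgroup
    obtain ⟨N, hNn, hNp, hXN⟩ := Cfsg.Agent.S0199.result X hXp hBS'
    obtain ⟨-, U, hU⟩ := IsSat.fullyAutomized_of_fullyNormalized hS hF hfn
    let α₀ : ↥A := ⟨α, hα⟩
    have h1 : α₀ * t₀ * α₀⁻¹ ∈ N := hNn.conj_mem t₀ (hXN (Subgroup.mem_zpowers _)) α₀
    have h2 := Cfsg.Agent.Lib.Core.pCore_le_sylow (p := p) U (Cfsg.Agent.Lib.Core.le_pCore hNn hNp h1)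
    rw [hU] at h2
    have h3 : α * t * α⁻¹ ∈ autInducedBy S B := Subgroup.mem_subgroupOf.1 h2
    obtain ⟨h₀, hh₀, hh₀v⟩ := mem_autInducedBy_iff.1 h3
    obtain ⟨β, hβ, hβv⟩ := extend_over_zpowers hS hF hBcl hxS hgen hα hh₀ (by
      intro u hu
      have h4 := hh₀v (α u)
      have h5 : (α * t * α⁻¹) (α u) = α (t u) := by simp [MulAut.mul_apply]
      rw [h5] at h4
      rw [← h4]
      rfl)
    have hβP : ∀ a : ↥P, β a ∈ P := fun a => hP.2 P le_rfl β hβ a
    -- `β` preserves `Z`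
    have hβZ : β ⟨r, hZP hrZ⟩ ∈ R := by
      have h4 : ⟨r, hZP hrZ⟩ ∈ Zt := hZout r _ hrZ
      obtain ⟨k, hk⟩ := mem_pow_of_comm hZc hZz hC hxy _ h4
      rw [hk, map_pow, map_commutatorElement]
      exact R.pow_mem (hZcomm _ (hβP _) _ (hβP _)) k
    refine hstar r' hrZ hrne ?_
    have h6 : ψ r' = β ⟨r, hZP hrZ⟩ := by
      rw [hβv ⟨r, hZP hrZ⟩ hrB]
      exact (hαv r').symm
    rw [h6]
    exact hβZ
  · push_neg at hBS'
    obtain ⟨g, hgX⟩ := hBS'
    let s : MulAut B := g * t * (g : MulAut B)⁻¹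
    let v : B := (g : MulAut B) r'
    have hs1 : s v = v := by
      show ((g : MulAut B) * t * (g : MulAut B)⁻¹) ((g : MulAut B) r') = _
      simp [MulAut.mul_apply, ht1, v]
    have hsu : ∀ u : B, ∃ d : ℕ, s u = u * v ^ d := by
      intro u
      obtain ⟨d, hd⟩ := htu ((g : MulAut B)⁻¹ u)
      refine ⟨d, ?_⟩
      show (g : MulAut B) (t ((g : MulAut B)⁻¹ u)) = _
      rw [hd, map_mul, map_pow]
      simp [v]
    have hnp : ¬ IsPGroup p ↥(Subgroup.closure {t, s}) := by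
      intro hcl
      apply hgX
      have h1 := hcl.comap_of_injective A.subtype (Subgroup.subtype_injective _)
      refine h1.to_le (sup_le ?_ ?_)
      · rw [show X = Subgroup.zpowers t₀ from rfl, Subgroup.zpowers_le]
        exact Subgroup.subset_closure (by simp [t₀])
      · rw [Subgroup.map_le_iff_le_comap, show X = Subgroup.zpowers t₀ from rfl, Subgroup.zpowers_le]
        exact Subgroup.subset_closure (by simp [t₀, s])
    obtain ⟨i, hi, hir, hit⟩ := transvection_inversion (p := p) hBcomm hBpow ht1 htu hs1 hsu hnp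
    have hiA : i ∈ F.autGroup B := by
      have hle : Subgroup.closure {t, s} ≤ F.autGroup B := by
        rw [Subgroup.closure_le]
        rintro _ (rfl | h)
        · exact htA
        · rw [Set.mem_singleton_iff] at h
          subst h
          exact A.mul_mem (A.mul_mem g.2 htA) (A.inv_mem g.2)
      exact hle hi
    obtain ⟨β, hβ, hβv⟩ := extend_over_zpowers hS hF hBcl hxS hgen hiA hxS (by
      intro u hu
      have h4 := hit u
      have h5 : t u = ⟨x * u * (x : Ω)⁻¹, hu⟩ := Subtype.ext (htv u)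
      rw [h5] at h4
      rw [h4]
      exact htv _)
    have hβP : ∀ a : ↥P, β a ∈ P := fun a => hP.2 P le_rfl β hβ a
    -- the deviation of `β` on `x`
    let xb : ↥P := ⟨β x, hβP x⟩
    let b : ↥P := x⁻¹ * xb
    have hxb : x * b = xb := by simp [b]
    have hbB : (b : Ω) ∈ B := by
      refine (hBT b).1 ?_
      rw [commutatorElement_eq_one_iff_mul_comm]
      obtain ⟨u, hu⟩ := i.surjective ⟨y, hyB⟩
      have huP : (u : Ω) ∈ P := hBP u.2
      have h4 := hit u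
      have h5 : x * (⟨u, huP⟩ : ↥P) * x⁻¹ = ⟨(t u : B), hBP (t u).2⟩ := Subtype.ext (htv u).symm
      have h6 := hβv (x * ⟨u, huP⟩ * x⁻¹) (by rw [h5]; exact (t u).2)
      have h7 : (⟨((x * ⟨u, huP⟩ * x⁻¹ : ↥P) : Ω), by rw [h5]; exact (t u).2⟩ : B) = t u := by
        apply Subtype.ext
        simpa using (htv u).symm
      rw [h7, h4, hu] at h6
      rw [map_mul, map_mul, map_inv, hβv ⟨u, huP⟩ u.2] at h6
      have h8 : ((t ⟨y, hyB⟩ : B) : Ω) = x * y * (x : Ω)⁻¹ := htv _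
      rw [h8] at h6
      have h9 : (⟨(⟨(u : Ω), huP⟩ : ↥P), u.2⟩ : B) = u := rfl
      rw [show ((⟨((⟨(u : Ω), huP⟩ : ↥P) : Ω), u.2⟩ : B)) = u from rfl, hu] at h6
      -- now `xb * y * xb⁻¹ = x * y * x⁻¹`
      have h10 : (xb : Ω) * y * (xb : Ω)⁻¹ = x * y * (x : Ω)⁻¹ := h6
      apply Subtype.ext
      show ((x : Ω)⁻¹ * xb) * y = y * ((x : Ω)⁻¹ * xb)
      have h11 : (xb : Ω) * y = x * y * (x : Ω)⁻¹ * xb := by
        rw [← h10]
        simp
      calc (x : Ω)⁻¹ * xb * y = (x : Ω)⁻¹ * ((xb : Ω) * y) := by group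
        _ = (x : Ω)⁻¹ * (x * y * (x : Ω)⁻¹ * xb) := by rw [h11]
        _ = y * ((x : Ω)⁻¹ * xb) := by group
    have hbp : b ^ p = 1 := hTp b ((hBT b).2 hbB)
    have hxbp : xb ^ p = x ^ p := by
      rw [← hxb, pow_mul_odd hp2 hZc hZz hC, hbp, mul_one]
    -- computing `β (x ^ p)`
    have hxpZ : ((x ^ p : ↥P) : Ω) ∈ R := hZin _ (hfr x)
    obtain ⟨k, hk⟩ := hr'gen _ hxpZ
    have hxpB : ((x ^ p : ↥P) : Ω) ∈ B := hRB hxpZ
    have h1 : β (x ^ p) = ((x ^ p : ↥P) : Ω)⁻¹ := by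
      rw [hβv _ hxpB]
      have h2 : (⟨((x ^ p : ↥P) : Ω), hxpB⟩ : B) = r' ^ k := Subtype.ext (by simpa [r'] using hk)
      rw [h2, map_pow, hir, inv_pow]
      simp [r', hk]
    have h2 : β (x ^ p) = ((x ^ p : ↥P) : Ω) := by
      rw [map_pow]
      have := congrArg (fun w : ↥P => (w : Ω)) hxbp
      simpa [xb] using this
    have h3 : ((x ^ p : ↥P) : Ω) = ((x ^ p : ↥P) : Ω)⁻¹ := h2.symm.trans h1
    have h4 : (((x ^ p : ↥P) : Ω)) ^ 2 = 1 := by
      rw [pow_two]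
      nth_rewrite 2 [h3]
      simp
    have h5 : ((x ^ p : ↥P) : Ω) ^ p = 1 := by
      obtain ⟨k', hk'⟩ := hr'gen _ hxpZ
      rw [hk', ← pow_mul, mul_comm, pow_mul]
      have : r ^ p = 1 := by
        have : (⟨r, hrZ⟩ : R) ^ Nat.card R = 1 := pow_card_eq_one'
        rw [hZcard] at this
        simpa using congrArg (fun w : R => (w : Ω)) this
      rw [this, one_pow]
    have h6 : ((x ^ p : ↥P) : Ω) ^ Nat.gcd 2 p = 1 := pow_gcd_eq_one.2 ⟨h4, h5⟩
    rw [(Nat.coprime_primes Nat.prime_two hpp).2 (Ne.symm hp2), pow_one] at h6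
    exact hxy (hcase x (Subtype.ext (by simpa using h6)))

end Main

end Cfsg.Agent.Lib.Fusion
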