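import Cfsg.Agent.Lib.Fusion.GlaubLocal2
import Cfsg.Agent.Lib.Fusion.ChainLocal
import Cfsg.Agent.Lib.Fusion.FrameworkThm
import Cfsg.Agent.Lib.FrobThm.Replacement
import Mathlib

/-! # Glauberman's theorem: the local condition for the Thompson subgroup -/

set_option autoImplicit false

namespace Cfsg.Agent.Lib.Fusion

open Cfsg Cfsg.FusionSystem
open scoped commutatorElement
open Cfsg.Agent.Lib.FrobThm (AA JJ EA EA.sup EA.mono le_JJ JJ_le card_sup_mul_inf card_map_of_injOn exists_mem_AA le_normalizer_of_commute thompson_replacement thompsonSubgroupAOf_eq_JJ)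

universe u

section

variable {G : Type*} [Group G] {p : ℕ} [Fact p.Prime]

/-- For odd primes, orbits under a `p`-group never have size two. -/
theorem orb3_of_odd (hp : p ≠ 2) {A : Subgroup G} (hA : IsPGroup p A) (y : G) : Orb3 A y := by
  intro a ha hne
  refine ⟨a * a, A.mul_mem ha ha, fun hc => hne ?_, fun hc => hne ?_⟩
  · obtain ⟨k, hk⟩ := hA ⟨a, ha⟩
    have hk' : a ^ (p ^ k) = 1 := congrArg Subtype.val hk
    have hodd : Odd (p ^ k) := ((Fact.out : p.Prime).odd_of_ne_two hp).pow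
    obtain ⟨m, hm⟩ := hodd
    have h1 : Commute (a * a) y := by
      have : (a * a) * y * (a * a)⁻¹ = y := hc
      show (a * a) * y = y * (a * a)
      calc (a * a) * y = ((a * a) * y * (a * a)⁻¹) * (a * a) := by group
        _ = y * (a * a) := by rw [this]
    have h2 : Commute ((a * a) ^ m) y := h1.pow_left m
    have h3 : (a * a) ^ m = a⁻¹ := by
      rw [hm, pow_succ, pow_mul, pow_two] at hk'
      exact eq_inv_of_mul_eq_one_left hk'
    rw [h3] at h2
    have h4 : Commute a y := by simpa using h2.inv_left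
    rw [h4.eq]
    group
  · have h1 : a * (a * y * a⁻¹) * a⁻¹ = a * y * a⁻¹ := by
      calc a * (a * y * a⁻¹) * a⁻¹ = (a * a) * y * (a * a)⁻¹ := by group
        _ = a * y * a⁻¹ := hc
    have h2 : a * y * a⁻¹ = y := by
      have := mul_left_cancel (a := a) (b := a * y * a⁻¹ * a⁻¹) (c := y * a⁻¹) (by
        calc a * (a * y * a⁻¹ * a⁻¹) = a * (a * y * a⁻¹) * a⁻¹ := by group
          _ = a * y * a⁻¹ := h1
          _ = a * (y * a⁻¹) := by group)
      exact mul_right_cancel this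
    exact h2

variable [Finite G]

/-- The quadratic element when the Thompson subgroup is not normal. -/
theorem quadratic_of_J (P : Sylow p G) (hJn : ¬ (JJ (Nat.card G) (P : Subgroup G)).Normal) :
    ∃ g : G, g ∈ (P : Subgroup G) ∧ g ∉ Cfsg.pCore p G ∧ ⁅⁅Subgroup.center ↥(Cfsg.pCore p G) |>.map (Cfsg.pCore p G).subtype, Subgroup.zpowers g⁆, Subgroup.zpowers g⁆ = ⊥ := by
  set D := Cfsg.pCore p G with hD
  have hDn : D.Normal := Lib.Core.pCore_normal p G
  have hDP : D ≤ (P : Subgroup G) := Lib.Core.pCore_le_sylow P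
  set V := (Subgroup.center ↥D).map D.subtype with hV
  have hVmem : ∀ {a : G}, a ∈ V ↔ a ∈ D ∧ ∀ y ∈ D, y * a = a * y := by
    intro a
    constructor
    · rintro ⟨b, hb, rfl⟩
      exact ⟨b.2, fun y hy => congrArg Subtype.val (Subgroup.mem_center_iff.1 hb ⟨y, hy⟩)⟩
    · rintro ⟨ha, hc⟩
      exact ⟨⟨a, ha⟩, Subgroup.mem_center_iff.2 fun y => Subtype.ext (hc y y.2), rfl⟩
  have hVD : V ≤ D := fun a ha => (hVmem.1 ha).1
  have hVP : V ≤ (P : Subgroup G) := hVD.trans hDP
  have hVn : V.Normal := by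
    refine ⟨fun a ha g => hVmem.2 ⟨hDn.conj_mem a (hVD ha) g, fun y hy => ?_⟩⟩
    have h1 := (hVmem.1 ha).2 _ (hDn.conj_mem y hy g⁻¹)
    have h2 : g⁻¹ * y * g⁻¹⁻¹ * a = a * (g⁻¹ * y * g⁻¹⁻¹) := h1
    calc y * (g * a * g⁻¹) = g * (g⁻¹ * y * g⁻¹⁻¹ * a) * g⁻¹ := by group
      _ = g * (a * (g⁻¹ * y * g⁻¹⁻¹)) * g⁻¹ := by rw [h2]
      _ = g * a * g⁻¹ * y := by group
  have hVE : EA (Nat.card G) V := ⟨fun a ha b hb => (hVmem.1 hb).2 a (hVD ha), fun a _ => pow_card_eq_one'⟩
  have hexA : ∃ A ∈ AA (Nat.card G) (P : Subgroup G), ¬ A ≤ D := by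
    by_contra hcon
    push_neg at hcon
    apply hJn
    refine ⟨fun j hj g => ?_⟩
    have hle : JJ (Nat.card G) (P : Subgroup G) ≤ (JJ (Nat.card G) (P : Subgroup G)).comap (MulAut.conj g).toMonoidHom := by
      refine sSup_le fun A hA a ha => ?_
      have h1 : A.map (MulAut.conj g).toMonoidHom ≤ (P : Subgroup G) := by
        rintro _ ⟨b, hb, rfl⟩
        exact hDP (hDn.conj_mem b (hcon A hA hb) g)
      exact le_JJ (AA_conj_of_le hA g h1) (conj_mem_map g ha)
    exact hle hj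
  obtain ⟨A, ⟨hA, hAD⟩, hmax⟩ := exists_max_of_bdd (C := {A | A ∈ AA (Nat.card G) (P : Subgroup G) ∧ ¬ A ≤ D})
    (by obtain ⟨A, hA, hAD⟩ := hexA; exact ⟨A, hA, hAD⟩) (fun A => Nat.card (A ⊓ V : Subgroup G)) (Nat.card V)
    (fun A _ => Nat.card_le_card_of_injective (Subgroup.inclusion (inf_le_right : A ⊓ V ≤ V)) (Subgroup.inclusion_injective _))
  have hVN : V ≤ Subgroup.normalizer (A : Set G) := by
    by_contra hnot
    have hAN : A ≤ Subgroup.normalizer (V : Set G) := by
      rw [Subgroup.normalizer_eq_top_iff.2 hVn]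
      exact le_top
    obtain ⟨A', hA', hcard, hA'N⟩ := thompson_replacement P.isPGroup' hA hVP hVE hAN hnot
    have hA'D : A' ≤ D := by
      by_contra hA'D
      have : Nat.card (A' ⊓ V : Subgroup G) ≤ Nat.card (A ⊓ V : Subgroup G) := hmax A' ⟨hA', hA'D⟩
      omega
    apply hnot
    refine le_trans ?_ hA'N
    -- `V ≤ A'`
    have hcomm : ∀ a ∈ A', ∀ v ∈ V, a * v = v * a := fun a ha v hv => (hVmem.1 hv).2 a (hA'D ha)
    have hE := EA.sup hA'.2.1 hVE hcomm
    have hle : A' ⊔ V ≤ (P : Subgroup G) := sup_le hA'.1 hVP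
    have hc := hA'.2.2 _ hle hE
    have heq : A' = A' ⊔ V := eq_of_le_of_card_le (S := A' ⊔ V) le_rfl le_sup_left hc
    rw [heq]
    exact le_sup_right
  obtain ⟨g, hgA, hgD⟩ := SetLike.not_le_iff_exists.1 hAD
  have hzA : Subgroup.zpowers g ≤ A := Subgroup.zpowers_le.2 hgA
  refine ⟨g, hA.1 hgA, hgD, ?_⟩
  have h1 : ⁅V, Subgroup.zpowers g⁆ ≤ A := by
    rw [Subgroup.commutator_le]
    intro v hv h hh
    have hhA := hzA hh
    have h2 : v * h * v⁻¹ ∈ A := conj_mem_of_mem_normalizer (hVN hv) hhA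
    have : ⁅v, h⁆ = (v * h * v⁻¹) * h⁻¹ := rfl
    rw [this]
    exact A.mul_mem h2 (A.inv_mem hhA)
  rw [eq_bot_iff, Subgroup.commutator_le]
  intro c hc h hh
  have hcA := h1 hc
  have hhA := hzA hh
  rw [Subgroup.mem_bot, commutatorElement_eq_one_iff_mul_comm]
  exact hA.2.1.1 _ hcA _ hhA

end

/-- The normal Thompson subgroup case, as a functor statement. -/
theorem thompsonA_funW_eq {G : Type u} [Group G] [Finite G] (P : Subgroup G) :
    ((thompsonSubgroupA.{u} ↥P).map P.subtype : Subgroup G) = JJ (Nat.card G) P :=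
  thompsonSubgroupAOf_eq_JJ P

/-- The local condition for `p`-th powers with the Thompson subgroup. -/
theorem localCond_thompson_pow {p : ℕ} [Fact p.Prime] : LocalCond p p thompsonSubgroupA.{u} := by
  refine localCond_of_quadratic thompsonSubgroupA_inv fun G _ _ P hn => ?_
  rw [thompsonA_funW_eq] at hn
  exact quadratic_of_J P hn

/-- The local condition for odd primes with the Thompson subgroup. -/
theorem localCond_thompson_odd {p : ℕ} [Fact p.Prime] (hp : p ≠ 2) : LocalCond p 1 thompsonSubgroupA.{u} := by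
  intro L _ _ P hCL z hz hzc hg
  by_contra hcon
  push_neg at hcon
  obtain ⟨g, hg⟩ := hg
  simp only [pow_one] at hcon hg
  rw [thompsonA_funW_eq] at hcon
  exact hg (central_of_local P hCL hz hzc hcon (fun A hA l => orb3_of_odd hp (P.isPGroup'.to_le hA.1) _) g)

end Cfsg.Agent.Lib.Fusion
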