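import Cfsg.Agent.Lib.Fusion.TraceOrbit
import Cfsg.Agent.Lib.FrobThm.Replacement
import Cfsg.Agent.Lib.Fusion.Stable
import Cfsg.Agent.Lib.Core.Basic
import Mathlib

/-! # Glauberman's weak closure theorem, local form -/

set_option autoImplicit false

namespace Cfsg.Agent.Lib.Fusion

open Cfsg Cfsg.FusionSystem
open Cfsg.Agent.Lib.FrobThm (AA JJ EA EA.sup EA.mono le_JJ JJ_le card_sup_mul_inf card_map_of_injOn exists_mem_AA le_normalizer_of_commute)

section Abstract

variable {M : Type*} [CommGroup M] {A : Type*} [Group A]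

/-- The stabilizer of an element. -/
def actStab (act : A →* MulAut M) (z : M) : Subgroup A where
  carrier := {a | act a z = z}
  mul_mem' {a b} ha hb := by
    show act (a * b) z = z
    rw [map_mul, MulAut.mul_apply, hb, ha]
  one_mem' := by
    show act 1 z = z
    simp
  inv_mem' {a} ha := by
    show act a⁻¹ z = z
    rw [map_inv]
    conv_lhs => rw [← ha]
    simp

theorem mem_actStab {act : A →* MulAut M} {z : M} {a : A} : a ∈ actStab act z ↔ act a z = z := Iff.rfl

theorem orbit_card_mul_stab [Fintype A] [DecidableEq M] [Finite A] (act : A →* MulAut M) (z : M) :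
    (Finset.univ.image (fun a : A => act a z)).card * Nat.card (actStab act z) = Nat.card A := by
  classical
  have h1 := Subgroup.card_eq_card_quotient_mul_card_subgroup (actStab act z)
  have h2 : Nat.card (A ⧸ actStab act z) = (Finset.univ.image (fun a : A => act a z)).card := by
    let f : A ⧸ actStab act z → ↥(Finset.univ.image (fun a : A => act a z)) := fun q =>
      Quotient.liftOn' q (fun a => ⟨act a z, Finset.mem_image.2 ⟨a, Finset.mem_univ _, rfl⟩⟩) (by
        intro a b hab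
        rw [QuotientGroup.leftRel_apply] at hab
        apply Subtype.ext
        have h3 : act (a⁻¹ * b) z = z := hab
        rw [map_mul, map_inv, MulAut.mul_apply] at h3
        show act a z = act b z
        conv_lhs => rw [← h3]
        simp)
    have hf : Function.Bijective f := by
      constructor
      · intro q₁ q₂
        induction q₁ using QuotientGroup.induction_on with
        | H a =>
        induction q₂ using QuotientGroup.induction_on with
        | H b =>
        intro h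
        have h3 : act a z = act b z := congrArg Subtype.val h
        refine QuotientGroup.eq.2 ?_
        show act (a⁻¹ * b) z = z
        rw [map_mul, map_inv, MulAut.mul_apply, ← h3]
        simp
      · rintro ⟨w, hw⟩
        obtain ⟨a, -, rfl⟩ := Finset.mem_image.1 hw
        exact ⟨(a : A ⧸ actStab act z), rfl⟩
    rw [Nat.card_congr (Equiv.ofBijective f hf), Nat.card_eq_fintype_card, Fintype.card_coe]
  rw [h1, h2]

end Abstract

section Setup

/-- An abelian normal section of `G` in a form which avoids subtypes. -/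
structure AbNormal (G M : Type*) [Group G] [CommGroup M] where
  ι : M →* G
  inj : Function.Injective ι
  act : G →* MulAut M
  comp : ∀ (g : G) (m : M), ι (act g m) = g * ι m * g⁻¹

variable {G M : Type*} [Group G] [CommGroup M] (S : AbNormal G M)

theorem AbNormal.act_eq_iff {g : G} {z : M} : S.act g z = z ↔ g * S.ι z = S.ι z * g := by
  constructor
  · intro h
    have h1 := S.comp g z
    rw [h] at h1
    calc g * S.ι z = (g * S.ι z * g⁻¹) * g := by group
      _ = S.ι z * g := by rw [← h1]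
  · intro h
    apply S.inj
    rw [S.comp, h]
    group

variable {S}

/-- The restriction of the action. -/
def AbNormal.res (S : AbNormal G M) (A : Subgroup G) : ↥A →* MulAut M := S.act.comp A.subtype

theorem AbNormal.res_apply (A : Subgroup G) (a : A) (z : M) : S.res A a z = S.act a z := rfl

variable [Finite G] [Finite M] {p : ℕ} [Fact p.Prime]

/-- The offender inequality. -/
theorem hcount_of_AA {T A : Subgroup G} (hA : A ∈ AA (Nat.card G) T) (hWT : S.ι.range ≤ T) (z : M) [Fintype A] [DecidableEq M] :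
    Nat.card (Subgroup.closure ((Finset.univ.image (fun a : A => S.res A a z) : Finset M) : Set M)) ≤
      (Finset.univ.image (fun a : A => S.res A a z)).card *
        Nat.card ↥(Subgroup.closure ((Finset.univ.image (fun a : A => S.res A a z) : Finset M) : Set M) ⊓ actFixed (S.res A)) := by
  classical
  set O := Finset.univ.image (fun a : A => S.res A a z) with hO
  set Y := Subgroup.closure (O : Set M) with hY
  set Bs := actStab (S.res A) z with hBs
  set B : Subgroup G := Bs.map A.subtype with hB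
  set Y' : Subgroup G := Y.map S.ι with hY'
  have hAc := hA.2.1.1
  have hBA : B ≤ A := by
    rintro _ ⟨b, -, rfl⟩
    exact b.2
  have hBfix : ∀ b ∈ B, b * S.ι z = S.ι z * b := by
    rintro _ ⟨b, hb, rfl⟩
    exact (S.act_eq_iff).1 hb
  have hcomm : ∀ b ∈ B, ∀ y ∈ Y', b * y = y * b := by
    intro b hb y hy
    obtain ⟨y₀, hy₀, rfl⟩ := hy
    induction hy₀ using Subgroup.closure_induction with
    | mem w hw =>
      obtain ⟨a, -, rfl⟩ := Finset.mem_image.1 hw
      rw [AbNormal.res_apply, S.comp]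
      have h1 := hAc b (hBA hb) a a.2
      have h2 := hBfix b hb
      calc b * ((a : G) * S.ι z * (a : G)⁻¹) = (b * a) * S.ι z * (a : G)⁻¹ := by group
        _ = (a * b) * S.ι z * (a : G)⁻¹ := by rw [h1]
        _ = a * (b * S.ι z) * (a : G)⁻¹ := by group
        _ = a * (S.ι z * b) * (a : G)⁻¹ := by rw [h2]
        _ = a * S.ι z * (b * (a : G)⁻¹) := by group
        _ = a * S.ι z * ((a : G)⁻¹ * b) := by
          congr 1
          have h3 : b * (a : G)⁻¹ = (a : G)⁻¹ * b := by
            calc b * (a : G)⁻¹ = (a : G)⁻¹ * (a * b) * (a : G)⁻¹ := by group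
              _ = (a : G)⁻¹ * (b * a) * (a : G)⁻¹ := by rw [h1]
              _ = (a : G)⁻¹ * b := by group
          exact h3
        _ = ((a : G) * S.ι z * (a : G)⁻¹) * b := by group
    | one => simp
    | mul u v _ _ hu hv =>
      rw [map_mul, ← mul_assoc, hu, mul_assoc, hv, mul_assoc]
    | inv u _ hu =>
      rw [map_inv]
      have : b * S.ι u * (S.ι u)⁻¹ = S.ι u * b * (S.ι u)⁻¹ := by rw [hu]
      rw [mul_inv_cancel_right] at this
      calc b * (S.ι u)⁻¹ = (S.ι u)⁻¹ * (S.ι u * b * (S.ι u)⁻¹) := by group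
        _ = (S.ι u)⁻¹ * b := by rw [← this]
  have hpow : ∀ g : G, g ^ Nat.card G = 1 := fun g => pow_card_eq_one'
  have hBE : EA (Nat.card G) B := ⟨fun a ha b hb => hAc a (hBA ha) b (hBA hb), fun a _ => hpow a⟩
  have hY'E : EA (Nat.card G) Y' := by
    refine ⟨?_, fun a _ => hpow a⟩
    rintro _ ⟨a, -, rfl⟩ _ ⟨b, -, rfl⟩
    rw [← map_mul, ← map_mul, mul_comm]
  have hsupE : EA (Nat.card G) (B ⊔ Y') := EA.sup hBE hY'E hcomm
  have hY'T : Y' ≤ T := by
    rintro _ ⟨y, -, rfl⟩
    exact hWT ⟨y, rfl⟩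
  have h1 := hA.2.2 (B ⊔ Y') (sup_le (hBA.trans hA.1) hY'T) hsupE
  have h2 := card_sup_mul_inf (le_normalizer_of_commute hcomm)
  have h3 := orbit_card_mul_stab (S.res A) z
  have hcB : Nat.card B = Nat.card Bs := by
    rw [hB]
    exact Nat.card_congr (Subgroup.equivMapOfInjective Bs A.subtype A.subtype_injective).symm.toEquiv
  have hcY : Nat.card Y' = Nat.card Y := by
    rw [hY']
    exact Nat.card_congr (Subgroup.equivMapOfInjective Y S.ι S.inj).symm.toEquiv
  have hle : Y' ⊓ B ≤ (Y ⊓ actFixed (S.res A)).map S.ι := by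
    rintro w ⟨⟨y, hy, rfl⟩, hwB⟩
    refine ⟨y, ⟨hy, fun a => ?_⟩, rfl⟩
    refine (S.act_eq_iff).2 ?_
    exact (hAc a a.2 _ (hBA hwB))
  have hc5 : Nat.card ↥(Y' ⊓ B) ≤ Nat.card ↥(Y ⊓ actFixed (S.res A)) := by
    have h6 : Nat.card ↥(Y' ⊓ B) ≤ Nat.card ((Y ⊓ actFixed (S.res A)).map S.ι) := Nat.card_le_card_of_injective _ (Subgroup.inclusion_injective hle)
    have h7 : Nat.card ((Y ⊓ actFixed (S.res A)).map S.ι) = Nat.card ↥(Y ⊓ actFixed (S.res A)) :=
      Nat.card_congr (Subgroup.equivMapOfInjective _ S.ι S.inj).symm.toEquiv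
    omega
  have hBpos : 0 < Nat.card Bs := Nat.card_pos
  have hkey : Nat.card Bs * Nat.card Y ≤ Nat.card Bs * (O.card * Nat.card ↥(Y' ⊓ B)) := by
    calc Nat.card Bs * Nat.card Y = Nat.card (B ⊔ Y' : Subgroup G) * Nat.card ↥(Y' ⊓ B) := by
          rw [h2, hcB, hcY]
      _ ≤ Nat.card A * Nat.card ↥(Y' ⊓ B) := Nat.mul_le_mul_right _ h1
      _ = Nat.card Bs * (O.card * Nat.card ↥(Y' ⊓ B)) := by
          rw [← h3]
          ring
  have hfin := Nat.le_of_mul_le_mul_left hkey hBpos
  exact hfin.trans (Nat.mul_le_mul_left _ hc5)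

/-- The orbit of `z` under `A` has trace in the `p`-th powers. -/
theorem orbit_trace_mem {T A : Subgroup G} (hT : IsPGroup p T) (hA : A ∈ AA (Nat.card G) T) (hWT : S.ι.range ≤ T) (z : M) [Fintype A] [DecidableEq M]
    (h3 : 3 ≤ (Finset.univ.image (fun a : A => S.res A a z)).card) :
    ∏ w ∈ Finset.univ.image (fun a : A => S.res A a z), w ∈ powSub p M := by
  classical
  refine trace_mem_pow (A := A) (hT.to_le hA.1) (S.res A) _ ?_ ?_ h3 (hcount_of_AA hA hWT z)
  · intro a w hw
    obtain ⟨b, -, rfl⟩ := Finset.mem_image.1 hw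
    refine Finset.mem_image.2 ⟨a * b, Finset.mem_univ _, ?_⟩
    rw [map_mul, MulAut.mul_apply]
  · intro w hw w' hw'
    obtain ⟨b, -, rfl⟩ := Finset.mem_image.1 hw
    obtain ⟨c, -, rfl⟩ := Finset.mem_image.1 hw'
    refine ⟨c * b⁻¹, ?_⟩
    rw [map_mul, MulAut.mul_apply, map_inv]
    simp

end Setup

section Chain

variable {G M : Type*} [Group G] [CommGroup M] {S : AbNormal G M} [Finite G] {p : ℕ} [Fact p.Prime]

/-- The members of `𝒜(T)` in `R` generate this. -/
def JP (T R : Subgroup G) : Subgroup G := sSup {A | A ∈ AA (Nat.card G) T ∧ A ≤ R}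

theorem AA_conj_of_le {T A : Subgroup G} (hA : A ∈ AA (Nat.card G) T) (g : G) (h : A.map (MulAut.conj g).toMonoidHom ≤ T) :
    A.map (MulAut.conj g).toMonoidHom ∈ AA (Nat.card G) T := by
  refine ⟨h, hA.2.1.map _, fun B hB hE => ?_⟩
  rw [Subgroup.card_map_of_injective (MulAut.conj g).injective]
  exact hA.2.2 B hB hE

theorem conj_mem_map {A : Subgroup G} {a : G} (g : G) (ha : a ∈ A) : g * a * g⁻¹ ∈ A.map (MulAut.conj g).toMonoidHom :=
  ⟨a, ha, rfl⟩

/-- The next member of `𝒜(T)`. -/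
theorem exists_next {T B : Subgroup G} (hT : IsPGroup p T) (hB : B ≤ T) (hBJ : B = JP T B) (hne : ¬ JJ (Nat.card G) T ≤ B) :
    ∃ A ∈ AA (Nat.card G) T, A ≤ Subgroup.normalizer (B : Set G) ∧ ¬ A ≤ B := by
  by_contra hcon
  push_neg at hcon
  set R := T ⊓ Subgroup.normalizer (B : Set G) with hR
  have hBR : B ≤ R := le_inf hB Subgroup.le_normalizer
  have hJR : JP T R = B := by
    apply le_antisymm
    · exact sSup_le fun A hA => hcon A hA.1 (hA.2.trans inf_le_right)
    · conv_lhs => rw [hBJ]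
      exact sSup_le_sSup fun A hA => ⟨hA.1, hA.2.trans hBR⟩
  by_cases hRT : R = T
  · exact hne (sSup_le fun A hA => hcon A hA (hA.1.trans (hRT ▸ inf_le_right)))
  have hlt : R < T := lt_of_le_of_ne inf_le_left hRT
  have hlt2 : R < normalizerIn T R := lt_normalizerIn hT hlt
  obtain ⟨g, hgN, hgR⟩ := SetLike.exists_of_lt hlt2
  obtain ⟨hgT, hgNR⟩ := mem_normalizerIn.1 hgN
  have hgB : g ∈ Subgroup.normalizer (B : Set G) := by
    refine Cfsg.Agent.Lib.FrobThm.mem_normalizer_of_forall_conj_mem fun b hb => ?_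
    rw [← hJR] at hb ⊢
    have hle : JP T R ≤ (JP T R).comap (MulAut.conj g).toMonoidHom := by
      refine sSup_le fun A hA a ha => ?_
      have h1 : A.map (MulAut.conj g).toMonoidHom ≤ R := by
        rintro _ ⟨c, hc, rfl⟩
        exact (Subgroup.mem_normalizer_iff.1 hgNR c).1 (hA.2 hc)
      have h2 : A.map (MulAut.conj g).toMonoidHom ∈ {A | A ∈ AA (Nat.card G) T ∧ A ≤ R} :=
        ⟨AA_conj_of_le hA.1 g (h1.trans inf_le_left), h1⟩
      exact (le_sSup h2 : A.map (MulAut.conj g).toMonoidHom ≤ JP T R) (conj_mem_map g ha)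
    exact hle hb
  exact hgR ⟨hgT, hgB⟩

variable [Finite M]

open Classical in
/-- The conjugates of `x₀` fixed by `B`. -/
noncomputable def fixOmega (S : AbNormal G M) (x₀ : M) (B : Subgroup G) [Fintype G] : Finset M :=
  (Finset.univ.image (fun g : G => S.act g x₀)).filter (fun z => B ≤ Subgroup.centralizer {S.ι z})

theorem mem_fixOmega [Fintype G] {x₀ z : M} {B : Subgroup G} :
    z ∈ fixOmega S x₀ B ↔ (∃ g : G, S.act g x₀ = z) ∧ B ≤ Subgroup.centralizer {S.ι z} := by
  classical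
  unfold fixOmega
  simp [Finset.mem_filter, Finset.mem_image]

theorem le_centralizer_iff {B : Subgroup G} {z : M} : B ≤ Subgroup.centralizer {S.ι z} ↔ ∀ b ∈ B, S.act b z = z := by
  constructor
  · intro h b hb
    refine (S.act_eq_iff).2 ?_
    have := Subgroup.mem_centralizer_iff.1 (h hb) (S.ι z) rfl
    exact this.symm
  · intro h b hb
    refine Subgroup.mem_centralizer_iff.2 fun y hy => ?_
    rw [Set.mem_singleton_iff.1 hy]
    exact ((S.act_eq_iff).1 (h b hb)).symm

/-- One step of the chain. -/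
theorem step_fix [Fintype G] [DecidableEq M] {T A B : Subgroup G} (hT : IsPGroup p T) (hA : A ∈ AA (Nat.card G) T) (hWT : S.ι.range ≤ T)
    (hAN : A ≤ Subgroup.normalizer (B : Set G)) (x₀ : M) [Fintype A]
    (hOrb : ∀ z : M, (∃ g : G, S.act g x₀ = z) → (∃ a : A, S.res A a z ≠ z) → 3 ≤ (Finset.univ.image (fun a : A => S.res A a z)).card) :
    (∏ z ∈ fixOmega S x₀ B, z) * (∏ z ∈ fixOmega S x₀ (B ⊔ A), z)⁻¹ ∈ powSub p M := by
  classical
  have hinv : ∀ (a : A), ∀ z ∈ fixOmega S x₀ B, S.res A a z ∈ fixOmega S x₀ B := by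
    intro a z hz
    obtain ⟨⟨g, rfl⟩, hzB⟩ := mem_fixOmega.1 hz
    refine mem_fixOmega.2 ⟨⟨a * g, ?_⟩, ?_⟩
    · rw [map_mul, MulAut.mul_apply]
      rfl
    · refine le_centralizer_iff.2 fun b hb => ?_
      have h1 := le_centralizer_iff.1 hzB _ (Cfsg.Agent.Lib.FrobThm.inv_conj_mem_of_mem_normalizer (hAN a.2) hb)
      rw [AbNormal.res_apply, ← MulAut.mul_apply, ← map_mul]
      have h2 : b * (a : G) = (a : G) * ((a : G)⁻¹ * b * a) := by group
      rw [h2, map_mul, MulAut.mul_apply, h1]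
  have hTP : ∀ z ∈ fixOmega S x₀ B, (∃ a : A, S.res A a z ≠ z) → ∏ w ∈ Finset.univ.image (fun a : A => S.res A a z), w ∈ powSub p M := by
    intro z hz hne
    obtain ⟨hzg, -⟩ := mem_fixOmega.1 hz
    exact orbit_trace_mem hT hA hWT z (hOrb z hzg hne)
  have h := prod_fixed_congr (A := A) (S.res A) (powSub p M) _ (fixOmega S x₀ B) le_rfl hinv hTP
  have heq : (fixOmega S x₀ B).filter (fun z => ∀ a : A, S.res A a z = z) = fixOmega S x₀ (B ⊔ A) := by
    ext z
    simp only [Finset.mem_filter, mem_fixOmega]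
    constructor
    · rintro ⟨⟨hg, hB⟩, hfix⟩
      exact ⟨hg, sup_le hB (le_centralizer_iff.2 fun a ha => hfix ⟨a, ha⟩)⟩
    · rintro ⟨hg, hsup⟩
      have hs := sup_le_iff.1 hsup
      exact ⟨⟨hg, hs.1⟩, fun a => le_centralizer_iff.1 hs.2 a a.2⟩
  rwa [heq] at h

/-- The chain from the trivial subgroup to `J(T)`. -/
theorem chain_trace [Fintype G] [DecidableEq M] {T : Subgroup G} (hT : IsPGroup p T) (hWT : S.ι.range ≤ T) (x₀ : M)
    (hOrb : ∀ A ∈ AA (Nat.card G) T, ∀ [Fintype A], ∀ z : M, (∃ g : G, S.act g x₀ = z) → (∃ a : A, S.res A a z ≠ z) →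
      3 ≤ (Finset.univ.image (fun a : A => S.res A a z)).card) :
    (∏ z ∈ fixOmega S x₀ ⊥, z) * (∏ z ∈ fixOmega S x₀ (JJ (Nat.card G) T), z)⁻¹ ∈ powSub p M := by
  classical
  let C : Set (Subgroup G) := {B | B ≤ T ∧ B = JP T B ∧ (∏ z ∈ fixOmega S x₀ ⊥, z) * (∏ z ∈ fixOmega S x₀ B, z)⁻¹ ∈ powSub p M}
  have hbot : (⊥ : Subgroup G) ∈ C := by
    refine ⟨bot_le, ?_, ?_⟩
    · refine le_antisymm bot_le (sSup_le fun A hA => hA.2)
    · rw [mul_inv_cancel]
      exact Subgroup.one_mem _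
  obtain ⟨B, hBC, hmax⟩ := Set.exists_max_image C (fun B => Nat.card B) (Set.toFinite _) ⟨⊥, hbot⟩
  obtain ⟨hBT, hBJ, hBs⟩ := hBC
  have hJB : JJ (Nat.card G) T ≤ B := by
    by_contra hne
    obtain ⟨A, hA, hAN, hAB⟩ := exists_next hT hBT hBJ hne
    letI : Fintype A := Fintype.ofFinite _
    have hstep := step_fix hT hA hWT hAN x₀ (hOrb A hA)
    have hB₁ : B ⊔ A ∈ C := by
      refine ⟨sup_le hBT hA.1, ?_, ?_⟩
      · refine le_antisymm (sup_le ?_ ?_) (sSup_le fun E hE => hE.2)
        · conv_lhs => rw [hBJ]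
          exact sSup_le_sSup fun E hE => ⟨hE.1, hE.2.trans le_sup_left⟩
        · exact le_sSup ⟨hA, le_sup_right⟩
      · have h1 := Subgroup.mul_mem _ hBs hstep
        have h2 : (∏ z ∈ fixOmega S x₀ ⊥, z) * (∏ z ∈ fixOmega S x₀ B, z)⁻¹ * ((∏ z ∈ fixOmega S x₀ B, z) * (∏ z ∈ fixOmega S x₀ (B ⊔ A), z)⁻¹) =
            (∏ z ∈ fixOmega S x₀ ⊥, z) * (∏ z ∈ fixOmega S x₀ (B ⊔ A), z)⁻¹ := by group
        rwa [h2] at h1
    have hlt : B < B ⊔ A := lt_of_le_of_ne le_sup_left fun h => hAB (h ▸ le_sup_right)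
    have hc : Nat.card B < Nat.card (B ⊔ A : Subgroup G) := by
      by_contra hge
      exact hlt.ne (Subgroup.eq_of_le_of_card_ge hlt.le (not_lt.1 hge))
    exact absurd (hmax _ hB₁) (not_le.2 hc)
  have hBeq : B = JJ (Nat.card G) T := by
    refine le_antisymm ?_ hJB
    rw [hBJ]
    exact sSup_le fun E hE => le_JJ hE.1
  rwa [hBeq] at hBs

/-- Elements of order prime to `p` lie in the kernel: then `G = TK`. -/
theorem exists_sylow_mul (P : Sylow p G) (C : Subgroup G) [C.Normal] (hC : ∀ g : G, Nat.Coprime (orderOf g) p → g ∈ C) (g : G) :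
    ∃ t ∈ (P : Subgroup G), ∃ c ∈ C, g = t * c := by
  have hp : p.Prime := Fact.out
  have hH : IsPGroup p (G ⧸ C) := by
    intro q
    obtain ⟨g, rfl⟩ := QuotientGroup.mk_surjective q
    obtain ⟨a, m, hm, ha⟩ := Nat.exists_eq_pow_mul_and_not_dvd (n := orderOf g) (orderOf_pos g).ne' p hp.ne_one
    refine ⟨a, ?_⟩
    have h1 : g ^ p ^ a ∈ C := by
      apply hC
      have hd : orderOf (g ^ p ^ a) ∣ m := by
        apply orderOf_dvd_of_pow_eq_one
        rw [← pow_mul, ← ha, pow_orderOf_eq_one]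
      exact Nat.Coprime.coprime_dvd_left hd ((Nat.Prime.coprime_iff_not_dvd hp).2 hm).symm
    rw [← QuotientGroup.mk_pow]
    exact (QuotientGroup.eq_one_iff _).2 h1
  let π : G →* G ⧸ C := QuotientGroup.mk' C
  have hsurj : Function.Surjective π := QuotientGroup.mk'_surjective C
  have hidx : ((P : Subgroup G).map π).index ∣ (P : Subgroup G).index := Subgroup.index_map_dvd _ hsurj
  obtain ⟨k, hk⟩ := hH.index ((P : Subgroup G).map π)
  have hk0 : k = 0 := by
    by_contra hk0
    apply P.not_dvd_index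
    refine Dvd.dvd.trans ?_ hidx
    rw [hk]
    exact dvd_pow_self p hk0
  have htop : (P : Subgroup G).map π = ⊤ := by
    rw [← Subgroup.index_eq_one, hk, hk0, pow_zero]
  have hmem : π g ∈ (P : Subgroup G).map π := by
    rw [htop]
    trivial
  obtain ⟨t, ht, hte⟩ := hmem
  refine ⟨t, ht, t⁻¹ * g, ?_, by group⟩
  exact QuotientGroup.eq.1 hte

/-- From the congruence to the fixed point. -/
theorem fixed_of_trace [Fintype G] [DecidableEq M] (P : Sylow p G) (hM : IsPGroup p M) (x₀ : M)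
    (hgen : Subgroup.closure (Set.range fun g : G => S.act g x₀) = ⊤)
    (hPx : ∀ t ∈ (P : Subgroup G), S.act t x₀ = x₀)
    (h : (∏ z ∈ fixOmega S x₀ ⊥, z) * x₀⁻¹ ∈ powSub p M) (g : G) : S.act g x₀ = x₀ := by
  classical
  have hΩ : fixOmega S x₀ ⊥ = Finset.univ.image (fun g : G => S.act g x₀) := by
    ext z
    simp [mem_fixOmega, Finset.mem_image]
  set s := ∏ z ∈ fixOmega S x₀ ⊥, z with hs
  have hsfix : ∀ h : G, S.act h s = s := by
    intro h
    rw [hs, hΩ, map_prod]
    refine Finset.prod_bij (fun z _ => S.act h z) (fun z hz => ?_) (fun _ _ _ _ he => (S.act h).injective he) (fun w hw => ?_) (fun z _ => rfl)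
    · obtain ⟨a, -, rfl⟩ := Finset.mem_image.1 hz
      refine Finset.mem_image.2 ⟨h * a, Finset.mem_univ _, ?_⟩
      rw [map_mul, MulAut.mul_apply]
    · obtain ⟨a, -, rfl⟩ := Finset.mem_image.1 hw
      refine ⟨S.act (h⁻¹ * a) x₀, Finset.mem_image.2 ⟨_, Finset.mem_univ _, rfl⟩, ?_⟩
      rw [← MulAut.mul_apply, ← map_mul]
      simp
  have hx : ∀ h : G, S.act h x₀ * x₀⁻¹ ∈ powSub p M := by
    intro h'
    have h1 := act_mem_powSub S.act h' (p := p) h
    rw [map_mul, map_inv, hsfix] at h1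
    have h2 := Subgroup.mul_mem _ (Subgroup.inv_mem _ h1) h
    have h3 : (s * (S.act h' x₀)⁻¹)⁻¹ * (s * x₀⁻¹) = S.act h' x₀ * x₀⁻¹ := by
      rw [mul_inv, inv_inv, mul_comm s⁻¹, mul_assoc, inv_mul_cancel_left]
    rwa [h3] at h2
  have hall : ∀ (k : G) (w : M), S.act k w * w⁻¹ ∈ powSub p M := by
    intro k w
    have hw : w ∈ Subgroup.closure (Set.range fun g : G => S.act g x₀) := by
      rw [hgen]
      trivial
    induction hw using Subgroup.closure_induction with
    | mem y hy =>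
      obtain ⟨h', rfl⟩ := hy
      show S.act k (S.act h' x₀) * (S.act h' x₀)⁻¹ ∈ _
      have h1 := Subgroup.mul_mem _ (hx (k * h')) (Subgroup.inv_mem _ (hx h'))
      have h2 : S.act (k * h') x₀ * x₀⁻¹ * (S.act h' x₀ * x₀⁻¹)⁻¹ = S.act k (S.act h' x₀) * (S.act h' x₀)⁻¹ := by
        rw [map_mul, MulAut.mul_apply, mul_inv, inv_inv, mul_assoc, mul_comm x₀⁻¹, mul_assoc, mul_inv_cancel, mul_one]
      rwa [h2] at h1
    | one =>
      rw [map_one, mul_inv_cancel]
      exact Subgroup.one_mem _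
    | mul u v _ _ hu hv =>
      have h1 := Subgroup.mul_mem _ hu hv
      have h2 : S.act k u * u⁻¹ * (S.act k v * v⁻¹) = S.act k (u * v) * (u * v)⁻¹ := by
        rw [map_mul, mul_inv, mul_mul_mul_comm]
      rwa [h2] at h1
    | inv u _ hu =>
      have h1 := Subgroup.inv_mem _ hu
      have h2 : (S.act k u * u⁻¹)⁻¹ = S.act k u⁻¹ * (u⁻¹)⁻¹ := by
        rw [map_inv, inv_inv, mul_inv, inv_inv, mul_comm]
      rwa [h2] at h1
  haveI : (S.act.ker).Normal := inferInstance
  have hker : ∀ k : G, Nat.Coprime (orderOf k) p → k ∈ S.act.ker := by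
    intro k hk
    refine (MonoidHom.mem_ker).2 (eq_one_of_trivial_mod_pow hM (S.act k) ?_ (hall k))
    exact Nat.Coprime.coprime_dvd_left (orderOf_map_dvd S.act k) hk
  obtain ⟨t, ht, c, hc, rfl⟩ := exists_sylow_mul P S.act.ker hker g
  rw [map_mul, MulAut.mul_apply]
  have hc1 : S.act c = 1 := (MonoidHom.mem_ker).1 hc
  rw [hc1]
  exact hPx t ht

end Chain

end Cfsg.Agent.Lib.Fusion
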