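import Cfsg.Agent.Lib.Fusion.GlaubLocal
import Cfsg.Agent.Lib.Techniques.SylowIn
import Mathlib

/-! # Glauberman's weak closure theorem, local form: the final step -/

set_option autoImplicit false

namespace Cfsg.Agent.Lib.Fusion

open Cfsg Cfsg.FusionSystem
open Cfsg.Agent.Lib.FrobThm (AA JJ EA EA.sup EA.mono le_JJ JJ_le card_sup_mul_inf card_map_of_injOn exists_mem_AA le_normalizer_of_commute)
open Cfsg.Agent.Lib.Techniques (SylowIn conjS)

section

variable {G : Type*} [Group G] [Finite G] {p : ℕ} [Fact p.Prime]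

/-- The orbit of `y` under `A` has at least three points or just one. -/
def Orb3 (A : Subgroup G) (y : G) : Prop :=
  ∀ a ∈ A, a * y * a⁻¹ ≠ y → ∃ b ∈ A, b * y * b⁻¹ ≠ y ∧ b * y * b⁻¹ ≠ a * y * a⁻¹

/-- `P` is Sylow in every overgroup. -/
theorem sylowIn_of_le (P : Sylow p G) {M : Subgroup G} (hPM : (P : Subgroup G) ≤ M) : SylowIn p (P : Subgroup G) M :=
  ⟨hPM, P.isPGroup', fun hd => P.not_dvd_index (by
    rw [← Subgroup.relIndex_mul_index hPM]
    exact hd.trans (dvd_mul_right _ _))⟩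

/-- Conjugates of the Thompson subgroup inside `T` are the Thompson subgroup. -/
theorem conj_JJ_le {T : Subgroup G} {g : G} (h : (JJ (Nat.card G) T).map (MulAut.conj g).toMonoidHom ≤ T) :
    g ∈ Subgroup.normalizer (JJ (Nat.card G) T : Set G) := by
  refine Cfsg.Agent.Lib.FrobThm.mem_normalizer_of_forall_conj_mem fun b hb => ?_
  have hle : JJ (Nat.card G) T ≤ (JJ (Nat.card G) T).comap (MulAut.conj g).toMonoidHom := by
    refine sSup_le fun A hA a ha => ?_
    have h1 : A.map (MulAut.conj g).toMonoidHom ≤ T := (Subgroup.map_mono (le_JJ hA)).trans h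
    exact le_JJ (AA_conj_of_le hA g h1) (conj_mem_map g ha)
  exact hle hb

/-- `x` is the only conjugate fixed by `J`. -/
theorem unique_fixed_point (P : Sylow p G) {x : G} (hxc : ∀ t ∈ (P : Subgroup G), t * x = x * t)
    (hN : ∀ g ∈ Subgroup.normalizer (JJ (Nat.card G) (P : Subgroup G) : Set G), g * x * g⁻¹ = x) {l : G}
    (hl : ∀ j ∈ JJ (Nat.card G) (P : Subgroup G), j * (l * x * l⁻¹) = (l * x * l⁻¹) * j) : l * x * l⁻¹ = x := by
  set J := JJ (Nat.card G) (P : Subgroup G) with hJ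
  set M := Subgroup.centralizer ({x} : Set G) with hM
  have hmemM : ∀ {g : G}, g ∈ M ↔ g * x = x * g := by
    intro g
    rw [hM, Subgroup.mem_centralizer_iff]
    constructor
    · intro h
      exact (h x rfl).symm
    · intro h y hy
      rw [Set.mem_singleton_iff.1 hy]
      exact h.symm
  have hPM : (P : Subgroup G) ≤ M := fun t ht => hmemM.2 (hxc t ht)
  have hSyl := sylowIn_of_le P hPM
  set Q := J.map (MulAut.conj l⁻¹).toMonoidHom with hQ
  have hQM : Q ≤ M := by
    rintro _ ⟨j, hj, rfl⟩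
    refine hmemM.2 ?_
    have h1 := hl j hj
    show l⁻¹ * j * l⁻¹⁻¹ * x = x * (l⁻¹ * j * l⁻¹⁻¹)
    calc l⁻¹ * j * l⁻¹⁻¹ * x = l⁻¹ * (j * (l * x * l⁻¹)) * l := by group
      _ = l⁻¹ * ((l * x * l⁻¹) * j) * l := by rw [h1]
      _ = x * (l⁻¹ * j * l⁻¹⁻¹) := by group
  have hQp : IsPGroup p Q := by
    have h1 : IsPGroup p J := P.isPGroup'.to_le JJ_le
    exact h1.map _
  obtain ⟨m, hm, hle⟩ := hSyl.exists_conj_le hQM hQp
  have hnorm : m * l⁻¹ ∈ Subgroup.normalizer (J : Set G) := by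
    refine conj_JJ_le ?_
    rintro _ ⟨j, hj, rfl⟩
    refine hle ⟨l⁻¹ * j * l⁻¹⁻¹, ⟨j, hj, rfl⟩, ?_⟩
    simp [mul_assoc]
  have h1 := hN _ hnorm
  have h2 := hmemM.1 hm
  have h3 : m * (l⁻¹ * x * l) * m⁻¹ = x := by
    calc m * (l⁻¹ * x * l) * m⁻¹ = (m * l⁻¹) * x * (m * l⁻¹)⁻¹ := by group
      _ = x := h1
  have h4 : l⁻¹ * x * l = x := by
    calc l⁻¹ * x * l = m⁻¹ * (m * (l⁻¹ * x * l) * m⁻¹) * m := by group
      _ = m⁻¹ * x * m := by rw [h3]
      _ = m⁻¹ * (x * m) := by group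
      _ = m⁻¹ * (m * x) := by rw [h2]
      _ = x := by group
  calc l * x * l⁻¹ = l * (l⁻¹ * x * l) * l⁻¹ := by rw [h4]
    _ = x := by group

end

/-- The `CommGroup` structure on an abelian subgroup. -/
@[reducible] def abCommGroup {G : Type*} [Group G] (W : Subgroup G) (h : ∀ a ∈ W, ∀ b ∈ W, a * b = b * a) : CommGroup W :=
  { (inferInstance : Group W) with mul_comm := fun a b => Subtype.ext (h a a.2 b b.2) }

/-- **The local theorem.** -/
theorem central_of_local {G : Type*} [Group G] [Finite G] {p : ℕ} [Fact p.Prime] (P : Sylow p G)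
    (hC : Subgroup.centralizer ((pCore p G : Subgroup G) : Set G) ≤ pCore p G) {x : G} (hxP : x ∈ (P : Subgroup G))
    (hxc : ∀ t ∈ (P : Subgroup G), t * x = x * t)
    (hN : ∀ g ∈ Subgroup.normalizer (JJ (Nat.card G) (P : Subgroup G) : Set G), g * x * g⁻¹ = x)
    (hOrb : ∀ A ∈ AA (Nat.card G) (P : Subgroup G), ∀ l : G, Orb3 A (l * x * l⁻¹)) (g : G) : g * x * g⁻¹ = x := by
  classical
  letI : Fintype G := Fintype.ofFinite G
  set D := pCore p G with hD
  have hDn : D.Normal := Lib.Core.pCore_normal p G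
  have hDP : D ≤ (P : Subgroup G) := Lib.Core.pCore_le_sylow P
  have hxD : x ∈ D := hC (Subgroup.mem_centralizer_iff.2 fun y hy => hxc y (hDP hy))
  let V : Subgroup G := D ⊓ Subgroup.centralizer (D : Set G)
  have hVn : V.Normal := by
    refine ⟨fun v hv g => ⟨hDn.conj_mem v hv.1 g, Subgroup.mem_centralizer_iff.2 fun y hy => ?_⟩⟩
    have h1 := Subgroup.mem_centralizer_iff.1 hv.2 _ (hDn.conj_mem y hy g⁻¹)
    have h2 : g⁻¹ * y * g⁻¹⁻¹ * v = v * (g⁻¹ * y * g⁻¹⁻¹) := h1
    calc y * (g * v * g⁻¹) = g * (g⁻¹ * y * g⁻¹⁻¹ * v) * g⁻¹ := by group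
      _ = g * (v * (g⁻¹ * y * g⁻¹⁻¹)) * g⁻¹ := by rw [h2]
      _ = g * v * g⁻¹ * y := by group
  have hxV : x ∈ V := ⟨hxD, Subgroup.mem_centralizer_iff.2 fun y hy => hxc y (hDP hy)⟩
  set W := Subgroup.normalClosure ({x} : Set G) with hW
  have hWV : W ≤ V := Subgroup.normalClosure_le_normal (by
    rintro _ rfl
    exact hxV)
  have hWc : ∀ a ∈ W, ∀ b ∈ W, a * b = b * a := fun a ha b hb =>
    (Subgroup.mem_centralizer_iff.1 (hWV hb).2 a (hWV ha).1)
  letI : CommGroup W := abCommGroup W hWc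
  haveI hWn : W.Normal := Subgroup.normalClosure_normal
  let S : AbNormal G W :=
    { ι := W.subtype
      inj := W.subtype_injective
      act := MulAut.conjNormal
      comp := fun g m => MulAut.conjNormal_apply g m }
  have hιv : ∀ m : W, S.ι m = m := fun _ => rfl
  have hWT : S.ι.range ≤ (P : Subgroup G) := by
    rintro _ ⟨m, rfl⟩
    exact hDP (hWV m.2).1
  have hxW : x ∈ W := Subgroup.subset_normalClosure rfl
  let x₀ : W := ⟨x, hxW⟩
  have hactv : ∀ (g : G) (m : W), ((S.act g m : W) : G) = g * m * g⁻¹ := fun g m => S.comp g m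
  have hMp : IsPGroup p W := P.isPGroup'.to_le (fun w hw => hDP (hWV hw).1)
  have hgen : Subgroup.closure (Set.range fun g : G => S.act g x₀) = ⊤ := by
    rw [eq_top_iff]
    rintro ⟨w, hw⟩ -
    have key : ∀ y (hy : y ∈ Subgroup.closure (Group.conjugatesOfSet ({x} : Set G))), ∃ h : y ∈ W,
        (⟨y, h⟩ : W) ∈ Subgroup.closure (Set.range fun g : G => S.act g x₀) := by
      intro y hy
      induction hy using Subgroup.closure_induction with
      | mem y hy =>
        obtain ⟨a, ha, hay⟩ := Group.mem_conjugatesOfSet_iff.1 hy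
        rw [Set.mem_singleton_iff.1 ha] at hay
        obtain ⟨c, rfl⟩ := _root_.isConj_iff.1 hay
        have hmem : c * x * c⁻¹ ∈ W := hWn.conj_mem x hxW c
        refine ⟨hmem, Subgroup.subset_closure ⟨c, Subtype.ext ?_⟩⟩
        exact hactv c x₀
      | one => exact ⟨W.one_mem, Subgroup.one_mem _⟩
      | mul a b _ _ ha hb =>
        obtain ⟨h1, h2⟩ := ha
        obtain ⟨h3, h4⟩ := hb
        exact ⟨W.mul_mem h1 h3, Subgroup.mul_mem _ h2 h4⟩
      | inv a _ ha =>
        obtain ⟨h1, h2⟩ := ha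
        exact ⟨W.inv_mem h1, Subgroup.inv_mem _ h2⟩
    exact (key w hw).2
  have hPx : ∀ t ∈ (P : Subgroup G), S.act t x₀ = x₀ := fun t ht => (S.act_eq_iff).2 (hxc t ht)
  have hOrb' : ∀ A ∈ AA (Nat.card G) (P : Subgroup G), ∀ [Fintype A], ∀ z : W, (∃ g : G, S.act g x₀ = z) → (∃ a : A, S.res A a z ≠ z) →
      3 ≤ (Finset.univ.image (fun a : A => S.res A a z)).card := by
    intro A hA _ z hz ha
    obtain ⟨l, rfl⟩ := hz
    obtain ⟨a, ha⟩ := ha
    have hne1 : (a : G) * (l * x * l⁻¹) * (a : G)⁻¹ ≠ l * x * l⁻¹ := by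
      intro he
      apply ha
      apply Subtype.ext
      show (a : G) * ((S.act l x₀ : W) : G) * (a : G)⁻¹ = ((S.act l x₀ : W) : G)
      rw [hactv l x₀]
      exact he
    obtain ⟨b, hb, hb1, hb2⟩ := hOrb A hA l a a.2 hne1
    have hv : ∀ c : A, ((S.res A c (S.act l x₀) : W) : G) = (c : G) * (l * x * l⁻¹) * (c : G)⁻¹ := by
      intro c
      rw [AbNormal.res_apply, hactv, hactv l x₀]
    have h2 : 2 < (Finset.univ.image (fun a : A => S.res A a (S.act l x₀))).card := by
      refine Finset.two_lt_card_iff.2 ⟨S.res A 1 (S.act l x₀), S.res A a (S.act l x₀), S.res A ⟨b, hb⟩ (S.act l x₀), Finset.mem_image_of_mem _ (Finset.mem_univ _),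
        Finset.mem_image_of_mem _ (Finset.mem_univ _), Finset.mem_image_of_mem _ (Finset.mem_univ _), ?_, ?_, ?_⟩
      · intro he
        have h3 := congrArg (fun w : W => (w : G)) he
        simp only [hv] at h3
        simp only [OneMemClass.coe_one, one_mul, inv_one, mul_one] at h3
        exact hne1 h3.symm
      · intro he
        have h3 := congrArg (fun w : W => (w : G)) he
        simp only [hv] at h3
        simp only [OneMemClass.coe_one, one_mul, inv_one, mul_one] at h3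
        exact hb1 h3.symm
      · intro he
        have h3 := congrArg (fun w : W => (w : G)) he
        simp only [hv] at h3
        exact hb2 h3.symm
    omega
  have hchain := chain_trace (p := p) (S := S) P.isPGroup' hWT x₀ hOrb'
  have hFixJ : fixOmega S x₀ (JJ (Nat.card G) (P : Subgroup G)) = {x₀} := by
    ext z
    rw [mem_fixOmega, Finset.mem_singleton]
    constructor
    · rintro ⟨⟨l, rfl⟩, hz⟩
      apply Subtype.ext
      rw [hactv l x₀]
      refine unique_fixed_point P hxc hN fun j hj => ?_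
      have h1 := Subgroup.mem_centralizer_iff.1 (hz hj) (S.ι (S.act l x₀)) rfl
      have h2 : S.ι (S.act l x₀) = l * x * l⁻¹ := hactv l x₀
      rw [h2] at h1
      exact h1.symm
    · rintro rfl
      refine ⟨⟨1, by simp⟩, fun j hj => Subgroup.mem_centralizer_iff.2 fun y hy => ?_⟩
      rw [Set.mem_singleton_iff.1 hy]
      exact (hxc j (JJ_le hj)).symm
  rw [hFixJ, Finset.prod_singleton] at hchain
  have hfin := fixed_of_trace (S := S) P hMp x₀ hgen hPx hchain g
  have h5 := hactv g x₀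
  rw [hfin] at h5
  exact h5.symm

end Cfsg.Agent.Lib.Fusion
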