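/-
The upper central series of a finite `p`-group of maximal class.
-/
import Mathlib

set_option autoImplicit false

namespace Cfsg.Agent.Lib.Fusion.MaxClassZ

variable {G : Type*} [Group G] {p : ℕ}

theorem upper_stable {i : ℕ} (h : Subgroup.upperCentralSeries G (i + 1) = Subgroup.upperCentralSeries G i) :
    ∀ j : ℕ, Subgroup.upperCentralSeries G (i + j) = Subgroup.upperCentralSeries G i := by
  intro j
  induction j with
  | zero => rfl
  | succ j ih =>
    ext x
    rw [← add_assoc, Subgroup.mem_upperCentralSeries_succ_iff, ih, ← h, Subgroup.mem_upperCentralSeries_succ_iff, h]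

theorem upper_lt_of_ne_top [Group.IsNilpotent G] {i : ℕ} (h : Subgroup.upperCentralSeries G i ≠ ⊤) :
    Subgroup.upperCentralSeries G i < Subgroup.upperCentralSeries G (i + 1) := by
  refine lt_of_le_of_ne (Subgroup.upperCentralSeries_mono G (Nat.le_succ i)) fun he => h ?_
  obtain ⟨m, hm⟩ := Group.IsNilpotent.nilpotent G
  have h1 := upper_stable (G := G) (i := i) he.symm m
  rw [← h1, eq_top_iff, ← hm]
  exact Subgroup.upperCentralSeries_mono G (Nat.le_add_left m i)

variable [Finite G] [Fact p.Prime]

theorem mul_card_le_of_lt (hG : IsPGroup p G) {H K : Subgroup G} (h : H < K) : p * Nat.card H ≤ Nat.card K := by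
  have hp := (Fact.out : p.Prime)
  have hd : Nat.card H ∣ Nat.card K := Subgroup.card_dvd_of_le h.le
  obtain ⟨d, hd⟩ := hd
  obtain ⟨b, hb⟩ := IsPGroup.iff_card.1 (hG.to_subgroup K)
  have hKpos : 0 < Nat.card K := Nat.card_pos
  have hHpos : 0 < Nat.card H := Nat.card_pos
  have hd1 : d ≠ 1 := by
    intro hd1
    rw [hd1, mul_one] at hd
    exact h.ne (Subgroup.eq_of_le_of_card_ge h.le hd.le)
  have hdvd : d ∣ p ^ b := ⟨Nat.card H, by rw [← hb, hd, mul_comm]⟩
  obtain ⟨j, -, rfl⟩ := (Nat.dvd_prime_pow hp).1 hdvd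
  have hj : j ≠ 0 := by
    rintro rfl
    exact hd1 (pow_zero p)
  have h2 : p ≤ p ^ j := by
    calc p = p ^ 1 := (pow_one p).symm
      _ ≤ p ^ j := Nat.pow_le_pow_right hp.pos (Nat.pos_of_ne_zero hj)
  rw [hd, mul_comm]
  exact Nat.mul_le_mul_left _ h2

/-- The top of the upper central series does not have index `p`. -/
theorem index_upper_ne {k : ℕ} (hk : Subgroup.upperCentralSeries G (k + 1) ≠ ⊤) :
    (Subgroup.upperCentralSeries G (k + 1)).index ≠ p := by
  have hp := (Fact.out : p.Prime)
  intro hidx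
  have hcard : Nat.card (G ⧸ Subgroup.upperCentralSeries G (k + 1)) = p := by
    rw [← hidx, Subgroup.index_eq_card]
  obtain ⟨t, ht⟩ : ∃ t : G, t ∉ Subgroup.upperCentralSeries G (k + 1) := by
    by_contra hno
    push Not at hno
    exact hk (eq_top_iff.2 fun x _ => hno x)
  set U := Subgroup.upperCentralSeries G k with hU
  haveI hUn : U.Normal := inferInstance
  set π := QuotientGroup.mk' U with hπ
  have hcen : ∀ u ∈ Subgroup.upperCentralSeries G (k + 1), ∀ g : G, Commute (π u) (π g) := by
    intro u hu g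
    have h1 := Subgroup.mem_upperCentralSeries_succ_iff.1 hu g
    have h2 : π (u * g * u⁻¹ * g⁻¹) = 1 := (QuotientGroup.eq_one_iff _).2 h1
    simp only [map_mul, map_inv] at h2
    have h3 : π u * π g = π g * π u := by
      have h4 : π u * π g * (π u)⁻¹ = π g := by
        rw [← mul_inv_eq_one]
        exact h2
      calc π u * π g = (π u * π g * (π u)⁻¹) * π u := by group
        _ = π g * π u := by rw [h4]
    exact h3
  have hform : ∀ x : G, ∃ (a : ℤ) (u : G), u ∈ Subgroup.upperCentralSeries G (k + 1) ∧ x = t ^ a * u := by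
    intro x
    have hne : (t : G ⧸ Subgroup.upperCentralSeries G (k + 1)) ≠ 1 := fun h => ht ((QuotientGroup.eq_one_iff _).1 h)
    have h1 := mem_zpowers_of_prime_card (p := p) (g := (t : G ⧸ Subgroup.upperCentralSeries G (k + 1))) (g' := (x : G ⧸ Subgroup.upperCentralSeries G (k + 1))) hcard hne
    obtain ⟨a, ha⟩ := Subgroup.mem_zpowers_iff.1 h1
    refine ⟨a, (t ^ a)⁻¹ * x, ?_, by group⟩
    rw [← QuotientGroup.eq]
    rw [← ha]
    rfl
  have hall : ∀ x y : G, x * y * x⁻¹ * y⁻¹ ∈ U := by
    intro x y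
    obtain ⟨a, u, hu, rfl⟩ := hform x
    obtain ⟨b, v, hv, rfl⟩ := hform y
    rw [← QuotientGroup.eq_one_iff]
    show π _ = 1
    have hc1 : Commute (π (t ^ a * u)) (π (t ^ b * v)) := by
      rw [map_mul, map_mul, map_zpow, map_zpow]
      refine Commute.mul_left (Commute.mul_right ?_ ?_) (Commute.mul_right ?_ ?_)
      · exact (Commute.refl (π t)).zpow_zpow a b
      · exact ((hcen v hv t).zpow_right a).symm
      · exact (hcen u hu t).zpow_right b
      · exact hcen u hu v
    simp only [map_mul, map_inv]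
    simp only [map_mul] at hc1
    rw [hc1.eq]
    group
  exact ht (Subgroup.mem_upperCentralSeries_succ_iff.2 (fun y => hall t y))

/-- The orders of the terms of the upper central series of a group of maximal class. -/
theorem card_upper (hG : IsPGroup p G) {k : ℕ} (hn : Nat.card G = p ^ (k + 3))
    (hk : Subgroup.upperCentralSeries G (k + 1) ≠ ⊤) :
    ∀ i, i ≤ k + 1 → Nat.card (Subgroup.upperCentralSeries G i) = p ^ i := by
  have hp := (Fact.out : p.Prime)
  haveI : Group.IsNilpotent G := hG.isNilpotent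
  have hne : ∀ i, i ≤ k + 1 → Subgroup.upperCentralSeries G i ≠ ⊤ := by
    intro i hi htop
    apply hk
    rw [eq_top_iff, ← htop]
    exact Subgroup.upperCentralSeries_mono G hi
  have hchain : ∀ j i, i + j ≤ k + 1 → p ^ j * Nat.card (Subgroup.upperCentralSeries G i) ≤ Nat.card (Subgroup.upperCentralSeries G (i + j)) := by
    intro j
    induction j with
    | zero => intro i _; simp
    | succ j ih =>
      intro i hij
      have h1 := ih i (by omega)
      have h2 := mul_card_le_of_lt hG (upper_lt_of_ne_top (hne (i + j) (by omega)))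
      calc p ^ (j + 1) * Nat.card (Subgroup.upperCentralSeries G i)
          = p * (p ^ j * Nat.card (Subgroup.upperCentralSeries G i)) := by ring
        _ ≤ p * Nat.card (Subgroup.upperCentralSeries G (i + j)) := Nat.mul_le_mul_left _ h1
        _ ≤ _ := h2
  -- the upper bound at the top
  have htop : Nat.card (Subgroup.upperCentralSeries G (k + 1)) ≤ p ^ (k + 1) := by
    have hmul := Subgroup.card_mul_index (Subgroup.upperCentralSeries G (k + 1))
    set d := (Subgroup.upperCentralSeries G (k + 1)).index with hd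
    have hdvd : d ∣ p ^ (k + 3) := ⟨_, by rw [← hn, ← hmul, mul_comm]⟩
    obtain ⟨j, -, hj⟩ := (Nat.dvd_prime_pow hp).1 hdvd
    have hj0 : j ≠ 0 := by
      rintro rfl
      rw [pow_zero] at hj
      exact hk (Subgroup.index_eq_one.1 hj)
    have hj1 : j ≠ 1 := by
      rintro rfl
      rw [pow_one] at hj
      exact index_upper_ne hk hj
    have hj2 : 2 ≤ j := by omega
    rw [hj, hn] at hmul
    have h3 : p ^ 2 ≤ p ^ j := Nat.pow_le_pow_right hp.pos hj2
    have h4 : Nat.card (Subgroup.upperCentralSeries G (k + 1)) * p ^ 2 ≤ p ^ (k + 3) := by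
      rw [← hmul]
      exact Nat.mul_le_mul_left _ h3
    have h5 : p ^ (k + 3) = p ^ (k + 1) * p ^ 2 := by rw [← pow_add]
    rw [h5] at h4
    exact Nat.le_of_mul_le_mul_right h4 (pow_pos hp.pos 2)
  intro i hi
  have h1 := hchain (k + 1 - i) i (by omega)
  have e1 : i + (k + 1 - i) = k + 1 := by omega
  rw [e1] at h1
  have h2 := hchain i 0 (by omega)
  rw [zero_add, Subgroup.upperCentralSeries_zero, Subgroup.card_bot, mul_one] at h2
  apply le_antisymm _ h2
  have h3 : p ^ (k + 1 - i) * Nat.card (Subgroup.upperCentralSeries G i) ≤ p ^ (k + 1 - i) * p ^ i := by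
    rw [← pow_add]
    have : k + 1 - i + i = k + 1 := by omega
    rw [this]
    exact h1.trans htop
  exact Nat.le_of_mul_le_mul_left h3 (pow_pos hp.pos _)

end Cfsg.Agent.Lib.Fusion.MaxClassZ
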