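/-
Essential subgroups from the second centre of a group of maximal class.
-/
import Cfsg.Agent.Lib.Fusion.MaxClassZ
import Cfsg.Agent.Lib.Fusion.Essential
import Cfsg.Agent.Lib.Fusion.Stable
import Mathlib

set_option autoImplicit false

namespace Cfsg.Agent.Lib.Fusion.MaxClassEss

open Cfsg Cfsg.FusionSystem Cfsg.Agent.Lib.Fusion

variable {Ω : Type*} [Group Ω]

/-- The second centre in the ambient group. -/
abbrev Z2c (S : Subgroup Ω) : Subgroup Ω := (Subgroup.upperCentralSeries ↥S 2).map S.subtype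

/-- The centre in the ambient group. -/
abbrev Z1c (S : Subgroup Ω) : Subgroup Ω := (Subgroup.center ↥S).map S.subtype

/-- The centralizer of the second centre. -/
abbrev Qc (S : Subgroup Ω) : Subgroup Ω := S ⊓ Subgroup.centralizer (Z2c S : Set Ω)

theorem essential_of_move {S : Subgroup Ω} [Finite S] (p : ℕ) [Fact p.Prime] (hS : IsPGroup p ↥S) (n : ℕ) (hn : Nat.card S = p ^ n) (h4 : 4 ≤ n) (hmax : Subgroup.lowerCentralSeries S (n - 2) ≠ ⊥) (F : Cfsg.FusionSystem S) (hF : F.IsSaturated p)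
    (φ : ↥(Z2c S) →* Ω) (hφ : φ ∈ F.Hom (Z2c S)) (hφZ : φ.range = Z2c S)
    (hmove : ∃ (z : Ω) (hz : z ∈ Z2c S), z ∈ Z1c S ∧ φ ⟨z, hz⟩ ∉ Z1c S) : F.IsEssential p (Qc S) := by
  have hp := (Fact.out : p.Prime)
  obtain ⟨k, rfl⟩ : ∃ k, n = k + 3 := ⟨n - 3, by omega⟩
  have hk1 : 1 ≤ k := by omega
  have e : k + 3 - 2 = k + 1 := by omega
  rw [e] at hmax
  have hupper : Subgroup.upperCentralSeries ↥S (k + 1) ≠ ⊤ := by
    intro h
    apply hmax
    rw [← Subgroup.top_subtype_lowerCentralSeries, Subgroup.lowerCentralSeries_eq_bot_iff_upperCentralSeries_eq_top.2 h, Subgroup.map_bot]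
  have hc := Cfsg.Agent.Lib.Fusion.MaxClassZ.card_upper hS hn hupper
  have c1 : Nat.card (Subgroup.center ↥S) = p := by
    have := hc 1 (by omega)
    rwa [Subgroup.upperCentralSeries_one, pow_one] at this
  have c2 : Nat.card (Subgroup.upperCentralSeries ↥S 2) = p ^ 2 := hc 2 (by omega)
  -- a generator of the second centre modulo the centre
  have hZle : Subgroup.center ↥S ≤ Subgroup.upperCentralSeries ↥S 2 := by
    rw [← Subgroup.upperCentralSeries_one]
    exact Subgroup.upperCentralSeries_mono _ (by norm_num)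
  obtain ⟨w, hw2, hw1⟩ : ∃ w : ↥S, w ∈ Subgroup.upperCentralSeries ↥S 2 ∧ w ∉ Subgroup.center ↥S := by
    by_contra hno
    push Not at hno
    have h1 : Nat.card (Subgroup.upperCentralSeries ↥S 2) ≤ Nat.card (Subgroup.center ↥S) :=
      Subgroup.card_le_of_le hno
    rw [c1, c2] at h1
    have h2 : p < p ^ 2 := by nlinarith [hp.two_le]
    omega
  have hcomm : ∀ s : ↥S, s * w * s⁻¹ * w⁻¹ ∈ Subgroup.center ↥S := by
    intro s
    have h1 := Subgroup.mem_upperCentralSeries_succ_iff.1 hw2 s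
    rw [Subgroup.upperCentralSeries_one] at h1
    have e2 : s * w * s⁻¹ * w⁻¹ = (w * s * w⁻¹ * s⁻¹)⁻¹ := by group
    rw [e2]
    exact Subgroup.inv_mem _ h1
  -- the commutator homomorphism
  let f : ↥S →* ↥(Subgroup.center ↥S) :=
    { toFun := fun s => ⟨s * w * s⁻¹ * w⁻¹, hcomm s⟩
      map_one' := by
        apply Subtype.ext
        simp
      map_mul' := fun s t => by
        apply Subtype.ext
        show s * t * w * (s * t)⁻¹ * w⁻¹ = (s * w * s⁻¹ * w⁻¹) * (t * w * t⁻¹ * w⁻¹)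
        have h1 := Subgroup.mem_center_iff.1 (hcomm t)
        generalize hc0 : t * w * t⁻¹ * w⁻¹ = c at h1 ⊢
        have ht : t * w * t⁻¹ = c * w := by rw [← hc0]; group
        calc s * t * w * (s * t)⁻¹ * w⁻¹ = s * (t * w * t⁻¹) * s⁻¹ * w⁻¹ := by group
          _ = s * (c * w) * s⁻¹ * w⁻¹ := by rw [ht]
          _ = (s * c) * (w * s⁻¹ * w⁻¹) := by group
          _ = (c * s) * (w * s⁻¹ * w⁻¹) := by rw [h1 s]
          _ = c * (s * w * s⁻¹ * w⁻¹) := by group
          _ = (s * w * s⁻¹ * w⁻¹) * c := (h1 _).symm }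
  have hfv : ∀ s : ↥S, ((f s : ↥(Subgroup.center ↥S)) : ↥S) = s * w * s⁻¹ * w⁻¹ := fun _ => rfl
  have hf1 : ∀ s : ↥S, f s = 1 ↔ s * w = w * s := by
    intro s
    constructor
    · intro h
      have h1 : s * w * s⁻¹ * w⁻¹ = 1 := by
        rw [← hfv, h]
        rfl
      have h2 : s * w * s⁻¹ = w := by
        rw [← mul_inv_eq_one]
        exact h1
      calc s * w = (s * w * s⁻¹) * s := by group
        _ = w * s := by rw [h2]
    · intro h
      apply Subtype.ext
      rw [hfv, h]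
      simp
  -- the second centre is generated by `w` and the centre
  have hK : Subgroup.zpowers w ⊔ Subgroup.center ↥S = Subgroup.upperCentralSeries ↥S 2 := by
    refine Subgroup.eq_of_le_of_card_ge (sup_le (Subgroup.zpowers_le.2 hw2) hZle) ?_
    have hlt : Subgroup.center ↥S < Subgroup.zpowers w ⊔ Subgroup.center ↥S :=
      lt_of_le_of_ne le_sup_right fun h => hw1 (h ▸ Subgroup.mem_sup_left (Subgroup.mem_zpowers w))
    have := Cfsg.Agent.Lib.Fusion.MaxClassZ.mul_card_le_of_lt hS hlt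
    rw [c1] at this
    rw [c2, pow_two]
    exact this
  have hker : ∀ s : ↥S, f s = 1 ↔ (s : Ω) ∈ (Qc S) := by
    intro s
    rw [hf1]
    constructor
    · intro h
      refine ⟨s.2, Subgroup.mem_centralizer_iff.2 ?_⟩
      rintro _ ⟨y, hy, rfl⟩
      have hle : Subgroup.upperCentralSeries ↥S 2 ≤ Subgroup.centralizer ({s} : Set ↥S) := by
        rw [← hK]
        refine sup_le ?_ ?_
        · rw [Subgroup.zpowers_le, Subgroup.mem_centralizer_iff]
          intro a ha
          have ha' : a = s := ha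
          rw [ha']
          exact h
        · intro c hc
          rw [Subgroup.mem_centralizer_iff]
          intro a ha
          have ha' : a = s := ha
          rw [ha']
          exact (Subgroup.mem_center_iff.1 hc s)
      have h2 := Subgroup.mem_centralizer_iff.1 (hle hy) s rfl
      exact (congrArg Subtype.val h2).symm
    · intro h
      have h2 := Subgroup.mem_centralizer_iff.1 h.2 (w : Ω) ⟨w, hw2, rfl⟩
      exact Subtype.ext h2.symm
  have hQS : (Qc S) ≤ S := inf_le_left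
  have hZ2S : (Z2c S) ≤ S := Subgroup.map_subtype_le _
  have := finite_of_le hQS
  have := finite_of_le hZ2S
  -- maximality
  have hmaxQ : ∀ R : Subgroup Ω, (Qc S) < R → R ≤ S → R = S := by
    intro R hQR hRS
    obtain ⟨r, hrR, hrQ⟩ := SetLike.exists_of_lt hQR
    refine le_antisymm hRS fun s hs => ?_
    have hne : f ⟨r, hRS hrR⟩ ≠ 1 := fun h => hrQ ((hker _).1 h)
    have h1 := mem_zpowers_of_prime_card (p := p) (g := f ⟨r, hRS hrR⟩) (g' := f ⟨s, hs⟩) c1 hne
    obtain ⟨a, ha⟩ := Subgroup.mem_zpowers_iff.1 h1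
    have h2 : f ((⟨r, hRS hrR⟩ : ↥S) ^ (-a) * ⟨s, hs⟩) = 1 := by
      rw [map_mul, map_zpow, ← ha, zpow_neg, inv_mul_cancel]
    have h3 := hQR.le ((hker _).1 h2)
    have h4 : (r : Ω) ^ (-a) * s ∈ R := by
      simpa using h3
    have h5 : s = r ^ a * (r ^ (-a) * s) := by
      rw [zpow_neg]
      group
    rw [h5]
    exact R.mul_mem (R.zpow_mem hrR a) h4
  have hQlt : (Qc S) < S := by
    refine lt_of_le_of_ne hQS fun h => hw1 ?_
    rw [Subgroup.mem_center_iff]
    intro s
    have h1 : f s = 1 := (hker s).2 (h.ge s.2)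
    exact (hf1 s).1 h1
  -- normality
  have hZ2n : S ≤ Subgroup.normalizer ((Z2c S) : Set Ω) := by
    intro s hs
    refine mem_normalizer_of_forall fun y hy => ?_
    obtain ⟨y, hy, rfl⟩ := hy
    have := (inferInstance : (Subgroup.upperCentralSeries ↥S 2).Normal).conj_mem y hy ⟨s, hs⟩
    exact ⟨_, this, rfl⟩
  have hQn : S ≤ Subgroup.normalizer ((Qc S) : Set Ω) := by
    intro s hs
    refine mem_normalizer_of_forall fun x hx => ?_
    refine ⟨S.mul_mem (S.mul_mem hs (hQS hx)) (S.inv_mem hs), Subgroup.mem_centralizer_iff.2 fun y hy => ?_⟩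
    have h1 : s⁻¹ * y * s⁻¹⁻¹ ∈ (Z2c S) := conj_mem_of_mem_normalizer (Subgroup.inv_mem _ (hZ2n hs)) hy
    have h2 := Subgroup.mem_centralizer_iff.1 hx.2 _ h1
    simp only [inv_inv] at h1 h2
    calc y * (s * x * s⁻¹) = s * ((s⁻¹ * y * s) * x) * s⁻¹ := by group
      _ = s * (x * (s⁻¹ * y * s)) * s⁻¹ := by rw [h2]
      _ = s * x * s⁻¹ * y := by group
  have hfn : ∀ R : Subgroup Ω, R ≤ S → S ≤ Subgroup.normalizer (R : Set Ω) → F.IsFullyNormalized R := by
    intro R hR hN
    refine ⟨hR, fun R' _ => ?_⟩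
    have : normalizerIn S R = S := inf_eq_left.2 hN
    rw [this]
    exact card_le_of_le le_rfl (normalizerIn_le R')
  -- the extension
  have hrec := IsSat.receptive_of_fullyNormalized hS hF (hfn (Z2c S) hZ2S hZ2n)
  obtain ⟨ψ₀, hψ₀, hv₀⟩ := hrec.2 (Z2c S) φ hφ hφZ
  have hQE : (Qc S) ≤ extender S (Z2c S) φ := centralizerIn_le_extender
  have hZE : (Z2c S) ≤ extender S (Z2c S) φ := le_extender hφ
  have hψ := res_mem F hψ₀ hQE
  have hv : ∀ x : ↥(Qc S), (ψ₀.comp (Subgroup.inclusion hQE)) x ∈ (Qc S) := by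
    intro x
    refine ⟨hom_val F hψ x, Subgroup.mem_centralizer_iff.2 fun y hy => ?_⟩
    rw [← hφZ] at hy
    obtain ⟨u, rfl⟩ := hy
    have h1 := hv₀ u u.2 (hZE u.2)
    have h2 : (u : Ω) * x = x * u := Subgroup.mem_centralizer_iff.1 x.2.2 u u.2
    have h3 : (⟨u, hZE u.2⟩ : extender S (Z2c S) φ) * Subgroup.inclusion hQE x = Subgroup.inclusion hQE x * ⟨u, hZE u.2⟩ :=
      Subtype.ext h2
    have h4 := congrArg ψ₀ h3
    rw [map_mul, map_mul, h1] at h4
    exact h4
  obtain ⟨β, hβ, hβv⟩ := exists_aut_of_map hψ hv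
  obtain ⟨z, hz, hzZ, hzm⟩ := hmove
  have hzQ : z ∈ (Qc S) := by
    obtain ⟨z', hz', rfl⟩ := hzZ
    refine ⟨z'.2, Subgroup.mem_centralizer_iff.2 ?_⟩
    rintro _ ⟨y, -, rfl⟩
    exact congrArg Subtype.val (Subgroup.mem_center_iff.1 hz' y)
  rcases essential_dichotomy hS hF hQlt (hfn (Qc S) hQS hQn) with ⟨-, h⟩ | ⟨h, -⟩
  · exfalso
    have hPr : ∀ α ∈ Subgroup.closure (extSet F (Qc S)), ∀ x : ↥(Qc S), (x : Ω) ∈ (Z1c S) ↔ ((α x : (Qc S)) : Ω) ∈ (Z1c S) := by
      intro α hα
      induction hα using Subgroup.closure_induction with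
      | mem α hα =>
        obtain ⟨R, hQR, φ₁, hφ₁, hv₁⟩ := hα
        obtain rfl : S = R := (hmaxQ R hQR (hom_le F hφ₁)).symm
        obtain ⟨θ, -, hθ⟩ := exists_aut_of_map hφ₁ (fun y => hom_val F hφ₁ y)
        intro x
        have hθv : ((α x : (Qc S)) : Ω) = ((θ (Subgroup.inclusion hQS x) : ↥S) : Ω) := by
          rw [hθ, ← hv₁ x]
        rw [hθv]
        have hC : ∀ y : ↥S, (y : Ω) ∈ (Z1c S) ↔ y ∈ Subgroup.center ↥S := by
          intro y
          constructor
          · rintro ⟨y', hy', hye⟩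
            have : y' = y := Subtype.ext hye
            rwa [← this]
          · intro hy
            exact ⟨y, hy, rfl⟩
        have h1 := hC (Subgroup.inclusion hQS x)
        have h2 := hC (θ (Subgroup.inclusion hQS x))
        have h3 : (x : Ω) = (Subgroup.inclusion hQS x : ↥S) := rfl
        rw [h3, h1, h2]
        have hch : (Subgroup.center ↥S).Characteristic := inferInstance
        constructor
        · intro hh
          exact (Subgroup.characteristic_iff_le_comap.mp hch θ) hh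
        · intro hh
          have := (Subgroup.characteristic_iff_le_comap.mp hch θ⁻¹) hh
          simpa using this
      | one => exact fun x => Iff.rfl
      | mul a b _ _ ha hb =>
        intro x
        rw [hb x, ha (b x)]
        rfl
      | inv a _ ha =>
        intro x
        have h1 := ha (a⁻¹ x)
        have h2 : a (a⁻¹ x) = x := by simp
        rw [h2] at h1
        exact h1.symm
    rw [h] at hPr
    have h1 := (hPr β hβ ⟨z, hzQ⟩).1 hzZ
    rw [hβv] at h1
    apply hzm
    have h2 : (ψ₀.comp (Subgroup.inclusion hQE)) ⟨z, hzQ⟩ = φ ⟨z, hz⟩ := hv₀ z hz _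
    rw [← h2]
    exact h1
  · exact h

end Cfsg.Agent.Lib.Fusion.MaxClassEss
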