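import Cfsg.Agent.Lib.PLocal.QdSection
import Cfsg.Agent.Lib.Amalgam.Involves
import Cfsg.Agent.Lib.Amalgam.Qd
import Cfsg.Agent.Lib.Techniques.Goldschmidt
import Cfsg.Agent.Lib.Fusion.ModelEmbed
import Mathlib

/-! # `Qd(p)` in a group is seen in the normalizer of a centric `p`-subgroup -/

set_option autoImplicit false
set_option linter.style.haveILetI false

namespace Cfsg.Agent.Lib.Fusion.QdCentric

open Cfsg Matrix Cfsg.Agent.Lib.Amalgam Cfsg.Agent.Lib.KS2.SL2 Cfsg.Agent.Lib.Techniques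
open Cfsg.Agent.Lib.PLocal.QuadMat
open scoped MatrixGroups

variable {p : ℕ} [hfp : Fact p.Prime]

/-! ### The group `Qd(p)` -/

theorem conj_trQd (M : QdE (ZMod p)) (v : Fin 2 → ZMod p) :
    M * trQd v * M⁻¹ = trQd ((rhoQd (ZMod p) M).1.mulVec v) := by
  rw [mul_inv_eq_iff_eq_mul]
  apply qe_ext <;>
    simp [qe_mul, qe20, qe21, qe22, trQd00, trQd01, trQd02, trQd10, trQd11, trQd12, Matrix.mulVec, dotProduct,
      Fin.sum_univ_two, rhoQd00, rhoQd01, rhoQd10, rhoQd11] <;> ring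

/-- The coordinates of an element. -/
def vecQd (M : QdE (ZMod p)) : Fin 2 → ZMod p := ![qe M 0 2, qe M 1 2]

@[simp] theorem vecQd_trQd (v : Fin 2 → ZMod p) : vecQd (trQd v) = v := by
  ext i
  fin_cases i <;> rfl

theorem eq_trQd_vec {M : QdE (ZMod p)} (h : rhoQd (ZMod p) M = 1) : M = trQd (vecQd M) :=
  eq_trQd_of_rhoQd_eq_one h

theorem exists_sl2_col {u : Fin 2 → ZMod p} (hu : u ≠ 0) :
    ∃ B : SL(2, ZMod p), B.1.mulVec ![1, 0] = u := by
  by_cases h0 : u 0 = 0
  · have h1 : u 1 ≠ 0 := by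
      intro h1
      apply hu
      ext i
      fin_cases i
      · exact h0
      · exact h1
    refine ⟨mk 0 (-(u 1)⁻¹) (u 1) 0 (by field_simp; ring), ?_⟩
    ext i
    fin_cases i <;> simp [Matrix.mulVec, dotProduct, Fin.sum_univ_two, h0]
  · refine ⟨mk (u 0) 0 (u 1) (u 0)⁻¹ (by field_simp; ring), ?_⟩
    ext i
    fin_cases i <;> simp [Matrix.mulVec, dotProduct, Fin.sum_univ_two]

theorem exists_sl2_trans {u v : Fin 2 → ZMod p} (hu : u ≠ 0) (hv : v ≠ 0) :
    ∃ B : SL(2, ZMod p), B.1.mulVec u = v := by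
  obtain ⟨A, hA⟩ := exists_sl2_col hu
  obtain ⟨B, hB⟩ := exists_sl2_col hv
  refine ⟨B * A⁻¹, ?_⟩
  have h1 : (A⁻¹).1.mulVec u = ![1, 0] := by
    rw [← hA, Matrix.mulVec_mulVec, ← Matrix.SpecialLinearGroup.coe_mul, inv_mul_cancel]
    simp
  rw [Matrix.SpecialLinearGroup.coe_mul, ← Matrix.mulVec_mulVec, h1, hB]

/-- A nontrivial normal subgroup of `Qd(p)` contains the translations. -/
theorem ker_le_of_normal (N : Subgroup (QdE (ZMod p))) (hNn : N.Normal) (hN : N ≠ ⊥) : (rhoQd (ZMod p)).ker ≤ N := by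
  obtain ⟨n, hn, hn1⟩ := N.bot_or_exists_ne_one.resolve_left hN
  -- a nonzero translation in `N`
  have hex : ∃ u : Fin 2 → ZMod p, u ≠ 0 ∧ trQd u ∈ N := by
    by_cases hr : rhoQd (ZMod p) n = 1
    · refine ⟨vecQd n, ?_, ?_⟩
      · intro h0
        apply hn1
        rw [eq_trQd_vec hr, h0, trQd_zero]
      · rw [← eq_trQd_vec hr]
        exact hn
    · -- some vector is moved
      have hw : ∃ w : Fin 2 → ZMod p, (rhoQd (ZMod p) n).1.mulVec w ≠ w := by
        by_contra hcon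
        push Not at hcon
        apply hr
        apply Subtype.ext
        have h1 : (rhoQd (ZMod p) n).1 = 1 := by
          ext i j
          have := congrFun (hcon (Pi.single j 1)) i
          simpa [Matrix.mulVec_single_one, Matrix.one_apply, Pi.single_apply, eq_comm] using this
        simpa using h1
      obtain ⟨w, hw⟩ := hw
      refine ⟨(rhoQd (ZMod p) n).1.mulVec w - w, sub_ne_zero.2 hw, ?_⟩
      have h2 : n * trQd w * n⁻¹ * (trQd w)⁻¹ ∈ N := by
        have e : n * trQd w * n⁻¹ * (trQd w)⁻¹ = n * (trQd w * n⁻¹ * (trQd w)⁻¹) := by group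
        rw [e]
        exact N.mul_mem hn (hNn.conj_mem _ (N.inv_mem hn) _)
      rw [conj_trQd] at h2
      have e : trQd ((rhoQd (ZMod p) n).1.mulVec w - w) * trQd w = trQd ((rhoQd (ZMod p) n).1.mulVec w) := by
        rw [← trQd_add, sub_add_cancel]
      rwa [← e, mul_inv_cancel_right] at h2
  obtain ⟨u, hu, huN⟩ := hex
  intro M hM
  have hM' : rhoQd (ZMod p) M = 1 := hM
  rw [eq_trQd_vec hM']
  by_cases hv : vecQd M = 0
  · rw [hv, trQd_zero]
    exact N.one_mem
  · obtain ⟨B, hB⟩ := exists_sl2_trans hu hv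
    have h3 := hNn.conj_mem _ huN (secQd (ZMod p) B)
    rw [conj_trQd, rhoQd_secQd, hB] at h3
    exact h3

theorem card_ker_not_coprime (N : Subgroup (QdE (ZMod p))) (hN : (rhoQd (ZMod p)).ker ≤ N) : ¬ (Nat.card N).Coprime p := by
  intro hc
  -- a translation of order `p` lies in `N`
  set t : QdE (ZMod p) := trQd ![1, 0] with ht
  have ht1 : t ≠ 1 := by
    intro h
    have := congrArg vecQd h
    have h2 : vecQd (1 : QdE (ZMod p)) = 0 := by
      rw [← trQd_zero, vecQd_trQd]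
    rw [h2, ht, vecQd_trQd] at this
    have h3 := congrFun this 0
    simp at h3
  have htN : t ∈ N := hN (rhoQd_trQd _)
  have htp : t ^ p = 1 := by
    rw [ht, trQd_pow]
    have : p • (![1, 0] : Fin 2 → ZMod p) = 0 := by
      ext i
      simp
    rw [this, trQd_zero]
  have h1 : orderOf t = p := orderOf_eq_prime htp ht1
  have h2 : orderOf t ∣ Nat.card N := by
    have := orderOf_dvd_natCard (⟨t, htN⟩ : N)
    rwa [Subgroup.orderOf_mk] at this
  rw [h1] at h2
  exact (Fact.out : p.Prime).one_lt.ne' (Nat.eq_one_of_dvd_coprimes hc h2 dvd_rfl)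

/-- The image of a Sylow subgroup in a `p`-group quotient is everything. -/
theorem sylow_map_top {H E : Type*} [Group H] [Group E] [Finite H] (hE : IsPGroup p E) (f : H →* E)
    (hf : Function.Surjective f) (T : Sylow p H) : (T : Subgroup H).map f = ⊤ := by
  have h1 : ((T : Subgroup H).map f).index ∣ (T : Subgroup H).index := Subgroup.index_map_dvd _ hf
  have h2 : ¬ p ∣ (T : Subgroup H).index := T.not_dvd_index
  have h3 : ¬ p ∣ ((T : Subgroup H).map f).index := fun h => h2 (h.trans h1)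
  have : Finite E := Finite.of_surjective f hf
  have h4 := hE.index ((T : Subgroup H).map f)
  obtain ⟨k, hk⟩ := h4
  rw [hk] at h3
  have hk0 : k = 0 := by
    by_contra hne
    exact h3 (dvd_pow_self p hne)
  rw [hk0, pow_zero] at hk
  exact Subgroup.index_eq_one.1 hk

/-! ### From a module to a section -/

section Pair

variable {G : Type*} [Group G] [Finite G]

theorem involves_mono {H : Type*} [Group H] {A B : Subgroup G} (h : A ≤ B) (hA : Involves H A) : Involves H B :=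
  Cfsg.Agent.Lib.Fusion.involves_of_injective (Subgroup.inclusion h) (Subgroup.inclusion_injective h) hA

/-- A surjection from a subgroup gives involvement. -/
theorem involves_of_hom {H : Type*} [Group H] (K : Subgroup G) (φ : K →* H) (hφ : Function.Surjective φ) : Involves H K := by
  refine involves_of_surjective (⊤ : Subgroup K) (φ.comp (⊤ : Subgroup K).subtype) ?_
  intro y
  obtain ⟨x, rfl⟩ := hφ y
  exact ⟨⟨x, trivial⟩, rfl⟩

/-- A plane with two transvections gives a section `Qd(p)`. -/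
theorem involves_qd_of_pair (hp : p ≠ 2) (A W : Subgroup G) (hAW : A ≤ W)
    (f : A →* Multiplicative (Fin 2 → ZMod p)) (hf : Function.Surjective f) {a b : G} (haW : a ∈ W) (hbW : b ∈ W)
    (ha : ∀ x : A, ∃ hx : a * x * a⁻¹ ∈ A,
      f ⟨_, hx⟩ = Multiplicative.ofAdd ((up 1).1.mulVec (Multiplicative.toAdd (f x))))
    (hb : ∀ x : A, ∃ hx : b * x * b⁻¹ ∈ A,
      f ⟨_, hx⟩ = Multiplicative.ofAdd ((low 1).1.mulVec (Multiplicative.toAdd (f x)))) :
    Involves (qd p) W := by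
  classical
  set B : Subgroup G := f.ker.map A.subtype with hB
  have hmemB : ∀ x : A, (x : G) ∈ B ↔ f x = 1 := by
    intro x
    constructor
    · rintro ⟨y, hy, hyx⟩
      have : y = x := Subtype.ext hyx
      rw [← this]
      exact hy
    · intro h
      exact ⟨x, h, rfl⟩
  have hBA : B ≤ A := Subgroup.map_subtype_le _
  have hA_norm : A ≤ Subgroup.normalizer (B : Set G) := by
    intro x hx
    apply Cfsg.Agent.Lib.PLocal.Qd.mem_normalizer_of_conj_le
    intro y hy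
    have hyA := hBA hy
    have h1 : x * y * x⁻¹ ∈ A := A.mul_mem (A.mul_mem hx hyA) (A.inv_mem hx)
    refine (hmemB ⟨_, h1⟩).2 ?_
    have e : (⟨x * y * x⁻¹, h1⟩ : A) = ⟨x, hx⟩ * ⟨y, hyA⟩ * ⟨x, hx⟩⁻¹ := rfl
    rw [e, map_mul, map_mul, (hmemB ⟨y, hyA⟩).1 hy, mul_one, map_inv, mul_inv_cancel]
  have hBn₂ : ∀ {c : G} {T : Matrix (Fin 2) (Fin 2) (ZMod p)}, (∀ x : A, ∃ hx : c * x * c⁻¹ ∈ A, f ⟨_, hx⟩ = Multiplicative.ofAdd
      (T.mulVec (Multiplicative.toAdd (f x)))) → c ∈ Subgroup.normalizer (B : Set G) := by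
    intro c T hc
    apply Cfsg.Agent.Lib.PLocal.Qd.mem_normalizer_of_conj_le
    intro y hy
    obtain ⟨h1, h2⟩ := hc ⟨y, hBA hy⟩
    refine (hmemB ⟨_, h1⟩).2 ?_
    rw [h2, (hmemB ⟨y, hBA hy⟩).1 hy]
    simp
  set W₀ : Subgroup G := W ⊓ Subgroup.normalizer (B : Set G) with hW₀
  have hAW₀ : A ≤ W₀ := le_inf hAW hA_norm
  have haW₀ : a ∈ W₀ := ⟨haW, hBn₂ ha⟩
  have hbW₀ : b ∈ W₀ := ⟨hbW, hBn₂ hb⟩
  haveI hB₀ : (B.subgroupOf W₀).Normal := Subgroup.normal_subgroupOf_of_le_normalizer inf_le_right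
  set g : A →* W₀ ⧸ B.subgroupOf W₀ := (QuotientGroup.mk' _).comp (Subgroup.inclusion hAW₀) with hg
  have hgk : f.ker ≤ g.ker := by
    intro x hx
    rw [MonoidHom.mem_ker] at hx ⊢
    apply (QuotientGroup.eq_one_iff _).2
    exact Subgroup.mem_subgroupOf.2 ((hmemB x).2 hx)
  set β : Multiplicative (Fin 2 → ZMod p) →* W₀ ⧸ B.subgroupOf W₀ := f.liftOfSurjective hf ⟨g, hgk⟩ with hβ
  have hβf : ∀ x : A, β (f x) = g x := fun x => MonoidHom.liftOfRightInverse_comp_apply _ _ _ _ x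
  have hβi : Function.Injective β := by
    rw [injective_iff_map_eq_one]
    intro v hv
    obtain ⟨x, rfl⟩ := hf v
    rw [hβf] at hv
    have h1 : Subgroup.inclusion hAW₀ x ∈ B.subgroupOf W₀ := (QuotientGroup.eq_one_iff _).1 hv
    exact (hmemB x).1 (Subgroup.mem_subgroupOf.1 h1)
  have hact : ∀ (c : G) (hc : c ∈ W₀) (T : SL(2, ZMod p)),
      (∀ x : A, ∃ hx : c * x * c⁻¹ ∈ A, f ⟨_, hx⟩ = Multiplicative.ofAdd (T.1.mulVec (Multiplicative.toAdd (f x)))) →
      ∀ v : Fin 2 → ZMod p, (QuotientGroup.mk' (B.subgroupOf W₀) ⟨c, hc⟩) * β (Multiplicative.ofAdd v) *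
        (QuotientGroup.mk' (B.subgroupOf W₀) ⟨c, hc⟩)⁻¹ = β (Multiplicative.ofAdd (T.1.mulVec v)) := by
    intro c hc T hT v
    obtain ⟨x, hx⟩ := hf (Multiplicative.ofAdd v)
    obtain ⟨h1, h2⟩ := hT x
    rw [← hx, hβf]
    have hv : T.1.mulVec v = T.1.mulVec (Multiplicative.toAdd (f x)) := by
      rw [hx]
      rfl
    rw [hv, ← h2, hβf]
    rfl
  have h5 := Cfsg.Agent.Lib.PLocal.Qd.qd_section_of_pair hp β hβi _ _ (one_ne_zero' (ZMod p)) (one_ne_zero' (ZMod p))
    (hact a haW₀ _ ha) (hact b hbW₀ _ hb)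
  have h6 : Involves (qd p) (W₀ ⧸ B.subgroupOf W₀) := h5
  have h7 : Involves (qd p) W₀ := involves_trans h6
    (involves_of_surjective ⊤ ((QuotientGroup.mk' (B.subgroupOf W₀)).comp (⊤ : Subgroup W₀).subtype) (fun y => by
      obtain ⟨x, rfl⟩ := QuotientGroup.mk'_surjective _ y
      exact ⟨⟨x, trivial⟩, rfl⟩))
  exact involves_mono inf_le_left h7

end Pair

/-! ### A minimal subgroup with a quotient `Qd(p)` -/

section Min

variable {M : Type*} [Group M] [Finite M] (π : M →* QdE (ZMod p))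

/-- The normal `p`-subgroup above the translations. -/
theorem exists_normal_above (hπ : Function.Surjective π)
    (hmin : ∀ N : Subgroup M, N.map π = ⊤ → N = ⊤) :
    ∃ U : Subgroup M, U.Normal ∧ IsPGroup p U ∧ (∀ u ∈ U, rhoQd (ZMod p) (π u) = 1) ∧
      (∀ t, rhoQd (ZMod p) t = 1 → ∃ u ∈ U, π u = t) ∧ ∀ x, rhoQd (ZMod p) (π x) = 1 → ∀ k : ℕ, x ^ p ^ k = 1 → x ∈ U := by
  classical
  set M₁ : Subgroup M := ((rhoQd (ZMod p)).comp π).ker with hM₁
  have hM₁n : M₁.Normal := inferInstance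
  obtain ⟨T⟩ : Nonempty (Sylow p M₁) := inferInstance
  set U : Subgroup M := (T : Subgroup M₁).map M₁.subtype with hU
  have hUS : SylowIn p U M₁ := sylowIn_of_sylow T
  have hUp : IsPGroup p U := hUS.2.1
  set f : M₁ →* (rhoQd (ZMod p)).ker := (π.comp M₁.subtype).codRestrict _ (fun x => by
    have : rhoQd (ZMod p) (π x) = 1 := x.2
    exact this) with hf
  have hfs : Function.Surjective f := by
    rintro ⟨t, ht⟩
    obtain ⟨x, hx⟩ := hπ t
    have hxM : x ∈ M₁ := by
      show rhoQd (ZMod p) (π x) = 1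
      rw [hx]
      exact ht
    exact ⟨⟨x, hxM⟩, Subtype.ext hx⟩
  have hTtop := sylow_map_top (isPGroup_ker_rhoQd p) f hfs T
  have hUt : ∀ t, rhoQd (ZMod p) t = 1 → ∃ u ∈ U, π u = t := by
    intro t ht
    have h1 : (⟨t, ht⟩ : (rhoQd (ZMod p)).ker) ∈ (T : Subgroup M₁).map f := by
      rw [hTtop]
      trivial
    obtain ⟨x, hx, hxe⟩ := h1
    exact ⟨x, ⟨x, hx, rfl⟩, congrArg Subtype.val hxe⟩
  have hN : (Subgroup.normalizer (U : Set M)).map π = ⊤ := by
    rw [eq_top_iff]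
    intro q _
    obtain ⟨y, rfl⟩ := hπ q
    have hc : conjS y M₁ = M₁ := mem_normalizer_iff_conjS.1 (by
      rw [Subgroup.normalizer_eq_top_iff.2 hM₁n]
      trivial)
    obtain ⟨k, hk, hky⟩ := frattini_in hUS hc
    obtain ⟨u, hu, huk⟩ := hUt (π k) hk
    refine ⟨u * (k⁻¹ * y), Subgroup.mul_mem _ (Subgroup.le_normalizer hu) hky, ?_⟩
    rw [map_mul, map_mul, huk, map_inv]
    group
  have hUn : U.Normal := by
    have := hmin _ hN
    exact Subgroup.normalizer_eq_top_iff.1 this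
  refine ⟨U, hUn, hUp, fun u hu => hUS.1 hu, hUt, fun x hx k hxk => ?_⟩
  have hxM : x ∈ M₁ := hx
  have hZ : IsPGroup p (Subgroup.zpowers x) := by
    obtain ⟨j, -, hj⟩ := (Nat.dvd_prime_pow (Fact.out : p.Prime)).1 (orderOf_dvd_of_pow_eq_one hxk)
    exact isPGroup_zpowers_of_orderOf j hj
  have hZle : Subgroup.zpowers x ≤ M₁ := (Subgroup.zpowers_le).2 hxM
  obtain ⟨h, -, hh⟩ := hUS.exists_conj_le hZle hZ
  have h1 : h * x * h⁻¹ ∈ U := hh (conj_mem_conjS (Subgroup.mem_zpowers x))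
  have h2 := hUn.conj_mem _ h1 h⁻¹
  simpa [mul_assoc] using h2

end Min

/-! ### The maximal `p`-subgroups whose normalizer involves `Qd(p)` -/

section Max

variable {G : Type*} [Group G] [Finite G]

/-- The family of `p`-subgroups whose normalizer involves `Qd(p)`. -/
def QdFam (p : ℕ) (Q : Subgroup G) : Prop :=
  IsPGroup p Q ∧ Involves (qd p) (Subgroup.normalizer (Q : Set G))

theorem QdFam.conj {Q : Subgroup G} (h : QdFam p Q) (g : G) : QdFam p (conjS g Q) := by
  refine ⟨h.1.map _, ?_⟩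
  have hle : (Subgroup.normalizer (Q : Set G)).map (MulAut.conj g).toMonoidHom ≤ Subgroup.normalizer (conjS g Q : Set G) := by
    rintro _ ⟨x, hx, rfl⟩
    rw [mem_normalizer_iff_conjS]
    have h1 : (MulAut.conj g).toMonoidHom x = g * x * g⁻¹ := rfl
    rw [h1, conjS_mul, conjS_mul, conjS_inv_conjS, mem_normalizer_iff_conjS.1 hx]
  refine involves_mono hle (Cfsg.Agent.Lib.Fusion.involves_of_injective
    (Subgroup.equivMapOfInjective (Subgroup.normalizer (Q : Set G)) (MulAut.conj g).toMonoidHom (MulAut.conj g).injective).toMonoidHom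
    (MulEquiv.injective _) h.2)

/-- **The main theorem.** A maximal member of the family is centric. -/
theorem le_of_max (hp : p ≠ 2) {Q : Subgroup G} (hQ : QdFam p Q) (hmax : ∀ Q' : Subgroup G, QdFam p Q' → Nat.card Q' ≤ Nat.card Q)
    (D : Subgroup G) (hD : IsPGroup p D) (hDC : D ≤ Subgroup.centralizer (Q : Set G)) : D ≤ Q := by
  classical
  by_contra hDQ
  set C : Subgroup G := Subgroup.centralizer (Q : Set G) with hC
  set X : Subgroup G := Subgroup.normalizer (Q : Set G) with hX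
  have hcomm : ∀ {c x : G}, c ∈ C → x ∈ Q → c * x * c⁻¹ = x := by
    intro c x hc hx
    have := Subgroup.mem_centralizer_iff.1 hc x hx
    rw [← this]
    group
  have hCX : C ≤ X := by
    intro c hc
    apply Cfsg.Agent.Lib.PLocal.Qd.mem_normalizer_of_conj_le
    intro x hx
    rw [hcomm hc hx]
    exact hx
  have hQX : Q ≤ X := Subgroup.le_normalizer
  have hCn : ∀ {x c : G}, x ∈ X → c ∈ C → x * c * x⁻¹ ∈ C := by
    intro x c hx hc
    rw [hC, Subgroup.mem_centralizer_iff]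
    intro q hq
    have h1 : x⁻¹ * q * x ∈ Q := by
      have := Subgroup.inv_mem _ hx
      have h2 := conj_mem_of_mem_normalizer this hq
      simpa using h2
    have h3 := Subgroup.mem_centralizer_iff.1 hc _ h1
    calc q * (x * c * x⁻¹) = x * ((x⁻¹ * q * x) * c) * x⁻¹ := by group
      _ = x * (c * (x⁻¹ * q * x)) * x⁻¹ := by rw [h3]
      _ = _ := by group
  obtain ⟨R, hDR, hR⟩ := exists_sylowIn_ge hDC hD
  have hRC : R ≤ C := hR.1
  have hRp : IsPGroup p R := hR.2.1
  have hRQ : ¬ R ≤ Q := fun h => hDQ (hDR.trans h)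
  -- the larger `p`-group
  set Q₁ : Subgroup G := Q ⊔ R with hQ₁
  have hQ₁p : IsPGroup p Q₁ := IsPGroup.to_sup_of_normal_left' hQ.1 hRp (hRC.trans hCX)
  have hlt : Q < Q₁ := lt_of_le_of_ne le_sup_left fun h => hRQ (by rw [h]; exact le_sup_right)
  have hcard : Nat.card Q < Nat.card Q₁ := Cfsg.Agent.Lib.Techniques.card_lt_of_lt' hlt
  set Y : Subgroup G := X ⊓ Subgroup.normalizer (R : Set G) with hY
  have hYN : Y ≤ Subgroup.normalizer (Q₁ : Set G) := by
    rintro y ⟨hy1, hy2⟩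
    rw [mem_normalizer_iff_conjS]
    rw [hQ₁]
    unfold conjS
    rw [Subgroup.map_sup]
    congr 1
    · exact mem_normalizer_iff_conjS.1 hy1
    · exact mem_normalizer_iff_conjS.1 hy2
  have hnoY : ¬ Involves (qd p) Y := by
    intro h
    have h1 : QdFam p Q₁ := ⟨hQ₁p, involves_mono hYN h⟩
    exact absurd (hmax _ h1) (by omega)
  -- the Frattini argument
  have hfr : ∀ x ∈ X, ∃ c ∈ C, c⁻¹ * x ∈ Y := by
    intro x hx
    have hc : conjS x C = C := by
      rw [hC, ← conj_centralizer_subgroup, mem_normalizer_iff_conjS.1 hx]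
    obtain ⟨c, hc1, hc2⟩ := frattini_in hR hc
    exact ⟨c, hc1, X.mul_mem (X.inv_mem (hCX hc1)) hx, hc2⟩
  -- a minimal subgroup
  obtain ⟨M, hMX, hMmin, π, hπ⟩ : ∃ M : Subgroup G, M ≤ X ∧
      (∀ M' : Subgroup G, M' ≤ X → (∃ π' : M' →* QdE (ZMod p), Function.Surjective π') → Nat.card M ≤ Nat.card M') ∧
      ∃ π : M →* QdE (ZMod p), Function.Surjective π := by
    obtain ⟨M₀, π₀, hπ₀⟩ := involves_exists_surjective hQ.2
    let 𝓜 : Set (Subgroup G) := {M | M ≤ X ∧ ∃ π' : M →* QdE (ZMod p), Function.Surjective π'}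
    have hne : 𝓜.Nonempty := by
      refine ⟨M₀.map X.subtype, Subgroup.map_subtype_le _, ?_⟩
      refine ⟨π₀.comp (Subgroup.equivMapOfInjective M₀ X.subtype X.subtype_injective).symm.toMonoidHom, ?_⟩
      exact hπ₀.comp (MulEquiv.surjective _)
    obtain ⟨M, hM, hm⟩ := Set.exists_min_image 𝓜 (fun M => Nat.card M) (Set.toFinite _) hne
    obtain ⟨hMX, π, hπ⟩ := hM
    exact ⟨M, hMX, fun M' h1 h2 => hm M' ⟨h1, h2⟩, π, hπ⟩
  have hinvM : Involves (qd p) M := involves_of_hom (H := QdE (ZMod p)) M π hπ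
  have hminN : ∀ N : Subgroup M, N.map π = ⊤ → N = ⊤ := by
    intro N hN
    have hle : N.map M.subtype ≤ X := (Subgroup.map_subtype_le _).trans hMX
    have h1 := hMmin _ hle ⟨π.comp ((Subgroup.subtype N).comp (Subgroup.equivMapOfInjective N M.subtype M.subtype_injective).symm.toMonoidHom), by
      intro q
      have : q ∈ N.map π := by rw [hN]; trivial
      obtain ⟨x, hx, rfl⟩ := this
      refine ⟨Subgroup.equivMapOfInjective N M.subtype M.subtype_injective ⟨x, hx⟩, ?_⟩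
      simp⟩
    have h2 : Nat.card (N.map M.subtype) = Nat.card N := Nat.card_congr (Subgroup.equivMapOfInjective N M.subtype M.subtype_injective).symm.toEquiv
    rw [h2] at h1
    exact Subgroup.eq_top_of_le_card _ h1
  obtain ⟨U, hUn, hUp, hU1, hUt, hUx⟩ := exists_normal_above π hπ hminN
  -- the part of `M` in `C`
  set C₁ : Subgroup M := C.subgroupOf M with hC₁
  have hC₁n : C₁.Normal := by
    constructor
    intro c hc m
    rw [hC₁, Subgroup.mem_subgroupOf] at hc ⊢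
    exact hCn (hMX m.2) hc
  by_cases hN₁ : (C₁.map π) = ⊥
  · -- Case A : the image of `C₁` is trivial
    have hker : ∀ m : M, (m : G) ∈ C → π m = 1 := by
      intro m hm
      have h1 : (π m) ∈ C₁.map π := ⟨m, Subgroup.mem_subgroupOf.2 hm, rfl⟩
      rw [hN₁] at h1
      exact (Subgroup.mem_bot.1 h1)
    have huniq : ∀ {y c c' : G} (h : c * y ∈ M) (h' : c' * y ∈ M), c ∈ C → c' ∈ C →
        π ⟨c * y, h⟩ = π ⟨c' * y, h'⟩ := by
      intro y c c' h h' hc hc'
      have e : (⟨c * y, h⟩ : M) * (⟨c' * y, h'⟩ : M)⁻¹ = ⟨c * c'⁻¹, by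
          have : c * c'⁻¹ = (c * y) * (c' * y)⁻¹ := by group
          rw [this]
          exact M.mul_mem h (M.inv_mem h')⟩ := by
        apply Subtype.ext
        show (c * y) * (c' * y)⁻¹ = c * c'⁻¹
        group
      have h1 := hker ⟨c * c'⁻¹, by
          have : c * c'⁻¹ = (c * y) * (c' * y)⁻¹ := by group
          rw [this]
          exact M.mul_mem h (M.inv_mem h')⟩ (C.mul_mem hc (C.inv_mem hc') : c * c'⁻¹ ∈ C)
      rw [← e, map_mul, map_inv] at h1
      exact mul_inv_eq_one.1 h1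
    let M' : Subgroup G :=
      { carrier := {y | y ∈ Y ∧ ∃ c ∈ C, c * y ∈ M}
        mul_mem' := by
          rintro a b ⟨ha, c, hc, hca⟩ ⟨hb, c', hc', hcb⟩
          refine ⟨Y.mul_mem ha hb, c * (a * c' * a⁻¹), C.mul_mem hc (hCn ha.1 hc'), ?_⟩
          have e : c * (a * c' * a⁻¹) * (a * b) = (c * a) * (c' * b) := by group
          rw [e]
          exact M.mul_mem hca hcb
        one_mem' := ⟨Y.one_mem, 1, C.one_mem, by simpa using M.one_mem⟩
        inv_mem' := by
          rintro a ⟨ha, c, hc, hca⟩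
          refine ⟨Y.inv_mem ha, a⁻¹ * c⁻¹ * a, ?_, ?_⟩
          · have := hCn (X.inv_mem ha.1) (C.inv_mem hc)
            simpa using this
          · have e : a⁻¹ * c⁻¹ * a * a⁻¹ = (c * a)⁻¹ := by group
            rw [e]
            exact M.inv_mem hca }
    have hM'Y : M' ≤ Y := fun y hy => hy.1
    have hch : ∀ y : M', ∃ c, c ∈ C ∧ c * (y : G) ∈ M := fun y => y.2.2
    choose cc hcc hcm using hch
    let ψ : M' →* QdE (ZMod p) := MonoidHom.mk' (fun y => π ⟨cc y * y, hcm y⟩) (by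
      intro a b
      rw [← map_mul]
      have h1 : ((cc a * (a * cc b * (a : G)⁻¹)) * ((a * b : M') : G)) = (cc a * a) * (cc b * b) := by
        show (cc a * ((a : G) * cc b * (a : G)⁻¹)) * ((a : G) * (b : G)) = _
        group
      have h2 : (cc a * ((a : G) * cc b * (a : G)⁻¹)) * ((a * b : M') : G) ∈ M := by
        rw [h1]
        exact M.mul_mem (hcm a) (hcm b)
      rw [huniq (hcm (a * b)) h2 (hcc _) (C.mul_mem (hcc a) (hCn (hM'Y a.2).1 (hcc b)))]
      congr 1
      exact Subtype.ext h1)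
    have hψ : Function.Surjective ψ := by
      intro q
      obtain ⟨m, rfl⟩ := hπ q
      obtain ⟨c, hc, hcy⟩ := hfr m (hMX m.2)
      have h0 : c * (c⁻¹ * (m : G)) = m := by group
      have hy : c⁻¹ * (m : G) ∈ M' := ⟨hcy, c, hc, by rw [h0]; exact m.2⟩
      refine ⟨⟨_, hy⟩, ?_⟩
      show π ⟨cc ⟨_, hy⟩ * _, _⟩ = π m
      have h1 : c * (c⁻¹ * (m : G)) ∈ M := by rw [h0]; exact m.2
      rw [huniq _ h1 (hcc _) hc]
      congr 1
      exact Subtype.ext h0
    exact hnoY (involves_mono hM'Y (involves_of_hom (H := QdE (ZMod p)) M' ψ hψ))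
  · -- Case B
    have hN₁n : (C₁.map π).Normal := hC₁n.map _ hπ
    have hker := ker_le_of_normal _ hN₁n hN₁
    -- the image of `U ⊓ C₁`
    have hA₁ : ∀ t, rhoQd (ZMod p) t = 1 → ∃ u ∈ U ⊓ C₁, π u = t := by
      set C₂ : Subgroup M := C₁ ⊓ ((rhoQd (ZMod p)).comp π).ker with hC₂
      obtain ⟨T⟩ : Nonempty (Sylow p C₂) := inferInstance
      set f : C₂ →* (rhoQd (ZMod p)).ker := (π.comp C₂.subtype).codRestrict _ (fun x => by
        have : rhoQd (ZMod p) (π x) = 1 := x.2.2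
        exact this) with hf
      have hfs : Function.Surjective f := by
        rintro ⟨t, ht⟩
        obtain ⟨x, hx, hxt⟩ := hker ht
        have hxM : x ∈ C₂ := ⟨hx, by
          show rhoQd (ZMod p) (π x) = 1
          rw [show (π x) = t from hxt]
          exact ht⟩
        exact ⟨⟨x, hxM⟩, Subtype.ext hxt⟩
      have hTtop := sylow_map_top (isPGroup_ker_rhoQd p) f hfs T
      intro t ht
      have h1 : (⟨t, ht⟩ : (rhoQd (ZMod p)).ker) ∈ (T : Subgroup C₂).map f := by
        rw [hTtop]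
        trivial
      obtain ⟨x, hx, hxe⟩ := h1
      have hxt : (π (x : M)) = t := congrArg Subtype.val hxe
      obtain ⟨k, hk⟩ := T.isPGroup' ⟨x, hx⟩
      have hk' : (x : M) ^ p ^ k = 1 := by
        have := congrArg (fun z : (T : Subgroup C₂) => ((z : C₂) : M)) hk
        simpa using this
      refine ⟨x, ⟨hUx _ ?_ k hk', x.2.1⟩, hxt⟩
      rw [hxt]
      exact ht
    set A' : Subgroup G := (U ⊓ C₁).map M.subtype with hA'
    have hA'M : A' ≤ M := Subgroup.map_subtype_le _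
    have hA'C : A' ≤ C := by
      rintro _ ⟨x, hx, rfl⟩
      exact Subgroup.mem_subgroupOf.1 hx.2
    have hA'p : IsPGroup p A' := (hUp.to_le inf_le_left).map _
    have hMA' : ∀ m ∈ M, ∀ x ∈ A', m * x * m⁻¹ ∈ A' := by
      rintro m hm _ ⟨x, hx, rfl⟩
      have hn : (U ⊓ C₁).Normal := inferInstance
      exact ⟨_, hn.conj_mem x hx ⟨m, hm⟩, rfl⟩
    -- maximality
    have hA'Q : A' ≤ Q := by
      have hsp : IsPGroup p (Q ⊔ A' : Subgroup G) :=
        IsPGroup.to_sup_of_normal_left' hQ.1 hA'p (hA'C.trans hCX)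
      have hMn : M ≤ Subgroup.normalizer ((Q ⊔ A' : Subgroup G) : Set G) := by
        intro m hm
        rw [mem_normalizer_iff_conjS]
        unfold conjS
        rw [Subgroup.map_sup]
        congr 1
        · exact mem_normalizer_iff_conjS.1 (hMX hm)
        · apply mem_normalizer_iff_conjS.1
          exact Cfsg.Agent.Lib.PLocal.Qd.mem_normalizer_of_conj_le (hMA' m hm)
      have h1 := hmax _ ⟨hsp, involves_mono hMn hinvM⟩
      have h2 : Q = Q ⊔ A' := by
        by_contra hne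
        have h3 : Q < Q ⊔ A' := lt_of_le_of_ne le_sup_left hne
        have := Cfsg.Agent.Lib.Techniques.card_lt_of_lt' h3
        omega
      rw [h2]
      exact le_sup_right
    have hA'Y : A' ≤ Y := by
      intro x hx
      refine ⟨hQX (hA'Q hx), ?_⟩
      apply Cfsg.Agent.Lib.PLocal.Qd.mem_normalizer_of_conj_le
      intro r hr
      have h1 := Subgroup.mem_centralizer_iff.1 (hRC hr) x (hA'Q hx)
      have : x * r * x⁻¹ = r := by
        rw [h1]
        group
      rw [this]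
      exact hr
    -- the vector map
    have hkerA : ∀ x : A', rhoQd (ZMod p) (π ⟨x, hA'M x.2⟩) = 1 := by
      rintro ⟨_, x, hx, rfl⟩
      exact hU1 x hx.1
    let f : A' →* Multiplicative (Fin 2 → ZMod p) :=
      MonoidHom.mk' (fun x => Multiplicative.ofAdd (vecQd (π ⟨x, hA'M x.2⟩))) (by
        intro a b
        have e : (⟨((a * b : A') : G), hA'M (a * b).2⟩ : M) = ⟨a, hA'M a.2⟩ * ⟨b, hA'M b.2⟩ := rfl
        rw [e, map_mul, ← ofAdd_add]
        congr 1
        rw [eq_trQd_vec (hkerA a), eq_trQd_vec (hkerA b), ← trQd_add, vecQd_trQd, vecQd_trQd, vecQd_trQd])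
    have hfv : ∀ x : A', f x = Multiplicative.ofAdd (vecQd (π ⟨x, hA'M x.2⟩)) := fun x => rfl
    have hfs : Function.Surjective f := by
      intro v
      obtain ⟨u, hu, huv⟩ := hA₁ (trQd (Multiplicative.toAdd v)) (rhoQd_trQd _)
      refine ⟨⟨u, ⟨u, hu, rfl⟩⟩, ?_⟩
      rw [hfv]
      have e : (⟨(u : G), hA'M ⟨u, hu, rfl⟩⟩ : M) = u := rfl
      rw [e, huv, vecQd_trQd]
      rfl
    have hact : ∀ T : SL(2, ZMod p), ∃ a ∈ Y, ∀ x : A', ∃ hx : a * x * a⁻¹ ∈ A',
        f ⟨_, hx⟩ = Multiplicative.ofAdd (T.1.mulVec (Multiplicative.toAdd (f x))) := by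
      intro T
      obtain ⟨m, hm⟩ := hπ (secQd (ZMod p) T)
      obtain ⟨c, hc, hy⟩ := hfr m (hMX m.2)
      refine ⟨_, hy, fun x => ?_⟩
      have hx' : (m : G) * x * (m : G)⁻¹ ∈ A' := hMA' m m.2 x x.2
      have e : c⁻¹ * (m : G) * x * (c⁻¹ * (m : G))⁻¹ = (m : G) * x * (m : G)⁻¹ := by
        have h1 := hcomm (C.inv_mem hc) (hA'Q hx')
        calc c⁻¹ * (m : G) * x * (c⁻¹ * (m : G))⁻¹ = c⁻¹ * ((m : G) * x * (m : G)⁻¹) * c⁻¹⁻¹ := by group
          _ = _ := h1
      have hx : c⁻¹ * (m : G) * x * (c⁻¹ * (m : G))⁻¹ ∈ A' := by rw [e]; exact hx'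
      refine ⟨hx, ?_⟩
      rw [hfv, hfv]
      have e2 : (⟨((⟨c⁻¹ * (m : G) * x * (c⁻¹ * (m : G))⁻¹, hx⟩ : A') : G), hA'M hx⟩ : M) =
          m * ⟨x, hA'M x.2⟩ * m⁻¹ := Subtype.ext e
      rw [e2, map_mul, map_mul, map_inv, hm]
      congr 1
      conv_lhs => rw [eq_trQd_vec (hkerA x)]
      rw [conj_trQd, rhoQd_secQd, vecQd_trQd]
      rfl
    obtain ⟨a, haY, ha⟩ := hact (up 1)
    obtain ⟨b, hbY, hb⟩ := hact (low 1)
    exact hnoY (involves_qd_of_pair hp A' Y hA'Y f hfs haY hbY ha hb)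

end Max

end Cfsg.Agent.Lib.Fusion.QdCentric
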