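import Cfsg.Agent.Lib.Fusion.QdCentric
import Cfsg.Agent.Lib.Fusion.GroupFree
import Cfsg.Agent.S5096
import Mathlib

/-! # `F_P(G)` is `Qd(p)`-free iff `G` does not involve `Qd(p)` -/

set_option autoImplicit false
set_option linter.style.haveILetI false

namespace Cfsg.Agent.Lib.Fusion.QdCentric

open Cfsg Cfsg.FusionSystem Cfsg.Agent.Lib.Amalgam Cfsg.Agent.Lib.Techniques Cfsg.Agent.Lib.Fusion

universe u

variable {p : ℕ} [hfp : Fact p.Prime]

/-- The quotient by a normal `p'`-subgroup still involves `Qd(p)`. -/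
theorem involves_quot {X : Type*} [Group X] [Finite X] (K : Subgroup X) [hKn : K.Normal] (hK : (Nat.card K).Coprime p)
    (h : Involves (qd p) X) : Involves (qd p) (X ⧸ K) := by
  obtain ⟨M, π₀, hπ₀⟩ := involves_exists_surjective h
  let π : M →* QdE (ZMod p) := π₀
  have hπ : Function.Surjective π := hπ₀
  set g : M →* X ⧸ K := (QuotientGroup.mk' K).comp M.subtype with hg
  have hkerg : g.ker ≤ π.ker := by
    intro m hm
    have hmK : (m : X) ∈ K := (QuotientGroup.eq_one_iff _).1 hm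
    have hNn : ((K.subgroupOf M).map π).Normal := Subgroup.Normal.map inferInstance _ hπ
    have hbot : (K.subgroupOf M).map π = ⊥ := by
      by_contra hne
      have h1 := ker_le_of_normal _ hNn hne
      apply card_ker_not_coprime _ h1
      have h2 : Nat.card ((K.subgroupOf M).map π) ∣ Nat.card (K.subgroupOf M) := Subgroup.card_map_dvd _ _
      have h3 : Nat.card (K.subgroupOf M) ∣ Nat.card K := by
        have := Subgroup.card_dvd_of_injective (Subgroup.inclusion (inf_le_left : (K ⊓ M) ≤ K)) (Subgroup.inclusion_injective _)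
        have e : Nat.card (K.subgroupOf M) = Nat.card ↥(K ⊓ M) := by
          rw [Subgroup.subgroupOf, ← Subgroup.card_map_of_injective (f := M.subtype) M.subtype_injective, Subgroup.map_comap_eq, Subgroup.range_subtype, inf_comm]
        rwa [e]
      exact Nat.Coprime.coprime_dvd_left (h2.trans h3) hK
    have h4 : π m ∈ (K.subgroupOf M).map π := ⟨m, Subgroup.mem_subgroupOf.2 hmK, rfl⟩
    rw [hbot] at h4
    exact Subgroup.mem_bot.1 h4
  have hgs : Function.Surjective g.rangeRestrict := MonoidHom.rangeRestrict_surjective g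
  have hker' : g.rangeRestrict.ker ≤ π.ker := by
    intro m hm
    apply hkerg
    rw [MonoidHom.mem_ker] at hm ⊢
    exact congrArg Subtype.val hm
  set f : g.range →* QdE (ZMod p) := g.rangeRestrict.liftOfSurjective hgs ⟨π, hker'⟩ with hf
  have hfg : ∀ m : M, f (g.rangeRestrict m) = π m := fun m => MonoidHom.liftOfRightInverse_comp_apply _ _ _ _ m
  refine involves_of_surjective (H := QdE (ZMod p)) g.range f ?_
  intro q
  obtain ⟨m, rfl⟩ := hπ q
  exact ⟨_, hfg m⟩

variable {Ω : Type*} [Group Ω]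

/-- Models from quotients of a group realizing the system by conjugation. -/
theorem exists_model_quot {T₁ : Subgroup Ω} [Finite T₁] {E : FusionSystem T₁} {X : Type*} [Group X] [Finite X]
    (hT₁ : IsPGroup p T₁) (hE : E.IsSaturated p) {R₁ : Subgroup Ω} (hRn : E.IsNormal R₁) (hRc : centralizerIn T₁ R₁ ≤ R₁)
    {κ : T₁ →* X} (hreal : E.IsRealizedBy κ) (hT : ∃ T : Sylow p X, (T : Subgroup X) = κ.range)
    (hVn : ((R₁.subgroupOf T₁).map κ).Normal) :
    ∃ (K : Subgroup X) (_ : K.Normal), (Nat.card K).Coprime p ∧ E.IsModel p (X ⧸ K) ((QuotientGroup.mk' K).comp κ) := by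
  have hκ := hreal.1
  obtain ⟨T, hT⟩ := hT
  set V : Subgroup X := (R₁.subgroupOf T₁).map κ with hV
  have hVT : V ≤ (T : Subgroup X) := by
    rw [hT]
    exact Subgroup.map_le_range _ _
  have hVp : IsPGroup p V := (hT₁.to_subgroup _).map _
  have hC : ∀ x ∈ (T : Subgroup X), x ∈ Subgroup.centralizer (V : Set X) → x ∈ V := by
    intro x hx hxc
    rw [hT] at hx
    obtain ⟨t, rfl⟩ := hx
    have h1 : (t : Ω) ∈ centralizerIn T₁ R₁ := by
      refine mem_centralizerIn.2 ⟨t.2, fun y hy => ?_⟩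
      have hyT := hRn.1 hy
      have h2 := (Subgroup.mem_centralizer_iff.1 hxc) (κ ⟨y, hyT⟩) ⟨⟨y, hyT⟩, Subgroup.mem_subgroupOf.2 hy, rfl⟩
      rw [← map_mul, ← map_mul] at h2
      exact congrArg Subtype.val (hκ h2)
    exact ⟨t, Subgroup.mem_subgroupOf.2 (hRc h1), rfl⟩
  obtain ⟨K, hKn, hKco, hKC⟩ := exists_centralizer_quot T V hVp hC
  refine ⟨K, hKn, hKco, ?_⟩
  set ι' : T₁ →* X ⧸ K := (QuotientGroup.mk' K).comp κ with hι'
  have hinj : Function.Injective ι' := by
    rw [injective_iff_map_eq_one]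
    intro t ht
    have h1 : κ t ∈ K := (QuotientGroup.eq_one_iff _).1 ht
    obtain ⟨a, ha⟩ := hT₁ t
    have h2 : (κ t) ^ p ^ a = 1 := by
      rw [← map_pow, ha, map_one]
    have h3 : orderOf (κ t) ∣ p ^ a := orderOf_dvd_of_pow_eq_one h2
    have h4 : orderOf (κ t) ∣ Nat.card K := by
      have := orderOf_dvd_natCard (⟨κ t, h1⟩ : K)
      rwa [Subgroup.orderOf_mk] at this
    have h5 : Nat.Coprime (orderOf (κ t)) (p ^ a) := Nat.Coprime.coprime_dvd_left h4 (Nat.Coprime.pow_right _ hKco)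
    have h6 := orderOf_eq_one_iff.1 (Nat.eq_one_of_dvd_coprimes h5 dvd_rfl h3)
    exact hκ (h6.trans (map_one κ).symm)
  have hmap : (R₁.subgroupOf T₁).map ι' = V.map (QuotientGroup.mk' K) := by
    rw [hV, Subgroup.map_map]
  have hrange : ι'.range = (T : Subgroup X).map (QuotientGroup.mk' K) := by
    rw [hι', MonoidHom.range_comp, hT]
  have hreal' : E.IsRealizedBy ι' := by
    refine ⟨hinj, fun P hP φ hφ => ?_⟩
    rw [hreal.2 P hP φ hφ]
    constructor
    · rintro ⟨g, hg⟩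
      refine ⟨(g : X ⧸ K), fun x => ?_⟩
      have := congrArg (QuotientGroup.mk' K) (hg x)
      rwa [map_mul, map_mul, map_inv] at this
    · rintro ⟨γ, hγ⟩
      let PP : Subgroup X := (P.subgroupOf T₁).map κ
      have hPT : PP ≤ (T : Subgroup X) := by
        rw [hT]
        exact Subgroup.map_le_range _ _
      obtain ⟨g, hg, hgv⟩ := lift_conj T K hPT γ (by
        rintro _ ⟨s, hs, rfl⟩
        have h1 := hγ ⟨s, Subgroup.mem_subgroupOf.1 hs⟩
        have h2 : (QuotientGroup.mk (κ s) : X ⧸ K) = ι' s := rfl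
        rw [h2, ← hrange]
        exact ⟨⟨φ ⟨s, Subgroup.mem_subgroupOf.1 hs⟩, hφ _⟩, h1⟩)
      refine ⟨g, fun x => ?_⟩
      have h1 := hgv _ (⟨⟨x, hP x.2⟩, Subgroup.mem_subgroupOf.2 x.2, rfl⟩ : κ ⟨x, hP x.2⟩ ∈ PP)
      rw [hT] at h1
      obtain ⟨s, hs⟩ := h1
      have h2 : ι' ⟨φ x, hφ x⟩ = ι' s := by
        rw [hγ x, ← hg]
        show _ = (QuotientGroup.mk (κ s) : X ⧸ K)
        rw [hs, QuotientGroup.mk_mul, QuotientGroup.mk_mul, QuotientGroup.mk_inv]
        rfl
      have h3 := hinj h2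
      rw [h3, hs]
  have hVn' : ((R₁.subgroupOf T₁).map ι').Normal := by
    rw [hmap]
    exact hVn.map _ (QuotientGroup.mk'_surjective K)
  have hVC' : Subgroup.centralizer (((R₁.subgroupOf T₁).map ι' : Subgroup (X ⧸ K)) : Set (X ⧸ K)) ≤ (R₁.subgroupOf T₁).map ι' := by
    rw [hmap]
    exact hKC
  exact isModel_of_normal hT₁ hE hRn hreal' hVn' hVC'

section Main

variable {G : Type u} [Group G] [Finite G]

/-- The maximal members. -/
def MaxQd (p : ℕ) (Q : Subgroup G) : Prop :=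
  QdFam p Q ∧ ∀ Q' : Subgroup G, QdFam p Q' → Nat.card Q' ≤ Nat.card Q

theorem card_conjS (g : G) (Q : Subgroup G) : Nat.card (conjS g Q) = Nat.card Q :=
  Subgroup.card_map_of_injective (MulAut.conj g).injective

theorem MaxQd.conj {Q : Subgroup G} (h : MaxQd p Q) (g : G) : MaxQd p (conjS g Q) :=
  ⟨h.1.conj g, fun Q' hQ' => by rw [card_conjS]; exact h.2 Q' hQ'⟩

/-- Conjugate subgroups in the fusion system of a group. -/
theorem exists_conjS_of_isConj {S : Subgroup G} {Q Q' : Subgroup G} (h : (groupFusionSystem S).IsConj Q Q') :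
    ∃ g : G, Q' = conjS g Q := by
  obtain ⟨φ, ⟨-, -, g, hg⟩, rfl⟩ := h
  refine ⟨g, ?_⟩
  ext y
  constructor
  · rintro ⟨x, rfl⟩
    rw [hg]
    exact ⟨x, x.2, rfl⟩
  · rintro ⟨x, hx, rfl⟩
    exact ⟨⟨x, hx⟩, hg _⟩

/-- The normalizer is realized by conjugation in the group normalizer. -/
theorem isRealizedBy_normalizer {S Q : Subgroup G} (hQS : Q ≤ S) {N : FusionSystem (normalizerIn S Q)}
    (hN : (groupFusionSystem S).IsNormalizerSystem Q N) {X : Subgroup G} (hX : X = Subgroup.normalizer (Q : Set G))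
    (hle : normalizerIn S Q ≤ X) : N.IsRealizedBy (Subgroup.inclusion hle) := by
  subst hX
  refine ⟨Subgroup.inclusion_injective hle, fun P hP φ hφ => ?_⟩
  have hPS : P ≤ S := hP.trans (normalizerIn_le Q)
  constructor
  · intro hm
    rw [hN P] at hm
    obtain ⟨-, -, -, ψ, hψ, hψφ, hψQ⟩ := hm
    obtain ⟨-, -, g, hg⟩ := hψ
    have hfinQ : Finite Q := Subgroup.instFiniteSubtypeMem Q
    have hgX : g ∈ Subgroup.normalizer (Q : Set G) := Cfsg.Agent.Lib.PLocal.Qd.mem_normalizer_of_conj_le fun y hy => by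
      have h1 : ψ ⟨y, (le_sup_right : Q ≤ P ⊔ Q) hy⟩ ∈ (Q.subgroupOf (P ⊔ Q)).map ψ :=
        ⟨⟨y, (le_sup_right : Q ≤ P ⊔ Q) hy⟩, Subgroup.mem_subgroupOf.2 hy, rfl⟩
      rw [hψQ, hg] at h1
      exact h1
    refine ⟨⟨g, hgX⟩, fun x => Subtype.ext ?_⟩
    show φ x = g * (x : G) * g⁻¹
    rw [← hψφ x, hg]
    rfl
  · rintro ⟨⟨g, hgX⟩, hg⟩
    have hgv : ∀ x : P, φ x = g * (x : G) * g⁻¹ := fun x => congrArg Subtype.val (hg x)
    rw [hN P]
    have hφS : ∀ x : P, φ x ∈ S := fun x => normalizerIn_le Q (hφ x)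
    refine ⟨⟨hPS, hφS, g, hgv⟩, hP, hφ, conjHom (P ⊔ Q) g, ⟨sup_le hPS hQS, ?_, g, fun x => rfl⟩, fun x => ?_, ?_⟩
    · rintro ⟨x, hx⟩
      show g * x * g⁻¹ ∈ S
      have h1 : conjS g (P ⊔ Q) ≤ S := by
        unfold conjS
        rw [Subgroup.map_sup]
        refine sup_le ?_ ?_
        · rintro _ ⟨y, hy, rfl⟩
          have := hφS ⟨y, hy⟩
          rw [hgv] at this
          exact this
        · have := mem_normalizer_iff_conjS.1 hgX
          rw [show Subgroup.map (MulAut.conj g).toMonoidHom Q = conjS g Q from rfl, this]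
          exact hQS
      exact h1 (conj_mem_conjS hx)
    · exact (hgv x).symm
    · ext y
      rw [mem_subgroupOf_map_iff]
      constructor
      · rintro ⟨x, hxH, hx, rfl⟩
        exact conj_mem_of_mem_normalizer hgX hx
      · intro hy
        have h1 : g⁻¹ * y * g ∈ Q := by
          have := conj_mem_of_mem_normalizer (Subgroup.inv_mem _ hgX) hy
          simpa using this
        refine ⟨_, Subgroup.mem_sup_right h1, h1, ?_⟩
        simp [conjHom]
        group

/-- **The theorem.** -/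
theorem not_involves_of_free (hp : p ≠ 2) (P : Sylow p G)
    (hfree : (groupFusionSystem (P : Subgroup G)).IsSectionFree p ↥(qd p)) : ¬ Involves ↥(qd p) G := by
  classical
  intro hinv
  set F := groupFusionSystem (P : Subgroup G) with hF
  -- the maximal subgroup
  have hbot : QdFam p (⊥ : Subgroup G) := by
    refine ⟨IsPGroup.of_bot, ?_⟩
    refine Cfsg.Agent.Lib.Fusion.involves_of_injective (MonoidHom.codRestrict (MonoidHom.id G) (Subgroup.normalizer ((⊥ : Subgroup G) : Set G))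
      (fun g => by
        rw [Subgroup.normalizer_eq_top_iff.2 (inferInstance : (⊥ : Subgroup G).Normal)]
        trivial)) (fun a b h => congrArg Subtype.val h) hinv
  obtain ⟨Q₀, hQ₀, hm⟩ := Set.exists_max_image {Q : Subgroup G | QdFam p Q} (fun Q => Nat.card Q) (Set.toFinite _) ⟨⊥, hbot⟩
  have hQ₀m : MaxQd p Q₀ := ⟨hQ₀, hm⟩
  obtain ⟨g, -, hg⟩ := (sylowIn_top_of_sylow P).exists_conj_le (le_top : Q₀ ≤ ⊤) hQ₀.1
  have hQ₁m := hQ₀m.conj g
  obtain ⟨Q₂, hconj, hfn⟩ := exists_fullyNormalized_conj (F := F) hg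
  obtain ⟨g₂, hg₂⟩ := exists_conjS_of_isConj hconj
  have hQ₂m : MaxQd p Q₂ := by rw [hg₂]; exact hQ₁m.conj g₂
  have hcent : F.IsCentric Q₂ := by
    refine ⟨hfn.1, fun Q₃ hc => ?_⟩
    obtain ⟨g₃, hg₃⟩ := exists_conjS_of_isConj hc
    have hQ₃m : MaxQd p Q₃ := by rw [hg₃]; exact hQ₂m.conj g₃
    refine le_of_max hp hQ₃m.1 hQ₃m.2 _ ?_ inf_le_right
    exact P.isPGroup'.to_le inf_le_left
  obtain ⟨N, hN⟩ := Cfsg.Agent.S5096.result F Q₂ hfn.1
  have hSat := Cfsg.Agent.S5076.result p P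
  have hSp : IsPGroup p (P : Subgroup G) := P.isPGroup'
  have hT₁p : IsPGroup p (normalizerIn (P : Subgroup G) Q₂) := hSp.to_le (normalizerIn_le Q₂)
  have hNsat := isSaturated_normalizerSystem hSp hSat hfn hN
  have hRn := isNormal_normalizerSystem hfn.1 hN
  have hRc : centralizerIn (normalizerIn (P : Subgroup G) Q₂) Q₂ ≤ Q₂ := by
    intro y hy
    have hy' := mem_centralizerIn.1 hy
    exact IsCentric.centralizer_le hcent (mem_centralizerIn.2 ⟨normalizerIn_le Q₂ hy'.1, hy'.2⟩)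
  obtain ⟨X, hX⟩ : ∃ X : Subgroup G, X = normalizerIn (⊤ : Subgroup G) Q₂ := ⟨_, rfl⟩
  have hXe : X = Subgroup.normalizer (Q₂ : Set G) := by
    rw [hX]
    ext g
    rw [mem_normalizerIn]
    exact ⟨fun h => h.2, fun h => ⟨trivial, h⟩⟩
  have hT₁X : normalizerIn (P : Subgroup G) Q₂ ≤ X := fun t ht => by
    rw [hXe]
    exact (mem_normalizerIn.1 ht).2
  set κ : normalizerIn (P : Subgroup G) Q₂ →* X := Subgroup.inclusion hT₁X with hκ
  have hT : ∃ T : Sylow p X, (T : Subgroup X) = κ.range := by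
    have h1 : (fusionSystemOfSubgroup (⊤ : Subgroup G) (P : Subgroup G) le_top).IsFullyNormalized Q₂ := by
      rw [← groupFusionSystem_eq]
      exact hfn
    have h2 := (isFullyNormalized_fH_iff le_top (isSylowIn_of_sylow P) hfn.1).1 h1
    rw [← hX] at h2
    obtain ⟨T, hT⟩ := h2
    refine ⟨T, hT.trans ?_⟩
    ext y
    rw [Subgroup.mem_subgroupOf, MonoidHom.mem_range]
    constructor
    · intro hy
      exact ⟨⟨y, hy⟩, rfl⟩
    · rintro ⟨t, rfl⟩
      exact t.2
  have hreal := isRealizedBy_normalizer hfn.1 hN hXe hT₁X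
  have hXmem : ∀ {g : G}, g ∈ X ↔ g ∈ Subgroup.normalizer (Q₂ : Set G) := by
    intro g
    rw [hXe]
  have hVn : ((Q₂.subgroupOf (normalizerIn (P : Subgroup G) Q₂)).map κ).Normal := by
    refine ⟨?_⟩
    rintro _ ⟨t, ht, rfl⟩ g
    have htQ : (t : G) ∈ Q₂ := Subgroup.mem_subgroupOf.1 ht
    have hg : (g : G) ∈ Subgroup.normalizer (Q₂ : Set G) := hXmem.1 g.2
    have h1 : (g : G) * t * (g : G)⁻¹ ∈ Q₂ := conj_mem_of_mem_normalizer hg htQ
    refine ⟨⟨_, le_normalizerIn hfn.1 h1⟩, Subgroup.mem_subgroupOf.2 h1, ?_⟩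
    exact Subtype.ext rfl
  have : Finite (normalizerIn (P : Subgroup G) Q₂) := inferInstance
  obtain ⟨K, hKn, hKco, hm'⟩ := exists_model_quot hT₁p hNsat hRn hRc hreal hT hVn
  refine hfree Q₂ hfn hcent N hN (X ⧸ K) ((QuotientGroup.mk' K).comp κ) hm' ?_
  refine involves_quot K hKco ?_
  rw [hXe]
  exact hQ₂m.1.2

end Main

end Cfsg.Agent.Lib.Fusion.QdCentric
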