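import Cfsg.Agent.Lib.Fusion.GenExtra
import Mathlib

/-!
# Groups whose centre has index `p²`, and their saturated fusion systems
-/

set_option autoImplicit false

namespace Cfsg.Agent.Lib.Fusion

open Cfsg Cfsg.FusionSystem
open scoped commutatorElement

section Abstract

variable {p : ℕ} [Fact p.Prime] {T : Type*} [Group T]

/-- Class two with cyclic commutator of order `p`, and centre of index `p²`. -/
structure ClTwo (p : ℕ) (T : Type*) [Group T] (Z : Subgroup T) : Prop where
  card : Nat.card Z = p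
  cen : ∀ z ∈ Z, ∀ g : T, g * z = z * g
  comm : ∀ a b : T, ⁅a, b⁆ ∈ Z
  gen : ∀ x y : T, ⁅x, y⁆ ≠ 1 → ∀ g : T, ∃ (k j : ℕ), ∃ c ∈ Subgroup.center T, g = x ^ k * y ^ j * c

variable {Z : Subgroup T}

theorem ClTwo.le_center (h : ClTwo p T Z) : Z ≤ Subgroup.center T := fun z hz =>
  Subgroup.mem_center_iff.2 fun g => h.cen z hz g

/-- A subgroup containing the centre and two non-commuting elements is everything. -/
theorem ClTwo.eq_top_of_not_comm [Finite T] (h : ClTwo p T Z) {R : Subgroup T} (hC : Subgroup.center T ≤ R) {a b : T} (ha : a ∈ R) (hb : b ∈ R)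
    (hab : ⁅a, b⁆ ≠ 1) : R = ⊤ := by
  rw [eq_top_iff]
  intro g _
  obtain ⟨k, j, c, hc, rfl⟩ := h.gen a b hab g
  exact R.mul_mem (R.mul_mem (R.pow_mem ha k) (R.pow_mem hb j)) (hC hc)

/-- The centralizer of a non-central element in a proper centric subgroup. -/
theorem ClTwo.mem_of_comm [Finite T] (h : ClTwo p T Z) {R : Subgroup T} (hC : Subgroup.center T ≤ R) (hne : R ≠ ⊤)
    (hcent : ∀ u : T, (∀ a ∈ R, u * a = a * u) → u ∈ R) {w u x : T} (hw : w ∈ R) (hxw : ⁅x, w⁆ ≠ 1) (huw : u * w = w * u) : u ∈ R := by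
  apply hcent
  intro a ha
  by_contra hua
  have hua' : ⁅u, a⁆ ≠ 1 := fun h1 => hua (commutatorElement_eq_one_iff_mul_comm.1 h1)
  have haw : a * w = w * a := by
    by_contra h2
    exact hne (h.eq_top_of_not_comm hC ha hw fun h1 => h2 (commutatorElement_eq_one_iff_mul_comm.1 h1))
  -- `w` commutes with `u`, `a` and the centre: it is central
  apply hxw
  rw [commutatorElement_eq_one_iff_mul_comm]
  obtain ⟨k, j, c, hc, rfl⟩ := h.gen u a hua' x
  have h1 : Commute (u ^ k) w := (show Commute u w from huw).pow_left k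
  have h2 : Commute (a ^ j) w := (show Commute a w from haw).pow_left j
  have h3 : c * w = w * c := (Subgroup.mem_center_iff.1 hc w).symm
  calc u ^ k * a ^ j * c * w = u ^ k * a ^ j * (w * c) := by rw [mul_assoc, h3]
    _ = u ^ k * (a ^ j * w) * c := by simp only [mul_assoc]
    _ = u ^ k * (w * a ^ j) * c := by rw [h2.eq]
    _ = (u ^ k * w) * a ^ j * c := by simp only [mul_assoc]
    _ = w * u ^ k * a ^ j * c := by rw [h1.eq]
    _ = _ := by simp only [mul_assoc]

/-- Normal form with respect to a proper centric subgroup. -/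
theorem ClTwo.cover [Finite T] (h : ClTwo p T Z) {R : Subgroup T} (hC : Subgroup.center T ≤ R) (hne : R ≠ ⊤)
    (hcent : ∀ u : T, (∀ a ∈ R, u * a = a * u) → u ∈ R) {x w : T} (hw : w ∈ R) (hxw : ⁅x, w⁆ ≠ 1) (g : T) :
    ∃ k : ℕ, g * (x ^ k)⁻¹ ∈ R := by
  obtain ⟨k, hk⟩ := exists_comm_eq_one h.card h.cen h.comm hxw g
  exact ⟨k, h.mem_of_comm hC hne hcent hw hxw (commutatorElement_eq_one_iff_mul_comm.1 hk)⟩

section Index

variable [Finite T]

omit [Finite T] in
theorem center_quot_not_cyclic (hne : ¬ ∀ a b : T, a * b = b * a) : ¬ IsCyclic (T ⧸ Subgroup.center T) := by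
  intro hc
  apply hne
  have := commutative_of_cyclic_center_quotient (QuotientGroup.mk' (Subgroup.center T)) (by
    rw [QuotientGroup.ker_mk'])
  exact fun a b => this a b

/-- A lower bound on an index by strictly increasing chains. -/
theorem card_mul_le_of_lt (hT : IsPGroup p T) {A B : Subgroup T} (hAB : A < B) : p * Nat.card A ≤ Nat.card B := by
  have hpp : p.Prime := Fact.out
  have hd : Nat.card A ∣ Nat.card B := Subgroup.card_dvd_of_le hAB.le
  obtain ⟨m, hm⟩ := hd
  have hBp : IsPGroup p B := hT.to_subgroup B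
  obtain ⟨e, he⟩ := IsPGroup.iff_card.1 hBp
  have hmd : m ∣ p ^ e := he ▸ ⟨Nat.card A, by rw [hm, mul_comm]⟩
  obtain ⟨i, -, rfl⟩ := (Nat.dvd_prime_pow hpp).1 hmd
  have hi : i ≠ 0 := by
    rintro rfl
    have h1 : Nat.card A = Nat.card B := by rw [hm]; simp
    exact hAB.ne (Subgroup.eq_of_le_of_card_ge hAB.le h1.ge)
  obtain ⟨i, rfl⟩ := Nat.exists_eq_succ_of_ne_zero hi
  rw [hm]
  have hpos : 0 < p ^ i := pow_pos hpp.pos i
  calc p * Nat.card A ≤ p ^ (i + 1) * Nat.card A := by
        apply Nat.mul_le_mul_right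
        rw [pow_succ]
        exact Nat.le_mul_of_pos_left _ hpos
    _ = _ := by rw [mul_comm]

/-- The structure of groups with centre of index at most `p²`. -/
theorem clTwo_of_index (hT : IsPGroup p T) (hne : ¬ ∀ a b : T, a * b = b * a) (hidx : (Subgroup.center T).index ≤ p ^ 2) :
    ClTwo p T (commutator T) := by
  classical
  have hpp : p.Prime := Fact.out
  obtain ⟨C, hCdef⟩ : ∃ C : Subgroup T, C = Subgroup.center T := ⟨_, rfl⟩
  have hCm : ∀ c ∈ C, ∀ g : T, g * c = c * g := fun c hc g => by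
    rw [hCdef] at hc
    exact Subgroup.mem_center_iff.1 hc g
  -- the quotient
  have hncyc := center_quot_not_cyclic hne
  obtain ⟨e, he⟩ := IsPGroup.iff_card.1 hT
  have hcardQ : Nat.card (T ⧸ Subgroup.center T) = (Subgroup.center T).index := rfl
  have hQp : IsPGroup p (T ⧸ Subgroup.center T) := hT.to_quotient _
  obtain ⟨n, hn⟩ := IsPGroup.iff_card.1 hQp
  rw [hcardQ] at hn
  have hn2 : n ≤ 2 := by
    rw [hn] at hidx
    exact (Nat.pow_le_pow_iff_right hpp.one_lt).1 hidx
  have hn' : n = 2 := by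
    have h0 : n ≠ 0 := by
      rintro rfl
      rw [pow_zero, Subgroup.index_eq_one] at hn
      apply hne
      intro a b
      have : a ∈ Subgroup.center T := hn ▸ Subgroup.mem_top a
      exact (Subgroup.mem_center_iff.1 this b).symm
    have h1 : n ≠ 1 := by
      rintro rfl
      apply hncyc
      have h2 : Nat.card (T ⧸ Subgroup.center T) = p := by rw [hcardQ, hn, pow_one]
      exact isCyclic_of_prime_card h2
    omega
  subst hn'
  have hQcard : Nat.card (T ⧸ Subgroup.center T) = p ^ 2 := by rw [hcardQ, hn]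
  have hQab := IsPGroup.commutative_of_card_eq_prime_sq hQcard
  have hC' : ∀ a b : T, ⁅a, b⁆ ∈ C := by
    intro a b
    rw [hCdef, ← QuotientGroup.eq_one_iff, commutatorElement_def]
    have := hQab (a : T ⧸ Subgroup.center T) (b : T ⧸ Subgroup.center T)
    show ((a : T ⧸ Subgroup.center T) * b * (a : T ⧸ Subgroup.center T)⁻¹ * (b : T ⧸ Subgroup.center T)⁻¹) = 1
    rw [this]
    group
  have hpowC : ∀ a : T, a ^ p ∈ C := by
    intro a
    rw [hCdef, ← QuotientGroup.eq_one_iff]
    show (a : T ⧸ Subgroup.center T) ^ p = 1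
    have h1 : orderOf (a : T ⧸ Subgroup.center T) ∣ p ^ 2 := hQcard ▸ orderOf_dvd_natCard _
    obtain ⟨i, hi, hi'⟩ := (Nat.dvd_prime_pow hpp).1 h1
    by_cases h2 : i = 2
    · exfalso
      subst h2
      exact hncyc (isCyclic_of_orderOf_eq_card _ (by rw [hi', hQcard]))
    · have h3 : orderOf (a : T ⧸ Subgroup.center T) ∣ p := by
        rw [hi']
        have : i ≤ 1 := by omega
        exact (pow_dvd_pow p this).trans (by simp)
      exact orderOf_dvd_iff_pow_eq_one.1 h3
  have hCard : Nat.card T = p ^ 2 * Nat.card C := by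
    rw [hCdef, ← hn]
    exact (Subgroup.index_mul_card _).symm
  -- the normal form
  have hgen : ∀ x y : T, ⁅x, y⁆ ≠ 1 → ∀ g : T, ∃ (k j : ℕ), ∃ c ∈ Subgroup.center T, g = x ^ k * y ^ j * c := by
    intro x y hxy g
    rw [← hCdef]
    have hxC : x ∉ C := fun h => hxy (commutatorElement_eq_one_iff_mul_comm.2 (hCm x h y).symm)
    have hxD : x ∈ C ⊔ Subgroup.zpowers x := Subgroup.mem_sup_right (Subgroup.mem_zpowers x)
    have hDc : C ⊔ Subgroup.zpowers x ≤ Subgroup.centralizer {x} := by
      refine sup_le (fun c hc => Subgroup.mem_centralizer_iff.2 fun a ha => ?_) ?_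
      · rw [Set.mem_singleton_iff] at ha
        subst ha
        exact hCm c hc _
      · rw [Subgroup.zpowers_le]
        exact Subgroup.mem_centralizer_iff.2 fun a ha => by
          rw [Set.mem_singleton_iff] at ha
          subst ha
          rfl
    have hyD : y ∉ C ⊔ Subgroup.zpowers x := by
      intro h
      have := Subgroup.mem_centralizer_iff.1 (hDc h) x rfl
      exact hxy (commutatorElement_eq_one_iff_mul_comm.2 this)
    have h1 : C < C ⊔ Subgroup.zpowers x := lt_of_le_of_ne le_sup_left fun h => hxC (h ▸ hxD)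
    have hyM : y ∈ (C ⊔ Subgroup.zpowers x) ⊔ Subgroup.zpowers y := Subgroup.mem_sup_right (Subgroup.mem_zpowers y)
    have h2 : C ⊔ Subgroup.zpowers x < (C ⊔ Subgroup.zpowers x) ⊔ Subgroup.zpowers y :=
      lt_of_le_of_ne le_sup_left fun h => hyD (h ▸ hyM)
    have h3 := card_mul_le_of_lt hT h1
    have h4 := card_mul_le_of_lt hT h2
    have htop : (C ⊔ Subgroup.zpowers x) ⊔ Subgroup.zpowers y = ⊤ := by
      apply Subgroup.eq_top_of_le_card
      rw [hCard, pow_two, mul_assoc]
      calc p * (p * Nat.card C) ≤ p * Nat.card ↥(C ⊔ Subgroup.zpowers x) := Nat.mul_le_mul_left _ h3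
        _ ≤ _ := h4
    have hg : g ∈ Subgroup.closure {x, y} ⊔ C := by
      have hle : (C ⊔ Subgroup.zpowers x) ⊔ Subgroup.zpowers y ≤ Subgroup.closure {x, y} ⊔ C := by
        refine sup_le (sup_le le_sup_right ?_) ?_
        · rw [Subgroup.zpowers_le]
          exact Subgroup.mem_sup_left (Subgroup.subset_closure (by simp))
        · rw [Subgroup.zpowers_le]
          exact Subgroup.mem_sup_left (Subgroup.subset_closure (by simp))
      rw [htop] at hle
      exact hle (Subgroup.mem_top g)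
    have hCn : C.Normal := by
      rw [hCdef]
      infer_instance
    have hg' : g ∈ ((Subgroup.closure {x, y} ⊔ C : Subgroup T) : Set T) := hg
    rw [Subgroup.mul_normal] at hg'
    obtain ⟨e, he, c, hc, rfl⟩ := Set.mem_mul.1 hg'
    obtain ⟨k, j, z, hz, rfl⟩ := closure_form hCm hC' x y e he
    exact ⟨k, j, z * c, C.mul_mem hz hc, by simp only [mul_assoc]⟩
  have hcommC : commutator T ≤ C := by
    rw [commutator_def, Subgroup.commutator_le]
    intro a _ b _
    exact hC' a b
  obtain ⟨x, y, hxy⟩ : ∃ x y : T, ⁅x, y⁆ ≠ 1 := by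
    by_contra hno
    push_neg at hno
    exact hne fun a b => commutatorElement_eq_one_iff_mul_comm.1 (hno a b)
  have hczz : ∀ c ∈ C, ∀ b : T, ⁅c, b⁆ = 1 := fun c hc b =>
    commutatorElement_eq_one_iff_mul_comm.2 (hCm c hc b).symm
  have hself : ∀ a : T, ⁅a, a⁆ = 1 := fun a => by simp [commutatorElement_def]
  refine ⟨?_, fun z hz g => hCm z (hcommC hz) g,
    fun a b => Subgroup.commutator_mem_commutator (Subgroup.mem_top a) (Subgroup.mem_top b), hgen⟩
  have hrp : ⁅x, y⁆ ^ p = 1 := by
    rw [← comm_pow_left' hCm hC']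
    exact hczz _ (hpowC x) y
  have hord : orderOf ⁅x, y⁆ = p := orderOf_eq_prime hrp hxy
  have hW : commutator T = Subgroup.zpowers ⁅x, y⁆ := by
    apply le_antisymm
    · rw [commutator_def, Subgroup.commutator_le]
      intro a _ b _
      have hx1 : ⁅y, x⁆ ∈ Subgroup.zpowers ⁅x, y⁆ := by
        rw [comm_symm' y x]
        exact Subgroup.inv_mem _ (Subgroup.mem_zpowers _)
      obtain ⟨k', j', c', hc', hb⟩ := hgen x y hxy b
      rw [← hCdef] at hc'
      have hbx : ⁅b, x⁆ ∈ Subgroup.zpowers ⁅x, y⁆ := by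
        rw [hb, comm_mul_left' hCm hC', comm_mul_left' hCm hC', comm_pow_left' hCm hC', comm_pow_left' hCm hC', hself x,
          hczz _ hc', one_pow, one_mul, mul_one]
        exact Subgroup.pow_mem _ hx1 _
      have hby : ⁅b, y⁆ ∈ Subgroup.zpowers ⁅x, y⁆ := by
        rw [hb, comm_mul_left' hCm hC', comm_mul_left' hCm hC', comm_pow_left' hCm hC', comm_pow_left' hCm hC', hself y,
          hczz _ hc', one_pow, mul_one, mul_one]
        exact Subgroup.pow_mem _ (Subgroup.mem_zpowers _) _
      have hxb : ⁅x, b⁆ ∈ Subgroup.zpowers ⁅x, y⁆ := by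
        rw [comm_symm' x b]
        exact Subgroup.inv_mem _ hbx
      have hyb : ⁅y, b⁆ ∈ Subgroup.zpowers ⁅x, y⁆ := by
        rw [comm_symm' y b]
        exact Subgroup.inv_mem _ hby
      obtain ⟨k, j, c, hc, ha⟩ := hgen x y hxy a
      rw [← hCdef] at hc
      rw [ha, comm_mul_left' hCm hC', comm_mul_left' hCm hC', comm_pow_left' hCm hC', comm_pow_left' hCm hC',
        hczz _ hc, mul_one]
      exact Subgroup.mul_mem _ (Subgroup.pow_mem _ hxb _) (Subgroup.pow_mem _ hyb _)
    · rw [Subgroup.zpowers_le]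
      exact Subgroup.commutator_mem_commutator (Subgroup.mem_top _) (Subgroup.mem_top _)
  rw [hW, Nat.card_zpowers, hord]

end Index

end Abstract

end Cfsg.Agent.Lib.Fusion
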