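import Cfsg.Agent.Lib.Fusion.SmallCenter
import Mathlib

/-!
# Groups whose centre has index `p²`: the automizer of an essential subgroup
-/

set_option autoImplicit false

namespace Cfsg.Agent.Lib.Fusion

open Cfsg Cfsg.FusionSystem
open scoped commutatorElement

section Transvections

variable {p : ℕ} [Fact p.Prime] {B : Type*} [Group B]

/-- Two transvections produce the inversion (only the centres need order `p`). -/
theorem exists_inversion_gen (hcomm : ∀ a b : B, a * b = b * a) (A : Subgroup (MulAut B)) {t s : MulAut B} (ht : t ∈ A) (hs : s ∈ A)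
    {r y : B} (hr : r ^ p = 1) (hy : y ^ p = 1) {a b : ℕ}
    (ha : ¬ p ∣ a) (hb : ¬ p ∣ b) (ht1 : t r = r) (ht2 : t y = y * r ^ a) (hs1 : s y = y) (hs2 : s r = r * y ^ b) :
    ∃ i ∈ A, i r = r⁻¹ ∧ i y = y⁻¹ := by
  have hpp : p.Prime := Fact.out
  have h1t : ∀ m : ℕ, (t ^ m) r = r := by
    intro m
    induction m with
    | zero => simp
    | succ m ih => rw [pow_succ', MulAut.mul_apply, ih, ht1]
  have h2t : ∀ m : ℕ, (t ^ m) y = y * r ^ (a * m) := by
    intro m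
    induction m with
    | zero => simp
    | succ m ih =>
      rw [pow_succ', MulAut.mul_apply, ih, map_mul, ht2, map_pow, ht1, mul_assoc, ← pow_add]
      congr 2
      ring
  have h1s : ∀ m : ℕ, (s ^ m) y = y := by
    intro m
    induction m with
    | zero => simp
    | succ m ih => rw [pow_succ', MulAut.mul_apply, ih, hs1]
  have h2s : ∀ m : ℕ, (s ^ m) r = r * y ^ (b * m) := by
    intro m
    induction m with
    | zero => simp
    | succ m ih =>
      rw [pow_succ', MulAut.mul_apply, ih, map_mul, hs2, map_pow, hs1, mul_assoc, ← pow_add]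
      congr 2
      ring
  have hac : Nat.Coprime a p := ((Nat.Prime.coprime_iff_not_dvd hpp).2 ha).symm
  have hbc : Nat.Coprime b p := ((Nat.Prime.coprime_iff_not_dvd hpp).2 hb).symm
  obtain ⟨m, -, hm⟩ := Nat.exists_mul_mod_eq_one_of_coprime hac hpp.one_lt
  obtain ⟨l, -, hl⟩ := Nat.exists_mul_mod_eq_one_of_coprime hbc hpp.one_lt
  have hrm : r ^ (a * m) = r := by
    rw [pow_eq_pow_mod _ hr, hm, pow_one]
  have hyl : y ^ (b * l * (p - 1)) = y⁻¹ := by
    have h1 : y ^ (b * l) = y := by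
      rw [pow_eq_pow_mod _ hy, hl, pow_one]
    rw [pow_mul, h1]
    have h2 : y ^ (p - 1) * y = 1 := by
      rw [← pow_succ, Nat.sub_add_cancel hpp.one_le]
      exact hy
    exact eq_inv_of_mul_eq_one_left h2
  let t₁ := t ^ m
  let s₁ := s ^ (l * (p - 1))
  have ht₁r : t₁ r = r := h1t m
  have ht₁y : t₁ y = y * r := by
    show (t ^ m) y = _
    rw [h2t, hrm]
  have hs₁y : s₁ y = y := h1s _
  have hs₁r : s₁ r = r * y⁻¹ := by
    show (s ^ (l * (p - 1))) r = _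
    rw [h2s, ← hyl, mul_assoc]
  let w := t₁ * s₁ * t₁
  have hwr : w r = y⁻¹ := by
    show t₁ (s₁ (t₁ r)) = _
    rw [ht₁r, hs₁r, map_mul, map_inv, ht₁r, ht₁y, mul_inv_rev, mul_inv_cancel_left]
  have hwy : w y = r := by
    show t₁ (s₁ (t₁ y)) = _
    rw [ht₁y, map_mul, hs₁y, hs₁r, ← mul_assoc, hcomm y r, mul_assoc, mul_inv_cancel, mul_one, ht₁r]
  refine ⟨w * w, ?_, ?_, ?_⟩
  · have h1 : t₁ ∈ A := A.pow_mem ht _
    have h2 : s₁ ∈ A := A.pow_mem hs _
    have h3 : w ∈ A := A.mul_mem (A.mul_mem h1 h2) h1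
    exact A.mul_mem h3 h3
  · rw [MulAut.mul_apply, hwr, map_inv, hwy]
  · rw [MulAut.mul_apply, hwy, hwr]

theorem comm_pow_calc' {B : Type*} [CommGroup B] {r v u : B} (hr : r ^ p = 1) {a c l m : ℕ} (hd : p ∣ a * m + c) :
    u * r ^ c * r ^ l * (v * r ^ a) ^ m = u * r ^ l * v ^ m := by
  have h1 : r ^ (a * m + c) = 1 := by
    obtain ⟨k, hk⟩ := hd
    rw [hk, pow_mul, hr, one_pow]
  have h2 : u * r ^ c * r ^ l * (v * r ^ a) ^ m = u * r ^ l * v ^ m * r ^ (a * m + c) := by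
    rw [mul_pow, pow_add, pow_mul]
    simp only [mul_assoc, mul_comm, mul_left_comm]
  rw [h2, h1, mul_one]

/-- The data of a non-`p` pair of transvections on an abelian `p`-group. -/
theorem transvection_data [Finite B] (hBp : IsPGroup p B) (hcomm : ∀ a b : B, a * b = b * a)
    {t s : MulAut B} {r v : B} (hr : r ^ p = 1) (hv : v ^ p = 1) (ht1 : t r = r) (htu : ∀ u, ∃ c : ℕ, t u = u * r ^ c) (hs1 : s v = v)
    (hsu : ∀ u, ∃ d : ℕ, s u = u * v ^ d) (hnp : ¬ IsPGroup p ↥(Subgroup.closure {t, s})) :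
    ∃ i ∈ Subgroup.closure {t, s}, i r = r⁻¹ ∧ i v = v⁻¹ ∧ (∀ u, i (t u) = t (i u)) ∧ t v ≠ v ∧ s r ≠ r ∧
      (∀ j ∈ Subgroup.closure {t, s}, ∀ k : B, t k = k → s k = k → j k = k) ∧
      (∀ u, ∃ l m : ℕ, t (u * r ^ l * v ^ m) = u * r ^ l * v ^ m ∧ s (u * r ^ l * v ^ m) = u * r ^ l * v ^ m) ∧
      (∀ u, t u = u → ∃ l : ℕ, s (u * r ^ l) = u * r ^ l) := by
  classical
  have hpp : p.Prime := Fact.out
  have htv : t v ≠ v := fun h => hnp (isPGroup_closure_of_chain hBp hcomm h ht1 htu hs1 (hsu r) hsu)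
  have hsr : s r ≠ r := fun h => hnp (by
    have := isPGroup_closure_of_chain hBp hcomm h hs1 hsu ht1 (htu v) htu
    rwa [Set.pair_comm] at this)
  obtain ⟨a, ha⟩ := htu v
  obtain ⟨b, hb⟩ := hsu r
  have hpa : ¬ p ∣ a := by
    rintro ⟨k, rfl⟩
    apply htv
    rw [ha, pow_mul, hr, one_pow, mul_one]
  have hpb : ¬ p ∣ b := by
    rintro ⟨k, rfl⟩
    apply hsr
    rw [hb, pow_mul, hv, one_pow, mul_one]
  obtain ⟨i, hi, hir, hiv⟩ := exists_inversion_gen hcomm (Subgroup.closure {t, s})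
    (t := t) (s := s) (Subgroup.subset_closure (by simp)) (Subgroup.subset_closure (by simp)) hr hv hpa hpb ht1 ha hs1 hb
  have hfix : ∀ j ∈ Subgroup.closure {t, s}, ∀ k : B, t k = k → s k = k → j k = k := by
    intro j hj k hk1 hk2
    induction hj using Subgroup.closure_induction with
    | mem j hj =>
      rcases hj with rfl | hj
      · exact hk1
      · rw [Set.mem_singleton_iff] at hj
        subst hj
        exact hk2
    | one => rfl
    | mul x y _ _ hx hy => rw [MulAut.mul_apply, hy, hx]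
    | inv x _ hx =>
      have h0 : x⁻¹ (x k) = k := by simp
      rwa [hx] at h0
  letI cg : CommGroup B := { (inferInstance : Group B) with mul_comm := hcomm }
  have hdec : ∀ u, ∃ l m : ℕ, t (u * r ^ l * v ^ m) = u * r ^ l * v ^ m ∧ s (u * r ^ l * v ^ m) = u * r ^ l * v ^ m := by
    intro u
    obtain ⟨c, hc⟩ := htu u
    obtain ⟨d, hd⟩ := hsu u
    obtain ⟨m, hm⟩ := exists_add_dvd hpp hpa c
    obtain ⟨l, hl⟩ := exists_add_dvd hpp hpb d
    refine ⟨l, m, ?_, ?_⟩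
    · rw [map_mul, map_mul, map_pow, map_pow, hc, ht1, ha]
      exact comm_pow_calc' hr hm
    · rw [map_mul, map_mul, map_pow, map_pow, hd, hs1, hb]
      have := comm_pow_calc' (p := p) (u := u) (r := v) (v := r) (a := b) (c := d) (l := m) (m := l) hv hl
      calc u * v ^ d * (r * v ^ b) ^ l * v ^ m = u * v ^ d * v ^ m * (r * v ^ b) ^ l := by
            simp only [mul_assoc, mul_comm, mul_left_comm]
        _ = u * v ^ m * r ^ l := this
        _ = u * r ^ l * v ^ m := by simp only [mul_assoc, mul_comm, mul_left_comm]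
  refine ⟨i, hi, hir, hiv, ?_, htv, hsr, hfix, hdec, ?_⟩
  · let Eq' : Subgroup B := MonoidHom.eqLocus (i.toMonoidHom.comp t.toMonoidHom) (t.toMonoidHom.comp i.toMonoidHom)
    have hEq : ∀ u, u ∈ Eq' ↔ i (t u) = t (i u) := fun u => Iff.rfl
    have hrE : r ∈ Eq' := by
      rw [hEq, ht1, hir, map_inv, ht1]
    have hvE : v ∈ Eq' := by
      rw [hEq, ha, map_mul, map_pow, hiv, hir, map_inv, ha, mul_inv_rev, inv_pow, hcomm]
    intro u
    rw [← hEq]
    obtain ⟨l, m, h1, h2⟩ := hdec u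
    have h3 : i (u * r ^ l * v ^ m) = u * r ^ l * v ^ m := hfix i hi _ h1 h2
    have h4 : u * r ^ l * v ^ m ∈ Eq' := by
      rw [hEq, h1, h3, h1]
    have h5 : u = (u * r ^ l * v ^ m) * (v ^ m)⁻¹ * (r ^ l)⁻¹ := by
      simp [mul_assoc]
    rw [h5]
    exact Eq'.mul_mem (Eq'.mul_mem h4 (Eq'.inv_mem (Eq'.pow_mem hvE m))) (Eq'.inv_mem (Eq'.pow_mem hrE l))
  · intro u hu
    obtain ⟨d, hd⟩ := hsu u
    obtain ⟨l, hl⟩ := exists_add_dvd hpp hpb d
    refine ⟨l, ?_⟩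
    rw [map_mul, map_pow, hd, hb]
    have := comm_pow_calc' (p := p) (u := u) (r := v) (v := r) (a := b) (c := d) (l := 0) (m := l) hv hl
    simp only [pow_zero, mul_one] at this
    exact this

end Transvections

section Fusion

variable {Ω : Type*} [Group Ω] {S : Subgroup Ω} [Finite S] {F : FusionSystem S} {p : ℕ} [Fact p.Prime]

/-- Extending along a power of an element, for a subgroup normal in `S`. -/
theorem extend_over_zpowers' (hS : IsPGroup p S) (hF : F.IsSaturated p) {B P : Subgroup Ω} (hBS : B ≤ S) (hSN : S ≤ Subgroup.normalizer (B : Set Ω))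
    {x : Ω} (hxS : x ∈ S) (hgen : P ≤ B ⊔ Subgroup.zpowers x) {γ : MulAut B} (hγ : γ ∈ F.autGroup B) {h₀ : Ω} (hh₀ : h₀ ∈ S)
    (hcomp : ∀ (u : B) (hu : x * (u : Ω) * x⁻¹ ∈ B), ((γ ⟨x * u * x⁻¹, hu⟩ : B) : Ω) = h₀ * (γ u : Ω) * h₀⁻¹) :
    ∃ β ∈ F.Hom P, ∀ (a : P) (ha : (a : Ω) ∈ B), β a = (γ ⟨a, ha⟩ : Ω) := by
  classical
  have : Finite B := finite_of_le hBS
  have hBn : normalizerIn S B = S := le_antisymm (normalizerIn_le _) fun g hg =>
    mem_normalizerIn.2 ⟨hg, hSN hg⟩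
  have hfn : F.IsFullyNormalized B := isFullyNormalized_of_normalizerIn_eq hBS hBn
  have hrec := IsSat.receptive_of_fullyNormalized hS hF hfn
  have hiso : IsIso F (P := B) (Q := B) γ := (mem_autGroup_iff hBS).1 hγ
  have hxfin : IsOfFinOrder x := by
    obtain ⟨k, hk⟩ := hS ⟨x, hxS⟩
    refine isOfFinOrder_iff_pow_eq_one.2 ⟨p ^ k, pow_pos (Fact.out : p.Prime).pos k, ?_⟩
    simpa using congrArg Subtype.val hk
  have hpowmem : ∀ k : ℕ, ∀ (u : B), x ^ k * (u : Ω) * (x ^ k)⁻¹ ∈ B := fun k u =>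
    conj_mem_of_mem_normalizer (hSN (S.pow_mem hxS k)) u.2
  have hkey : ∀ k : ℕ, ∀ (u : B) (hu : x ^ k * (u : Ω) * (x ^ k)⁻¹ ∈ B),
      ((γ ⟨x ^ k * u * (x ^ k)⁻¹, hu⟩ : B) : Ω) = h₀ ^ k * (γ u : Ω) * (h₀ ^ k)⁻¹ := by
    intro k
    induction k with
    | zero =>
      intro u hu
      simp
    | succ k ih =>
      intro u hu
      have h1 := ih u (hpowmem k u)
      have h2 := hcomp ⟨_, hpowmem k u⟩ (conj_mem_of_mem_normalizer (hSN hxS) (hpowmem k u))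
      have h3 : (⟨x ^ (k + 1) * u * (x ^ (k + 1))⁻¹, hu⟩ : B) =
          ⟨x * ((⟨_, hpowmem k u⟩ : B) : Ω) * x⁻¹, conj_mem_of_mem_normalizer (hSN hxS) (hpowmem k u)⟩ := by
        apply Subtype.ext
        simp only [pow_succ']
        group
      rw [h3, h2, h1, pow_succ' h₀]
      group
  obtain ⟨ψ, hψ, hψv⟩ := IsReceptive.extend_sup hrec hiso (N := Subgroup.zpowers x) (fun g hg => by
    obtain ⟨k, rfl⟩ := (hxfin.mem_powers_iff_mem_zpowers).2 hg
    exact ⟨S.pow_mem hxS k, hSN (S.pow_mem hxS k), h₀ ^ k, S.pow_mem hh₀ k, fun u hu => hkey k u hu⟩)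
  refine ⟨ψ.comp (Subgroup.inclusion hgen), res_mem F hψ hgen, fun a ha => ?_⟩
  exact hψv a ha (hgen a.2)

/-- The elementary structure of a proper centric subgroup. -/
theorem ess_struct {Z : Subgroup ↥S} (h : ClTwo p ↥S Z) {R : Subgroup Ω} (hR : F.IsCentric R) (hne : R ≠ S) :
    (∀ a ∈ R, ∀ b ∈ R, a * b = b * a) ∧ (∀ c ∈ Subgroup.center ↥S, (c : Ω) ∈ R) ∧ S ≤ Subgroup.normalizer (R : Set Ω) ∧
      ∃ x w : ↥S, (x : Ω) ∉ R ∧ (w : Ω) ∈ R ∧ ⁅x, w⁆ ≠ 1 ∧ ∀ g : ↥S, ∃ k : ℕ, ((g * (x ^ k)⁻¹ : ↥S) : Ω) ∈ R := by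
  classical
  have hRS : R ≤ S := hR.1
  have : Finite R := finite_of_le hRS
  obtain ⟨R', hR'⟩ : ∃ R' : Subgroup ↥S, R' = R.subgroupOf S := ⟨_, rfl⟩
  have hmem : ∀ a : ↥S, a ∈ R' ↔ (a : Ω) ∈ R := fun a => by rw [hR', Subgroup.mem_subgroupOf]
  have hcen : ∀ u : ↥S, (∀ a ∈ R', u * a = a * u) → u ∈ R' := by
    intro u hu
    rw [hmem]
    apply IsCentric.centralizer_le hR
    refine mem_centralizerIn.2 ⟨u.2, fun a ha => ?_⟩
    have := hu ⟨a, hRS ha⟩ ((hmem _).2 ha)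
    exact (congrArg Subtype.val this).symm
  have hC : Subgroup.center ↥S ≤ R' := fun c hc => hcen c fun a _ => (Subgroup.mem_center_iff.1 hc a).symm
  have hne' : R' ≠ ⊤ := by
    intro htop
    apply hne
    apply le_antisymm hRS
    intro g hg
    have : (⟨g, hg⟩ : ↥S) ∈ R' := htop ▸ Subgroup.mem_top _
    exact (hmem _).1 this
  have hcomm : ∀ a ∈ R, ∀ b ∈ R, a * b = b * a := by
    intro a ha b hb
    by_contra hab
    apply hne'
    refine h.eq_top_of_not_comm hC ((hmem ⟨a, hRS ha⟩).2 ha) ((hmem ⟨b, hRS hb⟩).2 hb) ?_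
    intro h1
    apply hab
    exact congrArg Subtype.val (commutatorElement_eq_one_iff_mul_comm.1 h1)
  have hZR : ∀ z ∈ Z, (z : Ω) ∈ R := fun z hz => (hmem z).1 (hC (h.le_center hz))
  refine ⟨hcomm, fun c hc => (hmem c).1 (hC hc), ?_, ?_⟩
  · intro g hg
    refine mem_normalizer_of_forall fun a ha => ?_
    have h1 : ((⁅(⟨g, hg⟩ : ↥S), (⟨a, hRS ha⟩ : ↥S)⁆ : ↥S) : Ω) ∈ R := hZR _ (h.comm _ _)
    have h2 : g * a * g⁻¹ = ((⁅(⟨g, hg⟩ : ↥S), (⟨a, hRS ha⟩ : ↥S)⁆ : ↥S) : Ω) * a := by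
      simp [commutatorElement_def]
    rw [h2]
    exact R.mul_mem h1 ha
  · have hlt : R < S := lt_of_le_of_ne hRS hne
    obtain ⟨x, hxS, hxR⟩ := SetLike.exists_of_lt hlt
    have hnc : ∃ a ∈ R, x * a ≠ a * x := by
      by_contra hno
      push_neg at hno
      exact hxR (IsCentric.centralizer_le hR (mem_centralizerIn.2 ⟨hxS, fun a ha => (hno a ha).symm⟩))
    obtain ⟨w, hwR, hxw⟩ := hnc
    have hxw' : ⁅(⟨x, hxS⟩ : ↥S), (⟨w, hRS hwR⟩ : ↥S)⁆ ≠ 1 := by
      intro h1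
      apply hxw
      exact congrArg Subtype.val (commutatorElement_eq_one_iff_mul_comm.1 h1)
    refine ⟨⟨x, hxS⟩, ⟨w, hRS hwR⟩, hxR, hwR, hxw', fun g => ?_⟩
    obtain ⟨k, hk⟩ := h.cover hC hne' hcen ((hmem _).2 hwR) hxw' g
    exact ⟨k, (hmem _).1 hk⟩

/-- Automorphisms acting on the centre by a unipotent map act trivially there. -/
theorem fix_of_unipotent (hS : IsPGroup p S) (hF : F.IsSaturated p) {β : MulAut ↥S} (hβ : β ∈ F.autGroup S) {r : ↥S}
    (hrp : r ^ p = 1) (hβr : β r = r) (hu : ∀ u ∈ Subgroup.center ↥S, ∃ n : ℕ, β u = u * r ^ n) :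
    ∀ u ∈ Subgroup.center ↥S, β u = u := by
  classical
  have hpp : p.Prime := Fact.out
  have := finite_autGroup F (le_refl S)
  obtain ⟨-, U, hU⟩ := IsSat.fullyAutomized_of_fullyNormalized hS hF (isFullyNormalized_top (F := F))
  have hUmem : ∀ c : ↥(F.autGroup S), c ∈ (U : Subgroup ↥(F.autGroup S)) ↔ ∃ g ∈ S, ∀ a : ↥S, (((c : MulAut ↥S) a : ↥S) : Ω) = g * (a : Ω) * g⁻¹ := by
    intro c
    rw [hU, Subgroup.mem_subgroupOf, mem_autInducedBy_iff]
  haveI hUn : (U : Subgroup ↥(F.autGroup S)).Normal := by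
    refine ⟨fun c hc g => ?_⟩
    obtain ⟨s, hs, hsv⟩ := (hUmem c).1 hc
    refine (hUmem _).2 ⟨((g : MulAut ↥S) ⟨s, hs⟩ : ↥S), ((g : MulAut ↥S) ⟨s, hs⟩).2, fun a => ?_⟩
    have h1 : (c : MulAut ↥S) ((g : MulAut ↥S)⁻¹ a) = ⟨s, hs⟩ * ((g : MulAut ↥S)⁻¹ a) * (⟨s, hs⟩ : ↥S)⁻¹ := Subtype.ext (by
      rw [hsv]
      simp)
    have h2 : ((g * c * g⁻¹ : ↥(F.autGroup S)) : MulAut ↥S) a = (g : MulAut ↥S) ((c : MulAut ↥S) ((g : MulAut ↥S)⁻¹ a)) := rfl
    rw [h2, h1]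
    simp
  have hidx : ¬ p ∣ (U : Subgroup ↥(F.autGroup S)).index := U.not_dvd_index
  obtain ⟨idx, hidxdef⟩ : ∃ idx, idx = (U : Subgroup ↥(F.autGroup S)).index := ⟨_, rfl⟩
  rw [← hidxdef] at hidx
  have hco : Nat.Coprime idx p := ((Nat.Prime.coprime_iff_not_dvd hpp).2 hidx).symm
  obtain ⟨m, -, hm⟩ := Nat.exists_mul_mod_eq_one_of_coprime hco hpp.one_lt
  intro u huc
  obtain ⟨n, hn⟩ := hu u huc
  have hpow : ∀ k : ℕ, (β ^ k) u = u * r ^ (n * k) := by
    intro k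
    induction k with
    | zero => simp
    | succ k ih =>
      rw [pow_succ', MulAut.mul_apply, ih, map_mul, hn, map_pow, hβr, mul_assoc, ← pow_add]
      congr 2
      ring
  have h1 : (β ^ p) u = u := by
    rw [hpow, mul_comm n p, pow_mul, hrp, one_pow, mul_one]
  have h2 : (β ^ idx) u = u := by
    have h3 : ((⟨β, hβ⟩ : ↥(F.autGroup S)) ^ idx) ∈ (U : Subgroup ↥(F.autGroup S)) := by
      rw [hidxdef]
      exact Subgroup.pow_index_mem _ _
    obtain ⟨s, hs, hsv⟩ := (hUmem _).1 h3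
    have h4 := hsv u
    have h5 : (((⟨β, hβ⟩ : ↥(F.autGroup S)) ^ idx : ↥(F.autGroup S)) : MulAut ↥S) = β ^ idx := rfl
    rw [h5] at h4
    apply Subtype.ext
    rw [h4]
    have h6 := Subgroup.mem_center_iff.1 huc ⟨s, hs⟩
    have h7 : s * (u : Ω) = u * s := congrArg Subtype.val h6
    rw [h7]
    simp
  have h3 : (β ^ (idx * m)) u = u := by
    rw [pow_mul]
    have : ∀ k : ℕ, ((β ^ idx) ^ k) u = u := by
      intro k
      induction k with
      | zero => simp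
      | succ k ih => rw [pow_succ', MulAut.mul_apply, ih, h2]
    exact this m
  have h4 : idx * m = 1 + p * (idx * m / p) := by
    have := Nat.div_add_mod (idx * m) p
    rw [hm] at this
    omega
  rw [h4, pow_add, pow_one, MulAut.mul_apply, pow_mul] at h3
  have h5 : ∀ k : ℕ, ((β ^ p) ^ k) u = u := by
    intro k
    induction k with
    | zero => simp
    | succ k ih => rw [pow_succ', MulAut.mul_apply, ih, h1]
  rwa [h5] at h3

/-- An automorphism inverting the generator of the commutator subgroup, and trivial on the centre modulo it. -/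
def GoodAut (r : ↥S) (ι : MulAut ↥S) : Prop :=
  ι r = r⁻¹ ∧ ∀ u ∈ Subgroup.center ↥S, ∃ l : ℕ, ι u = u * r ^ l

theorem GoodAut.fix (hS : IsPGroup p S) (hF : F.IsSaturated p) {r : ↥S} (hrp : r ^ p = 1) (hrc : r ∈ Subgroup.center ↥S) {ι₁ ι₂ : MulAut ↥S}
    (h₁ : GoodAut r ι₁) (h₂ : GoodAut r ι₂) (hι₁ : ι₁ ∈ F.autGroup S) (hι₂ : ι₂ ∈ F.autGroup S) :
    ∀ u ∈ Subgroup.center ↥S, ι₁ u = u → ι₂ u = u := by
  have hpp : p.Prime := Fact.out
  have hrinv : r⁻¹ = r ^ (p - 1) := by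
    apply inv_eq_of_mul_eq_one_right
    rw [← pow_succ', Nat.sub_add_cancel hpp.one_le, hrp]
  have hβ : ι₂ * ι₁ ∈ F.autGroup S := Subgroup.mul_mem _ hι₂ hι₁
  have hfix := fix_of_unipotent hS hF hβ hrp (by
    rw [MulAut.mul_apply, h₁.1, map_inv, h₂.1, inv_inv]) (by
    intro u hu
    obtain ⟨l, hl⟩ := h₁.2 u hu
    obtain ⟨l', hl'⟩ := h₂.2 u hu
    refine ⟨l' + (p - 1) * l, ?_⟩
    rw [MulAut.mul_apply, hl, map_mul, hl', map_pow, h₂.1, hrinv, ← pow_mul, mul_assoc, ← pow_add])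
  intro u hu h
  have := hfix u hu
  rwa [MulAut.mul_apply, h] at this

theorem center_map {T : Type*} [Group T] (α : MulAut T) {u : T} (hu : u ∈ Subgroup.center T) : α u ∈ Subgroup.center T := by
  rw [Subgroup.mem_center_iff] at hu ⊢
  intro g
  obtain ⟨g', rfl⟩ := α.surjective g
  rw [← map_mul, ← map_mul, hu]

theorem GoodAut.conj {r : ↥S} {ι α : MulAut ↥S} (h : GoodAut r ι) (h1 : ∃ e : ℕ, α r = r ^ e) (h2 : ∃ f : ℕ, α⁻¹ r = r ^ f) :
    GoodAut r (α * ι * α⁻¹) := by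
  obtain ⟨e, he⟩ := h1
  obtain ⟨f, hf⟩ := h2
  have hαα : α (α⁻¹ r) = r := by simp
  constructor
  · rw [MulAut.mul_apply, MulAut.mul_apply, hf, map_pow, h.1, inv_pow, map_inv, ← hf, hαα]
  · intro u hu
    obtain ⟨l, hl⟩ := h.2 _ (center_map α⁻¹ hu)
    refine ⟨e * l, ?_⟩
    rw [MulAut.mul_apply, MulAut.mul_apply, hl, map_mul, map_pow, he, ← pow_mul]
    simp

/-- Automorphisms move the generator of `Z` inside `Z`. -/
theorem ClTwo.exists_pow {Z : Subgroup ↥S} (h : ClTwo p ↥S Z) {x y : ↥S} (hxy : ⁅x, y⁆ ≠ 1) {r : ↥S} (hrZ : r ∈ Z) (hr1 : r ≠ 1) (α : MulAut ↥S) :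
    ∃ e : ℕ, α r = r ^ e := by
  have : Finite Z := inferInstance
  have hα : α r ∈ Z := by
    obtain ⟨k, rfl⟩ := mem_pow_of_comm h.card h.cen h.comm hxy r hrZ
    rw [map_pow, map_commutatorElement]
    exact Z.pow_mem (h.comm _ _) k
  exact exists_pow_of_card_prime h.card hrZ hr1 hα


end Fusion

end Cfsg.Agent.Lib.Fusion
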