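import Cfsg.Agent.Lib.Fusion.SmallCenter2
import Cfsg.Agent.S0199
import Mathlib

/-!
# Groups whose centre has index `p²`: local data at a proper centric subgroup
-/

set_option autoImplicit false

namespace Cfsg.Agent.Lib.Fusion

open Cfsg Cfsg.FusionSystem
open scoped commutatorElement

section Fusion

variable {Ω : Type*} [Group Ω] {S : Subgroup Ω} [Finite S] {F : FusionSystem S} {p : ℕ} [Fact p.Prime]

/-- The local data at a proper centric subgroup `R`: `t` is conjugation by `x` on `R`, and it is a transvection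
with centre the generator `r` of the commutator subgroup. -/
structure Loc (F : FusionSystem S) (p : ℕ) (R : Subgroup Ω) (x r : ↥S) (rR : ↥R) (t : MulAut ↥R) : Prop where
  RS : R ≤ S
  comm : ∀ a b : ↥R, a * b = b * a
  SN : S ≤ Subgroup.normalizer (R : Set Ω)
  hrR : (rR : Ω) = r
  rp : r ^ p = 1
  r1 : r ≠ 1
  rc : r ∈ Subgroup.center ↥S
  tv : ∀ a : ↥R, ((t a : ↥R) : Ω) = (x : Ω) * a * (x : Ω)⁻¹
  tu : ∀ a : ↥R, ∃ c : ℕ, t a = a * rR ^ c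
  cover : ∀ g : ↥S, ∃ k : ℕ, ((g * (x ^ k)⁻¹ : ↥S) : Ω) ∈ R
  cen : ∀ c ∈ Subgroup.center ↥S, (c : Ω) ∈ R
  mem : t ∈ F.autGroup R
  cent : F.IsCentric R
  ne : ∃ a : ↥R, t a ≠ a

/-- Existence of the local data. -/
theorem exists_loc {Z : Subgroup ↥S} (h : ClTwo p ↥S Z) {R : Subgroup Ω} (hR : F.IsCentric R) (hne : R ≠ S) {r : ↥S} (hrZ : r ∈ Z)
    (hr1 : r ≠ 1) : ∃ (x : ↥S) (rR : ↥R) (t : MulAut ↥R), Loc F p R x r rR t := by
  obtain ⟨hcomm, hcen, hSN, x, w, hxR, hwR, hxw, hcov⟩ := ess_struct h hR hne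
  have hRS : R ≤ S := hR.1
  have hrR : (r : Ω) ∈ R := hcen r (h.le_center hrZ)
  have hrp : r ^ p = 1 := pow_eq_one_of_mem h.card hrZ
  have hcomm' : ∀ a b : ↥R, a * b = b * a := fun a b => Subtype.ext (hcomm a a.2 b b.2)
  refine ⟨x, ⟨r, hrR⟩, conjAut R x (hSN x.2), ?_⟩
  refine ⟨hRS, hcomm', hSN, rfl, hrp, hr1, h.le_center hrZ, fun a => rfl, ?_, hcov, hcen, ?_, hR, ?_⟩
  · intro a
    obtain ⟨c, hc⟩ := exists_pow_of_card_prime h.card hrZ hr1 (h.comm x ⟨a, hRS a.2⟩)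
    refine ⟨c, Subtype.ext ?_⟩
    have h1 : (x : Ω) * a * (x : Ω)⁻¹ = ((⁅x, (⟨a, hRS a.2⟩ : ↥S)⁆ : ↥S) : Ω) * a := by
      simp [commutatorElement_def]
    rw [conjAut_coe, h1, hc]
    have h2 : ((r ^ c : ↥S) : Ω) = (((⟨r, hrR⟩ : ↥R) ^ c : ↥R) : Ω) := by simp
    rw [h2]
    exact congrArg (fun w : ↥R => (w : Ω)) (hcomm' _ _)
  · exact autInducedBy_le_autGroup F hRS (conjAut_mem x.2 (hSN x.2))
  · refine ⟨⟨w, hwR⟩, fun h1 => hxw ?_⟩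
    have h2 : (x : Ω) * w * (x : Ω)⁻¹ = w := congrArg (fun w : ↥R => (w : Ω)) h1
    apply commutatorElement_eq_one_iff_mul_comm.2
    apply Subtype.ext
    show (x : Ω) * w = w * x
    calc (x : Ω) * w = ((x : Ω) * w * (x : Ω)⁻¹) * x := by group
      _ = w * x := by rw [h2]

namespace Loc

variable {R : Subgroup Ω} {x r : ↥S} {rR : ↥R} {t : MulAut ↥R}

theorem rS (L : Loc F p R x r rR t) : (⟨rR, L.RS rR.2⟩ : ↥S) = r := Subtype.ext L.hrR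

theorem rRp (L : Loc F p R x r rR t) : rR ^ p = 1 := by
  apply Subtype.ext
  have := congrArg (fun w : ↥S => (w : Ω)) L.rp
  simpa [L.hrR] using this

theorem rR1 (L : Loc F p R x r rR t) : rR ≠ 1 := by
  intro h
  apply L.r1
  apply Subtype.ext
  rw [← L.hrR, h]
  rfl

theorem t_rR (L : Loc F p R x r rR t) : t rR = rR := by
  apply Subtype.ext
  rw [L.tv, L.hrR]
  have h1 := Subgroup.mem_center_iff.1 L.rc x
  have h2 : (x : Ω) * r = r * x := congrArg (fun w : ↥S => (w : Ω)) h1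
  rw [h2]
  simp

theorem isP (hS : IsPGroup p S) (L : Loc F p R x r rR t) : IsPGroup p ↥R := hS.to_le L.RS

/-- A fixed point of `t` is central. -/
theorem central_of_fix (L : Loc F p R x r rR t) {k : ↥R} (hk : t k = k) : (⟨k, L.RS k.2⟩ : ↥S) ∈ Subgroup.center ↥S := by
  rw [Subgroup.mem_center_iff]
  intro g
  obtain ⟨n, hn⟩ := L.cover g
  have h1 : (x : Ω) * k = k * x := by
    have h2 := L.tv k
    rw [hk] at h2
    calc (x : Ω) * k = (x * k * (x : Ω)⁻¹) * x := by simp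
      _ = k * x := by rw [← h2]
  have hkx : Commute (⟨k, L.RS k.2⟩ : ↥S) x := Subtype.ext h1.symm
  have hku : Commute (⟨k, L.RS k.2⟩ : ↥S) (g * (x ^ n)⁻¹) :=
    Subtype.ext (congrArg (fun w : ↥R => (w : Ω)) (L.comm k ⟨_, hn⟩))
  have hg : g = (g * (x ^ n)⁻¹) * x ^ n := by simp
  rw [hg]
  exact ((hku.mul_right (hkx.pow_right n))).eq.symm

theorem fix_of_central (L : Loc F p R x r rR t) {c : ↥S} (hc : c ∈ Subgroup.center ↥S) : t ⟨c, L.cen c hc⟩ = ⟨c, L.cen c hc⟩ := by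
  apply Subtype.ext
  rw [L.tv]
  have h1 := Subgroup.mem_center_iff.1 hc x
  have h2 : (x : Ω) * c = c * x := congrArg (fun w : ↥S => (w : Ω)) h1
  show (x : Ω) * c * (x : Ω)⁻¹ = c
  rw [h2]
  simp

theorem gen (L : Loc F p R x r rR t) : S ≤ R ⊔ Subgroup.zpowers (x : Ω) := by
  intro g hg
  obtain ⟨n, hn⟩ := L.cover ⟨g, hg⟩
  have h1 : g = ((⟨g, hg⟩ * (x ^ n)⁻¹ : ↥S) : Ω) * (x : Ω) ^ n := by simp
  rw [h1]
  exact Subgroup.mul_mem _ (Subgroup.mem_sup_left hn)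
    (Subgroup.mem_sup_right (Subgroup.pow_mem _ (Subgroup.mem_zpowers _) n))

theorem t_pow (L : Loc F p R x r rR t) (k : ℕ) (a : ↥R) : (((t ^ k) a : ↥R) : Ω) = (x : Ω) ^ k * a * ((x : Ω) ^ k)⁻¹ := by
  induction k generalizing a with
  | zero => simp
  | succ k ih =>
    rw [pow_succ', MulAut.mul_apply, L.tv, ih, pow_succ' (x : Ω)]
    group

theorem normalizerIn_eq (L : Loc F p R x r rR t) : normalizerIn S R = S :=
  le_antisymm (normalizerIn_le _) fun g hg => mem_normalizerIn.2 ⟨hg, L.SN hg⟩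

/-- Automorphisms of `R` for which `t` and its conjugate generate a `p`-group extend to `S`. -/
theorem ext_of_pgroup (hS : IsPGroup p S) (hF : F.IsSaturated p) (L : Loc F p R x r rR t) {γ : MulAut ↥R} (hγ : γ ∈ F.autGroup R)
    (hpg : IsPGroup p ↥(Subgroup.closure {t, γ * t * γ⁻¹})) :
    ∃ γ' ∈ F.autGroup S, ∀ a : ↥R, ((γ' ⟨a, L.RS a.2⟩ : ↥S) : Ω) = γ a := by
  classical
  have hRS := L.RS
  have : Finite ↥R := finite_of_le hRS
  have : Finite ↥(F.autGroup R) := finite_autGroup F hRS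
  have hfn : F.IsFullyNormalized R := isFullyNormalized_of_normalizerIn_eq hRS L.normalizerIn_eq
  obtain ⟨-, U, hU⟩ := IsSat.fullyAutomized_of_fullyNormalized hS hF hfn
  have hsA : γ * t * γ⁻¹ ∈ F.autGroup R := Subgroup.mul_mem _ (Subgroup.mul_mem _ hγ L.mem) (Subgroup.inv_mem _ hγ)
  have hle : Subgroup.closure {t, γ * t * γ⁻¹} ≤ F.autGroup R := by
    rw [Subgroup.closure_le]
    rintro a (rfl | ha)
    · exact L.mem
    · rw [Set.mem_singleton_iff] at ha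
      subst ha
      exact hsA
  have hCl : IsPGroup p ↥((Subgroup.closure {t, γ * t * γ⁻¹}).subgroupOf (F.autGroup R)) :=
    hpg.of_injective (Subgroup.subgroupOfEquivOfLe hle).toMonoidHom (MulEquiv.injective _)
  obtain ⟨Q, hQ⟩ := hCl.exists_le_sylow
  obtain ⟨T, hT⟩ : ∃ T : Subgroup ↥(F.autGroup R), T = Subgroup.zpowers (⟨t, L.mem⟩ : ↥(F.autGroup R)) := ⟨_, rfl⟩
  have hTQ : T ≤ (Q : Subgroup ↥(F.autGroup R)) := by
    rw [hT, Subgroup.zpowers_le]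
    apply hQ
    rw [Subgroup.mem_subgroupOf]
    exact Subgroup.subset_closure (by simp)
  have hUT : (U : Subgroup ↥(F.autGroup R)) ≤ T := by
    intro c hc
    rw [hU, Subgroup.mem_subgroupOf, mem_autInducedBy_iff] at hc
    obtain ⟨g, hg, hgv⟩ := hc
    obtain ⟨n, hn⟩ := L.cover ⟨g, hg⟩
    rw [hT]
    refine Subgroup.mem_zpowers_iff.2 ⟨(n : ℤ), ?_⟩
    apply Subtype.ext
    apply MulEquiv.ext
    intro a
    apply Subtype.ext
    show (((t ^ n) a : ↥R) : Ω) = (((c : MulAut ↥R) a : ↥R) : Ω)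
    rw [hgv, L.t_pow]
    have hu := L.comm ⟨_, hn⟩ a
    have hu' : (g * ((x : Ω) ^ n)⁻¹) * a = a * (g * ((x : Ω) ^ n)⁻¹) := by
      simpa using congrArg (fun w : ↥R => (w : Ω)) hu
    have h2 : g * a * g⁻¹ = (g * ((x : Ω) ^ n)⁻¹) * ((x : Ω) ^ n * a * ((x : Ω) ^ n)⁻¹) * (g * ((x : Ω) ^ n)⁻¹)⁻¹ := by
      group
    rw [h2]
    have h3 : (x : Ω) ^ n * a * ((x : Ω) ^ n)⁻¹ ∈ R := by
      rw [← L.t_pow]
      exact ((t ^ n) a).2
    have hu2 := L.comm ⟨_, hn⟩ ⟨_, h3⟩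
    have hu3 : (g * ((x : Ω) ^ n)⁻¹) * ((x : Ω) ^ n * a * ((x : Ω) ^ n)⁻¹) = ((x : Ω) ^ n * a * ((x : Ω) ^ n)⁻¹) * (g * ((x : Ω) ^ n)⁻¹) := by
      simpa using congrArg (fun w : ↥R => (w : Ω)) hu2
    rw [hu3]
    group
  have hcardQ : Nat.card (Q : Subgroup ↥(F.autGroup R)) = Nat.card (U : Subgroup ↥(F.autGroup R)) := by
    rw [Sylow.card_eq_multiplicity, Sylow.card_eq_multiplicity]
  have hTeq : T = (Q : Subgroup ↥(F.autGroup R)) := by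
    apply Subgroup.eq_of_le_of_card_ge hTQ
    rw [hcardQ]
    exact Subgroup.card_le_of_le hUT
  have hsT : (⟨γ * t * γ⁻¹, hsA⟩ : ↥(F.autGroup R)) ∈ T := by
    rw [hTeq]
    apply hQ
    rw [Subgroup.mem_subgroupOf]
    exact Subgroup.subset_closure (by simp)
  rw [hT] at hsT
  obtain ⟨k, hk⟩ := Submonoid.mem_powers_iff _ _ |>.1 (mem_powers_iff_mem_zpowers.2 hsT)
  have hsk : γ * t * γ⁻¹ = t ^ k := by
    have := congrArg (fun w : ↥(F.autGroup R) => (w : MulAut ↥R)) hk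
    simpa using this.symm
  have hcomp : ∀ (u : ↥R) (hu : (x : Ω) * (u : Ω) * (x : Ω)⁻¹ ∈ R),
      ((γ ⟨(x : Ω) * u * (x : Ω)⁻¹, hu⟩ : ↥R) : Ω) = (x : Ω) ^ k * (γ u : Ω) * ((x : Ω) ^ k)⁻¹ := by
    intro u hu
    have h1 : (⟨(x : Ω) * u * (x : Ω)⁻¹, hu⟩ : ↥R) = t u := Subtype.ext (L.tv u).symm
    rw [h1, ← L.t_pow, ← hsk]
    simp [MulAut.mul_apply]
  obtain ⟨β, hβ, hβv⟩ := extend_over_zpowers' hS hF hRS L.SN x.2 L.gen hγ (S.pow_mem x.2 k) hcomp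
  obtain ⟨γ', hγ', hγ'v⟩ := exists_aut_of_map hβ (fun a => hom_val F hβ a)
  refine ⟨γ', hγ', fun a => ?_⟩
  rw [hγ'v]
  exact hβv ⟨a, hRS a.2⟩ a.2

/-- The inversion attached to a non-`p` pair of transvections. -/
theorem exists_triple (hS : IsPGroup p S) (hF : F.IsSaturated p) (L : Loc F p R x r rR t) {γ : MulAut ↥R} (hγ : γ ∈ F.autGroup R)
    (hnp : ¬ IsPGroup p ↥(Subgroup.closure {t, γ * t * γ⁻¹})) :
    ∃ (i : MulAut ↥R) (ι : MulAut ↥S), ι ∈ F.autGroup S ∧ GoodAut r ι ∧ (∀ a : ↥R, ((ι ⟨a, L.RS a.2⟩ : ↥S) : Ω) = i a) ∧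
      (∀ u, i (t u) = t (i u)) ∧ (∀ k, t k = k → (γ * t * γ⁻¹) k = k → i k = k) ∧
      (p ≠ 2 → ∀ u, t u = u → i u = u → (γ * t * γ⁻¹) u = u) ∧
      (∀ u, ∃ l m : ℕ, t (u * rR ^ l * (γ rR) ^ m) = u * rR ^ l * (γ rR) ^ m ∧
        (γ * t * γ⁻¹) (u * rR ^ l * (γ rR) ^ m) = u * rR ^ l * (γ rR) ^ m) ∧ t (γ rR) ≠ γ rR := by
  classical
  have hpp : p.Prime := Fact.out
  have hRS := L.RS
  have : Finite ↥R := finite_of_le hRS
  have hsA : γ * t * γ⁻¹ ∈ F.autGroup R := Subgroup.mul_mem _ (Subgroup.mul_mem _ hγ L.mem) (Subgroup.inv_mem _ hγ)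
  have hle : Subgroup.closure {t, γ * t * γ⁻¹} ≤ F.autGroup R := by
    rw [Subgroup.closure_le]
    rintro a (rfl | ha)
    · exact L.mem
    · rw [Set.mem_singleton_iff] at ha
      subst ha
      exact hsA
  have hv : (γ rR) ^ p = 1 := by rw [← map_pow, L.rRp, map_one]
  have hs1 : (γ * t * γ⁻¹) (γ rR) = γ rR := by simp [MulAut.mul_apply, L.t_rR]
  have hsu : ∀ u, ∃ d : ℕ, (γ * t * γ⁻¹) u = u * (γ rR) ^ d := by
    intro u
    obtain ⟨c, hc⟩ := L.tu (γ⁻¹ u)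
    refine ⟨c, ?_⟩
    simp only [MulAut.mul_apply]
    rw [hc]
    simp
  obtain ⟨i, hi, hir, hiv, hit, htv, hsr, hfix, hdec, hlast⟩ := transvection_data (L.isP hS) L.comm L.rRp hv L.t_rR L.tu hs1 hsu hnp
  have hiA : i ∈ F.autGroup R := hle hi
  have hcomp : ∀ (u : ↥R) (hu : (x : Ω) * (u : Ω) * (x : Ω)⁻¹ ∈ R),
      ((i ⟨(x : Ω) * u * (x : Ω)⁻¹, hu⟩ : ↥R) : Ω) = (x : Ω) * (i u : Ω) * (x : Ω)⁻¹ := by
    intro u hu
    have h1 : (⟨(x : Ω) * u * (x : Ω)⁻¹, hu⟩ : ↥R) = t u := Subtype.ext (L.tv u).symm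
    rw [h1, hit, L.tv]
  obtain ⟨β, hβ, hβv⟩ := extend_over_zpowers' hS hF hRS L.SN x.2 L.gen hiA x.2 hcomp
  obtain ⟨ι, hι, hιv⟩ := exists_aut_of_map hβ (fun a => hom_val F hβ a)
  have hιa : ∀ a : ↥R, ((ι ⟨a, hRS a.2⟩ : ↥S) : Ω) = i a := by
    intro a
    rw [hιv]
    exact hβv ⟨a, hRS a.2⟩ a.2
  have hcast : ∀ (u : ↥R) (l : ℕ), i u * (rR⁻¹) ^ l = u * rR ^ l → i u = u * rR ^ (2 * l) := by
    intro u l h
    have h1 : i u = (i u * (rR⁻¹) ^ l) * rR ^ l := by simp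
    rw [h1, h, two_mul, pow_add, mul_assoc]
  refine ⟨i, ι, hι, ⟨?_, ?_⟩, hιa, hit, hfix i hi, ?_, hdec, htv⟩
  · apply Subtype.ext
    have h1 := hιa rR
    rw [L.rS] at h1
    rw [h1, hir]
    simp [L.hrR]
  · intro u hu
    have hut := L.fix_of_central hu
    obtain ⟨l, hl⟩ := hlast _ hut
    have hk := hfix i hi (⟨u, L.cen u hu⟩ * rR ^ l) (by
      rw [map_mul, map_pow, hut, L.t_rR]) hl
    rw [map_mul, map_pow, hir, inv_pow] at hk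
    have hk' := hcast _ l (by rw [inv_pow]; exact hk)
    refine ⟨2 * l, ?_⟩
    apply Subtype.ext
    have h1 := hιa ⟨u, L.cen u hu⟩
    have h2 : (⟨((⟨u, L.cen u hu⟩ : ↥R) : Ω), hRS (L.cen u hu)⟩ : ↥S) = u := Subtype.ext rfl
    rw [h2] at h1
    rw [h1, hk']
    simp [L.hrR]
  · intro hp u hu hiu
    obtain ⟨l, hl⟩ := hlast u hu
    have hk := hfix i hi (u * rR ^ l) (by
      rw [map_mul, map_pow, hu, L.t_rR]) hl
    rw [map_mul, map_pow, hir, hiu] at hk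
    have hk1 : rR ^ (2 * l) = 1 := by
      have h1 : (rR⁻¹) ^ l = rR ^ l := mul_left_cancel hk
      rw [two_mul, pow_add]
      nth_rewrite 1 [← h1]
      simp
    have hord : orderOf rR = p := orderOf_eq_prime L.rRp L.rR1
    have hd : p ∣ 2 * l := hord ▸ orderOf_dvd_of_pow_eq_one hk1
    have hd2 : p ∣ l := by
      rcases (Nat.Prime.dvd_mul hpp).1 hd with h3 | h3
      · exact absurd ((Nat.prime_dvd_prime_iff_eq hpp Nat.prime_two).1 h3) hp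
      · exact h3
    obtain ⟨m, rfl⟩ := hd2
    rw [pow_mul, L.rRp, one_pow, mul_one] at hl
    exact hl

end Loc

/-- Every automorphism moves fixed points of a good automorphism to fixed points. -/
theorem good_invariant (hS : IsPGroup p S) (hF : F.IsSaturated p) {Z : Subgroup ↥S} (h : ClTwo p ↥S Z) {a b : ↥S} (hab : ⁅a, b⁆ ≠ 1)
    {r : ↥S} (hrZ : r ∈ Z) (hr1 : r ≠ 1) {ι₀ : MulAut ↥S} (hι₀ : ι₀ ∈ F.autGroup S) (hg₀ : GoodAut r ι₀) {α : MulAut ↥S}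
    (hα : α ∈ F.autGroup S) {u : ↥S} (hu : u ∈ Subgroup.center ↥S) (hfix : ι₀ u = u) : ι₀ (α u) = α u := by
  have hg := hg₀.conj (h.exists_pow hab hrZ hr1 α) (h.exists_pow hab hrZ hr1 α⁻¹)
  have hrp : r ^ p = 1 := pow_eq_one_of_mem h.card hrZ
  refine GoodAut.fix hS hF hrp (h.le_center hrZ) hg hg₀ (Subgroup.mul_mem _ (Subgroup.mul_mem _ hα hι₀) (Subgroup.inv_mem _ hα)) hι₀ _ (center_map α hu) ?_
  simp [MulAut.mul_apply, hfix]

namespace Loc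

variable {R : Subgroup Ω} {x r : ↥S} {rR : ↥R} {t : MulAut ↥R}

/-- Invariance of the fixed points under the automizer of `R`. -/
theorem inv (hS : IsPGroup p S) (hF : F.IsSaturated p) (hp : p ≠ 2) {Z : Subgroup ↥S} (h : ClTwo p ↥S Z) {a b : ↥S} (hab : ⁅a, b⁆ ≠ 1)
    (hrZ : r ∈ Z) (L : Loc F p R x r rR t) {ι₀ : MulAut ↥S} (hι₀ : ι₀ ∈ F.autGroup S) (hg₀ : GoodAut r ι₀)
    {γ : MulAut ↥R} (hγ : γ ∈ F.autGroup R) {y : ↥R} (hyt : t y = y) (hy : ι₀ ⟨y, L.RS y.2⟩ = ⟨y, L.RS y.2⟩) :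
    t (γ y) = γ y ∧ ι₀ ⟨γ y, L.RS (γ y).2⟩ = ⟨γ y, L.RS (γ y).2⟩ := by
  classical
  have hRS := L.RS
  have hyc := L.central_of_fix hyt
  have hrp := L.rp
  have hfinish : ∀ α ∈ F.autGroup S, α ⟨y, hRS y.2⟩ = ⟨γ y, hRS (γ y).2⟩ →
      t (γ y) = γ y ∧ ι₀ ⟨γ y, L.RS (γ y).2⟩ = ⟨γ y, L.RS (γ y).2⟩ := by
    intro α hα he
    have h1 := center_map α hyc
    rw [he] at h1
    refine ⟨?_, ?_⟩
    · exact L.fix_of_central h1
    · rw [← he]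
      exact good_invariant hS hF h hab hrZ L.r1 hι₀ hg₀ hα hyc hy
  by_cases h1 : IsPGroup p ↥(Subgroup.closure {t, γ * t * γ⁻¹})
  · obtain ⟨γ', hγ', hv⟩ := L.ext_of_pgroup hS hF hγ h1
    exact hfinish γ' hγ' (Subtype.ext (hv y))
  by_cases h2 : IsPGroup p ↥(Subgroup.closure {t, γ⁻¹ * t * γ⁻¹⁻¹})
  · obtain ⟨γ', hγ', hv⟩ := L.ext_of_pgroup hS hF (Subgroup.inv_mem _ hγ) h2
    refine hfinish γ'⁻¹ (Subgroup.inv_mem _ hγ') ?_
    apply γ'.injective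
    have h3 : γ' (γ'⁻¹ ⟨y, hRS y.2⟩) = ⟨y, hRS y.2⟩ := by simp
    rw [h3]
    apply Subtype.ext
    have h4 := hv (γ y)
    simp only [MulAut.inv_apply_self] at h4
    rw [h4]
  obtain ⟨i₁, ι₁, hι₁, hg₁, hv₁, -, hfix₁, -, -, -⟩ := L.exists_triple hS hF hγ h1
  obtain ⟨i₂, ι₂, hι₂, hg₂, hv₂, -, -, hb₂, -, -⟩ := L.exists_triple hS hF (Subgroup.inv_mem _ hγ) h2
  have hfix₂ := GoodAut.fix hS hF hrp L.rc hg₀ hg₂ hι₀ hι₂ _ hyc hy
  have hi₂ : i₂ y = y := by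
    apply Subtype.ext
    rw [← hv₂, hfix₂]
  have hs₂ := hb₂ hp y hyt hi₂
  have h3 : t (γ y) = γ y := by
    simp only [MulAut.mul_apply, inv_inv] at hs₂
    have := congrArg γ hs₂
    simpa using this
  refine ⟨h3, ?_⟩
  have hi₁ : i₁ (γ y) = γ y := hfix₁ _ h3 (by simp [MulAut.mul_apply, hyt])
  have hι₁y : ι₁ ⟨γ y, hRS (γ y).2⟩ = ⟨γ y, hRS (γ y).2⟩ := by
    apply Subtype.ext
    rw [hv₁, hi₁]
  exact GoodAut.fix hS hF hrp L.rc hg₁ hg₀ hι₁ hι₀ _ (L.central_of_fix h3) hι₁y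

end Loc

end Fusion

end Cfsg.Agent.Lib.Fusion
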