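import Cfsg.Agent.Lib.Fusion.SmallCenter3
import Mathlib

/-!
# Groups whose centre has index `p²`: the case of odd `p`
-/

set_option autoImplicit false

namespace Cfsg.Agent.Lib.Fusion

open Cfsg Cfsg.FusionSystem
open scoped commutatorElement

section Fusion

variable {Ω : Type*} [Group Ω] {S : Subgroup Ω} [Finite S] {F : FusionSystem S} {p : ℕ} [Fact p.Prime]

namespace Loc

variable {R : Subgroup Ω} {x r : ↥S} {rR : ↥R} {t : MulAut ↥R}

/-- By Baer–Suzuki, `t` and one of its conjugates do not generate a `p`-group. -/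
theorem exists_non_p (hS : IsPGroup p S) (L : Loc F p R x r rR t) (hes : F.IsEssential p R) :
    ∃ γ ∈ F.autGroup R, ¬ IsPGroup p ↥(Subgroup.closure {t, γ * t * γ⁻¹}) := by
  classical
  by_contra hno
  push Not at hno
  have hRS := L.RS
  have : Finite ↥(F.autGroup R) := finite_autGroup F hRS
  obtain ⟨X, hX⟩ : ∃ X : Subgroup ↥(F.autGroup R), X = Subgroup.zpowers (⟨t, L.mem⟩ : ↥(F.autGroup R)) := ⟨_, rfl⟩
  have hle : ∀ g : ↥(F.autGroup R), X ⊔ X.map (MulAut.conj g).toMonoidHom ≤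
      (Subgroup.closure {t, (g : MulAut ↥R) * t * (g : MulAut ↥R)⁻¹}).subgroupOf (F.autGroup R) := by
    intro g
    refine sup_le ?_ ?_
    · rw [hX, Subgroup.zpowers_le, Subgroup.mem_subgroupOf]
      exact Subgroup.subset_closure (by simp)
    · rw [hX, MonoidHom.map_zpowers, Subgroup.zpowers_le, Subgroup.mem_subgroupOf]
      exact Subgroup.subset_closure (by simp)
  have hpg : ∀ g : ↥(F.autGroup R), IsPGroup p ↥((Subgroup.closure {t, (g : MulAut ↥R) * t * (g : MulAut ↥R)⁻¹}).subgroupOf (F.autGroup R)) := by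
    intro g
    have hle' : Subgroup.closure {t, (g : MulAut ↥R) * t * (g : MulAut ↥R)⁻¹} ≤ F.autGroup R := by
      rw [Subgroup.closure_le]
      rintro a (rfl | ha)
      · exact L.mem
      · rw [Set.mem_singleton_iff] at ha
        subst ha
        exact Subgroup.mul_mem _ (Subgroup.mul_mem _ g.2 L.mem) (Subgroup.inv_mem _ g.2)
    exact (hno _ g.2).of_injective (Subgroup.subgroupOfEquivOfLe hle').toMonoidHom (MulEquiv.injective _)
  have hXp : IsPGroup p X := (hpg 1).to_le (le_sup_left.trans (hle 1))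
  obtain ⟨N, hNn, hNp, hXN⟩ := Cfsg.Agent.S0199.result X hXp fun g => (hpg g).to_le (hle g)
  have hNO : N ≤ pCore p ↥(F.autGroup R) := Lib.Core.le_pCore hNn hNp
  have htO : (⟨t, L.mem⟩ : ↥(F.autGroup R)) ∈ pCore p ↥(F.autGroup R) := hNO (hXN (hX ▸ Subgroup.mem_zpowers _))
  have hrad := isRadical_of_essential hS hes
  have htI : t ∈ Inn R := by
    rw [← hrad.2]
    exact ⟨_, htO, rfl⟩
  obtain ⟨a, rfl⟩ := htI
  obtain ⟨b, hb⟩ := L.ne
  apply hb
  show a * b * a⁻¹ = b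
  rw [L.comm a b]
  simp

end Loc

/-- A saturated system with trivial core over a nontrivial group has an essential proper subgroup. -/
theorem exists_essential_ne (hS : IsPGroup p S) (hF : F.IsSaturated p) (hcore : F.core = ⊥) (hS1 : S ≠ ⊥) :
    ∃ R, F.IsEssential p R ∧ R ≠ S := by
  by_contra hno
  push Not at hno
  have hn : F.IsNormal S := isNormal_of_autGroup hS hF (Subgroup.le_normalizer) le_rfl (fun P hP => by
    have hPS : P = S := hP.elim id (hno P)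
    subst hPS
    refine ⟨le_rfl, fun α _ => ?_⟩
    rw [Subgroup.subgroupOf_self]
    exact Subgroup.map_top_of_surjective _ α.surjective)
  have h1 : S ≤ F.core := le_sSup hn
  rw [hcore] at h1
  exact hS1 (le_bot_iff.1 h1)

theorem map_eq_of_forall {P Q : Subgroup Ω} (A : Subgroup (MulAut ↥P)) {α : MulAut ↥P} (hα : α ∈ A)
    (h : ∀ β ∈ A, ∀ a : ↥P, (a : Ω) ∈ Q → ((β a : ↥P) : Ω) ∈ Q) :
    (Q.subgroupOf P).map α.toMonoidHom = Q.subgroupOf P := by
  apply le_antisymm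
  · rintro _ ⟨a, ha, rfl⟩
    exact h α hα a ha
  · intro a ha
    exact ⟨α⁻¹ a, h α⁻¹ (A.inv_mem hα) a ha, by simp⟩

/-- The main theorem for odd primes. -/
theorem odd_main (hS : IsPGroup p S) (hF : F.IsSaturated p) (hp : p ≠ 2) {Z : Subgroup ↥S} (h : ClTwo p ↥S Z) (hcore : F.core = ⊥) :
    IsExtraspecial p ↥S ∧ Nat.card S = p ^ 3 ∧ Monoid.exponent ↥S = p := by
  classical
  have hpp : p.Prime := Fact.out
  obtain ⟨r, hrZ, hr1⟩ : ∃ r ∈ Z, r ≠ 1 := by
    by_contra hno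
    push Not at hno
    have hbot : Z = ⊥ := (Subgroup.eq_bot_iff_forall _).2 hno
    have h1 := h.card
    rw [hbot, Subgroup.card_bot] at h1
    exact hpp.one_lt.ne h1
  have hS1 : S ≠ ⊥ := by
    intro hb
    apply hr1
    apply Subtype.ext
    have h2 : (r : Ω) ∈ (⊥ : Subgroup Ω) := hb.le r.2
    exact Subgroup.mem_bot.1 h2
  obtain ⟨R, hRe, hRS⟩ := exists_essential_ne hS hF hcore hS1
  obtain ⟨x, rR, t, L⟩ := exists_loc h hRe.1 hRS hrZ hr1
  obtain ⟨γ, hγ, hnp⟩ := L.exists_non_p hS hRe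
  obtain ⟨i, ι₀, hι₀, hg₀, hv₀, hit, hfix, -, hdec, htv⟩ := L.exists_triple hS hF hγ hnp
  have hRSle := L.RS
  have hvp : (γ rR) ^ p = 1 := by rw [← map_pow, L.rRp, map_one]
  obtain ⟨vS, hvS⟩ : ∃ vS : ↥S, vS = ⟨γ rR, hRSle (γ rR).2⟩ := ⟨_, rfl⟩
  have hvSp : vS ^ p = 1 := by
    rw [hvS]
    apply Subtype.ext
    simpa using congrArg (fun w : ↥R => (w : Ω)) hvp
  have hxv : ⁅x, vS⁆ ≠ 1 := by
    intro h1
    apply htv
    apply Subtype.ext
    rw [L.tv]
    have h2 : (x : Ω) * vS = vS * x := congrArg (fun w : ↥S => (w : Ω)) (commutatorElement_eq_one_iff_mul_comm.1 h1)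
    rw [hvS] at h2
    show (x : Ω) * (γ rR : ↥R) * (x : Ω)⁻¹ = (γ rR : ↥R)
    rw [show (x : Ω) * (γ rR : ↥R) = _ from h2]
    simp
  -- the fixed points of `ι₀` form a normal subgroup
  obtain ⟨Y, hY⟩ : ∃ Y : Subgroup Ω, Y = ((Subgroup.center ↥S) ⊓ MonoidHom.eqLocus ι₀.toMonoidHom (MonoidHom.id _)).map S.subtype := ⟨_, rfl⟩
  have hYmem : ∀ a : ↥S, (a : Ω) ∈ Y ↔ a ∈ Subgroup.center ↥S ∧ ι₀ a = a := by
    intro a
    rw [hY]
    constructor
    · rintro ⟨b, hb, hba⟩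
      have : b = a := Subtype.ext hba
      subst this
      exact hb
    · intro ha
      exact ⟨a, ha, rfl⟩
  have hYS : Y ≤ S := by
    rw [hY]
    exact Subgroup.map_subtype_le _
  have hYn : F.IsNormal Y := by
    refine isNormal_of_autGroup hS hF ?_ hYS ?_
    · intro g hg
      have : Finite ↥Y := finite_of_le hYS
      refine mem_normalizer_of_forall fun a ha => ?_
      have h1 := ((hYmem ⟨a, hYS ha⟩).1 ha).1
      have h2 := Subgroup.mem_center_iff.1 h1 ⟨g, hg⟩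
      have h3 : g * a = a * g := congrArg (fun w : ↥S => (w : Ω)) h2
      rw [h3]
      simpa using ha
    · intro P hP
      by_cases hPS : P = S
      · subst hPS
        refine ⟨hYS, fun α hα => map_eq_of_forall _ hα fun β hβ a ha => ?_⟩
        obtain ⟨h1, h2⟩ := (hYmem a).1 ha
        refine (hYmem _).2 ⟨center_map β h1, ?_⟩
        exact good_invariant hS hF h hxv hrZ hr1 hι₀ hg₀ hβ h1 h2
      · obtain ⟨x', rR', t', L'⟩ := exists_loc h (hP.resolve_left hPS).1 hPS hrZ hr1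
        refine ⟨fun a ha => L'.cen ⟨a, hYS ha⟩ ((hYmem _).1 ha).1, fun α hα => map_eq_of_forall _ hα fun β hβ a ha => ?_⟩
        have h0 := (hYmem ⟨a, L'.RS a.2⟩).1 ha
        obtain ⟨h1, h2⟩ := L'.inv hS hF hp h hxv hrZ hι₀ hg₀ hβ (L'.fix_of_central h0.1) h0.2
        exact (hYmem ⟨_, L'.RS (β a).2⟩).2 ⟨L'.central_of_fix h1, h2⟩
  have hK : ∀ u ∈ Subgroup.center ↥S, ι₀ u = u → u = 1 := by
    intro u hu hiu
    have h1 : (u : Ω) ∈ F.core := (le_sSup hYn : Y ≤ F.core) ((hYmem u).2 ⟨hu, hiu⟩)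
    rw [hcore] at h1
    exact Subtype.ext (Subgroup.mem_bot.1 h1)
  have hR0 : ∀ k : ↥R, t k = k → (γ * t * γ⁻¹) k = k → k = 1 := by
    intro k h1 h2
    have h3 := hK _ (L.central_of_fix h1) (Subtype.ext (by rw [hv₀, hfix k h1 h2]))
    exact Subtype.ext (congrArg (fun w : ↥S => (w : Ω)) h3)
  have hform : ∀ u : ↥R, ∃ l m : ℕ, u = (rR ^ l * (γ rR) ^ m)⁻¹ := by
    intro u
    obtain ⟨l, m, h1, h2⟩ := hdec u
    refine ⟨l, m, ?_⟩
    have h3 := hR0 _ h1 h2
    rw [mul_assoc] at h3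
    exact eq_inv_of_mul_eq_one_left h3
  have hpowR : ∀ u : ↥R, u ^ p = 1 := by
    intro u
    obtain ⟨l, m, rfl⟩ := hform u
    have hc : Commute (rR ^ l) ((γ rR) ^ m) := L.comm _ _
    rw [inv_pow, hc.mul_pow, pow_right_comm, L.rRp, one_pow, one_mul, pow_right_comm, hvp, one_pow, inv_one]
  -- `x` has order `p`
  have hb : (x⁻¹ * ι₀ x : ↥S) ∈ R.subgroupOf S := by
    rw [Subgroup.mem_subgroupOf]
    apply IsCentric.centralizer_le L.cent
    refine mem_centralizerIn.2 ⟨(x⁻¹ * ι₀ x : ↥S).2, fun a ha => ?_⟩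
    obtain ⟨a', ha'⟩ : ∃ a' : ↥R, i a' = ⟨a, ha⟩ := i.surjective _
    have h1 : ι₀ (x * ⟨a', hRSle a'.2⟩ * x⁻¹) = x * ⟨a, hRSle ha⟩ * x⁻¹ := by
      apply Subtype.ext
      have h2 : x * ⟨a', hRSle a'.2⟩ * x⁻¹ = (⟨t a', hRSle (t a').2⟩ : ↥S) := Subtype.ext (L.tv a').symm
      rw [h2, hv₀, hit, ha', L.tv]
      rfl
    have h3 : ι₀ ⟨a', hRSle a'.2⟩ = ⟨a, hRSle ha⟩ := by
      apply Subtype.ext
      rw [hv₀, ha']
    rw [map_mul, map_mul, map_inv, h3] at h1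
    have h4 : ι₀ x * ⟨a, hRSle ha⟩ * (ι₀ x)⁻¹ = x * ⟨a, hRSle ha⟩ * x⁻¹ := h1
    have h5 : ⟨a, hRSle ha⟩ * (x⁻¹ * ι₀ x) = (x⁻¹ * ι₀ x) * ⟨a, hRSle ha⟩ := by
      calc (⟨a, hRSle ha⟩ : ↥S) * (x⁻¹ * ι₀ x) = x⁻¹ * (x * ⟨a, hRSle ha⟩ * x⁻¹) * ι₀ x := by group
        _ = x⁻¹ * (ι₀ x * ⟨a, hRSle ha⟩ * (ι₀ x)⁻¹) * ι₀ x := by rw [h4]
        _ = _ := by group
    exact congrArg (fun w : ↥S => (w : Ω)) h5
  have hbp : (x⁻¹ * ι₀ x : ↥S) ^ p = 1 := by
    have h1 := hpowR ⟨_, hb⟩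
    apply Subtype.ext
    simpa using congrArg (fun w : ↥R => (w : Ω)) h1
  have hxp : x ^ p = 1 := by
    apply hK
    · rw [Subgroup.mem_center_iff]
      intro g
      have h1 : ⁅x ^ p, g⁆ = 1 := by
        rw [comm_pow_left' h.cen h.comm]
        exact pow_eq_one_of_mem h.card (h.comm x g)
      exact (commutatorElement_eq_one_iff_mul_comm.1 h1).symm
    · have h1 : ι₀ x = x * (x⁻¹ * ι₀ x) := by group
      rw [map_pow, h1, pow_mul_odd hp h.card h.cen h.comm, hbp, mul_one]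
  -- generation
  have htop : Subgroup.closure {x, vS} = ⊤ := by
    rw [eq_top_iff]
    intro g _
    have hx' : x ∈ Subgroup.closure {x, vS} := Subgroup.subset_closure (by simp)
    have hv' : vS ∈ Subgroup.closure {x, vS} := Subgroup.subset_closure (by simp)
    obtain ⟨k, j, c, hc, rfl⟩ := h.gen x vS hxv g
    refine Subgroup.mul_mem _ (Subgroup.mul_mem _ (Subgroup.pow_mem _ hx' _) (Subgroup.pow_mem _ hv' _)) ?_
    obtain ⟨l, m, hlm⟩ := hform ⟨c, L.cen c hc⟩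
    obtain ⟨e, he⟩ := mem_pow_of_comm h.card h.cen h.comm hxv r hrZ
    have hcS : c = (r ^ l * vS ^ m)⁻¹ := by
      apply Subtype.ext
      have h1 := congrArg (fun w : ↥R => (w : Ω)) hlm
      simp only [Subgroup.coe_inv, Subgroup.coe_mul, Subgroup.coe_pow, L.hrR] at h1
      rw [hvS]
      simpa using h1
    rw [hcS, he]
    refine Subgroup.inv_mem _ (Subgroup.mul_mem _ (Subgroup.pow_mem _ (Subgroup.pow_mem _ ?_ _) _) (Subgroup.pow_mem _ hv' _))
    rw [commutatorElement_def]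
    exact Subgroup.mul_mem _ (Subgroup.mul_mem _ (Subgroup.mul_mem _ hx' hv') (Subgroup.inv_mem _ hx')) (Subgroup.inv_mem _ hv')
  have hES := isExtraspecial_closure h.card h.cen h.comm hxp hvSp hxv
  have hcd := card_closure h.card h.cen h.comm hxp hvSp hxv
  have hpw := closure_pow_eq_one_odd hp h.card h.cen h.comm hxp hvSp
  rw [htop] at hES hcd hpw
  refine ⟨Lib.PGroup.isExtraspecial_of_equiv Subgroup.topEquiv hES, ?_, ?_⟩
  · rw [Subgroup.card_top] at hcd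
    exact hcd
  · exact exponent_eq_of_pow (fun a => hpw a (Subgroup.mem_top a)) hr1

end Fusion

end Cfsg.Agent.Lib.Fusion
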