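import Cfsg.Agent.Lib.Fusion.SmallCenter4
import Cfsg.Agent.S5233
import Cfsg.Agent.Lib.PGroup.Basic
import Cfsg.Agent.Lib.PGroup.Heisenberg
import Cfsg.Agent.Lib.Amalgam.ResOf
import Cfsg.Agent.Lib.Transfer.Frat
import Mathlib

/-!
# Extraspecial subgroups of index `p` in a saturated fusion system
-/

set_option autoImplicit false

namespace Cfsg.Agent.Lib.Fusion

open Cfsg Cfsg.FusionSystem
open scoped commutatorElement

section Abstract

variable {p : ℕ} [Fact p.Prime] {T : Type*} [Group T] [Finite T]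

/-- The centre of a normal subgroup with centre of order `p` is central. -/
theorem center_central_of_normal (hT : IsPGroup p T) {D : Subgroup T} (hDn : D.Normal) (hcZ : Nat.card (Subgroup.center ↥D) = p)
    {a : ↥D} (ha : a ∈ Subgroup.center ↥D) : (a : T) ∈ Subgroup.center T := by
  classical
  have hpp : p.Prime := Fact.out
  haveI : Group.IsNilpotent T := hT.isNilpotent
  obtain ⟨W, hW⟩ : ∃ W : Subgroup T, W = (Subgroup.center ↥D).map D.subtype := ⟨_, rfl⟩
  have hWn : W.Normal := ⟨by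
    rw [hW]
    rintro _ ⟨b, hb, rfl⟩ g
    refine ⟨⟨g * b * g⁻¹, hDn.conj_mem _ b.2 g⟩, Subgroup.mem_center_iff.2 fun d => ?_, rfl⟩
    apply Subtype.ext
    have h1 := Subgroup.mem_center_iff.1 hb ⟨g⁻¹ * d * g, by simpa using hDn.conj_mem _ d.2 g⁻¹⟩
    have h2 : (g⁻¹ * d * g) * (b : T) = b * (g⁻¹ * d * g) := congrArg (fun w : ↥D => (w : T)) h1
    show (d : T) * (g * b * g⁻¹) = (g * b * g⁻¹) * d
    calc (d : T) * (g * b * g⁻¹) = g * ((g⁻¹ * d * g) * (b : T)) * g⁻¹ := by group
      _ = g * (b * (g⁻¹ * d * g)) * g⁻¹ := by rw [h2]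
      _ = _ := by group⟩
  have hWc : Nat.card W = p := by
    rw [hW, ← hcZ]
    exact Nat.card_congr (Subgroup.equivMapOfInjective _ _ D.subtype_injective).symm.toEquiv
  have hWne : W ≠ ⊥ := by
    intro h
    rw [h, Subgroup.card_bot] at hWc
    exact hpp.one_lt.ne hWc
  obtain ⟨⟨c, hcW, hcC⟩, hcne⟩ := (Subgroup.ne_bot_iff_exists_ne_one).1 (Cfsg.Agent.Lib.Core.normal_inf_center_ne_bot W hWne)
  have hcne' : c ≠ 1 := fun h => hcne (Subtype.ext h)
  have haW : (a : T) ∈ W := by
    rw [hW]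
    exact ⟨a, ha, rfl⟩
  obtain ⟨k, hk⟩ := exists_pow_of_card_prime hWc hcW hcne' haW
  rw [hk]
  exact Subgroup.pow_mem _ hcC k

omit [Finite T] in
theorem comm_mul_central_left {c : T} (hc : c ∈ Subgroup.center T) (a y : T) : ⁅a * c, y⁆ = ⁅a, y⁆ := by
  have h1 : c * y = y * c := (Subgroup.mem_center_iff.1 hc y).symm
  simp only [commutatorElement_def]
  calc a * c * y * (a * c)⁻¹ * y⁻¹ = a * (c * y) * c⁻¹ * a⁻¹ * y⁻¹ := by group
    _ = a * y * a⁻¹ * y⁻¹ := by rw [h1]; group

omit [Finite T] in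
theorem comm_mul_central_right {c : T} (hc : c ∈ Subgroup.center T) (a y : T) : ⁅a, y * c⁆ = ⁅a, y⁆ := by
  rw [comm_symm' a (y * c), comm_mul_central_left hc, ← comm_symm']

end Abstract

section Fusion

variable {Ω : Type*} [Group Ω] {S : Subgroup Ω} [Finite S] {F : FusionSystem S} {p : ℕ} [Fact p.Prime]

/-- In a reduced system, an extraspecial subgroup of index `p` contains the centre. -/
theorem no_central_outside (hS : IsPGroup p S) (hF : F.IsSaturated p) (hp : p ≠ 2) (hO : F.core = ⊥) {D : Subgroup ↥S} (hD : IsExtraspecial p ↥D)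
    (hi : D.index = p) {c : ↥S} (hc : c ∈ Subgroup.center ↥S) (hcD : c ∉ D) : False := by
  classical
  have hpp : p.Prime := Fact.out
  haveI hDn : D.Normal := Lib.PGroup.normal_of_index_eq_prime hS hi
  obtain ⟨⟨hDp, hfr, hcm⟩, hcZ⟩ := hD
  have hcen : ∀ a : ↥D, a ∈ Subgroup.center ↥D → (a : ↥S) ∈ Subgroup.center ↥S := fun a ha =>
    center_central_of_normal hS hDn hcZ ha
  have hQc : Nat.card (↥S ⧸ D) = p := hi
  have hcne : (c : ↥S ⧸ D) ≠ 1 := fun h => hcD ((QuotientGroup.eq_one_iff c).1 h)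
  have hcov : ∀ g : ↥S, ∃ k : ℕ, g * (c ^ k)⁻¹ ∈ D := by
    intro g
    obtain ⟨k, hk⟩ := (Submonoid.mem_powers_iff _ _).1 (mem_powers_of_prime_card hQc hcne (g' := (g : ↥S ⧸ D)))
    refine ⟨k, ?_⟩
    rw [← QuotientGroup.eq_one_iff]
    simp only [QuotientGroup.mk_mul, QuotientGroup.mk_inv, QuotientGroup.mk_pow]
    rw [← hk]
    simp
  obtain ⟨Zd, hZd⟩ : ∃ Zd : Subgroup ↥S, Zd = (Subgroup.center ↥D).map D.subtype := ⟨_, rfl⟩
  have hZdmem : ∀ a : ↥D, a ∈ Subgroup.center ↥D → (a : ↥S) ∈ Zd := fun a ha => hZd ▸ ⟨a, ha, rfl⟩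
  have hcomm : ∀ a b : ↥S, ⁅a, b⁆ ∈ Zd := by
    intro a b
    obtain ⟨k, hk⟩ := hcov a
    obtain ⟨l, hl⟩ := hcov b
    have hck : c ^ k ∈ Subgroup.center ↥S := Subgroup.pow_mem _ hc k
    have hcl : c ^ l ∈ Subgroup.center ↥S := Subgroup.pow_mem _ hc l
    have ha : a = (a * (c ^ k)⁻¹) * c ^ k := by simp
    have hb : b = (b * (c ^ l)⁻¹) * c ^ l := by simp
    rw [ha, hb, comm_mul_central_left hck, comm_mul_central_right hcl]
    have h1 : ⁅(⟨_, hk⟩ : ↥D), (⟨_, hl⟩ : ↥D)⁆ ∈ Subgroup.center ↥D := by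
      rw [← hcm]
      exact Subgroup.commutator_mem_commutator (Subgroup.mem_top _) (Subgroup.mem_top _)
    exact hZdmem _ h1
  have hZeq : commutator ↥S = Zd := by
    apply le_antisymm
    · rw [commutator_def, Subgroup.commutator_le]
      intro a _ b _
      exact hcomm a b
    · rw [hZd, ← hcm, Subgroup.map_subtype_commutator]
      exact Subgroup.commutator_mono le_top le_top
  have hZc : Nat.card ↥Zd = p := by
    rw [hZd, ← hcZ]
    exact Nat.card_congr (Subgroup.equivMapOfInjective _ _ D.subtype_injective).symm.toEquiv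
  have hcp : c ^ p ∈ Zd := by
    have h1 : c ^ p ∈ D := by
      rw [← QuotientGroup.eq_one_iff]
      have : (c : ↥S ⧸ D) ^ Nat.card (↥S ⧸ D) = 1 := pow_card_eq_one'
      rw [hQc] at this
      exact this
    refine hZdmem ⟨_, h1⟩ ?_
    rw [Subgroup.mem_center_iff]
    intro d
    apply Subtype.ext
    exact Subgroup.mem_center_iff.1 (Subgroup.pow_mem _ hc p) (d : ↥S)
  have hpow : ∀ a : ↥S, a ^ p ∈ Zd := by
    intro a
    obtain ⟨k, hk⟩ := hcov a
    have hck : c ^ k ∈ Subgroup.center ↥S := Subgroup.pow_mem _ hc k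
    have ha : a = (a * (c ^ k)⁻¹) * c ^ k := by simp
    have hcomm1 : Commute (a * (c ^ k)⁻¹) (c ^ k) := Subgroup.mem_center_iff.1 hck _
    have h2 : (⟨_, hk⟩ : ↥D) ^ p ∈ Subgroup.center ↥D := by
      rw [← hfr]
      exact Lib.Transfer.pow_mem_frattini hDp _
    have h3 : (a * (c ^ k)⁻¹) ^ p ∈ Zd := by
      simpa using hZdmem _ h2
    rw [ha, hcomm1.mul_pow, pow_right_comm]
    exact Zd.mul_mem h3 (Zd.pow_mem hcp k)
  have hfrS : frattini ↥S = commutator ↥S := by
    apply le_antisymm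
    · refine Lib.Amalgam.frattini_le_of_elementary_quotient (p := p) _ (fun a b => ?_) (fun a => ?_)
      · exact Subgroup.commutator_mem_commutator (Subgroup.mem_top a) (Subgroup.mem_top b)
      · rw [hZeq]
        exact hpow a
    · exact Lib.Transfer.commutator_le_frattini hS
  have hge : frattini ↥S = commutator ↥S ∧ Nat.card ↥(commutator ↥S) = p := ⟨hfrS, by rw [hZeq, hZc]⟩
  have hne : ¬ ∀ a b : ↥S, a * b = b * a := by
    intro hab
    have h1 : commutator ↥S = ⊥ := by
      rw [commutator_def, Subgroup.commutator_eq_bot_iff_le_centralizer]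
      intro a _
      exact Subgroup.mem_centralizer_iff.2 fun b _ => hab b a
    rw [h1, Subgroup.card_bot] at hge
    exact hpp.one_lt.ne hge.2
  by_cases hidx : (Subgroup.center ↥S).index ≤ p ^ 2
  · have h := clTwo_of_index hS hne hidx
    obtain ⟨-, hcard, -⟩ := odd_main hS hF hp h hO
    have h1 : p * Nat.card ↥D = p ^ 3 := by
      rw [← hcard, ← hi]
      exact D.index_mul_card
    have h2 : Nat.card ↥D = p ^ 2 := by
      apply Nat.eq_of_mul_eq_mul_left hpp.pos
      rw [h1]
      ring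
    have h3 := IsPGroup.commutative_of_card_eq_prime_sq h2
    have h4 : commutator ↥D = ⊥ := by
      rw [commutator_def, Subgroup.commutator_eq_bot_iff_le_centralizer]
      intro a _
      exact Subgroup.mem_centralizer_iff.2 fun b _ => h3 b a
    rw [h4] at hcm
    rw [← hcm, Subgroup.card_bot] at hcZ
    exact hpp.one_lt.ne hcZ
  · have hn : F.IsNormal S := Cfsg.Agent.S5233.result p hS F hF S ⟨le_rfl, fun R _ φ hφ a => hom_val F hφ a⟩ hge (fun h => absurd h hp) (by
      rintro - ⟨E, _, A, _, hE, hEc, -, -, ⟨φ⟩⟩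
      apply hidx
      have hEf : Finite E := Nat.finite_of_card_ne_zero (by rw [hEc]; exact (pow_pos hpp.pos 3).ne')
      have h1 : (Subgroup.center ↥S).map (φ : ↥S →* E × A) = Subgroup.center (E × A) := by
        ext b
        constructor
        · rintro ⟨a, ha, rfl⟩
          refine Subgroup.mem_center_iff.2 fun g => ?_
          obtain ⟨g', rfl⟩ := φ.surjective g
          have := Subgroup.mem_center_iff.1 ha g'
          show φ g' * φ a = φ a * φ g'
          rw [← map_mul, ← map_mul, this]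
        · intro hb
          obtain ⟨a, rfl⟩ := φ.surjective b
          refine ⟨a, Subgroup.mem_center_iff.2 fun g => ?_, rfl⟩
          apply φ.injective
          rw [map_mul, map_mul]
          exact Subgroup.mem_center_iff.1 hb _
      have h2 : (Subgroup.center ↥S).index = (Subgroup.center (E × A)).index := by
        rw [← h1]
        exact (Subgroup.index_map_equiv _ φ).symm
      have h3 : (Subgroup.center A) = ⊤ := by
        rw [eq_top_iff]
        intro a _
        exact Subgroup.mem_center_iff.2 fun g => mul_comm g a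
      rw [h2, Subgroup.center_prod, Subgroup.index_prod, h3, Subgroup.index_top, mul_one]
      have h4 := (Subgroup.center E).index_mul_card
      rw [hE.2, hEc] at h4
      have h5 : (Subgroup.center E).index = p ^ 2 := by
        apply Nat.eq_of_mul_eq_mul_right hpp.pos
        rw [h4]
        ring
      exact h5.le)
    have h1 : S ≤ F.core := le_sSup hn
    rw [hO] at h1
    apply hcD
    have h2 : c = 1 := Subtype.ext (Subgroup.mem_bot.1 (h1 c.2))
    rw [h2]
    exact D.one_mem

end Fusion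

end Cfsg.Agent.Lib.Fusion
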