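import Cfsg.Agent.Lib.Fusion.SmallCenter5
import Mathlib

/-!
# Groups whose centre has index `4`: the local structure at a proper centric subgroup
-/

set_option autoImplicit false

namespace Cfsg.Agent.Lib.Fusion

open Cfsg Cfsg.FusionSystem
open scoped commutatorElement

section Two

variable {Ω : Type*} [Group Ω] {S : Subgroup Ω} [Finite S] {F : FusionSystem S}
  {R : Subgroup Ω} {x r : ↥S} {rR : ↥R} {t : MulAut ↥R}

theorem pow_two_cases {G : Type*} [Group G] {w : G} (hw : w ^ 2 = 1) (c : ℕ) : w ^ c = 1 ∨ w ^ c = w := by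
  induction c with
  | zero => exact Or.inl (pow_zero w)
  | succ c ih =>
    rcases ih with h | h
    · right
      rw [pow_succ, h, one_mul]
    · left
      rw [pow_succ, h, ← pow_two, hw]

namespace Loc

theorem t_t (L : Loc F 2 R x r rR t) (u : ↥R) : t (t u) = u := by
  obtain ⟨c, hc⟩ := L.tu u
  rw [hc, map_mul, hc, map_pow, L.t_rR, mul_assoc, ← pow_add, ← two_mul, pow_mul, L.rRp, one_pow, mul_one]

theorem tt (L : Loc F 2 R x r rR t) : t * t = 1 := MulEquiv.ext fun u => L.t_t u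

theorem t_inv (L : Loc F 2 R x r rR t) : t⁻¹ = t := inv_eq_of_mul_eq_one_left L.tt

theorem t_ne_one (L : Loc F 2 R x r rR t) : t ≠ 1 := by
  rintro rfl
  obtain ⟨a, ha⟩ := L.ne
  exact ha rfl

theorem t_pow_cases (L : Loc F 2 R x r rR t) (n : ℕ) : t ^ n = 1 ∨ t ^ n = t :=
  pow_two_cases (by rw [pow_two, L.tt]) n

/-- The only non-trivial element of `Aut_S(R)` is `t`. -/
theorem eq_of_conj (L : Loc F 2 R x r rR t) {τ : MulAut ↥R} {g : ↥S} (hτ : ∀ a : ↥R, ((τ a : ↥R) : Ω) = (g : Ω) * a * (g : Ω)⁻¹) (hne : τ ≠ 1) :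
    τ = t := by
  obtain ⟨n, hn⟩ := L.cover g
  have hg : (g : Ω) * ((x : Ω) ^ n)⁻¹ ∈ R := by simpa using hn
  have h1 : τ = t ^ n := by
    apply MulEquiv.ext
    intro a
    apply Subtype.ext
    rw [hτ, L.t_pow]
    have h3 : (x : Ω) ^ n * a * ((x : Ω) ^ n)⁻¹ ∈ R := by
      rw [← L.t_pow]
      exact ((t ^ n) a).2
    have hu2 := L.comm ⟨_, hg⟩ ⟨_, h3⟩
    have hu3 : ((g : Ω) * ((x : Ω) ^ n)⁻¹) * ((x : Ω) ^ n * a * ((x : Ω) ^ n)⁻¹) = ((x : Ω) ^ n * a * ((x : Ω) ^ n)⁻¹) * ((g : Ω) * ((x : Ω) ^ n)⁻¹) :=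
      congrArg (fun w : ↥R => (w : Ω)) hu2
    have h2 : (g : Ω) * a * (g : Ω)⁻¹ = ((g : Ω) * ((x : Ω) ^ n)⁻¹) * ((x : Ω) ^ n * a * ((x : Ω) ^ n)⁻¹) * ((g : Ω) * ((x : Ω) ^ n)⁻¹)⁻¹ := by
      group
    rw [h2, hu3]
    group
  rcases L.t_pow_cases n with h2 | h2
  · exact absurd (h1.trans h2) hne
  · exact h1.trans h2

/-- A conjugate of `t` generating a `2`-group with `t` equals `t`. -/
theorem uniq (hS : IsPGroup 2 S) (hF : F.IsSaturated 2) (L : Loc F 2 R x r rR t) {γ : MulAut ↥R} (hγ : γ ∈ F.autGroup R)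
    (hpg : IsPGroup 2 ↥(Subgroup.closure {t, γ * t * γ⁻¹})) : γ * t * γ⁻¹ = t := by
  obtain ⟨γ', hγ', hv⟩ := L.ext_of_pgroup hS hF hγ hpg
  refine L.eq_of_conj (g := γ' x) (fun a => ?_) ?_
  · have h1 : (⟨t (γ⁻¹ a), L.RS (t (γ⁻¹ a)).2⟩ : ↥S) = x * ⟨γ⁻¹ a, L.RS (γ⁻¹ a).2⟩ * x⁻¹ := Subtype.ext (L.tv _)
    have h2 := hv (t (γ⁻¹ a))
    rw [h1, map_mul, map_mul, map_inv] at h2
    have h3 := hv (γ⁻¹ a)
    simp only [MulAut.apply_inv_self] at h3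
    show ((γ (t (γ⁻¹ a)) : ↥R) : Ω) = _
    rw [← h2]
    simp only [Subgroup.coe_mul, Subgroup.coe_inv, h3]
  · intro h
    apply L.t_ne_one
    have h1 : t = γ⁻¹ * (γ * t * γ⁻¹) * γ := by group
    rw [h1, h]
    group

theorem s_v (L : Loc F 2 R x r rR t) (γ : MulAut ↥R) : (γ * t * γ⁻¹) (γ rR) = γ rR := by
  simp [MulAut.mul_apply, L.t_rR]

theorem s_u (L : Loc F 2 R x r rR t) (γ : MulAut ↥R) (u : ↥R) : ∃ d : ℕ, (γ * t * γ⁻¹) u = u * (γ rR) ^ d := by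
  obtain ⟨c, hc⟩ := L.tu (γ⁻¹ u)
  refine ⟨c, ?_⟩
  simp only [MulAut.mul_apply]
  rw [hc]
  simp

theorem v_sq (L : Loc F 2 R x r rR t) (γ : MulAut ↥R) : (γ rR) ^ 2 = 1 := by
  rw [← map_pow, L.rRp, map_one]

theorem vv (L : Loc F 2 R x r rR t) (γ : MulAut ↥R) : γ rR * γ rR = 1 := by
  rw [← pow_two, L.v_sq]

theorem s_form (L : Loc F 2 R x r rR t) (γ : MulAut ↥R) (u : ↥R) : (γ * t * γ⁻¹) u = u ∨ (γ * t * γ⁻¹) u = u * γ rR := by
  obtain ⟨d, hd⟩ := L.s_u γ u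
  rcases pow_two_cases (L.v_sq γ) d with h | h
  · left
    rw [hd, h, mul_one]
  · right
    rw [hd, h]

theorem v_ne_one (L : Loc F 2 R x r rR t) (γ : MulAut ↥R) : γ rR ≠ 1 := by
  intro h
  apply L.rR1
  apply γ.injective
  rw [h, map_one]

theorem conj_ne_one (L : Loc F 2 R x r rR t) (γ : MulAut ↥R) : γ * t * γ⁻¹ ≠ 1 := by
  intro h
  apply L.t_ne_one
  have h1 : t = γ⁻¹ * (γ * t * γ⁻¹) * γ := by group
  rw [h1, h]
  group

variable (hS : IsPGroup 2 S) (hF : F.IsSaturated 2) (L : Loc F 2 R x r rR t)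
include hS hF L

theorem ne_fix {γ : MulAut ↥R} (hγ : γ ∈ F.autGroup R) (hne : γ * t * γ⁻¹ ≠ t) : t (γ rR) ≠ γ rR := by
  intro h
  apply hne
  apply L.uniq hS hF hγ
  have : Finite ↥R := finite_of_le L.RS
  have hsu := L.s_u γ
  exact isPGroup_closure_of_chain (L.isP hS) L.comm h L.t_rR L.tu (L.s_v γ) (hsu rR) hsu

theorem pair_ne {γ₁ γ₂ : MulAut ↥R} (h₁ : γ₁ ∈ F.autGroup R) (h₂ : γ₂ ∈ F.autGroup R) (hne : γ₁ * t * γ₁⁻¹ ≠ γ₂ * t * γ₂⁻¹) :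
    (γ₁ * t * γ₁⁻¹) (γ₂ rR) ≠ γ₂ rR := by
  have h3 := L.ne_fix hS hF (γ := γ₁⁻¹ * γ₂) (Subgroup.mul_mem _ (Subgroup.inv_mem _ h₁) h₂) (by
    intro h
    apply hne
    have h4 : γ₂ * t * γ₂⁻¹ = γ₁ * ((γ₁⁻¹ * γ₂) * t * (γ₁⁻¹ * γ₂)⁻¹) * γ₁⁻¹ := by group
    rw [h4, h])
  intro h5
  apply h3
  simp only [MulAut.mul_apply] at h5 ⊢
  apply γ₁.injective
  simpa using h5

theorem pair_form {γ₁ γ₂ : MulAut ↥R} (h₁ : γ₁ ∈ F.autGroup R) (h₂ : γ₂ ∈ F.autGroup R) (hne : γ₁ * t * γ₁⁻¹ ≠ γ₂ * t * γ₂⁻¹) :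
    (γ₁ * t * γ₁⁻¹) (γ₂ rR) = γ₂ rR * γ₁ rR :=
  (L.s_form γ₁ _).resolve_left (L.pair_ne hS hF h₁ h₂ hne)

omit hS hF in
theorem center_eq {γ₁ γ₂ : MulAut ↥R} (h : γ₁ * t * γ₁⁻¹ = γ₂ * t * γ₂⁻¹) : γ₁ rR = γ₂ rR := by
  obtain ⟨a, ha⟩ := L.ne
  have h1 : (γ₁ * t * γ₁⁻¹) (γ₁ a) ≠ γ₁ a := by
    simp only [MulAut.mul_apply, MulAut.inv_apply_self]
    exact fun h2 => ha (γ₁.injective h2)
  have h2 := (L.s_form γ₁ _).resolve_left h1
  have h3 := (L.s_form γ₂ (γ₁ a)).resolve_left (by rw [← h]; exact h1)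
  rw [← h, h2] at h3
  exact mul_left_cancel h3

/-- There are just three conjugates of `t`. -/
theorem three {γ₁ γ : MulAut ↥R} (h₁ : γ₁ ∈ F.autGroup R) (hne : γ₁ * t * γ₁⁻¹ ≠ t) (hγ : γ ∈ F.autGroup R) :
    γ * t * γ⁻¹ = t ∨ γ * t * γ⁻¹ = γ₁ * t * γ₁⁻¹ ∨ γ * t * γ⁻¹ = t * (γ₁ * t * γ₁⁻¹) * t := by
  by_cases h1 : γ * t * γ⁻¹ = t
  · exact Or.inl h1
  by_cases h2 : γ * t * γ⁻¹ = γ₁ * t * γ₁⁻¹
  · exact Or.inr (Or.inl h2)
  refine Or.inr (Or.inr ?_)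
  by_contra h3
  have htA := L.mem
  have h₄ : t * γ₁ ∈ F.autGroup R := Subgroup.mul_mem _ htA h₁
  have he : t * (γ₁ * t * γ₁⁻¹) * t = (t * γ₁) * t * (t * γ₁)⁻¹ := by
    rw [mul_inv_rev, L.t_inv]
    group
  have h5 := L.pair_ne hS hF h₄ hγ (by rw [← he]; exact fun h => h3 h.symm)
  apply h5
  rw [← he]
  obtain ⟨v, hv⟩ : ∃ v, v = γ rR := ⟨_, rfl⟩
  obtain ⟨v₁, hv₁⟩ : ∃ v₁, v₁ = γ₁ rR := ⟨_, rfl⟩
  rw [← hv]
  have ht := (L.s_form 1 (γ rR))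
  simp only [one_mul, inv_one, mul_one, MulAut.one_apply] at ht
  have h6 : t v = v * rR := by
    rw [hv]
    exact ht.resolve_left (L.ne_fix hS hF hγ h1)
  have h7 : (γ₁ * t * γ₁⁻¹) v = v * v₁ := by
    rw [hv, hv₁]
    exact L.pair_form hS hF h₁ hγ (fun h => h2 h.symm)
  have h8 : (γ₁ * t * γ₁⁻¹) rR = rR * v₁ := by
    have := L.pair_form hS hF (γ₂ := 1) h₁ (Subgroup.one_mem _) (by simpa using hne)
    simpa [hv₁] using this
  have hc := L.comm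
  have hvv : v₁ * v₁ = 1 := by rw [hv₁]; exact L.vv γ₁
  have hrr : rR * rR = 1 := by rw [← pow_two]; exact L.rRp
  have h9 : v * v₁ * (rR * v₁) = v * rR := by
    rw [hc rR v₁, mul_assoc, ← mul_assoc v₁, hvv, one_mul]
  show t ((γ₁ * t * γ₁⁻¹) (t v)) = v
  rw [h6, map_mul, h7, h8, h9, map_mul, h6, L.t_rR, mul_assoc, hrr, mul_one]

/-- The subgroup of fixed points of all conjugates of `t`. -/
def fixAll (F : FusionSystem S) (R : Subgroup Ω) (t : MulAut ↥R) : Subgroup ↥R where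
  carrier := {k | ∀ γ ∈ F.autGroup R, (γ * t * γ⁻¹) k = k}
  mul_mem' := fun {a b} ha hb γ hγ => by rw [map_mul, ha γ hγ, hb γ hγ]
  one_mem' := fun γ _ => map_one _
  inv_mem' := fun {a} ha γ hγ => by rw [map_inv, ha γ hγ]

omit hS hF L in
theorem fixAll_map {α : MulAut ↥R} (hα : α ∈ F.autGroup R) {k : ↥R} (hk : k ∈ fixAll F R t) : α k ∈ fixAll F R t := by
  intro γ hγ
  have h1 := hk (α⁻¹ * γ) (Subgroup.mul_mem _ (Subgroup.inv_mem _ hα) hγ)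
  have h2 : (γ * t * γ⁻¹) (α k) = α (((α⁻¹ * γ) * t * (α⁻¹ * γ)⁻¹) k) := by
    simp [MulAut.mul_apply]
  rw [h2, h1]

theorem mem_fixAll {γ₁ : MulAut ↥R} (h₁ : γ₁ ∈ F.autGroup R) (hne : γ₁ * t * γ₁⁻¹ ≠ t) {k : ↥R} (ht : t k = k)
    (hs : (γ₁ * t * γ₁⁻¹) k = k) : k ∈ fixAll F R t := by
  intro γ hγ
  rcases L.three hS hF h₁ hne hγ with h | h | h
  · rw [h, ht]
  · rw [h, hs]
  · rw [h]
    show t ((γ₁ * t * γ₁⁻¹) (t k)) = k
    rw [ht, hs, ht]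

/-- The three possibilities for the centre of a conjugate. -/
theorem center_cases {γ₁ γ : MulAut ↥R} (h₁ : γ₁ ∈ F.autGroup R) (hne : γ₁ * t * γ₁⁻¹ ≠ t) (hγ : γ ∈ F.autGroup R) :
    γ rR = rR ∨ γ rR = γ₁ rR ∨ γ rR = γ₁ rR * rR := by
  rcases L.three hS hF h₁ hne hγ with h | h | h
  · left
    have : γ * t * γ⁻¹ = 1 * t * 1⁻¹ := by rw [h]; simp
    simpa using L.center_eq this
  · right; left
    exact L.center_eq h
  · right; right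
    have he : t * (γ₁ * t * γ₁⁻¹) * t = (t * γ₁) * t * (t * γ₁)⁻¹ := by
      rw [mul_inv_rev, L.t_inv]
      group
    have h2 := L.center_eq (h.trans he)
    rw [h2]
    have ht := (L.s_form 1 (γ₁ rR))
    simp only [one_mul, inv_one, mul_one, MulAut.one_apply] at ht
    exact ht.resolve_left (L.ne_fix hS hF h₁ hne)

/-- The decomposition of `R`. -/
theorem decomp {γ₁ : MulAut ↥R} (h₁ : γ₁ ∈ F.autGroup R) (hne : γ₁ * t * γ₁⁻¹ ≠ t) (u : ↥R) :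
    ∃ l m : ℕ, u * rR ^ l * (γ₁ rR) ^ m ∈ fixAll F R t := by
  have : Finite ↥R := finite_of_le L.RS
  have hsu := L.s_u γ₁
  obtain ⟨i, -, -, -, -, -, -, -, hdec, -⟩ := transvection_data (L.isP hS) L.comm L.rRp (by rw [← map_pow, L.rRp, map_one]) L.t_rR L.tu (L.s_v γ₁) hsu
    (fun h => hne (L.uniq hS hF h₁ h))
  obtain ⟨l, m, h1, h2⟩ := hdec u
  exact ⟨l, m, L.mem_fixAll hS hF h₁ hne h1 h2⟩

/-- Central elements lie in the fixed subgroup, modulo `r`. -/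
theorem decomp_central {γ₁ : MulAut ↥R} (h₁ : γ₁ ∈ F.autGroup R) (hne : γ₁ * t * γ₁⁻¹ ≠ t) {u : ↥R} (hu : t u = u) :
    u ∈ fixAll F R t ∨ u * rR ∈ fixAll F R t := by
  have : Finite ↥R := finite_of_le L.RS
  have hsu := L.s_u γ₁
  obtain ⟨i, -, -, -, -, -, -, -, -, hlast⟩ := transvection_data (L.isP hS) L.comm L.rRp (by rw [← map_pow, L.rRp, map_one]) L.t_rR L.tu (L.s_v γ₁) hsu
    (fun h => hne (L.uniq hS hF h₁ h))
  obtain ⟨l, hl⟩ := hlast u hu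
  have h2 := L.mem_fixAll hS hF h₁ hne (k := u * rR ^ l) (by rw [map_mul, map_pow, hu, L.t_rR]) hl
  rcases pow_two_cases L.rRp l with h3 | h3
  · left
    rwa [h3, mul_one] at h2
  · right
    rwa [h3] at h2

theorem s_r_ne {γ₁ : MulAut ↥R} (h₁ : γ₁ ∈ F.autGroup R) (hne : γ₁ * t * γ₁⁻¹ ≠ t) : (γ₁ * t * γ₁⁻¹) rR ≠ rR := by
  have := L.pair_ne hS hF (γ₂ := 1) h₁ (Subgroup.one_mem _) (by simpa using hne)
  simpa using this

theorem s_r {γ₁ : MulAut ↥R} (h₁ : γ₁ ∈ F.autGroup R) (hne : γ₁ * t * γ₁⁻¹ ≠ t) : (γ₁ * t * γ₁⁻¹) rR = rR * γ₁ rR :=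
  (L.s_form γ₁ _).resolve_left (L.s_r_ne hS hF h₁ hne)

/-- `r` is not in the fixed subgroup. -/
theorem r_not_mem {γ₁ : MulAut ↥R} (h₁ : γ₁ ∈ F.autGroup R) (hne : γ₁ * t * γ₁⁻¹ ≠ t) : rR ∉ fixAll F R t := fun h =>
  L.s_r_ne hS hF h₁ hne (h γ₁ h₁)

/-- `r` is not a square in `R`. -/
theorem not_sq {γ₁ : MulAut ↥R} (h₁ : γ₁ ∈ F.autGroup R) (hne : γ₁ * t * γ₁⁻¹ ≠ t) (u : ↥R) : u * u ≠ rR := by
  intro hu
  obtain ⟨l, m, hk⟩ := L.decomp hS hF h₁ hne u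
  apply L.r_not_mem hS hF h₁ hne
  rw [← hu]
  have hc := L.comm
  have h2 : (u * rR ^ l * (γ₁ rR) ^ m) * (u * rR ^ l * (γ₁ rR) ^ m) = u * u := by
    have h3 : rR ^ l * rR ^ l = 1 := by
      rw [← pow_add, ← two_mul, pow_mul, L.rRp, one_pow]
    have h4 : (γ₁ rR) ^ m * (γ₁ rR) ^ m = 1 := by
      rw [← pow_add, ← two_mul, pow_mul, L.v_sq, one_pow]
    calc (u * rR ^ l * (γ₁ rR) ^ m) * (u * rR ^ l * (γ₁ rR) ^ m)
        = u * (rR ^ l * (γ₁ rR) ^ m * u) * (rR ^ l * (γ₁ rR) ^ m) := by simp only [mul_assoc]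
      _ = u * (u * (rR ^ l * (γ₁ rR) ^ m)) * (rR ^ l * (γ₁ rR) ^ m) := by rw [hc _ u]
      _ = u * u * ((rR ^ l * (γ₁ rR) ^ m) * (rR ^ l * (γ₁ rR) ^ m)) := by simp only [mul_assoc]
      _ = u * u * ((rR ^ l * rR ^ l) * ((γ₁ rR) ^ m * (γ₁ rR) ^ m)) := by
        rw [mul_assoc (rR ^ l), ← mul_assoc ((γ₁ rR) ^ m), hc ((γ₁ rR) ^ m) (rR ^ l)]
        simp only [mul_assoc]
      _ = u * u := by rw [h3, h4]; simp
  rw [← h2]
  exact Subgroup.mul_mem _ hk hk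

/-- The braid relation for two conjugates of `t`. -/
theorem braid {γ₁ : MulAut ↥R} (h₁ : γ₁ ∈ F.autGroup R) (hne : γ₁ * t * γ₁⁻¹ ≠ t) :
    (γ₁ * t * γ₁⁻¹) * t * (γ₁ * t * γ₁⁻¹)⁻¹ = t * (γ₁ * t * γ₁⁻¹) * t := by
  have hsA : γ₁ * t * γ₁⁻¹ ∈ F.autGroup R := Subgroup.mul_mem _ (Subgroup.mul_mem _ h₁ L.mem) (Subgroup.inv_mem _ h₁)
  rcases L.three hS hF h₁ hne hsA with h | h | h
  · exfalso
    have h2 : (γ₁ * t * γ₁⁻¹) * t * (γ₁ * t * γ₁⁻¹)⁻¹ = 1 * t * 1⁻¹ := by rw [h]; simp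
    have h3 := L.center_eq h2
    simp only [MulAut.one_apply] at h3
    exact L.s_r_ne hS hF h₁ hne h3
  · exfalso
    have h3 := L.center_eq h
    rw [L.s_r hS hF h₁ hne] at h3
    apply L.rR1
    exact mul_eq_right.1 h3
  · exact h

/-- Frattini argument: every automorphism agrees on the fixed subgroup with an automorphism of `S`. -/
theorem frattini {γ₁ α : MulAut ↥R} (h₁ : γ₁ ∈ F.autGroup R) (hne : γ₁ * t * γ₁⁻¹ ≠ t) (hα : α ∈ F.autGroup R) :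
    ∃ β ∈ F.autGroup S, ∀ k ∈ fixAll F R t, ((β ⟨k, L.RS k.2⟩ : ↥S) : Ω) = α k := by
  obtain ⟨s, hs⟩ : ∃ s, s = γ₁ * t * γ₁⁻¹ := ⟨_, rfl⟩
  have hsA : s ∈ F.autGroup R := hs ▸ Subgroup.mul_mem _ (Subgroup.mul_mem _ h₁ L.mem) (Subgroup.inv_mem _ h₁)
  have hss : s * s = 1 := by
    rw [hs]
    have : γ₁ * t * γ₁⁻¹ * (γ₁ * t * γ₁⁻¹) = γ₁ * (t * t) * γ₁⁻¹ := by group
    rw [this, L.tt]
    group
  have hsinv : s⁻¹ = s := inv_eq_of_mul_eq_one_left hss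
  have htt := L.tt
  have hbr : s * t * s = t * s * t := by
    have := L.braid hS hF h₁ hne
    rw [← hs, hsinv] at this
    exact this
  have hpg : ∀ α' ∈ F.autGroup R, α' * t * α'⁻¹ = t → ∀ δ : MulAut ↥R, α' = δ * α → (∀ k ∈ fixAll F R t, δ k = k) →
      ∃ β ∈ F.autGroup S, ∀ k ∈ fixAll F R t, ((β ⟨k, L.RS k.2⟩ : ↥S) : Ω) = α k := by
    intro α' hα' hc δ hδ hfix
    have h2 : IsPGroup 2 ↥(Subgroup.closure {t, α' * t * α'⁻¹}) := by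
      rw [hc, Set.pair_eq_singleton]
      refine (isPGroup_autInducedBy hS R).to_le ?_
      rw [Subgroup.closure_le]
      intro a ha
      rw [Set.mem_singleton_iff] at ha
      rw [ha]
      exact mem_autInducedBy_iff.2 ⟨x, x.2, L.tv⟩
    obtain ⟨β, hβ, hv⟩ := L.ext_of_pgroup hS hF hα' h2
    refine ⟨β, hβ, fun k hk => ?_⟩
    rw [hv, hδ]
    show ((δ (α k) : ↥R) : Ω) = _
    rw [hfix _ (fixAll_map hα hk)]
  have hkfix : ∀ k ∈ fixAll F R t, t k = k ∧ s k = k := by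
    intro k hk
    constructor
    · have := hk 1 (Subgroup.one_mem _)
      simpa using this
    · rw [hs]
      exact hk γ₁ h₁
  rcases L.three hS hF h₁ hne hα with h | h | h
  · exact hpg α hα h 1 (by simp) (fun k _ => rfl)
  · rw [← hs] at h
    refine hpg ((s * t) * α) (Subgroup.mul_mem _ (Subgroup.mul_mem _ hsA L.mem) hα) ?_ (s * t) rfl ?_
    · have h2 : (s * t * α) * t * (s * t * α)⁻¹ = (s * t) * (α * t * α⁻¹) * (s * t)⁻¹ := by group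
      rw [h2, h, mul_inv_rev, L.t_inv, hsinv]
      calc s * t * s * (t * s) = (s * t * s) * t * s := by group
        _ = (t * s * t) * t * s := by rw [hbr]
        _ = t * s * (t * t) * s := by group
        _ = t * (s * s) := by rw [htt]; group
        _ = t := by rw [hss]; group
    · intro k hk
      show s (t k) = k
      rw [(hkfix k hk).1, (hkfix k hk).2]
  · rw [← hs] at h
    refine hpg (s * α) (Subgroup.mul_mem _ hsA hα) ?_ s rfl ?_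
    · have h2 : (s * α) * t * (s * α)⁻¹ = s * (α * t * α⁻¹) * s⁻¹ := by group
      rw [h2, h, hsinv]
      calc s * (t * s * t) * s = (s * t * s) * t * s := by group
        _ = (t * s * t) * t * s := by rw [hbr]
        _ = t * s * (t * t) * s := by group
        _ = t * (s * s) := by rw [htt]; group
        _ = t := by rw [hss]; group
    · intro k hk
      exact (hkfix k hk).2

end Loc

end Two

end Cfsg.Agent.Lib.Fusion
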