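import Cfsg.Agent.Lib.Fusion.SmallCenter6
import Mathlib

/-!
# Groups whose centre has index `4`: transport of the local structure
-/

set_option autoImplicit false

namespace Cfsg.Agent.Lib.Fusion

open Cfsg Cfsg.FusionSystem
open scoped commutatorElement

section Two

variable {Ω : Type*} [Group Ω] {S : Subgroup Ω} [Finite S] {F : FusionSystem S}

/-- The data attached to a proper centric subgroup on whose automizer the transvection is not normal. -/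
structure Dat (F : FusionSystem S) (r : ↥S) where
  R : Subgroup Ω
  x : ↥S
  rR : ↥R
  t : MulAut ↥R
  γ : MulAut ↥R
  L : Loc F 2 R x r rR t
  hγ : γ ∈ F.autGroup R
  hne : γ * t * γ⁻¹ ≠ t

variable {r : ↥S}

namespace Dat

/-- The fixed subgroup, inside `S`. -/
def KS (d : Dat F r) : Subgroup ↥S := (Loc.fixAll F d.R d.t).map (Subgroup.inclusion d.L.RS)

/-- The image in `S` of the centre of the conjugate of the transvection. -/
def v (d : Dat F r) : ↥S := ⟨d.γ d.rR, d.L.RS (d.γ d.rR).2⟩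

theorem mem_KS {d : Dat F r} {a : ↥S} : a ∈ d.KS ↔ ∃ h : (a : Ω) ∈ d.R, (⟨a, h⟩ : ↥d.R) ∈ Loc.fixAll F d.R d.t := by
  constructor
  · rintro ⟨k, hk, rfl⟩
    exact ⟨k.2, hk⟩
  · rintro ⟨h, hk⟩
    exact ⟨⟨a, h⟩, hk, rfl⟩

theorem KS_central {d : Dat F r} {a : ↥S} (ha : a ∈ d.KS) : a ∈ Subgroup.center ↥S := by
  obtain ⟨h, hk⟩ := mem_KS.1 ha
  have h1 := hk 1 (Subgroup.one_mem _)
  simp only [one_mul, inv_one, mul_one] at h1
  exact d.L.central_of_fix h1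

theorem KS_eq {d d' : Dat F r} (h : d.R = d'.R) : d.KS = d'.KS := by
  obtain ⟨R, x, rR, t, γ, L, hγ, hne⟩ := d
  obtain ⟨R', x', rR', t', γ', L', hγ', hne'⟩ := d'
  obtain rfl : R = R' := h
  obtain rfl : t' = t := L.eq_of_conj L'.tv L'.t_ne_one
  rfl

/-- The centralizer of a non-central element of `R` is contained in `R`. -/
theorem comm_mem {Z : Subgroup ↥S} (h : ClTwo 2 ↥S Z) {d' : Dat F r} {a y u : ↥S} (ha' : (a : Ω) ∈ d'.R) (hya : ⁅y, a⁆ ≠ 1)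
    (hcomm : u * a = a * u) : (u : Ω) ∈ d'.R := by
  have hmem : ∀ b : ↥S, b ∈ d'.R.subgroupOf S ↔ (b : Ω) ∈ d'.R := fun b => Subgroup.mem_subgroupOf
  have hC : Subgroup.center ↥S ≤ d'.R.subgroupOf S := fun c hc => (hmem c).2 (d'.L.cen c hc)
  have hne : d'.R.subgroupOf S ≠ ⊤ := by
    intro htop
    obtain ⟨b, hb⟩ := d'.L.ne
    apply hb
    apply Subtype.ext
    rw [d'.L.tv]
    have hxR : (d'.x : Ω) ∈ d'.R := (hmem d'.x).1 (htop ▸ Subgroup.mem_top _)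
    have := d'.L.comm ⟨_, hxR⟩ b
    have h3 : (d'.x : Ω) * b = b * d'.x := congrArg (fun w : ↥d'.R => (w : Ω)) this
    rw [h3]
    simp
  have hcent : ∀ u : ↥S, (∀ a ∈ d'.R.subgroupOf S, u * a = a * u) → u ∈ d'.R.subgroupOf S := by
    intro u hu
    rw [hmem]
    apply IsCentric.centralizer_le d'.L.cent
    refine mem_centralizerIn.2 ⟨u.2, fun a ha => ?_⟩
    have := hu ⟨a, d'.L.RS ha⟩ ((hmem _).2 ha)
    exact (congrArg (fun w : ↥S => (w : Ω)) this).symm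
  exact (hmem u).1 (h.mem_of_comm hC hne hcent ((hmem a).2 ha') hya hcomm)

/-- Two subgroups of the family with a common non-central element coincide. -/
theorem le_of_common {Z : Subgroup ↥S} (h : ClTwo 2 ↥S Z) {d d' : Dat F r} {a y : ↥S} (ha : (a : Ω) ∈ d.R) (ha' : (a : Ω) ∈ d'.R) (hya : ⁅y, a⁆ ≠ 1) :
    d.R ≤ d'.R := by
  intro u hu
  have huS := d.L.RS hu
  have hcomm : (⟨u, huS⟩ : ↥S) * a = a * ⟨u, huS⟩ := by
    apply Subtype.ext
    exact congrArg (fun w : ↥d.R => (w : Ω)) (d.L.comm ⟨u, hu⟩ ⟨a, ha⟩)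
  exact comm_mem h ha' hya hcomm

theorem not_fix_mem {d : Dat F r} : (d.x : Ω) ∉ d.R := by
  intro hx
  obtain ⟨b, hb⟩ := d.L.ne
  apply hb
  apply Subtype.ext
  rw [d.L.tv]
  have h3 : (d.x : Ω) * b = b * d.x := congrArg (fun w : ↥d.R => (w : Ω)) (d.L.comm ⟨_, hx⟩ b)
  rw [h3]
  simp

theorem x_sq_central {Z : Subgroup ↥S} (h : ClTwo 2 ↥S Z) (x : ↥S) : x ^ 2 ∈ Subgroup.center ↥S := by
  rw [Subgroup.mem_center_iff]
  intro g
  have h1 : ⁅x ^ 2, g⁆ = 1 := by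
    rw [comm_pow_left' h.cen h.comm]
    exact pow_eq_one_of_mem h.card (h.comm x g)
  exact (commutatorElement_eq_one_iff_mul_comm.1 h1).symm

/-- The group `S` is covered by `R` and one coset. -/
theorem two_cover {Z : Subgroup ↥S} (h : ClTwo 2 ↥S Z) (d : Dat F r) (g : ↥S) : (g : Ω) ∈ d.R ∨ ((g * d.x⁻¹ : ↥S) : Ω) ∈ d.R := by
  obtain ⟨n, hn⟩ := d.L.cover g
  have hc : ∀ m : ℕ, ((d.x ^ (2 * m) : ↥S) : Ω) ∈ d.R := fun m => by
    rw [pow_mul]
    exact d.L.cen _ (Subgroup.pow_mem _ (x_sq_central h d.x) m)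
  rcases Nat.even_or_odd' n with ⟨m, rfl | rfl⟩
  · left
    have h1 := d.R.mul_mem hn (hc m)
    simpa using h1
  · right
    have h1 := d.R.mul_mem hn (hc m)
    have h2 : g * (d.x ^ (2 * m + 1))⁻¹ * d.x ^ (2 * m) = g * d.x⁻¹ := by
      rw [pow_succ]
      group
    rw [← h2]
    exact h1

/-- Transport of the data along an automorphism of `S`. -/
theorem transport (hS : IsPGroup 2 S) {Z : Subgroup ↥S} (h : ClTwo 2 ↥S Z) (hrZ : r ∈ Z) (d : Dat F r) {β : MulAut ↥S} (hβ : β ∈ F.autGroup S) :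
    ∃ d' : Dat F r, (∀ b : ↥S, (β b : Ω) ∈ d'.R ↔ (b : Ω) ∈ d.R) ∧ (∀ a ∈ d.KS, β a ∈ d'.KS) ∧ β d.v = d'.v := by
  classical
  obtain ⟨R, x, rR, t, γ, L, hγ, hne⟩ := d
  obtain ⟨R', hR'⟩ : ∃ R' : Subgroup Ω, R' = ((R.subgroupOf S).map β.toMonoidHom).map S.subtype := ⟨_, rfl⟩
  have hmem : ∀ b : ↥S, (β b : Ω) ∈ R' ↔ (b : Ω) ∈ R := by
    intro b
    rw [hR']
    constructor
    · rintro ⟨y, ⟨b₀, hb₀, rfl⟩, hy⟩
      have h1 : b₀ = b := β.injective (Subtype.ext hy)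
      subst h1
      exact hb₀
    · intro hb
      exact ⟨β b, ⟨b, hb, rfl⟩, rfl⟩
  have hR'S : R' ≤ S := by
    rw [hR']
    exact Subgroup.map_subtype_le _
  have hRS := L.RS
  let f : ↥R →* ↥R' :=
    { toFun := fun a => ⟨β ⟨a, hRS a.2⟩, (hmem _).2 a.2⟩
      map_one' := by
        apply Subtype.ext
        show ((β 1 : ↥S) : Ω) = 1
        simp
      map_mul' := fun a b => by
        apply Subtype.ext
        show ((β (⟨a, hRS a.2⟩ * ⟨b, hRS b.2⟩) : ↥S) : Ω) = _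
        rw [map_mul]
        rfl }
  have hfb : Function.Bijective f := by
    constructor
    · intro a b hab
      have h1 : β ⟨a, hRS a.2⟩ = β ⟨b, hRS b.2⟩ := Subtype.ext (congrArg (fun w : ↥R' => (w : Ω)) hab)
      exact Subtype.ext (congrArg (fun w : ↥S => (w : Ω)) (β.injective h1))
    · rintro ⟨y, hy⟩
      have hyS := hR'S hy
      have h1 : (β (β⁻¹ ⟨y, hyS⟩) : Ω) ∈ R' := by simpa using hy
      refine ⟨⟨_, (hmem _).1 h1⟩, ?_⟩
      apply Subtype.ext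
      show ((β (β⁻¹ ⟨y, hyS⟩) : ↥S) : Ω) = y
      simp
  obtain ⟨e, he⟩ : ∃ e : ↥R ≃* ↥R', ∀ a : ↥R, ((e a : ↥R') : Ω) = β ⟨a, hRS a.2⟩ := ⟨MulEquiv.ofBijective f hfb, fun a => rfl⟩
  have hiso : IsIso F e := IsIso.res ((mem_autGroup_iff le_rfl).1 hβ) hRS he
  have hcent : F.IsCentric R' := IsCentric.conj L.cent (isConj_iff.2 ⟨e, hiso⟩)
  have hxR : (x : Ω) ∉ R := not_fix_mem (d := ⟨R, x, rR, t, γ, L, hγ, hne⟩)
  have hne' : R' ≠ S := fun hh => hxR ((hmem x).1 (hh ▸ (β x).2))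
  obtain ⟨x₂, rR₂, t₂, L₂⟩ := exists_loc h hcent hne' hrZ L.r1
  have hβr : β r = r := by
    obtain ⟨a, b, hab⟩ : ∃ a b : ↥S, ⁅a, b⁆ ≠ 1 := by
      obtain ⟨k, hk⟩ := L.ne
      refine ⟨x, ⟨k, hRS k.2⟩, fun h1 => hk ?_⟩
      apply Subtype.ext
      rw [L.tv]
      have h2 : (x : Ω) * k = k * x := congrArg (fun w : ↥S => (w : Ω)) (commutatorElement_eq_one_iff_mul_comm.1 h1)
      rw [h2]
      simp
    obtain ⟨e', he'⟩ := h.exists_pow hab hrZ L.r1 β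
    rw [he']
    rcases pow_two_cases L.rp e' with h1 | h1
    · exfalso
      rw [h1] at he'
      apply L.r1
      apply β.injective
      rw [he', map_one]
    · exact h1
  have hrR₂ : rR₂ = e rR := by
    apply Subtype.ext
    rw [L₂.hrR, he, L.rS, hβr]
  -- the transport of automorphisms
  have hΦ : ∀ δ : MulAut ↥R, ∀ a, (e.symm.trans (δ.trans e) : MulAut ↥R') (e a) = e (δ a) := by
    intro δ a
    simp
  have hΨ : ∀ δ : MulAut ↥R', ∀ a, δ (e a) = e ((e.trans (δ.trans e.symm) : MulAut ↥R) a) := by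
    intro δ a
    simp
  have hΦm : ∀ δ ∈ F.autGroup R, (e.symm.trans (δ.trans e) : MulAut ↥R') ∈ F.autGroup R' := by
    intro δ hδ
    rw [mem_autGroup_iff hR'S]
    exact hiso.symm.trans (((mem_autGroup_iff hRS).1 hδ).trans hiso)
  have hΨm : ∀ δ ∈ F.autGroup R', (e.trans (δ.trans e.symm) : MulAut ↥R) ∈ F.autGroup R := by
    intro δ hδ
    rw [mem_autGroup_iff hRS]
    exact hiso.trans (((mem_autGroup_iff hR'S).1 hδ).trans hiso.symm)
  have ht₂ : ∀ a, t₂ (e a) = e (t a) := by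
    have h1 : (e.symm.trans (t.trans e) : MulAut ↥R') = t₂ := by
      refine L₂.eq_of_conj (g := β x) (fun a' => ?_) ?_
      · obtain ⟨a, rfl⟩ := e.surjective a'
        rw [hΦ, he, he]
        have h2 : (⟨t a, hRS (t a).2⟩ : ↥S) = x * ⟨a, hRS a.2⟩ * x⁻¹ := Subtype.ext (L.tv a)
        rw [h2, map_mul, map_mul, map_inv]
        simp
      · intro h1
        apply L.t_ne_one
        apply MulEquiv.ext
        intro a
        apply e.injective
        rw [← hΦ, h1]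
        rfl
    intro a
    rw [← h1, hΦ]
  have hinvΦ : ∀ (δ : MulAut ↥R) a, (e.symm.trans (δ.trans e) : MulAut ↥R')⁻¹ (e a) = e (δ⁻¹ a) := by
    intro δ a
    have h1 : (e.symm.trans (δ.trans e) : MulAut ↥R') (e (δ⁻¹ a)) = e a := by
      rw [hΦ]
      simp
    calc (e.symm.trans (δ.trans e) : MulAut ↥R')⁻¹ (e a)
        = (e.symm.trans (δ.trans e) : MulAut ↥R')⁻¹ ((e.symm.trans (δ.trans e) : MulAut ↥R') (e (δ⁻¹ a))) := by rw [h1]
      _ = e (δ⁻¹ a) := MulAut.inv_apply_self _ _ _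
  have hkey : ∀ (δ : MulAut ↥R) a, ((e.symm.trans (δ.trans e) : MulAut ↥R') * t₂ * (e.symm.trans (δ.trans e) : MulAut ↥R')⁻¹) (e a) = e ((δ * t * δ⁻¹) a) := by
    intro δ a
    show (e.symm.trans (δ.trans e) : MulAut ↥R') (t₂ ((e.symm.trans (δ.trans e) : MulAut ↥R')⁻¹ (e a))) = e (δ (t (δ⁻¹ a)))
    rw [hinvΦ, ht₂, hΦ]
  have hne₂ : (e.symm.trans (γ.trans e) : MulAut ↥R') * t₂ * (e.symm.trans (γ.trans e) : MulAut ↥R')⁻¹ ≠ t₂ := by
    intro h2
    apply hne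
    apply MulEquiv.ext
    intro a
    apply e.injective
    rw [← hkey, h2, ht₂]
  refine ⟨⟨R', x₂, rR₂, t₂, e.symm.trans (γ.trans e), L₂, hΦm γ hγ, hne₂⟩, hmem, ?_, ?_⟩
  · intro a ha
    obtain ⟨h₀, hk⟩ := mem_KS.1 ha
    refine mem_KS.2 ⟨(hmem a).2 h₀, fun γ' hγ' => ?_⟩
    have h1 : (⟨β a, (hmem a).2 h₀⟩ : ↥R') = e ⟨a, h₀⟩ := Subtype.ext (he ⟨a, h₀⟩).symm
    show (γ' * t₂ * γ'⁻¹) ⟨β a, (hmem a).2 h₀⟩ = ⟨β a, (hmem a).2 h₀⟩
    rw [h1]
    have h2 : (e.symm.trans ((e.trans (γ'.trans e.symm)).trans e) : MulAut ↥R') = γ' := by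
      apply MulEquiv.ext
      intro y
      simp
    have h3 := hkey (e.trans (γ'.trans e.symm)) ⟨a, h₀⟩
    rw [h2] at h3
    rw [h3, hk _ (hΨm γ' hγ')]
  · apply Subtype.ext
    show ((β ⟨γ rR, hRS (γ rR).2⟩ : ↥S) : Ω) = (((e.symm.trans (γ.trans e) : MulAut ↥R') rR₂ : ↥R') : Ω)
    rw [hrR₂, hΦ, he]

end Dat

end Two

end Cfsg.Agent.Lib.Fusion
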