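import Cfsg.Agent.Lib.Fusion.SmallCenter7
import Mathlib

/-!
# Groups whose centre has index `4`: the global argument
-/

set_option autoImplicit false

namespace Cfsg.Agent.Lib.Fusion

open Cfsg Cfsg.FusionSystem
open scoped commutatorElement

section Two

variable {Ω : Type*} [Group Ω] {S : Subgroup Ω} [Finite S] {F : FusionSystem S} {r : ↥S}

theorem exists_dat (hS : IsPGroup 2 S) {Z : Subgroup ↥S} (h : ClTwo 2 ↥S Z) (hrZ : r ∈ Z) (hr1 : r ≠ 1)
    {R : Subgroup Ω} (hR : F.IsEssential 2 R) (hne : R ≠ S) : ∃ d : Dat F r, d.R = R := by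
  classical
  obtain ⟨x, rR, t, L⟩ := exists_loc h hR.1 hne hrZ hr1
  obtain ⟨γ, hγ, hnp⟩ := L.exists_non_p hS hR
  refine ⟨⟨R, x, rR, t, γ, L, hγ, ?_⟩, rfl⟩
  intro h1
  apply hnp
  rw [h1, Set.pair_eq_singleton]
  refine (isPGroup_autInducedBy hS R).to_le ?_
  rw [Subgroup.closure_le]
  intro a ha
  rw [Set.mem_singleton_iff] at ha
  rw [ha]
  exact mem_autInducedBy_iff.2 ⟨x, x.2, L.tv⟩

namespace Dat

variable (hS : IsPGroup 2 S) (hF : F.IsSaturated 2) {Z : Subgroup ↥S} (h : ClTwo 2 ↥S Z) (hrZ : r ∈ Z)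
include hS hF

theorem comm_v (d : Dat F r) : ⁅d.x, d.v⁆ ≠ 1 := by
  intro h1
  apply d.L.ne_fix hS hF d.hγ d.hne
  apply Subtype.ext
  rw [d.L.tv]
  have h2 : (d.x : Ω) * d.v = d.v * d.x := congrArg (fun w : ↥S => (w : Ω)) (commutatorElement_eq_one_iff_mul_comm.1 h1)
  have h3 : (d.v : Ω) = (d.γ d.rR : ↥d.R) := rfl
  rw [h3] at h2
  rw [h2]
  simp

theorem r_not_mem_KS (d : Dat F r) : r ∉ d.KS := by
  intro hr
  obtain ⟨h1, h2⟩ := mem_KS.1 hr
  have h3 : (⟨r, h1⟩ : ↥d.R) = d.rR := Subtype.ext d.L.hrR.symm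
  rw [h3] at h2
  exact d.L.r_not_mem hS hF d.hγ d.hne h2

include h hrZ

theorem eq_r (d : Dat F r) {z : ↥S} (hz : z ∈ Z) (hz1 : z ≠ 1) : z = r := by
  obtain ⟨k, hk⟩ := exists_pow_of_card_prime h.card hrZ d.L.r1 hz
  rcases pow_two_cases d.L.rp k with h1 | h1
  · exact absurd (hk.trans h1) hz1
  · exact hk.trans h1

/-- Elements of the centre lie in `KS`, modulo `r`. -/
theorem central_cases (d : Dat F r) {c : ↥S} (hc : c ∈ Subgroup.center ↥S) : c ∈ d.KS ∨ c * r ∈ d.KS := by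
  have hf := d.L.fix_of_central hc
  rcases d.L.decomp_central hS hF d.hγ d.hne hf with h1 | h1
  · left
    exact mem_KS.2 ⟨d.L.cen c hc, h1⟩
  · right
    refine mem_KS.2 ⟨d.R.mul_mem (d.L.cen c hc) (d.L.cen r d.L.rc), ?_⟩
    have h2 : (⟨c, d.L.cen c hc⟩ * d.rR : ↥d.R) = ⟨(c * r : ↥S), d.R.mul_mem (d.L.cen c hc) (d.L.cen r d.L.rc)⟩ := by
      apply Subtype.ext
      show (c : Ω) * (d.rR : Ω) = (c : Ω) * (r : Ω)
      rw [d.L.hrR]
    rwa [h2] at h1

/-- The final identification. -/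
theorem final (d : Dat F r) (hK : ∀ c ∈ d.KS, c = 1) :
    IsExtraspecial 2 ↥S ∧ Nat.card S = 8 ∧ Nonempty (↥S ≃* DihedralGroup 4) := by
  classical
  have hcc : ∀ c ∈ Subgroup.center ↥S, c = 1 ∨ c = r := by
    intro c hc
    rcases central_cases hS hF h hrZ d hc with h1 | h1
    · exact Or.inl (hK _ h1)
    · right
      have h2 := hK _ h1
      have h3 : r ^ 2 = 1 := d.L.rp
      rw [pow_two] at h3
      calc c = c * r * r := by rw [mul_assoc, h3, mul_one]
        _ = r := by rw [h2, one_mul]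
  have hrc := d.L.rc
  have hrr : r ^ 2 = 1 := d.L.rp
  have hvp : d.v ^ 2 = 1 := by
    apply Subtype.ext
    have h1 := congrArg (fun w : ↥d.R => (w : Ω)) (d.L.v_sq d.γ)
    simpa [v] using h1
  have hxv := comm_v hS hF d
  obtain ⟨x', hx', hx'v⟩ : ∃ x' : ↥S, x' ^ 2 = 1 ∧ ⁅x', d.v⁆ ≠ 1 := by
    rcases hcc _ (x_sq_central h d.x) with h1 | h1
    · exact ⟨d.x, h1, hxv⟩
    · refine ⟨d.x * d.v, ?_, ?_⟩
      · have h2 := pow_mul_class2 h.card h.cen h.comm d.x d.v
        have h3 : ⁅d.v, d.x⁆ = r := eq_r hS hF h hrZ d (h.comm _ _) (by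
          intro h4
          apply hxv
          rw [comm_symm', h4, inv_one])
        rw [h2, h1, hvp, h3]
        simp only [Nat.choose_self, pow_one, mul_one]
        rw [← pow_two, hrr]
      · rw [comm_mul_left' h.cen h.comm]
        simp only [commutatorElement_self, mul_one]
        exact hxv
  have hrcl : ⁅x', d.v⁆ = r := eq_r hS hF h hrZ d (h.comm _ _) hx'v
  have htop : Subgroup.closure {x', d.v} = ⊤ := by
    rw [eq_top_iff]
    intro g _
    have hx'' : x' ∈ Subgroup.closure {x', d.v} := Subgroup.subset_closure (by simp)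
    have hv' : d.v ∈ Subgroup.closure {x', d.v} := Subgroup.subset_closure (by simp)
    obtain ⟨k, j, c, hc, rfl⟩ := h.gen x' d.v hx'v g
    refine Subgroup.mul_mem _ (Subgroup.mul_mem _ (Subgroup.pow_mem _ hx'' _) (Subgroup.pow_mem _ hv' _)) ?_
    have hrmem : r ∈ Subgroup.closure {x', d.v} := by
      have h2 : ⁅x', d.v⁆ ∈ Subgroup.closure {x', d.v} := by
        rw [commutatorElement_def]
        exact Subgroup.mul_mem _ (Subgroup.mul_mem _ (Subgroup.mul_mem _ hx'' hv') (Subgroup.inv_mem _ hx'')) (Subgroup.inv_mem _ hv')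
      rwa [hrcl] at h2
    rcases hcc c hc with h1 | h1
    · rw [h1]
      exact Subgroup.one_mem _
    · rw [h1]
      exact hrmem
  have hES := isExtraspecial_closure h.card h.cen h.comm hx' hvp hx'v
  have hcd := card_closure h.card h.cen h.comm hx' hvp hx'v
  obtain ⟨e⟩ := dihedral_closure h.card h.cen h.comm hx' hvp hx'v
  rw [htop] at hES hcd
  refine ⟨Lib.PGroup.isExtraspecial_of_equiv Subgroup.topEquiv hES, ?_, ?_⟩
  · rw [Subgroup.card_top] at hcd
    exact hcd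
  · rw [htop] at e
    exact ⟨Subgroup.topEquiv.symm.trans e.symm⟩

/-- If the fixed subgroups all agree, the common one is normal. -/
theorem normal_KS (d : Dat F r) (hall : ∀ d' : Dat F r, d'.KS = d.KS) : F.IsNormal (d.KS.map S.subtype) := by
  classical
  obtain ⟨Y, hY⟩ : ∃ Y : Subgroup Ω, Y = d.KS.map S.subtype := ⟨_, rfl⟩
  rw [← hY]
  have hYmem : ∀ a : ↥S, (a : Ω) ∈ Y ↔ a ∈ d.KS := by
    intro a
    rw [hY]
    constructor
    · rintro ⟨b, hb, hba⟩
      have : b = a := Subtype.ext hba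
      subst this
      exact hb
    · intro ha
      exact ⟨a, ha, rfl⟩
  have hYS : Y ≤ S := by
    rw [hY]
    exact Subgroup.map_subtype_le _
  refine isNormal_of_autGroup hS hF ?_ hYS ?_
  · intro g hg
    have : Finite ↥Y := finite_of_le hYS
    refine mem_normalizer_of_forall fun a ha => ?_
    have h1 := KS_central ((hYmem ⟨a, hYS ha⟩).1 ha)
    have h2 := Subgroup.mem_center_iff.1 h1 ⟨g, hg⟩
    have h3 : g * a = a * g := congrArg (fun w : ↥S => (w : Ω)) h2
    rw [h3]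
    simpa using ha
  · intro P hP
    by_cases hPS : P = S
    · subst hPS
      refine ⟨hYS, fun α hα => map_eq_of_forall _ hα fun β hβ a ha => ?_⟩
      obtain ⟨d', -, h2, -⟩ := transport hS h hrZ d hβ
      rw [hYmem, ← hall d']
      exact h2 a ((hYmem a).1 ha)
    · obtain ⟨d', rfl⟩ := exists_dat hS h hrZ d.L.r1 (hP.resolve_left hPS) hPS
      have hsame := hall d'
      refine ⟨fun a ha => ?_, fun α hα => map_eq_of_forall _ hα fun β hβ a ha => ?_⟩
      · have h1 := (hYmem ⟨a, hYS ha⟩).1 ha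
        rw [← hsame] at h1
        exact (mem_KS.1 h1).1
      · have h1 := (hYmem ⟨a, d'.L.RS a.2⟩).1 ha
        rw [← hsame] at h1
        obtain ⟨h0, h2⟩ := mem_KS.1 h1
        have h3 := Loc.fixAll_map hβ h2
        refine (hYmem ⟨_, d'.L.RS (β a).2⟩).2 ?_
        rw [← hsame]
        exact mem_KS.2 ⟨(β a).2, h3⟩

end Dat

end Two

end Cfsg.Agent.Lib.Fusion
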