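import Cfsg.Agent.Lib.Fusion.SmallCenter8
import Mathlib

/-!
# Groups whose centre has index `4`: two subgroups with different fixed subgroups
-/

set_option autoImplicit false

namespace Cfsg.Agent.Lib.Fusion

open Cfsg Cfsg.FusionSystem
open scoped commutatorElement

section Two

variable {Ω : Type*} [Group Ω] {S : Subgroup Ω} [Finite S] {F : FusionSystem S} {r : ↥S}

namespace Dat

variable (hS : IsPGroup 2 S) (hF : F.IsSaturated 2)
include hS hF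

theorem image_cases (d : Dat F r) {α : MulAut ↥d.R} (hα : α ∈ F.autGroup d.R) :
    (⟨α d.rR, d.L.RS (α d.rR).2⟩ : ↥S) = r ∨ (⟨α d.rR, d.L.RS (α d.rR).2⟩ : ↥S) = d.v ∨ (⟨α d.rR, d.L.RS (α d.rR).2⟩ : ↥S) = d.v * r := by
  rcases d.L.center_cases hS hF d.hγ d.hne hα with h1 | h1 | h1
  · left
    rw [h1]
    exact d.L.rS
  · right; left
    rw [h1]
    rfl
  · right; right
    rw [h1]
    apply Subtype.ext
    show ((d.γ d.rR : ↥d.R) : Ω) * (d.rR : Ω) = ((d.γ d.rR : ↥d.R) : Ω) * (r : Ω)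
    rw [d.L.hrR]

theorem v_cases {d d' : Dat F r} (hR : d.R = d'.R) : d.v = r ∨ d.v = d'.v ∨ d.v = d'.v * r := by
  obtain ⟨R, x, rR, t, γ, L, hγ, hne⟩ := d
  obtain ⟨R', x', rR', t', γ', L', hγ', hne'⟩ := d'
  obtain rfl : R = R' := hR
  obtain rfl : t' = t := L.eq_of_conj L'.tv L'.t_ne_one
  obtain rfl : rR' = rR := Subtype.ext (L'.hrR.trans L.hrR.symm)
  exact image_cases hS hF (d := ⟨R, x', rR', t', γ', L', hγ', hne'⟩) hγ

/-- Two subgroups of the family with different fixed subgroups are impossible when the hyperfocal subgroup is `S`. -/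
theorem no_two {Z : Subgroup ↥S} (h : ClTwo 2 ↥S Z) (hrZ : r ∈ Z) (hhyp : F.hyperfocalSubgroup 2 = S) (d₁ d₂ : Dat F r) {k₀ : ↥S}
    (hk₁ : k₀ ∈ d₁.KS) (hk₂ : k₀ ∉ d₂.KS) : False := by
  classical
  have hr1 := d₁.L.r1
  have hrp : r ^ 2 = 1 := d₁.L.rp
  have hrr : r * r = 1 := by rw [← pow_two, hrp]
  have hrc := d₁.L.rc
  have hR : d₁.R ≠ d₂.R := fun e => hk₂ (KS_eq e ▸ hk₁)
  have hvp : ∀ d : Dat F r, d.v ^ 2 = 1 := fun d => by
    apply Subtype.ext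
    have h1 := congrArg (fun w : ↥d.R => (w : Ω)) (d.L.v_sq d.γ)
    simpa [v] using h1
  have hvR : ∀ d : Dat F r, (d.v : Ω) ∈ d.R := fun d => (d.γ d.rR).2
  have hc := fun d => comm_v hS hF (r := r) d
  have hv₂n : (d₂.v : Ω) ∉ d₁.R := fun hm =>
    hR (le_antisymm (le_of_common h hm (hvR d₂) (hc d₂)) (le_of_common h (hvR d₂) hm (hc d₂)))
  have hvv : ⁅d₁.v, d₂.v⁆ ≠ 1 := by
    intro h1
    exact hv₂n (comm_mem h (hvR d₁) (hc d₁) (commutatorElement_eq_one_iff_mul_comm.1 h1).symm)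
  have hr12 : ⁅d₁.v, d₂.v⁆ = r := eq_r hS hF h hrZ d₁ (h.comm _ _) hvv
  have hr21 : ⁅d₂.v, d₁.v⁆ = r := by
    rw [comm_symm', hr12]
    exact inv_eq_of_mul_eq_one_left hrr
  have hv₂inv : d₂.v⁻¹ = d₂.v := inv_eq_of_mul_eq_one_left (by rw [← pow_two, hvp])
  have hsq : d₁.v * d₂.v * (d₁.v * d₂.v) = r := by
    rw [← pow_two, pow_mul_class2 h.card h.cen h.comm, hvp, hvp, hr21]
    simp
  have hall : ∀ d : Dat F r, d.R = d₁.R ∨ d.R = d₂.R := by
    intro d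
    by_contra hno
    push Not at hno
    obtain ⟨h1, h2⟩ := hno
    have hv1 : (d₁.v : Ω) ∉ d.R := fun hm => h1 (le_antisymm (le_of_common h hm (hvR d₁) (hc d₁)) (le_of_common h (hvR d₁) hm (hc d₁)))
    have hv2 : (d₂.v : Ω) ∉ d.R := fun hm => h2 (le_antisymm (le_of_common h hm (hvR d₂) (hc d₂)) (le_of_common h (hvR d₂) hm (hc d₂)))
    have e1 := (two_cover h d d₁.v).resolve_left hv1
    have e2 := (two_cover h d d₂.v).resolve_left hv2
    have e3 : ((d₁.v * d₂.v : ↥S) : Ω) ∈ d.R := by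
      have h3 := d.R.mul_mem e1 (d.R.inv_mem e2)
      have h4 : (d₁.v * d.x⁻¹ : ↥S) * (d₂.v * d.x⁻¹)⁻¹ = d₁.v * d₂.v := by
        rw [mul_inv_rev, inv_inv, hv₂inv]
        group
      have h5 : ((d₁.v * d.x⁻¹ : ↥S) : Ω) * (((d₂.v * d.x⁻¹ : ↥S) : Ω))⁻¹ = ((d₁.v * d₂.v : ↥S) : Ω) := congrArg (fun w : ↥S => (w : Ω)) h4
      rw [← h5]
      exact h3
    apply d.L.not_sq hS hF d.hγ d.hne ⟨_, e3⟩
    apply Subtype.ext
    rw [d.L.hrR]
    exact congrArg (fun w : ↥S => (w : Ω)) hsq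
  -- the subgroup `M`
  obtain ⟨L', hL'⟩ : ∃ L' : Subgroup ↥S, L' = d₁.KS ⊓ d₂.KS := ⟨_, rfl⟩
  obtain ⟨D, hD⟩ : ∃ D : Subgroup ↥S, D = Subgroup.closure {d₁.v, d₂.v} := ⟨_, rfl⟩
  obtain ⟨M, hM⟩ : ∃ M : Subgroup ↥S, M = D ⊔ L' := ⟨_, rfl⟩
  have hDM : D ≤ M := hM ▸ le_sup_left
  have hLM : L' ≤ M := hM ▸ le_sup_right
  have hv₁M : d₁.v ∈ M := hDM (hD ▸ Subgroup.subset_closure (by simp))
  have hv₂M : d₂.v ∈ M := hDM (hD ▸ Subgroup.subset_closure (by simp))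
  have hrM : r ∈ M := by
    have h1 : ⁅d₁.v, d₂.v⁆ ∈ M := by
      rw [commutatorElement_def]
      exact M.mul_mem (M.mul_mem (M.mul_mem hv₁M hv₂M) (M.inv_mem hv₁M)) (M.inv_mem hv₂M)
    rwa [hr12] at h1
  have hvM : ∀ d : Dat F r, d.v ∈ M := by
    intro d
    have key : ∀ d' : Dat F r, d'.v ∈ M → d.R = d'.R → d.v ∈ M := by
      intro d' hd' he
      rcases v_cases hS hF he with h1 | h1 | h1
      · rw [h1]; exact hrM
      · rw [h1]; exact hd'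
      · rw [h1]; exact M.mul_mem hd' hrM
    rcases hall d with he | he
    · exact key d₁ hv₁M he
    · exact key d₂ hv₂M he
  have hUM : ∀ (d : Dat F r) (α : MulAut ↥d.R), α ∈ F.autGroup d.R → (⟨α d.rR, d.L.RS (α d.rR).2⟩ : ↥S) ∈ M := by
    intro d α hα
    rcases image_cases hS hF d hα with h1 | h1 | h1
    · rw [h1]; exact hrM
    · rw [h1]; exact hvM d
    · rw [h1]; exact M.mul_mem (hvM d) hrM
  have hk₀c : k₀ ∈ Subgroup.center ↥S := KS_central hk₁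
  have hk₀r : k₀ * r ∈ d₂.KS := (central_cases hS hF h hrZ d₂ hk₀c).resolve_left hk₂
  -- `k₀` is not in `M`
  have hk₀M : k₀ ∉ M := by
    intro hm
    rw [hM] at hm
    haveI hLn : L'.Normal := ⟨fun n hn g => by
      have h1 : n ∈ d₁.KS := (hL' ▸ hn : n ∈ d₁.KS ⊓ d₂.KS).1
      have h2 := Subgroup.mem_center_iff.1 (KS_central h1) g
      rw [h2]
      simpa using hn⟩
    have hm' : k₀ ∈ ((D ⊔ L' : Subgroup ↥S) : Set ↥S) := hm
    rw [Subgroup.mul_normal] at hm'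
    obtain ⟨e, he, l, hl, hel⟩ := Set.mem_mul.1 hm'
    rw [hD] at he
    obtain ⟨a, b, z, hz, rfl⟩ := closure_form h.cen h.comm d₁.v d₂.v e he
    have hl₁ : l ∈ d₁.KS := (hL' ▸ hl : l ∈ d₁.KS ⊓ d₂.KS).1
    have hl₂ : l ∈ d₂.KS := (hL' ▸ hl : l ∈ d₁.KS ⊓ d₂.KS).2
    have hlc : l ∈ Subgroup.center ↥S := KS_central hl₁
    have hec : d₁.v ^ a * d₂.v ^ b * z ∈ Subgroup.center ↥S := by
      have h1 : d₁.v ^ a * d₂.v ^ b * z = k₀ * l⁻¹ := by rw [← hel]; simp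
      rw [h1]
      exact Subgroup.mul_mem _ hk₀c (Subgroup.inv_mem _ hlc)
    have hzc : ∀ g : ↥S, ⁅z, g⁆ = 1 := fun g => commutatorElement_eq_one_iff_mul_comm.2 (h.cen z hz g).symm
    have hord : orderOf r = 2 := orderOf_eq_prime hrp hr1
    have h1 : ⁅d₁.v ^ a * d₂.v ^ b * z, d₂.v⁆ = 1 := commutatorElement_eq_one_iff_mul_comm.2 (Subgroup.mem_center_iff.1 hec _).symm
    rw [comm_mul_left' h.cen h.comm, comm_mul_left' h.cen h.comm, comm_pow_left' h.cen h.comm, comm_pow_left' h.cen h.comm, hzc,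
      commutatorElement_self, one_pow, mul_one, mul_one, hr12] at h1
    have ha : 2 ∣ a := hord ▸ orderOf_dvd_of_pow_eq_one h1
    obtain ⟨a', rfl⟩ := ha
    have hv₁1 : d₁.v ^ (2 * a') = 1 := by rw [pow_mul, hvp, one_pow]
    rw [hv₁1, one_mul] at hec hel
    have h2 : ⁅d₂.v ^ b * z, d₁.v⁆ = 1 := commutatorElement_eq_one_iff_mul_comm.2 (Subgroup.mem_center_iff.1 hec _).symm
    rw [comm_mul_left' h.cen h.comm, comm_pow_left' h.cen h.comm, hzc, mul_one, hr21] at h2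
    have hb : 2 ∣ b := hord ▸ orderOf_dvd_of_pow_eq_one h2
    obtain ⟨b', rfl⟩ := hb
    have hv₂1 : d₂.v ^ (2 * b') = 1 := by rw [pow_mul, hvp, one_pow]
    rw [hv₂1, one_mul] at hel
    by_cases hz1 : z = 1
    · rw [hz1, one_mul] at hel
      exact hk₂ (hel ▸ hl₂)
    · have hzr := eq_r hS hF h hrZ d₁ hz hz1
      rw [hzr] at hel
      have h3 : k₀ * l⁻¹ = r := by rw [← hel]; simp
      have h4 : k₀ * l⁻¹ ∈ d₁.KS := Subgroup.mul_mem _ hk₁ (Subgroup.inv_mem _ hl₁)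
      rw [h3] at h4
      exact r_not_mem_KS hS hF d₁ h4
  -- the coset decomposition
  have hu : ∀ u : ↥S, (u : Ω) ∈ d₁.R → u * k₀ ∈ M ∨ u ∈ M := by
    intro u hu
    obtain ⟨l, m, hk⟩ := d₁.L.decomp hS hF d₁.hγ d₁.hne ⟨u, hu⟩
    have hkS : u * (r ^ l * d₁.v ^ m) ∈ d₁.KS := by
      refine mem_KS.2 ⟨?_, ?_⟩
      · rw [Subgroup.coe_mul]
        refine d₁.R.mul_mem hu (d₁.R.mul_mem ?_ ?_)
        · simpa using d₁.R.pow_mem (d₁.L.cen r hrc) l
        · simpa using d₁.R.pow_mem (hvR d₁) m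
      · convert hk using 1
        apply Subtype.ext
        simp [v, d₁.L.hrR, mul_assoc]
    have hwM : r ^ l * d₁.v ^ m ∈ M := M.mul_mem (M.pow_mem hrM l) (M.pow_mem hv₁M m)
    rcases central_cases hS hF h hrZ d₂ (KS_central hkS) with h1 | h1
    · right
      have h2 : u * (r ^ l * d₁.v ^ m) ∈ M := hLM (hL' ▸ ⟨hkS, h1⟩)
      have h3 := M.mul_mem h2 (M.inv_mem hwM)
      rwa [mul_inv_cancel_right] at h3
    · left
      have h2 : (u * (r ^ l * d₁.v ^ m) * r) * (k₀ * r) = u * (r ^ l * d₁.v ^ m) * k₀ := by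
        have h3 : r * (k₀ * r) = k₀ := by
          rw [← mul_assoc, (Subgroup.mem_center_iff.1 hrc k₀).symm, mul_assoc, hrr, mul_one]
        rw [mul_assoc (u * _) r, h3]
      have h4 : u * (r ^ l * d₁.v ^ m) * k₀ ∈ d₂.KS := h2 ▸ Subgroup.mul_mem _ h1 hk₀r
      have h5 : u * (r ^ l * d₁.v ^ m) * k₀ ∈ d₁.KS := Subgroup.mul_mem _ hkS hk₁
      have h6 : u * (r ^ l * d₁.v ^ m) * k₀ ∈ M := hLM (hL' ▸ ⟨h5, h4⟩)
      have h7 := M.mul_mem h6 (M.inv_mem hwM)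
      have h8 : u * (r ^ l * d₁.v ^ m) * k₀ * (r ^ l * d₁.v ^ m)⁻¹ = u * k₀ := by
        rw [mul_assoc u, Subgroup.mem_center_iff.1 hk₀c _]
        group
      rwa [h8] at h7
  have hcov : ∀ b : ↥S, b * k₀ ∈ M ∨ b ∈ M := by
    intro b
    rcases two_cover h d₁ b with hb | hb
    · exact hu b hb
    · have h1 := (two_cover h d₁ d₂.v).resolve_left hv₂n
      have h2 : ((b * d₂.v : ↥S) : Ω) ∈ d₁.R := by
        have h3 := d₁.R.mul_mem hb (d₁.R.inv_mem h1)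
        have h4 : (b * d₁.x⁻¹ : ↥S) * (d₂.v * d₁.x⁻¹)⁻¹ = b * d₂.v := by
          rw [mul_inv_rev, inv_inv, hv₂inv]
          group
        have h5 : ((b * d₁.x⁻¹ : ↥S) : Ω) * (((d₂.v * d₁.x⁻¹ : ↥S) : Ω))⁻¹ = ((b * d₂.v : ↥S) : Ω) := congrArg (fun w : ↥S => (w : Ω)) h4
        rw [← h5]
        exact h3
      rcases hu _ h2 with h3 | h3
      · left
        have h4 := M.mul_mem h3 (M.inv_mem hv₂M)
        have h5 : b * d₂.v * k₀ * d₂.v⁻¹ = b * k₀ := by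
          rw [mul_assoc b, Subgroup.mem_center_iff.1 hk₀c _]
          group
        rwa [h5] at h4
      · right
        have h4 := M.mul_mem h3 (M.inv_mem hv₂M)
        simpa using h4
  have hidx : M.index = 2 := Subgroup.index_eq_two_iff_exists_notMem_and.2 ⟨k₀, hk₀M, hcov⟩
  -- invariance of `M`
  have hβM : ∀ β ∈ F.autGroup S, ∀ a ∈ M, β a ∈ M := by
    intro β hβ
    obtain ⟨d₁', h1a, h1b, h1c⟩ := transport hS h hrZ d₁ hβ
    obtain ⟨d₂', h2a, h2b, h2c⟩ := transport hS h hrZ d₂ hβ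
    have hne' : d₁'.R ≠ d₂'.R := by
      intro he
      apply hR
      apply le_antisymm
      · intro a ha
        have h3 := (h1a ⟨a, d₁.L.RS ha⟩).2 ha
        rw [he] at h3
        exact (h2a ⟨a, d₁.L.RS ha⟩).1 h3
      · intro a ha
        have h3 := (h2a ⟨a, d₂.L.RS ha⟩).2 ha
        rw [← he] at h3
        exact (h1a ⟨a, d₂.L.RS ha⟩).1 h3
    have hDle : D ≤ M.comap β.toMonoidHom := by
      rw [hD, Subgroup.closure_le]
      intro a ha
      rcases ha with rfl | ha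
      · show β d₁.v ∈ M
        rw [h1c]
        exact hvM _
      · rw [Set.mem_singleton_iff] at ha
        subst ha
        show β d₂.v ∈ M
        rw [h2c]
        exact hvM _
    have hLle : L' ≤ M.comap β.toMonoidHom := by
      intro l hl
      have hl₁ : l ∈ d₁.KS := (hL' ▸ hl : l ∈ d₁.KS ⊓ d₂.KS).1
      have hl₂ : l ∈ d₂.KS := (hL' ▸ hl : l ∈ d₁.KS ⊓ d₂.KS).2
      have h3 := h1b l hl₁
      have h4 := h2b l hl₂
      show β l ∈ M
      apply hLM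
      rw [hL']
      rcases hall d₁' with e1 | e1 <;> rcases hall d₂' with e2 | e2
      · exact absurd (e1.trans e2.symm) hne'
      · rw [KS_eq e1] at h3
        rw [KS_eq e2] at h4
        exact ⟨h3, h4⟩
      · rw [KS_eq e1] at h3
        rw [KS_eq e2] at h4
        exact ⟨h4, h3⟩
      · exact absurd (e1.trans e2.symm) hne'
    have hle : D ⊔ L' ≤ M.comap β.toMonoidHom := sup_le hDle hLle
    exact fun a ha => hle (hM ▸ ha)
  have hM2 : ∀ β ∈ F.autGroup S, ∀ a : ↥S, a⁻¹ * β a ∈ M := by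
    intro β hβ a
    rw [Subgroup.mul_mem_iff_of_index_two hidx, inv_mem_iff]
    refine ⟨hβM β hβ a, fun hb => ?_⟩
    have := hβM β⁻¹ (Subgroup.inv_mem _ hβ) _ hb
    simpa using this
  -- the essential subgroups
  have hess : ∀ (d : Dat F r) (α : MulAut ↥d.R), α ∈ F.autGroup d.R → ∀ y : ↥d.R, y⁻¹ * α y ∈ M.comap (Subgroup.inclusion d.L.RS) := by
    intro d α hα y
    obtain ⟨MR, hMR⟩ : ∃ MR : Subgroup ↥d.R, MR = M.comap (Subgroup.inclusion d.L.RS) := ⟨_, rfl⟩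
    rw [← hMR]
    have hmem : ∀ u : ↥d.R, u ∈ MR ↔ (⟨u, d.L.RS u.2⟩ : ↥S) ∈ M := fun u => by
      rw [hMR]
      exact Iff.rfl
    have hrR : ∀ γ : MulAut ↥d.R, γ ∈ F.autGroup d.R → γ d.rR ∈ MR := fun γ hγ => (hmem _).2 (hUM d γ hγ)
    obtain ⟨l, m, hk⟩ := d.L.decomp hS hF d.hγ d.hne y
    obtain ⟨w, hw⟩ : ∃ w, w = d.rR ^ l * (d.γ d.rR) ^ m := ⟨_, rfl⟩
    obtain ⟨k, hkk⟩ : ∃ k, k = y * w := ⟨_, rfl⟩
    have hkfix : k ∈ Loc.fixAll F d.R d.t := by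
      rw [hkk, hw, ← mul_assoc]
      exact hk
    have hwM : w ∈ MR := by
      rw [hw]
      refine MR.mul_mem (MR.pow_mem ?_ l) (MR.pow_mem ?_ m)
      · simpa using hrR 1 (Subgroup.one_mem _)
      · exact hrR d.γ d.hγ
    have hαw : α w ∈ MR := by
      rw [hw, map_mul, map_pow, map_pow]
      refine MR.mul_mem (MR.pow_mem (hrR α hα) l) (MR.pow_mem ?_ m)
      exact hrR (α * d.γ) (Subgroup.mul_mem _ hα d.hγ)
    obtain ⟨β, hβ, hβv⟩ := d.L.frattini hS hF d.hγ d.hne hα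
    have hkM : k⁻¹ * α k ∈ MR := by
      rw [hmem]
      have h1 := hM2 β hβ ⟨k, d.L.RS k.2⟩
      have h2 : β ⟨k, d.L.RS k.2⟩ = ⟨α k, d.L.RS (α k).2⟩ := Subtype.ext (hβv k hkfix)
      rw [h2] at h1
      exact h1
    have hy : y⁻¹ * α y = w * (k⁻¹ * α k) * (α w)⁻¹ := by
      have h1 : y = k * w⁻¹ := by rw [hkk]; simp
      rw [h1, map_mul, map_inv]
      group
    rw [hy]
    exact MR.mul_mem (MR.mul_mem hwM hkM) (MR.inv_mem hαw)
  -- the closed class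
  obtain ⟨H, hH⟩ : ∃ H : Subgroup Ω, H = M.map S.subtype := ⟨_, rfl⟩
  have hHmem : ∀ a : ↥S, a ∈ M → (a : Ω) ∈ H := fun a ha => hH ▸ ⟨a, ha, rfl⟩
  have hcl : ClosedClass F (fun P φ => ∀ x : P, (x : Ω)⁻¹ * φ x ∈ H) := by
    refine ⟨fun P g hP hg x => ?_, fun P Q φ ψ _ _ hφ hψ hm x => ?_, fun P φ ψ _ hφ _ hv y => ?_⟩
    · have h1 : ⁅(⟨x, hP x.2⟩ : ↥S)⁻¹, (⟨g, hg⟩ : ↥S)⁆ ∈ M := by
        by_cases h2 : ⁅(⟨x, hP x.2⟩ : ↥S)⁻¹, (⟨g, hg⟩ : ↥S)⁆ = 1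
        · rw [h2]
          exact M.one_mem
        · rw [eq_r hS hF h hrZ d₁ (h.comm _ _) h2]
          exact hrM
      have e : (x : Ω)⁻¹ * conjHom P g x = ((⁅(⟨x, hP x.2⟩ : ↥S)⁻¹, (⟨g, hg⟩ : ↥S)⁆ : ↥S) : Ω) := by
        simp [conjHom, commutatorElement_def, MulAut.conj_apply, mul_assoc]
      rw [e]
      exact hHmem _ h1
    · have h1 := hφ x
      have h2 := hψ ⟨φ x, hm x⟩
      have := H.mul_mem h1 h2
      have e : (x : Ω)⁻¹ * (ψ.comp (φ.codRestrict Q hm)) x = (x : Ω)⁻¹ * φ x * ((φ x)⁻¹ * ψ ⟨φ x, hm x⟩) := by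
        simp only [mul_assoc, mul_inv_cancel_left]
        rfl
      rw [e]
      exact this
    · obtain ⟨x, hx⟩ := y.2
      have hy : y = ⟨φ x, ⟨x, rfl⟩⟩ := Subtype.ext hx.symm
      subst hy
      rw [hv x]
      have := H.inv_mem (hφ x)
      simpa using this
  have hall2 := hcl.alperin_induction hS hF fun T hT α hα y => by
    by_cases hTS : T = S
    · subst hTS
      exact hHmem _ (hM2 α hα y)
    · obtain ⟨d, rfl⟩ := exists_dat hS h hrZ hr1 (hT.resolve_left hTS) hTS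
      exact hHmem _ (hess d α hα y)
  have hfoc : F.focalSubgroup ≤ H := by
    rw [focalSubgroup, Subgroup.closure_le]
    rintro _ ⟨P, φ, x, hφ, rfl⟩
    exact hall2 P φ hφ x
  have hSH : S ≤ H := by
    rw [← hhyp]
    refine le_trans ?_ hfoc
    rw [focal_eq hS hF]
    exact le_sup_left
  obtain ⟨b, hb, hbk⟩ := (hH ▸ hSH k₀.2 : (k₀ : Ω) ∈ M.map S.subtype)
  have hbk' : b = k₀ := Subtype.ext hbk
  exact hk₀M (hbk' ▸ hb)

end Dat

/-- The main theorem for `p = 2`. -/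
theorem two_main (hS : IsPGroup 2 S) (hF : F.IsSaturated 2) {Z : Subgroup ↥S} (h : ClTwo 2 ↥S Z) (hcore : F.core = ⊥)
    (hhyp : F.hyperfocalSubgroup 2 = S) :
    IsExtraspecial 2 ↥S ∧ Nat.card S = 8 ∧ Nonempty (↥S ≃* DihedralGroup 4) := by
  classical
  obtain ⟨r, hrZ, hr1⟩ : ∃ r ∈ Z, r ≠ 1 := by
    by_contra hno
    push Not at hno
    have hbot : Z = ⊥ := (Subgroup.eq_bot_iff_forall _).2 hno
    have h1 := h.card
    rw [hbot, Subgroup.card_bot] at h1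
    exact absurd h1 (by norm_num)
  have hS1 : S ≠ ⊥ := by
    intro hb
    apply hr1
    apply Subtype.ext
    have h2 : (r : Ω) ∈ (⊥ : Subgroup Ω) := hb.le r.2
    exact Subgroup.mem_bot.1 h2
  obtain ⟨R, hRe, hRS⟩ := exists_essential_ne hS hF hcore hS1
  obtain ⟨d, -⟩ := exists_dat hS h hrZ hr1 hRe hRS
  by_cases hall : ∀ d' : Dat F r, d'.KS = d.KS
  · have hn := Dat.normal_KS hS hF h hrZ d hall
    have hle : d.KS.map S.subtype ≤ F.core := le_sSup hn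
    rw [hcore] at hle
    refine Dat.final hS hF h hrZ d fun c hc => ?_
    exact Subtype.ext (Subgroup.mem_bot.1 (hle ⟨c, hc, rfl⟩))
  · exfalso
    push Not at hall
    obtain ⟨d', hd'⟩ := hall
    by_cases h1 : d'.KS ≤ d.KS
    · have h2 : ¬ d.KS ≤ d'.KS := fun h2 => hd' (le_antisymm h1 h2)
      obtain ⟨k₀, hk₁, hk₂⟩ := SetLike.not_le_iff_exists.1 h2
      exact Dat.no_two hS hF h hrZ hhyp d d' hk₁ hk₂
    · obtain ⟨k₀, hk₁, hk₂⟩ := SetLike.not_le_iff_exists.1 h1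
      exact Dat.no_two hS hF h hrZ hhyp d' d hk₁ hk₂

end Two

end Cfsg.Agent.Lib.Fusion
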