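/-
Small abelian subgroups of the hyperfocal subgroup control fusion: group theory and auxiliary statements.
-/
import Cfsg.Agent.Lib.Fusion.SmallGroup
import Cfsg.Agent.Lib.Fusion.AdmSys
import Cfsg.Agent.Lib.Fusion.LiftUse
import Mathlib

set_option autoImplicit false

namespace Cfsg.Agent.Lib.Fusion.SmallCtl

open Cfsg Cfsg.FusionSystem Cfsg.Agent.Lib.Fusion Cfsg.Agent.Lib.Fusion.SmallExp Cfsg.Agent.Lib.Fusion.SmallGroup
open scoped commutatorElement

universe u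

section Group

variable {G : Type*} [Group G] {p : ℕ}

theorem isSmall_one : IsSmall p (1 : G) := Or.inl (one_pow _)

theorem isSmall_inv {x : G} (h : IsSmall p x) : IsSmall p x⁻¹ := by
  rcases h with h | ⟨h1, h2⟩
  · exact Or.inl (by rw [inv_pow, h, inv_one])
  · exact Or.inr ⟨h1, by rw [inv_pow, h2, inv_one]⟩

theorem isSmall_conj {x : G} (h : IsSmall p x) (g : G) : IsSmall p (g * x * g⁻¹) := by
  rcases h with h | ⟨h1, h2⟩
  · exact Or.inl (by rw [conj_pow, h]; simp)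
  · exact Or.inr ⟨h1, by rw [conj_pow, h2]; simp⟩

theorem isSmall_map {H : Type*} [Group H] {x : G} (h : IsSmall p x) (f : G →* H) : IsSmall p (f x) := by
  rcases h with h | ⟨h1, h2⟩
  · exact Or.inl (by rw [← map_pow, h, map_one])
  · exact Or.inr ⟨h1, by rw [← map_pow, h2, map_one]⟩

theorem isSmall_mul_of_commute {x y : G} (hc : Commute x y) (hx : IsSmall p x) (hy : IsSmall p y) : IsSmall p (x * y) := by
  by_cases hp : p = 2
  · subst hp
    have hx4 : x ^ 4 = 1 := by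
      rcases hx with h | ⟨_, h⟩
      · rw [show (4 : ℕ) = 2 * 2 by norm_num, pow_mul, h, one_pow]
      · exact h
    have hy4 : y ^ 4 = 1 := by
      rcases hy with h | ⟨_, h⟩
      · rw [show (4 : ℕ) = 2 * 2 by norm_num, pow_mul, h, one_pow]
      · exact h
    exact Or.inr ⟨rfl, by rw [hc.mul_pow, hx4, hy4, mul_one]⟩
  · have hx1 : x ^ p = 1 := hx.elim id (fun h => absurd h.1 hp)
    have hy1 : y ^ p = 1 := hy.elim id (fun h => absurd h.1 hp)
    exact Or.inl (by rw [hc.mul_pow, hx1, hy1, mul_one])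

theorem small_mul_of_critical [Fact p.Prime] (C : Subgroup G)
    (h1 : ∀ c : G, c ∈ C → c ^ p ∈ C ⊓ Subgroup.centralizer (C : Set G))
    (h2 : ∀ r c : G, c ∈ C → ⁅r, c⁆ ∈ C ⊓ Subgroup.centralizer (C : Set G)) :
    ∀ x ∈ C, ∀ y ∈ C, IsSmall p x → IsSmall p y → IsSmall p (x * y) := by
  intro x hx y hy hsx hsy
  by_cases hp2 : p = 2
  · subst hp2
    have hx4 : x ^ 4 = 1 := by
      rcases hsx with h | ⟨_, h⟩
      · rw [show (4 : ℕ) = 2 * 2 by norm_num, pow_mul, h, one_pow]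
      · exact h
    have hy4 : y ^ 4 = 1 := by
      rcases hsy with h | ⟨_, h⟩
      · rw [show (4 : ℕ) = 2 * 2 by norm_num, pow_mul, h, one_pow]
      · exact h
    refine Or.inr ⟨rfl, ?_⟩
    rw [mul_pow_four_of_critical C h1 h2 x hx y hy, hx4, hy4, mul_one]
  · have hx1 : x ^ p = 1 := hsx.elim id (fun h => absurd h.1 hp2)
    have hy1 : y ^ p = 1 := hsy.elim id (fun h => absurd h.1 hp2)
    refine Or.inl ?_
    rw [Cfsg.Agent.Lib.Transfer.mul_pow_of_critical hp2 C h1 h2 x hx y hy, hx1, hy1, mul_one]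

/-- Pairwise commuting generators give a commutative closure. -/
theorem comm_closure (s : Set G) (h : ∀ x ∈ s, ∀ y ∈ s, x * y = y * x) :
    ∀ x ∈ Subgroup.closure s, ∀ y ∈ Subgroup.closure s, x * y = y * x := by
  have h1 : Subgroup.closure s ≤ Subgroup.centralizer s := by
    rw [Subgroup.closure_le]
    intro x hx
    rw [SetLike.mem_coe, Subgroup.mem_centralizer_iff]
    intro y hy
    exact h y hy x hx
  have h2 : s ⊆ Subgroup.centralizer (Subgroup.closure s : Set G) := by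
    intro x hx
    rw [SetLike.mem_coe, Subgroup.mem_centralizer_iff]
    intro y hy
    have := (Subgroup.mem_centralizer_iff.1 (h1 hy)) x hx
    exact this.symm
  have h3 : Subgroup.closure s ≤ Subgroup.centralizer (Subgroup.closure s : Set G) :=
    (Subgroup.closure_le _).2 h2
  intro x hx y hy
  exact ((Subgroup.mem_centralizer_iff.1 (h3 hx)) y hy).symm

/-- Commuting small generators give a small closure. -/
theorem small_closure (s : Set G) (h : ∀ x ∈ s, ∀ y ∈ s, x * y = y * x) (hs : ∀ x ∈ s, IsSmall p x) :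
    ∀ x ∈ Subgroup.closure s, IsSmall p x := by
  have hc := comm_closure s h
  intro x hx
  induction hx using Subgroup.closure_induction with
  | mem x hx => exact hs x hx
  | one => exact isSmall_one
  | mul a b ha hb h1 h2 => exact isSmall_mul_of_commute (hc a ha b hb) h1 h2
  | inv a _ h1 => exact isSmall_inv h1

/-- A coprime automorphism fixing all small abelian normal subgroups inside `D ⊇ [G, a]` is trivial. -/
theorem eq_one_of_fix_normal_small [Finite G] [Fact p.Prime] (hG : IsPGroup p G) (a : MulAut G)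
    (ha : Nat.Coprime (orderOf a) p) (D : Subgroup G) [hDn : D.Normal] (hD : ∀ x, x⁻¹ * a x ∈ D)
    (hW : ∀ W : Subgroup G, W ≤ D → (∀ x ∈ W, ∀ y ∈ W, x * y = y * x) → (∀ x ∈ W, IsSmall p x) →
      (∀ g : G, ∀ x ∈ W, g * x * g⁻¹ ∈ W) → ∀ x ∈ W, a x = x) : a = 1 := by
  obtain ⟨C, hch, h1, h2, h3⟩ := Cfsg.Agent.Lib.Transfer.exists_critical hG
  haveI hCn : C.Normal := inferInstance
  have hmul := small_mul_of_critical C h1 h2
  -- the central small part of `D`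
  let Y : Set G := {y | y ∈ C ∧ IsSmall p y ∧ y ∈ D ∧ y ∈ Subgroup.centralizer (C : Set G)}
  have hYconj : ∀ g : G, ∀ y ∈ Y, g * y * g⁻¹ ∈ Y := by
    rintro g y ⟨h4, h5, h6, h7⟩
    refine ⟨hCn.conj_mem y h4 g, isSmall_conj h5 g, hDn.conj_mem y h6 g, ?_⟩
    rw [Subgroup.mem_centralizer_iff]
    intro c hc
    have h8 := (Subgroup.mem_centralizer_iff.1 h7) (g⁻¹ * c * g) (by
      have := hCn.conj_mem c hc g⁻¹
      simpa using this)
    calc c * (g * y * g⁻¹) = g * ((g⁻¹ * c * g) * y) * g⁻¹ := by group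
      _ = g * (y * (g⁻¹ * c * g)) * g⁻¹ := by rw [← h8]
      _ = g * y * g⁻¹ * c := by group
  have hfixMD : ∀ x ∈ C, IsSmall p x → x ∈ D → a x = x := by
    intro x hxC hxs hxD
    let s : Set G := insert x Y
    have hscomm : ∀ u ∈ s, ∀ v ∈ s, u * v = v * u := by
      have hxY : ∀ y ∈ Y, x * y = y * x := fun y hy => ((Subgroup.mem_centralizer_iff.1 hy.2.2.2) x hxC)
      have hYY : ∀ y ∈ Y, ∀ y' ∈ Y, y * y' = y' * y := fun y hy y' hy' =>
        ((Subgroup.mem_centralizer_iff.1 hy'.2.2.2) y hy.1)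
      rintro u (rfl | hu) v (rfl | hv)
      · rfl
      · exact hxY v hv
      · exact (hxY u hu).symm
      · exact hYY u hu v hv
    have hssmall : ∀ u ∈ s, IsSmall p u := by
      rintro u (rfl | hu)
      · exact hxs
      · exact hu.2.1
    have hsD : ∀ u ∈ s, u ∈ D := by
      rintro u (rfl | hu)
      · exact hxD
      · exact hu.2.2.1
    have hsconj : ∀ g : G, ∀ u ∈ s, g * u * g⁻¹ ∈ Subgroup.closure s := by
      rintro g u (rfl | hu)
      · -- the commutator lies in `Y`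
        have hc : ⁅g, u⁆ ∈ Y := by
          obtain ⟨h4, h5⟩ := h2 g u hxC
          refine ⟨h4, ?_, ?_, h5⟩
          · rw [commutatorElement_def]
            exact hmul _ (hCn.conj_mem u hxC g) _ (C.inv_mem hxC) (isSmall_conj hxs g) (isSmall_inv hxs)
          · rw [commutatorElement_def]
            exact D.mul_mem (hDn.conj_mem u hxD g) (D.inv_mem hxD)
        have e : g * u * g⁻¹ = ⁅g, u⁆ * u := by
          rw [commutatorElement_def]
          group
        rw [e]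
        exact Subgroup.mul_mem _ (Subgroup.subset_closure (Or.inr hc)) (Subgroup.subset_closure (Or.inl rfl))
      · exact Subgroup.subset_closure (Or.inr (hYconj g u hu))
    refine hW (Subgroup.closure s) ((Subgroup.closure_le _).2 hsD) (comm_closure s hscomm)
      (small_closure s hscomm hssmall) (fun g u hu => ?_) x (Subgroup.subset_closure (Or.inl rfl))
    induction hu using Subgroup.closure_induction with
    | mem u hu => exact hsconj g u hu
    | one =>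
      rw [mul_one, mul_inv_cancel]
      exact Subgroup.one_mem _
    | mul u v _ _ h4 h5 =>
      have e : g * (u * v) * g⁻¹ = (g * u * g⁻¹) * (g * v * g⁻¹) := by group
      rw [e]
      exact Subgroup.mul_mem _ h4 h5
    | inv u _ h4 =>
      have e : g * u⁻¹ * g⁻¹ = (g * u * g⁻¹)⁻¹ := by group
      rw [e]
      exact Subgroup.inv_mem _ h4
  have haC : ∀ x ∈ C, a x ∈ C := fun x hx => (Subgroup.characteristic_iff_le_comap.mp hch a) hx
  have hfixM : ∀ x ∈ C, IsSmall p x → a x = x := by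
    intro x hxC hxs
    apply Cfsg.Agent.Lib.Transfer.fix_of_step hG a ha x
    refine hfixMD _ (C.mul_mem (C.inv_mem hxC) (haC x hxC)) ?_ (hD x)
    exact hmul _ (C.inv_mem hxC) _ (haC x hxC) (isSmall_inv hxs) (isSmall_map hxs a.toMonoidHom)
  have hfixC := fix_subgroup_of_fix_small hG a ha C haC hfixM
  exact Cfsg.Agent.Lib.Transfer.eq_one_of_fix_normal hG a ha C h3 hfixC

end Group

section Fusion

variable {Ω : Type u} [Group Ω]

/-- The set of all maps of a system. -/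
def homsOf {S : Subgroup Ω} (F : FusionSystem S) : Set (Σ P : Subgroup Ω, (P →* Ω)) := {z | z.2 ∈ F.Hom z.1}

theorem finite_homsOf {S : Subgroup Ω} [Finite S] (F : FusionSystem S) : (homsOf F).Finite := by
  classical
  let f : (Σ P : Subgroup Ω, (P →* Ω)) → Set (S × S) := fun z => {w | ∃ h : (w.1 : Ω) ∈ z.1, z.2 ⟨w.1, h⟩ = w.2}
  refine Set.Finite.of_injOn (f := f) (t := Set.univ) (fun _ _ => Set.mem_univ _) ?_ Set.finite_univ
  rintro ⟨P, φ⟩ hz ⟨P', φ'⟩ hz' he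
  have hz1 : φ ∈ F.Hom P := hz
  have hz2 : φ' ∈ F.Hom P' := hz'
  have he' : f ⟨P, φ⟩ = f ⟨P', φ'⟩ := he
  have key : ∀ x (hx : x ∈ P), ∃ hx' : x ∈ P', φ' ⟨x, hx'⟩ = φ ⟨x, hx⟩ := by
    intro x hx
    have hm : ((⟨x, hom_le F hz1 hx⟩, ⟨φ ⟨x, hx⟩, hom_val F hz1 _⟩) : S × S) ∈ f ⟨P, φ⟩ := ⟨hx, rfl⟩
    rw [he'] at hm
    obtain ⟨h, hv⟩ := hm
    exact ⟨h, hv⟩
  have key' : ∀ x (hx : x ∈ P'), ∃ hx' : x ∈ P, φ ⟨x, hx'⟩ = φ' ⟨x, hx⟩ := by
    intro x hx
    have hm : ((⟨x, hom_le F hz2 hx⟩, ⟨φ' ⟨x, hx⟩, hom_val F hz2 _⟩) : S × S) ∈ f ⟨P', φ'⟩ := ⟨hx, rfl⟩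
    rw [← he'] at hm
    obtain ⟨h, hv⟩ := hm
    exact ⟨h, hv⟩
  have hPP : P = P' := le_antisymm (fun x hx => (key x hx).1) (fun x hx => (key' x hx).1)
  subst hPP
  have : φ = φ' := MonoidHom.ext fun x => ((key x x.2).2).symm
  rw [this]

theorem ncard_lt_of_strict {S L : Subgroup Ω} [Finite S] {F : FusionSystem S} {F' : FusionSystem L}
    (h : ∀ P, F'.Hom P ⊆ F.Hom P) (hne : ∃ P, ∃ φ ∈ F.Hom P, φ ∉ F'.Hom P) :
    (homsOf F').ncard < (homsOf F).ncard := by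
  refine Set.ncard_lt_ncard ⟨fun z hz => h _ hz, ?_⟩ (finite_homsOf F)
  obtain ⟨P, φ, h1, h2⟩ := hne
  exact fun hsub => h2 (hsub (a := ⟨P, φ⟩) h1)

variable {S : Subgroup Ω} [Finite S] {F : FusionSystem S} {p : ℕ} [Fact p.Prime]

/-- The hyperfocal subgroup of `N_F^K(Q)` for a `p`-group `K` centralizes `Q`. -/
theorem hyperfocal_adm_le (hS : IsPGroup p S) {Q : Subgroup Ω} (hQS : Q ≤ S) {K : Subgroup (MulAut Q)}
    (hKp : ∀ β ∈ K, ∃ k : ℕ, β ^ p ^ k = 1) :
    (admSystem F hQS K).hyperfocalSubgroup p ≤ F.hyperfocalSubgroup p ⊓ Subgroup.centralizer (Q : Set Ω) := by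
  have hp := (Fact.out : p.Prime)
  have hLS := admT_le (S := S) Q K
  haveI : Finite (admT S Q K) := finite_of_le hLS
  refine hyperfocal_le_of (hS.to_le hLS) fun R hRL β hβ hco y => ?_
  have hRS : R ≤ S := hRL.trans hLS
  have hβF : R.subtype.comp β.toMonoidHom ∈ (admSystem F hQS K).Hom R := (mem_autGroup_iff hRL).1 hβ
  obtain ⟨-, -, -, ψ, hψ, hext, β', hβ', hψQ⟩ := hβF
  have hsup : R ⊔ Q ≤ S := sup_le hRS hQS
  have := finite_of_le hsup
  have := finite_of_le hRS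
  have := finite_of_le hQS
  have := finite_autGroup F hsup
  have hv : ∀ x : ↥(R ⊔ Q), ψ x ∈ R ⊔ Q := by
    refine map_sup_mem (fun x hx => ?_) (fun x hx => ?_)
    · have h2 : ψ ⟨x, Subgroup.mem_sup_left hx⟩ = ((β ⟨x, hx⟩ : R) : Ω) := hext ⟨x, hx⟩
      rw [h2]
      exact Subgroup.mem_sup_left (β ⟨x, hx⟩).2
    · have h2 : ψ ⟨x, Subgroup.mem_sup_right hx⟩ = ((β' ⟨x, hx⟩ : Q) : Ω) := hψQ ⟨x, hx⟩
      rw [h2]
      exact Subgroup.mem_sup_right (β' ⟨x, hx⟩).2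
  obtain ⟨b, hb, hbv⟩ := exists_aut_of_map hψ hv
  have hb1 : ∀ (n : ℕ) (x : R), (((b ^ n) ⟨x, Subgroup.mem_sup_left x.2⟩ : ↥(R ⊔ Q)) : Ω) = (((β ^ n) x : R) : Ω) := by
    intro n
    induction n with
    | zero => intro x; rfl
    | succ n ih =>
      intro x
      rw [pow_succ, MulAut.mul_apply, pow_succ, MulAut.mul_apply]
      have h2 : b ⟨x, Subgroup.mem_sup_left x.2⟩ = ⟨((β x : R) : Ω), Subgroup.mem_sup_left (β x).2⟩ := by
        apply Subtype.ext
        rw [hbv]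
        exact hext x
      rw [h2]
      exact ih (β x)
  have hb2 : ∀ (n : ℕ) (x : Q), (((b ^ n) ⟨x, Subgroup.mem_sup_right x.2⟩ : ↥(R ⊔ Q)) : Ω) = (((β' ^ n) x : Q) : Ω) := by
    intro n
    induction n with
    | zero => intro x; rfl
    | succ n ih =>
      intro x
      rw [pow_succ, MulAut.mul_apply, pow_succ, MulAut.mul_apply]
      have h2 : b ⟨x, Subgroup.mem_sup_right x.2⟩ = ⟨((β' x : Q) : Ω), Subgroup.mem_sup_right (β' x).2⟩ := by
        apply Subtype.ext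
        rw [hbv]
        exact hψQ x
      rw [h2]
      exact ih (β' x)
  obtain ⟨k, m, hm, hor⟩ := Nat.exists_eq_pow_mul_and_not_dvd (n := orderOf b) (orderOf_pos b).ne' p hp.ne_one
  have hcopm : Nat.Coprime (p ^ k) m := Nat.Coprime.pow_left k ((Nat.Prime.coprime_iff_not_dvd hp).2 hm)
  obtain ⟨N, hN0, hN1⟩ := Nat.chineseRemainder hcopm 0 1
  have hN0' : p ^ k ∣ N := (Nat.modEq_zero_iff_dvd).1 hN0
  -- `β ^ N = β`
  have hbn : b ^ (p ^ k * m) = 1 := by rw [← hor, pow_orderOf_eq_one]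
  have hβn : β ^ (p ^ k * m) = 1 := by
    ext x
    have := hb1 (p ^ k * m) x
    rw [hbn] at this
    exact this.symm
  have hβm : β ^ m = 1 := by
    have h2 : orderOf β ∣ p ^ k * m := orderOf_dvd_of_pow_eq_one hβn
    have h3 : Nat.Coprime (orderOf β) (p ^ k) := Nat.Coprime.pow_right k hco
    exact orderOf_dvd_iff_pow_eq_one.1 (h3.dvd_of_dvd_mul_left h2)
  have hβN : β ^ N = β := by
    have h2 : N ≡ 1 [MOD orderOf β] := hN1.of_dvd (orderOf_dvd_of_pow_eq_one hβm)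
    have h3 := (pow_eq_pow_iff_modEq (x := β)).2 h2
    rwa [pow_one] at h3
  -- `β' ^ N = 1`
  have hβ'n : β' ^ (p ^ k * m) = 1 := by
    ext x
    have := hb2 (p ^ k * m) x
    rw [hbn] at this
    exact this.symm
  have hβ'N : β' ^ N = 1 := by
    obtain ⟨e, he⟩ := hKp β' hβ'
    have h2 : orderOf β' ∣ p ^ k * m := orderOf_dvd_of_pow_eq_one hβ'n
    have h3 : orderOf β' ∣ p ^ e := orderOf_dvd_of_pow_eq_one he
    have h4 : Nat.Coprime (orderOf β') m := Nat.Coprime.coprime_dvd_left h3 (Nat.Coprime.pow_left e ((Nat.Prime.coprime_iff_not_dvd hp).2 hm))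
    exact orderOf_dvd_iff_pow_eq_one.1 ((h4.dvd_of_dvd_mul_right h2).trans hN0')
  set ψ₁ : MulAut ↥(R ⊔ Q) := b ^ N with hψ₁
  have hψ₁G : ψ₁ ∈ F.autGroup (R ⊔ Q) := Subgroup.pow_mem _ hb N
  have hψ₁R : ∀ x : R, ((ψ₁ ⟨x, Subgroup.mem_sup_left x.2⟩ : ↥(R ⊔ Q)) : Ω) = ((β x : R) : Ω) := by
    intro x
    rw [hψ₁, hb1, hβN]
  have hψ₁Q : ∀ x : Q, ((ψ₁ ⟨x, Subgroup.mem_sup_right x.2⟩ : ↥(R ⊔ Q)) : Ω) = (x : Ω) := by
    intro x
    rw [hψ₁, hb2, hβ'N]
    rfl
  have hψ₁co : Nat.Coprime (orderOf ψ₁) p := by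
    have h2 : ψ₁ ^ m = 1 := by
      rw [hψ₁, ← pow_mul]
      have h3 : p ^ k * m ∣ N * m := Nat.mul_dvd_mul_right hN0' m
      rw [← hor] at h3
      exact orderOf_dvd_iff_pow_eq_one.1 h3
    exact Nat.Coprime.coprime_dvd_left (orderOf_dvd_of_pow_eq_one h2) ((Nat.Prime.coprime_iff_not_dvd hp).2 hm).symm
  refine ⟨?_, ?_⟩
  · have hres : (⟨ψ₁, hψ₁G⟩ : F.autGroup (R ⊔ Q)) ∈ pResidual p (F.autGroup (R ⊔ Q)) := by
      refine Subgroup.subset_closure ?_
      show (orderOf (⟨ψ₁, hψ₁G⟩ : F.autGroup (R ⊔ Q))).Coprime p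
      rw [Subgroup.orderOf_mk]
      exact hψ₁co
    have := mem_hyperfocal hsup ⟨ψ₁, hψ₁G⟩ hres ⟨y, Subgroup.mem_sup_left y.2⟩
    have e : (((⟨ψ₁, hψ₁G⟩ : F.autGroup (R ⊔ Q)) : MulAut ↥(R ⊔ Q)) ⟨y, Subgroup.mem_sup_left y.2⟩ : ↥(R ⊔ Q)) = ⟨((β y : R) : Ω), Subgroup.mem_sup_left (β y).2⟩ :=
      Subtype.ext (hψ₁R y)
    rw [e] at this
    exact this
  · show _ ∈ Subgroup.centralizer (Q : Set Ω)
    rw [Subgroup.mem_centralizer_iff]
    intro q hq
    have hyN : (y : Ω) ∈ Subgroup.normalizer (Q : Set Ω) := (mem_admT.1 (hRL y.2)).2.1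
    have hconj : (y : Ω) * q * (y : Ω)⁻¹ ∈ Q := conj_mem_of_mem_normalizer hyN hq
    have h1 := hψ₁Q ⟨_, hconj⟩
    have e : (⟨(y : Ω) * q * (y : Ω)⁻¹, Subgroup.mem_sup_right hconj⟩ : ↥(R ⊔ Q)) =
        (⟨y, Subgroup.mem_sup_left y.2⟩ : ↥(R ⊔ Q)) * ⟨q, Subgroup.mem_sup_right hq⟩ * (⟨y, Subgroup.mem_sup_left y.2⟩ : ↥(R ⊔ Q))⁻¹ :=
      Subtype.ext rfl
    simp only at h1
    rw [e, map_mul, map_mul, map_inv] at h1
    push_cast at h1
    rw [hψ₁R y, hψ₁Q ⟨q, hq⟩] at h1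
    simp only at h1
    have h2 : (y : Ω)⁻¹ * ((β y : R) : Ω) * q = q * ((y : Ω)⁻¹ * ((β y : R) : Ω)) := by
      have h3 : ((β y : R) : Ω) * q = (y : Ω) * q * (y : Ω)⁻¹ * ((β y : R) : Ω) := by
        rw [← h1]
        group
      calc (y : Ω)⁻¹ * ((β y : R) : Ω) * q = (y : Ω)⁻¹ * (((β y : R) : Ω) * q) := by group
        _ = (y : Ω)⁻¹ * ((y : Ω) * q * (y : Ω)⁻¹ * ((β y : R) : Ω)) := by rw [h3]
        _ = q * ((y : Ω)⁻¹ * ((β y : R) : Ω)) := by group
    exact h2.symm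

end Fusion

end Cfsg.Agent.Lib.Fusion.SmallCtl
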