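/-
Small abelian subgroups of the hyperfocal subgroup control fusion: the induction.
-/
import Cfsg.Agent.Lib.Fusion.SmallCtl
import Mathlib

set_option autoImplicit false

namespace Cfsg.Agent.Lib.Fusion.SmallCtl

open Cfsg Cfsg.FusionSystem Cfsg.Agent.Lib.Fusion Cfsg.Agent.Lib.Fusion.SmallExp Cfsg.Agent.Lib.Fusion.SmallGroup

universe u

variable {Ω : Type u} [Group Ω]

/-- The control hypothesis. -/
def Ctl {S : Subgroup Ω} (E F : FusionSystem S) (p : ℕ) : Prop :=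
  ∀ A : Subgroup Ω, A ≤ F.hyperfocalSubgroup p → (∀ x ∈ A, ∀ y ∈ A, x * y = y * x) → (∀ x ∈ A, IsSmall p x) →
    F.Hom A ⊆ E.Hom A

variable {S : Subgroup Ω} [Finite S] {F E : FusionSystem S} {p : ℕ} [Fact p.Prime]

theorem step (hS : IsPGroup p S) (hE : E.IsSaturated p) (hF : F.IsSaturated p) (hEF : ∀ P, E.Hom P ⊆ F.Hom P) (hC : Ctl E F p)
    (IH : ∀ (L : Subgroup Ω), L ≤ S → ∀ (F' E' : FusionSystem L), F'.IsSaturated p → E'.IsSaturated p → (∀ P, E'.Hom P ⊆ F'.Hom P) →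
      Ctl E' F' p → (∀ P, F'.Hom P ⊆ F.Hom P) → (∃ P, ∃ φ ∈ F.Hom P, φ ∉ F'.Hom P) → ∀ P, F'.Hom P ⊆ E'.Hom P)
    {T W : Subgroup Ω} (hT : T ≤ S) {α : MulAut T} (hα : α ∈ F.autGroup T) (hWT : W ≤ T)
    (hWn : ∀ t ∈ T, ∀ x ∈ W, t * x * t⁻¹ ∈ W) (hWh : W ≤ F.hyperfocalSubgroup p)
    (hWc : ∀ x ∈ W, ∀ y ∈ W, x * y = y * x) (hWs : ∀ x ∈ W, IsSmall p x) :
    IsIso E α ∨ ∀ a ∈ F.autGroup T, Nat.Coprime (orderOf a) p → ∀ x : T, (x : Ω) ∈ W → a x = x := by
  have hp := (Fact.out : p.Prime)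
  have := finite_of_le hT
  have hWS : W ≤ S := hWT.trans hT
  have := finite_of_le hWS
  have hαF : IsIso F α := (mem_autGroup_iff hT).1 hα
  have hsc := hyperfocal_stronglyClosed (F := F) hS hF
  -- the image of `W`
  let φW : W →* Ω := (T.subtype.comp α.toMonoidHom).comp (Subgroup.inclusion hWT)
  have hφWF : φW ∈ F.Hom W := res_mem F hαF hWT
  have hφWE : φW ∈ E.Hom W := hC W hWh hWc hWs hφWF
  let eW : W ≃* φW.range := isoRange hφWE
  have heWE : IsIso E eW := isoRange_isIso hφWE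
  have hW'S : φW.range ≤ S := heWE.le_right
  obtain ⟨Wst, hconj, hWstn⟩ := exists_fullyNormalized_conj (F := E) hW'S
  obtain ⟨e₁, he₁⟩ := isConj_iff.1 hconj
  obtain ⟨e', he', ψ, hψ, hψv, hψe⟩ := IsSat.extend_to_normalizer hS hE hWstn he₁
  have hTN' : T ≤ normalizerIn S φW.range := by
    intro t ht
    refine mem_normalizerIn.2 ⟨hT ht, ?_⟩
    have : Finite φW.range := finite_of_le hW'S
    refine mem_normalizer_of_forall fun y hy => ?_
    obtain ⟨w, rfl⟩ := hy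
    set s : T := α.symm ⟨t, ht⟩ with hs
    have hsw : (s : Ω) * w * (s : Ω)⁻¹ ∈ W := hWn s s.2 w w.2
    refine ⟨⟨_, hsw⟩, ?_⟩
    have hst : α s = ⟨t, ht⟩ := by simp [hs]
    have e : (⟨(s : Ω) * w * (s : Ω)⁻¹, hWT hsw⟩ : T) = s * ⟨w, hWT w.2⟩ * s⁻¹ := rfl
    show ((α ⟨(s : Ω) * w * (s : Ω)⁻¹, hWT hsw⟩ : T) : Ω) = t * ((α ⟨w, hWT w.2⟩ : T) : Ω) * t⁻¹
    rw [e, map_mul, map_mul, map_inv, hst]
    rfl
  let ρ : T →* Ω := ψ.comp (Subgroup.inclusion hTN')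
  have hρ : ρ ∈ E.Hom T := res_mem E hψ hTN'
  have hρN : ∀ t : T, ρ t ∈ normalizerIn S Wst := fun t => hψv _
  let θ : W ≃* Wst := eW.trans e'
  have hθE : IsIso E θ := heWE.trans he'
  have hθv : ∀ w : W, (θ w : Ω) = ρ (α ⟨w, hWT w.2⟩) := by
    intro w
    have hmem : ((α ⟨w, hWT w.2⟩ : T) : Ω) ∈ φW.range := ⟨w, rfl⟩
    have h1 := hψe _ hmem (hTN' (α ⟨w, hWT w.2⟩).2)
    show ((e' (eW w) : Wst) : Ω) = ψ ⟨_, _⟩
    rw [h1]
    rfl
  have hWstS : Wst ≤ S := he'.le_right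
  have := finite_of_le hWstS
  have hrecE := IsSat.receptive_of_fullyNormalized hS hE hWstn
  obtain ⟨ψ₂, hψ₂, hψ₂v⟩ := IsReceptive.extend_sup (F := E) hrecE hθE (N := T) (fun g hg => by
    refine ⟨hT hg, mem_normalizer_of_forall (hWn g hg), ρ (α ⟨g, hg⟩), hom_val E hρ _, fun x hx => ?_⟩
    rw [hθv, hθv]
    have e : (⟨g * (x : Ω) * g⁻¹, hWT hx⟩ : T) = ⟨g, hg⟩ * ⟨x, hWT x.2⟩ * (⟨g, hg⟩ : T)⁻¹ := rfl
    show ρ (α ⟨g * (x : Ω) * g⁻¹, hWT hx⟩) = _
    rw [e, map_mul, map_mul, map_inv, map_mul, map_mul, map_inv])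
  have hTsup : T ≤ W ⊔ T := le_sup_right
  let σ : T →* Ω := ψ₂.comp (Subgroup.inclusion hTsup)
  have hσ : σ ∈ E.Hom T := res_mem E hψ₂ hTsup
  have hσθ : ∀ w : W, σ ⟨w, hWT w.2⟩ = (θ w : Ω) := by
    intro w
    exact hψ₂v w w.2 _
  let eσ : T ≃* σ.range := isoRange hσ
  let eρ : T ≃* ρ.range := isoRange hρ
  have hFσ : IsIso F eσ := hEF _ (isoRange_isIso hσ)
  have hFρ : IsIso F eρ := hEF _ (isoRange_isIso hρ)
  have hEσ : IsIso E eσ := isoRange_isIso hσ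
  have hEρ : IsIso E eρ := isoRange_isIso hρ
  let ι : σ.range ≃* ρ.range := eσ.symm.trans (α.trans eρ)
  have hιF : IsIso F ι := hFσ.symm.trans (hαF.trans hFρ)
  have hιv : ∀ (t : T) (h : σ t ∈ σ.range), ((ι ⟨σ t, h⟩ : ρ.range) : Ω) = ρ (α t) := by
    intro t h
    have h1 : (⟨σ t, h⟩ : σ.range) = eσ t := Subtype.ext rfl
    rw [h1]
    simp [ι]
    rfl
  have hWstval : ∀ y (hy : y ∈ Wst), ∃ w : W, (θ w : Ω) = y := fun y hy =>
    ⟨θ.symm ⟨y, hy⟩, by simp⟩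
  have hWstT : Wst ≤ σ.range := by
    intro y hy
    obtain ⟨w, rfl⟩ := hWstval y hy
    exact ⟨⟨w, hWT w.2⟩, hσθ w⟩
  have hιfix : ∀ y (hy : y ∈ Wst), ((ι ⟨y, hWstT hy⟩ : ρ.range) : Ω) = y := by
    intro y hy
    obtain ⟨w, rfl⟩ := hWstval y hy
    have h1 : (⟨(θ w : Ω), hWstT hy⟩ : σ.range) = ⟨σ ⟨w, hWT w.2⟩, ⟨_, rfl⟩⟩ := Subtype.ext (hσθ w).symm
    rw [h1]
    exact (hιv _ _).trans (hθv w).symm
  -- the group `K'`
  have hρS : ρ.range ≤ S := hFρ.le_right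
  set K' : Subgroup (MulAut Wst) := autInducedBy ρ.range Wst with hK'
  have hK'le : K' ≤ autInducedBy S Wst := autInducedBy_mono hρS
  have hKp : ∀ β ∈ K', ∃ k : ℕ, β ^ p ^ k = 1 := by
    intro β hβ
    obtain ⟨k, hk⟩ := isPGroup_autInducedBy hS Wst ⟨β, hK'le hβ⟩
    exact ⟨k, congrArg Subtype.val hk⟩
  have hρL : ρ.range ≤ admT S Wst K' := by
    rintro y hy
    obtain ⟨t, rfl⟩ := hy
    exact ⟨hom_val E hρ t, (hρN t).2, conjAut_mem (K := ρ.range) (MonoidHom.mem_range.2 ⟨t, rfl⟩) _⟩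
  have hconjeq : ∀ (t : T), ∀ y₀ ∈ Wst, σ t * y₀ * (σ t)⁻¹ = ρ (α t) * y₀ * (ρ (α t))⁻¹ := by
    intro t y₀ hy₀
    obtain ⟨w, rfl⟩ := hWstval y₀ hy₀
    have hin : (t : Ω) * w * (t : Ω)⁻¹ ∈ W := hWn t t.2 w w.2
    have e : (⟨(t : Ω) * w * (t : Ω)⁻¹, hWT hin⟩ : T) = t * ⟨w, hWT w.2⟩ * t⁻¹ := rfl
    have h1 := hσθ ⟨_, hin⟩
    have h2 := hθv ⟨_, hin⟩
    simp only at h1 h2
    rw [e, map_mul, map_mul, map_inv] at h1
    rw [e, map_mul, map_mul, map_inv, map_mul, map_mul, map_inv] at h2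
    rw [hσθ w] at h1
    rw [← hθv w] at h2
    rw [h1, h2]
  have hσL : σ.range ≤ admT S Wst K' := by
    rintro y ⟨t, rfl⟩
    have hN : σ t ∈ Subgroup.normalizer (Wst : Set Ω) := by
      refine mem_normalizer_of_forall fun y₀ hy₀ => ?_
      rw [hconjeq t y₀ hy₀]
      exact conj_mem_of_mem_normalizer (hρN _).2 hy₀
    refine ⟨hom_val E hσ t, hN, ?_⟩
    have e : conjAut Wst (σ t) hN = conjAut Wst (ρ (α t)) (hρN _).2 := by
      ext y₀
      rw [conjAut_coe, conjAut_coe]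
      exact hconjeq t _ y₀.2
    rw [e]
    exact conjAut_mem (K := ρ.range) (MonoidHom.mem_range.2 ⟨_, rfl⟩) _
  -- `Wst` is small
  have hθF : IsIso F θ := hEF _ hθE
  have hWstc : ∀ x ∈ Wst, ∀ y ∈ Wst, x * y = y * x := by
    intro x hx y hy
    obtain ⟨w, rfl⟩ := hWstval x hx
    obtain ⟨v, rfl⟩ := hWstval y hy
    have h1 : w * v = v * w := Subtype.ext (hWc w w.2 v v.2)
    have h2 := congrArg (fun z : W => ((θ z : Wst) : Ω)) h1
    simpa using h2
  have hWsts : ∀ x ∈ Wst, IsSmall p x := by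
    intro x hx
    obtain ⟨w, rfl⟩ := hWstval x hx
    have h1 : IsSmall p w := isSmall_coe.2 (hWs w w.2)
    exact Cfsg.Agent.Lib.Fusion.SmallCtl.isSmall_map h1 (Wst.subtype.comp θ.toMonoidHom)
  have hWsth : Wst ≤ F.hyperfocalSubgroup p := by
    intro x hx
    obtain ⟨w, rfl⟩ := hWstval x hx
    exact hsc.2 W hWh _ hθF w
  have hWstF : F.IsFullyNormalized Wst := by
    refine ⟨hWstS, fun Q hQ => hWstn.2 Q ?_⟩
    obtain ⟨φ, hφ, hr⟩ := hQ
    exact ⟨φ, hC Wst hWsth hWstc hWsts hφ, hr⟩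
  have hrecF := IsSat.receptive_of_fullyNormalized hS hF hWstF
  have hsatF := isSaturated_admSystem hS hF hWstS (kext_of_le hrecF hK'le)
  have hsatE := isSaturated_admSystem hS hE hWstS (kext_of_le hrecE hK'le)
  have hE'F' : ∀ P, (admSystem E hWstS K').Hom P ⊆ (admSystem F hWstS K').Hom P := by
    rintro P φ ⟨h1, h2, h3, ψ', hψ', h4, h5⟩
    exact ⟨hEF _ h1, h2, h3, ψ', hEF _ hψ', h4, h5⟩
  have hF'F : ∀ P, (admSystem F hWstS K').Hom P ⊆ F.Hom P := fun P φ h => h.1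
  have hctl : Ctl (admSystem E hWstS K') (admSystem F hWstS K') p := by
    rintro A hA hAc hAs φ ⟨h1, h2, h3, ψ', hψ', h4, h5⟩
    have hAle := hA.trans (hyperfocal_adm_le (F := F) hS hWstS hKp)
    have hBh : A ⊔ Wst ≤ F.hyperfocalSubgroup p := sup_le (hAle.trans inf_le_left) hWsth
    have hcomm : ∀ x ∈ (A : Set Ω) ∪ Wst, ∀ y ∈ (A : Set Ω) ∪ Wst, x * y = y * x := by
      rintro x (hx | hx) y (hy | hy)
      · exact hAc x hx y hy
      · have := (hAle hx).2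
        exact ((Subgroup.mem_centralizer_iff.1 this) y hy).symm
      · have := (hAle hy).2
        exact ((Subgroup.mem_centralizer_iff.1 this) x hx)
      · exact hWstc x hx y hy
    have hsmall : ∀ x ∈ (A : Set Ω) ∪ Wst, IsSmall p x := by
      rintro x (hx | hx)
      · exact hAs x hx
      · exact hWsts x hx
    have hψ'E : ψ' ∈ E.Hom (A ⊔ Wst) := by
      refine hC _ hBh ?_ ?_ hψ'
      · rw [Subgroup.sup_eq_closure]
        exact comm_closure _ hcomm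
      · rw [Subgroup.sup_eq_closure]
        exact small_closure _ hcomm hsmall
    refine ⟨hom_of_res E hψ'E le_sup_left (fun x hx => (h4 ⟨x, hx⟩).symm), h2, h3, ψ', hψ'E, h4, h5⟩
  by_cases hne : ∃ P, ∃ φ ∈ F.Hom P, φ ∉ (admSystem F hWstS K').Hom P
  · left
    have hres := IH _ (admT_le Wst K') _ _ hsatF hsatE hE'F' hctl hF'F hne
    have hιF' : ρ.range.subtype.comp ι.toMonoidHom ∈ (admSystem F hWstS K').Hom σ.range := by
      refine ⟨hιF, hσL, fun x => hρL (ι x).2, _, res_mem F hιF (sup_le le_rfl hWstT), fun x => rfl, 1, Subgroup.one_mem _, fun x => ?_⟩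
      exact hιfix x x.2
    have hιE : IsIso E ι := (hres _ hιF').1
    have := hEσ.trans (hιE.trans hEρ.symm)
    refine hom_congr E this fun x => ?_
    simp [ι]
  · right
    push Not at hne
    intro a ha hco x hx
    -- `W = Wst`
    have hθ' := hne W _ hθF
    obtain ⟨-, -, -, ψ₃, hψ₃, h₃v, β₃, hβ₃, h₃q⟩ := hθ'
    have hsup3 : W ⊔ Wst ≤ S := sup_le hWS hWstS
    have h₃val : ∀ y : ↥(W ⊔ Wst), ψ₃ y ∈ Wst := by
      refine map_sup_mem (fun x hx => ?_) (fun x hx => ?_)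
      · have h2 : ψ₃ ⟨x, Subgroup.mem_sup_left hx⟩ = ((θ ⟨x, hx⟩ : Wst) : Ω) := h₃v ⟨x, hx⟩
        rw [h2]
        exact (θ ⟨x, hx⟩).2
      · have h2 : ψ₃ ⟨x, Subgroup.mem_sup_right hx⟩ = ((β₃ ⟨x, hx⟩ : Wst) : Ω) := h₃q ⟨x, hx⟩
        rw [h2]
        exact (β₃ ⟨x, hx⟩).2
    have hcard : Nat.card ↥(W ⊔ Wst) ≤ Nat.card Wst :=
      Nat.card_le_card_of_injective (fun y => (⟨ψ₃ y, h₃val y⟩ : Wst)) (fun y z h =>
        hom_inj F hψ₃ (congrArg Subtype.val h))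
    have hWW : Wst = W ⊔ Wst := eq_of_le_of_card_le hsup3 le_sup_right hcard
    have hWle : W ≤ Wst := by
      rw [hWW]
      exact le_sup_left
    have hcardW : Nat.card Wst ≤ Nat.card W := (Nat.card_congr θ.toEquiv).symm.le
    have hWeq : W = Wst := eq_of_le_of_card_le hWstS hWle hcardW
    -- the action of `a`
    have haF : IsIso F a := (mem_autGroup_iff hT).1 ha
    have ha' := hne W _ (res_mem F haF hWT)
    obtain ⟨-, -, -, ψ₄, hψ₄, h₄v, β, hβ, h₄q⟩ := ha'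
    have hav : ∀ w : Wst, ((a ⟨w, hWT (hWeq.symm ▸ w.2)⟩ : T) : Ω) = ((β w : Wst) : Ω) := by
      intro w
      have h1 := h₄q w
      have h2 := h₄v ⟨w, hWeq.symm ▸ w.2⟩
      have h3 : (Subgroup.inclusion le_sup_left ⟨(w : Ω), hWeq.symm ▸ w.2⟩ : ↥(W ⊔ Wst)) = ⟨w, Subgroup.mem_sup_right w.2⟩ := Subtype.ext rfl
      rw [h3] at h2
      rw [← h1, h2]
      rfl
    have hpow : ∀ (n : ℕ) (w : Wst), (((a ^ n) ⟨w, hWT (hWeq.symm ▸ w.2)⟩ : T) : Ω) = (((β ^ n) w : Wst) : Ω) := by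
      intro n
      induction n with
      | zero => intro w; rfl
      | succ n ih =>
        intro w
        rw [pow_succ, MulAut.mul_apply, pow_succ, MulAut.mul_apply]
        have h2 : a ⟨w, hWT (hWeq.symm ▸ w.2)⟩ = ⟨((β w : Wst) : Ω), hWT (hWeq.symm ▸ (β w).2)⟩ :=
          Subtype.ext (hav w)
        rw [h2]
        exact ih (β w)
    have hβo : β ^ orderOf a = 1 := by
      ext w
      have := hpow (orderOf a) w
      rw [pow_orderOf_eq_one] at this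
      exact this.symm
    obtain ⟨k, hk⟩ := hKp β hβ
    have hβ1 : β = 1 := by
      have h3 : orderOf β ∣ orderOf a := orderOf_dvd_of_pow_eq_one hβo
      have h4 : orderOf β ∣ p ^ k := orderOf_dvd_of_pow_eq_one hk
      have h5 : Nat.Coprime (orderOf a) (p ^ k) := hco.pow_right k
      exact orderOf_eq_one_iff.1 (Nat.Coprime.eq_one_of_dvd (Nat.Coprime.coprime_dvd_left h3 h5) h4)
    have hx' : (x : Ω) ∈ Wst := hWeq ▸ hx
    have := hav ⟨x, hx'⟩
    rw [hβ1] at this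
    exact Subtype.ext this

/-- The main induction. -/
theorem main_control (hp' : Fact p.Prime) : ∀ (n : ℕ) (S : Subgroup Ω) [Finite S] (_ : IsPGroup p S) (F E : FusionSystem S),
    (homsOf F).ncard = n → E.IsSaturated p → F.IsSaturated p → (∀ P, E.Hom P ⊆ F.Hom P) → Ctl E F p → ∀ P, F.Hom P ⊆ E.Hom P := by
  intro n
  induction n using Nat.strong_induction_on with
  | _ n ih =>
  intro S _ hS F E hn hE hF hEF hC
  have hle : F ≤ E := by
    refine fusion_le_of_fullyNormalized hS hF E fun T hTn _ => ?_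
    have hT := hTn.1
    have := finite_of_le hT
    have hTp : IsPGroup p T := hS.to_le hT
    have := finite_autGroup F hT
    intro α hα
    by_contra hnot
    have hIH : ∀ (L : Subgroup Ω), L ≤ S → ∀ (F' E' : FusionSystem L), F'.IsSaturated p → E'.IsSaturated p → (∀ P, E'.Hom P ⊆ F'.Hom P) →
      Ctl E' F' p → (∀ P, F'.Hom P ⊆ F.Hom P) → (∃ P, ∃ φ ∈ F.Hom P, φ ∉ F'.Hom P) → ∀ P, F'.Hom P ⊆ E'.Hom P := by
      intro L hL F' E' h1 h2 h3 h4 h5 h6
      haveI : Finite L := finite_of_le hL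
      exact ih _ (hn ▸ ncard_lt_of_strict h5 h6) L (hS.to_le hL) F' E' rfl h2 h1 h3 h4
    have hall : ∀ a : F.autGroup T, Nat.Coprime (orderOf a) p → a = 1 := by
      intro a hco
      have hco' : Nat.Coprime (orderOf (a : MulAut T)) p := by
        rw [Subgroup.orderOf_coe]
        exact hco
      apply Subtype.ext
      haveI hDn : ((F.hyperfocalSubgroup p).subgroupOf T).Normal := by
        refine ⟨fun x hx g => Subgroup.mem_subgroupOf.2 ?_⟩
        exact hyperfocal_conj_mem (hT g.2) (Subgroup.mem_subgroupOf.1 hx)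
      refine eq_one_of_fix_normal_small hTp (a : MulAut T) hco' ((F.hyperfocalSubgroup p).subgroupOf T) (fun x => ?_) ?_
      · refine Subgroup.mem_subgroupOf.2 ?_
        have hres : a ∈ pResidual p (F.autGroup T) := Subgroup.subset_closure hco
        exact mem_hyperfocal hT a hres x
      · intro W hW hWc hWs hWn x hx
        have hmap : W.map T.subtype ≤ T := Subgroup.map_subtype_le W
        have hres := step hS hE hF hEF hC hIH hT hα hmap (fun t ht y hy => ?_) (fun y hy => ?_) (fun y hy z hz => ?_) (fun y hy => ?_)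
        · rcases hres with h | h
          · exact (hnot ((mem_autGroup_iff hT).2 h)).elim
          · exact h a a.2 hco' x ⟨x, hx, rfl⟩
        · obtain ⟨y, hyW, rfl⟩ := hy
          exact ⟨_, hWn ⟨t, ht⟩ y hyW, rfl⟩
        · obtain ⟨y, hyW, rfl⟩ := hy
          exact Subgroup.mem_subgroupOf.1 (hW hyW)
        · obtain ⟨y, hyW, rfl⟩ := hy
          obtain ⟨z, hzW, rfl⟩ := hz
          exact congrArg Subtype.val (hWc y hyW z hzW)
        · obtain ⟨y, hyW, rfl⟩ := hy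
          exact isSmall_coe.1 (hWs y hyW)
    have hKp : IsPGroup p (F.autGroup T) := isPGroup_of_coprime_trivial hall
    have hfa := (IsSat.fullyAutomized_of_fullyNormalized hS hF hTn).2
    have hle : (F.autGroup T) ≤ F.autGroup T := le_rfl
    obtain ⟨β, hβ, hv⟩ := IsSylowIn.exists_conj_le hfa hKp hle
    have h1 : β ∈ autInducedBy S T := by
      have := hv β hβ
      simpa using this
    have h2 := hv α hα
    have h3 : α = β⁻¹ * (β * α * β⁻¹) * β := by group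
    apply hnot
    rw [h3]
    have hU := autInducedBy_le_autGroup E hT
    exact Subgroup.mul_mem _ (Subgroup.mul_mem _ (Subgroup.inv_mem _ (hU h1)) (hU h2)) (hU h1)
  exact hle

/-- Control from the small abelian subgroups of the hyperfocal subgroup. -/
theorem eq_of_ctl (hS : IsPGroup p S) (hE : E.IsSaturated p) (hF : F.IsSaturated p) (hEF : ∀ P, E.Hom P ⊆ F.Hom P)
    (hC : Ctl E F p) : ∀ P, E.Hom P = F.Hom P := fun P =>
  Set.Subset.antisymm (hEF P) (main_control inferInstance _ S hS F E rfl hE hF hEF hC P)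

/-- The two forms of small abelian subgroups. -/
theorem ctl_of_forms (hS : IsPGroup p S) (hF : F.IsSaturated p)
    (hodd : p ≠ 2 → ∀ A B : Subgroup Ω, A ≤ F.hyperfocalSubgroup p → B ≤ F.hyperfocalSubgroup p →
      Cfsg.IsElementaryAbelian p A → Cfsg.IsElementaryAbelian p B → E.homSet A B = F.homSet A B)
    (htwo : p = 2 → ∀ A B : Subgroup Ω, A ≤ F.hyperfocalSubgroup p → B ≤ F.hyperfocalSubgroup p →
      IsMulCommutative A → IsMulCommutative B → (∀ a ∈ A, a ^ 4 = 1) → (∀ b ∈ B, b ^ 4 = 1) → E.homSet A B = F.homSet A B) :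
    Ctl E F p := by
  intro A hA hAc hAs φ hφ
  have hsc := hyperfocal_stronglyClosed (F := F) hS hF
  have hB : φ.range ≤ F.hyperfocalSubgroup p := by
    rintro _ ⟨x, rfl⟩
    exact hsc.2 A hA φ hφ x
  have hcA : IsMulCommutative A := ⟨⟨fun a b => Subtype.ext (hAc a a.2 b b.2)⟩⟩
  have hcB : IsMulCommutative φ.range := by
    refine ⟨⟨fun a b => ?_⟩⟩
    obtain ⟨a, x, ha⟩ := a
    obtain ⟨b, y, hb⟩ := b
    apply Subtype.ext
    show a * b = b * a
    rw [← ha, ← hb, ← map_mul, ← map_mul]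
    congr 1
    exact Subtype.ext (hAc x x.2 y y.2)
  have hsB : ∀ b ∈ φ.range, IsSmall p b := by
    rintro _ ⟨x, rfl⟩
    exact Cfsg.Agent.Lib.Fusion.SmallCtl.isSmall_map (isSmall_coe.2 (hAs x x.2)) φ
  have hmem : φ ∈ F.homSet A φ.range := ⟨hφ, fun x => ⟨x, rfl⟩⟩
  by_cases hp : p = 2
  · subst hp
    have four : ∀ x : Ω, IsSmall 2 x → x ^ 4 = 1 := by
      rintro x (h | ⟨_, h⟩)
      · rw [show (4 : ℕ) = 2 * 2 by norm_num, pow_mul, h, one_pow]
      · exact h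
    rw [← htwo rfl A φ.range hA hB hcA hcB (fun a ha => four a (hAs a ha)) (fun b hb => four b (hsB b hb))] at hmem
    exact hmem.1
  · have hpw : ∀ x : Ω, IsSmall p x → x ^ p = 1 := fun x h => h.elim id (fun h => absurd h.1 hp)
    rw [← hodd hp A φ.range hA hB ⟨hcA, fun a ha => hpw a (hAs a ha)⟩ ⟨hcB, fun b hb => hpw b (hsB b hb)⟩] at hmem
    exact hmem.1

end Cfsg.Agent.Lib.Fusion.SmallCtl
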