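import Cfsg.Agent.Lib.Fusion.BisetFocal
import Cfsg.Agent.Lib.Fusion.Closed
import Mathlib

/-! # Thompson's transfer lemma for saturated fusion systems on `2`-groups -/

set_option autoImplicit false
set_option linter.unusedSectionVars false
set_option linter.unusedVariables false

namespace Cfsg.Agent.Lib.Fusion.Biset

open Cfsg Cfsg.FusionSystem Cfsg.Agent.Lib.Fusion

universe u

variable {Ω : Type u} [Group Ω] {S : Subgroup Ω} {F : FusionSystem S} {X : Type u} [MulAction (S × S) X]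

theorem vv_one' (h : RFree S X) (o : RY S X) : vv (1 : permR S X) o = 1 := by
  apply vv_unique h
  rw [onY_one]
  exact one_smul (S × S) _

section

variable (h : RFree S X) (χ : S →* ℤˣ) {j : S}

include h

/-- The cocycle on a `2`-cycle. -/
theorem vv_pair (hj : j * j = 1) (o : RY S X) :
    vv (leftHom S X j) o * vv (leftHom S X j) (onY (leftHom S X j) o) = 1 := by
  rw [← vv_mul h, ← map_mul, hj, map_one, vv_one' h]

omit h in
theorem onY_comm {c : S} (hc : c * j = j * c) (o : RY S X) :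
    onY (leftHom S X j) (onY (leftHom S X c) o) = onY (leftHom S X c) (onY (leftHom S X j) o) := by
  rw [← onY_mul, ← onY_mul, ← map_mul, ← map_mul, hc]

/-- The value of the cocycle is invariant on fixed points. -/
theorem chi_vv_inv {c : S} (hc : c * j = j * c) {o : RY S X} (ho : onY (leftHom S X j) o = o) :
    χ (vv (leftHom S X j) (onY (leftHom S X c) o)) = χ (vv (leftHom S X j) o) := by
  have h1 := vv_mul h (leftHom S X j) (leftHom S X c) o
  have h2 := vv_mul h (leftHom S X c) (leftHom S X j) o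
  rw [ho] at h2
  rw [← map_mul, ← hc, map_mul, h2] at h1
  have h3 := congrArg χ h1
  rw [map_mul, map_mul, mul_comm] at h3
  exact (mul_left_cancel h3).symm

/-- The product over the orbits in terms of the number of fixed points with nontrivial value. -/
theorem prod_eq_pow [Fintype (RY S X)] [DecidableEq (RY S X)] (hj : j * j = 1) :
    ∏ o : RY S X, χ (vv (leftHom S X j) o) =
      (-1) ^ (Finset.univ.filter (fun o : RY S X => onY (leftHom S X j) o = o ∧ χ (vv (leftHom S X j) o) = -1)).card := by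
  classical
  set f : RY S X → ℤˣ := fun o => χ (vv (leftHom S X j) o) with hf
  set P : RY S X → Prop := fun o => onY (leftHom S X j) o = o ∧ f o = -1 with hP
  have hinv : ∀ o, onY (leftHom S X j) (onY (leftHom S X j) o) = o := by
    intro o
    rw [← onY_mul, ← map_mul, hj, map_one, onY_one]
  have hsq : ∀ o, f o * f (onY (leftHom S X j) o) = 1 := by
    intro o
    show χ _ * χ _ = 1
    rw [← map_mul, vv_pair h hj, map_one]
  have hfix : ∀ o, onY (leftHom S X j) o = o → f o * (if P o then -1 else 1) = 1 := by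
    intro o ho
    have h1 := hsq o
    rw [ho] at h1
    rcases Int.units_eq_one_or (f o) with h2 | h2
    · have : ¬ P o := fun hPo => by
        rw [hPo.2] at h2
        exact absurd h2 (by decide)
      rw [if_neg this, h2]
      rfl
    · have : P o := ⟨ho, h2⟩
      rw [if_pos this, h2]
      rfl
  have hnf : ∀ o, onY (leftHom S X j) o ≠ o → ¬ P o := fun o ho hPo => ho hPo.1
  have hmain : ∏ o : RY S X, (f o * (if P o then -1 else 1)) = 1 := by
    refine Finset.prod_involution (fun o _ => onY (leftHom S X j) o) (fun o _ => ?_) (fun o _ hne hfx => ?_)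
      (fun o _ => Finset.mem_univ _) (fun o _ => hinv o)
    · by_cases ho : onY (leftHom S X j) o = o
      · have h7 : ∀ o', o' = o → (f o' * if P o' then -1 else 1) = 1 := by
          rintro _ rfl
          exact hfix _ ho
        rw [h7 _ ho, hfix o ho, one_mul]
      · have h1 : ¬ P o := hnf o ho
        have h2 : onY (leftHom S X j) (onY (leftHom S X j) o) ≠ onY (leftHom S X j) o := by
          rw [hinv]
          exact fun e => ho e.symm
        have h3 := hnf _ h2
        rw [if_neg h1, if_neg h3, mul_one, mul_one]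
        exact hsq o
    · exact hne (hfix o hfx)
  rw [Finset.prod_mul_distrib, Finset.prod_ite, Finset.prod_const, Finset.prod_const_one, mul_one] at hmain
  have h5 : ((-1 : ℤˣ) ^ (Finset.univ.filter P).card) * ((-1 : ℤˣ) ^ (Finset.univ.filter P).card) = 1 := by
    rw [← mul_pow]
    simp
  exact mul_right_cancel (hmain.trans h5.symm)

end

/-- The number of such fixed points is odd. -/
theorem card_filter_odd [Finite S] (h : RFree S X) (χ : S →* ℤˣ) {j : S} [Fintype (RY S X)] [DecidableEq (RY S X)]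
    (C : Subgroup S) (hC : IsPGroup 2 C) (hcomm : ∀ c ∈ C, c * j = j * c)
    (hodd : Odd (Nat.card (RY S X)))
    (hfix : ∀ o : RY S X, (∀ c ∈ C, onY (leftHom S X c) o = o) →
      onY (leftHom S X j) o = o ∧ χ (vv (leftHom S X j) o) = -1) :
    Odd (Finset.univ.filter (fun o : RY S X => onY (leftHom S X j) o = o ∧ χ (vv (leftHom S X j) o) = -1)).card := by
  classical
  letI act : MulAction C (RY S X) :=
    { smul := fun c o => onY (leftHom S X (c : S)) o
      one_smul := fun o => by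
        show onY (leftHom S X ((1 : C) : S)) o = o
        rw [Subgroup.coe_one, map_one, onY_one]
      mul_smul := fun a b o => by
        show onY (leftHom S X ((a * b : C) : S)) o = onY (leftHom S X (a : S)) (onY (leftHom S X (b : S)) o)
        rw [Subgroup.coe_mul, map_mul, onY_mul] }
  have hsmul : ∀ (c : C) (o : RY S X), c • o = onY (leftHom S X (c : S)) o := fun _ _ => rfl
  let D : SubMulAction C (RY S X) :=
    { carrier := {o | onY (leftHom S X j) o = o ∧ χ (vv (leftHom S X j) o) = -1}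
      smul_mem' := by
        rintro c o ⟨h1, h2⟩
        refine ⟨?_, ?_⟩
        · rw [hsmul, onY_comm (hcomm c c.2), h1]
        · rw [hsmul, chi_vv_inv h χ (hcomm c c.2) h1, h2] }
  have e1 := hC.card_modEq_card_fixedPoints (RY S X)
  have e2 := hC.card_modEq_card_fixedPoints D
  have e3 : Nat.card (MulAction.fixedPoints C D) = Nat.card (MulAction.fixedPoints C (RY S X)) := by
    refine Nat.card_congr ⟨fun x => ⟨x.1.1, fun c => congrArg Subtype.val (x.2 c)⟩,
      fun y => ⟨⟨y.1, hfix y.1 (fun c hc => y.2 ⟨c, hc⟩)⟩, fun c => Subtype.ext (y.2 c)⟩, fun _ => rfl, fun _ => rfl⟩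
  have e4 : (Finset.univ.filter (fun o : RY S X => onY (leftHom S X j) o = o ∧ χ (vv (leftHom S X j) o) = -1)).card = Nat.card D := by
    rw [Nat.card_eq_fintype_card, ← Fintype.card_subtype]
    refine Fintype.card_congr ?_
    exact Equiv.refl _
  rw [e4]
  have e5 : Nat.card D ≡ Nat.card (RY S X) [MOD 2] := by
    rw [e3] at e2
    exact e2.trans e1.symm
  rw [Nat.odd_iff] at hodd ⊢
  exact Eq.trans e5 hodd

theorem conjElt_comp {i j : Ω} (hij : F.IsConjElt i j) {Q : Subgroup Ω} {ψ : Q →* Ω} (hψ : ψ ∈ F.Hom Q) (hjQ : j ∈ Q) :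
    F.IsConjElt i (ψ ⟨j, hjQ⟩) := by
  obtain ⟨φ, hφ, hv⟩ := hij
  have hm : ∀ x : Subgroup.zpowers i, φ x ∈ Q := by
    rintro ⟨x, hx⟩
    obtain ⟨k, rfl⟩ := Subgroup.mem_zpowers_iff.1 hx
    have e : (⟨i ^ k, hx⟩ : Subgroup.zpowers i) = ⟨i, Subgroup.mem_zpowers i⟩ ^ k := Subtype.ext (by simp)
    rw [e, map_zpow, hv]
    exact Q.zpow_mem hjQ k
  refine ⟨_, F.comp_mem hφ hψ hm, ?_⟩
  show ψ ⟨φ ⟨i, Subgroup.mem_zpowers i⟩, _⟩ = _
  congr 2

theorem mem_zpowers_two {j x : Ω} (hj : orderOf j = 2) (hx : x ∈ Subgroup.zpowers j) : x = 1 ∨ x = j := by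
  obtain ⟨k, rfl⟩ := Subgroup.mem_zpowers_iff.1 hx
  have h2 : j ^ 2 = 1 := by rw [← hj]; exact pow_orderOf_eq_one j
  rcases Int.even_or_odd' k with ⟨m, rfl | rfl⟩
  · left
    rw [zpow_mul, zpow_ofNat, h2, one_zpow]
  · right
    rw [zpow_add, zpow_mul, zpow_ofNat, h2, one_zpow, one_mul, zpow_one]

/-- Full normalization of `⟨ψ j⟩`. -/
theorem fn_of_conj [Finite S] {j : Ω} (hfn : F.IsFullyNormalized (Subgroup.zpowers j)) (hj : orderOf j = 2) {Q : Subgroup Ω}
    {ψ : Q →* Ω} (hψ : ψ ∈ F.Hom Q) (hjQ : j ∈ Q) (hC : ∀ g ∈ S, g * j = j * g → g ∈ Q) :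
    F.IsFullyNormalized (Subgroup.zpowers (ψ ⟨j, hjQ⟩)) := by
  have hS' : Subgroup.zpowers (ψ ⟨j, hjQ⟩) ≤ S := by
    rw [Subgroup.zpowers_le]
    exact hom_val F hψ _
  have hsubQ : Subgroup.zpowers j ≤ Q := by
    rw [Subgroup.zpowers_le]
    exact hjQ
  have hconj : F.IsConj (Subgroup.zpowers j) (Subgroup.zpowers (ψ ⟨j, hjQ⟩)) := by
    refine ⟨_, res_mem F hψ hsubQ, ?_⟩
    ext y
    constructor
    · rintro ⟨⟨x, hx⟩, rfl⟩
      obtain ⟨k, rfl⟩ := Subgroup.mem_zpowers_iff.1 hx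
      refine Subgroup.mem_zpowers_iff.2 ⟨k, ?_⟩
      have e : (⟨j ^ k, hsubQ hx⟩ : Q) = ⟨j, hjQ⟩ ^ k := Subtype.ext (by simp)
      show _ = ψ ⟨j ^ k, hsubQ hx⟩
      rw [e, map_zpow]
    · intro hy
      obtain ⟨k, rfl⟩ := Subgroup.mem_zpowers_iff.1 hy
      refine ⟨⟨j ^ k, Subgroup.zpow_mem_zpowers j k⟩, ?_⟩
      have e : (⟨j ^ k, hsubQ (Subgroup.zpow_mem_zpowers j k)⟩ : Q) = ⟨j, hjQ⟩ ^ k := Subtype.ext (by simp)
      show ψ ⟨j ^ k, hsubQ (Subgroup.zpow_mem_zpowers j k)⟩ = _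
      rw [e, map_zpow]
  refine ⟨hS', fun R hR => (hfn.2 R (conj_trans hconj hR)).trans ?_⟩
  have hfin : Finite (normalizerIn S (Subgroup.zpowers (ψ ⟨j, hjQ⟩))) := finite_of_le (normalizerIn_le _)
  have hcomm : ∀ g : normalizerIn S (Subgroup.zpowers j), (g : Ω) * j = j * g := by
    intro g
    have hg := mem_normalizerIn.1 g.2
    have h1 : (g : Ω) * j * (g : Ω)⁻¹ ∈ Subgroup.zpowers j :=
      conj_mem_of_mem_normalizer hg.2 (Subgroup.mem_zpowers j)
    rcases mem_zpowers_two hj h1 with h2 | h2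
    · exfalso
      have h3 : j = 1 := by
        have := congrArg (fun z => (g : Ω)⁻¹ * z * g) h2
        simpa [mul_assoc] using this
      rw [h3, orderOf_one] at hj
      omega
    · exact (eq_mul_of_mul_inv_eq h2)
  have hgQ : ∀ g : normalizerIn S (Subgroup.zpowers j), (g : Ω) ∈ Q := fun g =>
    hC g (mem_normalizerIn.1 g.2).1 (hcomm g)
  have hm : ∀ g : normalizerIn S (Subgroup.zpowers j),
      ψ ⟨g, hgQ g⟩ ∈ normalizerIn S (Subgroup.zpowers (ψ ⟨j, hjQ⟩)) := by
    intro g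
    apply centralizerIn_le_normalizerIn
    refine mem_centralizerIn.2 ⟨hom_val F hψ _, fun x hx => ?_⟩
    obtain ⟨k, rfl⟩ := Subgroup.mem_zpowers_iff.1 hx
    have h1 : Commute (ψ ⟨j, hjQ⟩) (ψ ⟨g, hgQ g⟩) := by
      show ψ ⟨j, hjQ⟩ * ψ ⟨g, hgQ g⟩ = ψ ⟨g, hgQ g⟩ * ψ ⟨j, hjQ⟩
      rw [← map_mul, ← map_mul]
      congr 1
      exact Subtype.ext (hcomm g).symm
    exact (h1.zpow_left k).eq
  refine Nat.card_le_card_of_injective (fun g => ⟨ψ ⟨g, hgQ g⟩, hm g⟩) (fun g g' e => ?_)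
  have e1 : ψ ⟨g, hgQ g⟩ = ψ ⟨g', hgQ g'⟩ := congrArg Subtype.val e
  have e2 := hom_inj F hψ e1
  exact Subtype.ext (congrArg (fun z : Q => (z : Ω)) e2)

/-- **Thompson's transfer lemma for fusion systems.** -/
theorem thompson_transfer [Finite S] (hS : IsPGroup 2 S) (hF : F.IsSaturated 2) (T : Subgroup Ω)
    (hT : T.relIndex S = 2) (i : Ω) (hi : i ∈ S) (hi2 : orderOf i = 2)
    (h : ∀ j : Ω, F.IsConjElt i j → F.IsFullyNormalized (Subgroup.zpowers j) → j ∉ T) :
    i ∉ F.hyperfocalSubgroup 2 := by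
  classical
  have hidx : (T.subgroupOf S).index = 2 := hT
  let χ : S →* ℤˣ := MonoidHom.mk' (fun x => if x ∈ T.subgroupOf S then 1 else -1) (by
    intro a b
    have h1 := Subgroup.mul_mem_iff_of_index_two hidx (a := a) (b := b)
    by_cases ha : a ∈ T.subgroupOf S <;> by_cases hb : b ∈ T.subgroupOf S <;> simp [ha, hb, h1])
  have hχ : ∀ x : S, (x : Ω) ∉ T → χ x = -1 := by
    intro x hx
    have : x ∉ T.subgroupOf S := fun h1 => hx (Subgroup.mem_subgroupOf.1 h1)
    show (if x ∈ T.subgroupOf S then (1 : ℤˣ) else -1) = -1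
    rw [if_neg this]
  obtain ⟨X, i1, i2, h1, h2, n, hn, hp⟩ := exists_char_biset (F := F) hS hF
  haveI : Fintype (RY S X) := Fintype.ofFinite _
  have hfree := rfree_of_fgen (F := F) h1
  have hcard : Nat.card (RY S X) = n := by
    have h3 := card_eq_card_RY_mul hfree
    rw [hn] at h3
    exact (Nat.eq_of_mul_eq_mul_right Nat.card_pos h3).symm
  have hodd : Odd (Nat.card (RY S X)) := by
    rw [hcard]
    exact Nat.odd_iff.2 (by omega)
  have hzS : Subgroup.zpowers i ≤ S := by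
    rw [Subgroup.zpowers_le]
    exact hi
  obtain ⟨Q₀, ⟨φ, hφ, hr⟩, hfn⟩ := exists_fullyNormalized_conj (F := F) hzS
  have hQ₀ : Q₀ = Subgroup.zpowers (φ ⟨i, Subgroup.mem_zpowers i⟩) := by
    rw [← hr]
    ext y
    constructor
    · rintro ⟨⟨x, hx⟩, rfl⟩
      obtain ⟨k, rfl⟩ := Subgroup.mem_zpowers_iff.1 hx
      refine Subgroup.mem_zpowers_iff.2 ⟨k, ?_⟩
      have e : (⟨i ^ k, hx⟩ : Subgroup.zpowers i) = ⟨i, Subgroup.mem_zpowers i⟩ ^ k := Subtype.ext (by simp)
      rw [e, map_zpow]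
    · intro hy
      obtain ⟨k, rfl⟩ := Subgroup.mem_zpowers_iff.1 hy
      refine ⟨⟨i, Subgroup.mem_zpowers i⟩ ^ k, ?_⟩
      rw [map_zpow]
  rw [hQ₀] at hfn
  have hord : orderOf (φ ⟨i, Subgroup.mem_zpowers i⟩) = 2 := by
    rw [orderOf_injective φ (hom_inj F hφ), Subgroup.orderOf_mk, hi2]
  set j₀ : Ω := φ ⟨i, Subgroup.mem_zpowers i⟩ with hj₀
  have hj₀S : j₀ ∈ S := hom_val F hφ _
  have hconj₀ : F.IsConjElt i j₀ := ⟨φ, hφ, rfl⟩
  set j : S := ⟨j₀, hj₀S⟩ with hjdef
  have hjj : j * j = 1 := by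
    apply Subtype.ext
    show j₀ * j₀ = 1
    rw [← pow_two, ← hord]
    exact pow_orderOf_eq_one j₀
  let C : Subgroup S := Subgroup.centralizer ({j} : Set S)
  have hCm : ∀ c : S, c * j = j * c → c ∈ C := fun c hc => by
    refine Subgroup.mem_centralizer_iff.2 fun y hy => ?_
    rw [Set.mem_singleton_iff.1 hy]
    exact hc.symm
  have hCc : ∀ c ∈ C, c * j = j * c := fun c hc => (Subgroup.mem_centralizer_iff.1 hc j rfl).symm
  have hjC : j ∈ C := hCm j rfl
  have hfix : ∀ o : RY S X, (∀ c ∈ C, onY (leftHom S X c) o = o) →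
      onY (leftHom S X j) o = o ∧ χ (vv (leftHom S X j) o) = -1 := by
    intro o ho
    refine ⟨ho j hjC, ?_⟩
    obtain ⟨Q, ψ, hψ, he⟩ := h1 (sec o)
    have key : ∀ c ∈ C, ∃ hc : ((c : S) : Ω) ∈ Q, ψ ⟨c, hc⟩ = (((vv (leftHom S X c) o)⁻¹ : S) : Ω) := by
      intro c hc
      have hv := vv_spec (leftHom S X c) o
      rw [ho c hc] at hv
      have hv' : ((c, 1) : S × S) • sec o = ((1, vv (leftHom S X c) o) : S × S) • sec o := hv.symm
      have hm : ((c, (vv (leftHom S X c) o)⁻¹) : S × S) ∈ MulAction.stabilizer (S × S) (sec o) := by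
        show ((c, (vv (leftHom S X c) o)⁻¹) : S × S) • sec o = sec o
        have e : ((c, (vv (leftHom S X c) o)⁻¹) : S × S) = ((1, vv (leftHom S X c) o) : S × S)⁻¹ * (c, 1) := by simp
        rw [e, mul_smul, hv', inv_smul_smul]
      rw [he] at hm
      exact hm
    obtain ⟨hjQ, hjv⟩ := key j hjC
    have hconj := conjElt_comp hconj₀ hψ hjQ
    have hfn' := fn_of_conj hfn hord hψ hjQ (fun g hg hc => (key ⟨g, hg⟩ (hCm _ (Subtype.ext hc))).1)
    have hnot := h _ hconj hfn'
    apply hχ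
    intro hmem
    apply hnot
    have e : ψ ⟨j₀, hjQ⟩ = (((vv (leftHom S X j) o)⁻¹ : S) : Ω) := hjv
    rw [e]
    exact T.inv_mem hmem
  have hodd2 := card_filter_odd hfree χ C (hS.to_subgroup C) hCc hodd hfix
  let t : S →* ℤˣ := (transferR hfree χ).comp (leftHom S X)
  have htj : t j = -1 := by
    show transferR hfree χ (leftHom S X j) = -1
    rw [transferR_apply]
    simp only [Int.units_inv_eq_self]
    rw [prod_eq_pow hfree χ hjj, hodd2.neg_one_pow]
  have hinv : ∀ (P : Subgroup Ω) (φ : P →* Ω) (hφ : φ ∈ F.Hom P) (x : P),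
      t ⟨φ x, hom_val F hφ x⟩ = t ⟨x, hom_le F hφ x.2⟩ := fun P φ hφ x => transfer_left_stable h1 h2 χ hφ x
  intro himem
  have hfoc : i ∈ F.focalSubgroup := by
    rw [focal_eq hS hF]
    exact Subgroup.mem_sup_left himem
  obtain ⟨y, hy, hyi⟩ := Subgroup.mem_map.1 (focal_le_of_invariant t hinv hfoc)
  have hy1 : t y = 1 := hy
  have hyy : y = ⟨i, hi⟩ := Subtype.ext hyi
  have h3 := hinv _ φ hφ ⟨i, Subgroup.mem_zpowers i⟩
  have h4 : t ⟨i, hi⟩ = t j := h3.symm
  rw [hyy, h4, htj] at hy1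
  exact absurd hy1 (by decide)

end Cfsg.Agent.Lib.Fusion.Biset
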