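import Mathlib

/-! # Products over orbits in abelian groups: the counting core of Glauberman's weak closure theorem -/

set_option autoImplicit false

namespace Cfsg.Agent.Lib.Fusion

section OrbitTrace

variable {M : Type*} [CommGroup M] {A : Type*} [Group A] {p : ℕ}

/-- The fixed subgroup of an action by automorphisms. -/
def actFixed (act : A →* MulAut M) : Subgroup M where
  carrier := {m | ∀ a, act a m = m}
  mul_mem' ha hb a := by rw [map_mul, ha a, hb a]
  one_mem' a := map_one _
  inv_mem' ha a := by rw [map_inv, ha a]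

theorem mem_actFixed {act : A →* MulAut M} {m : M} : m ∈ actFixed act ↔ ∀ a, act a m = m := Iff.rfl

/-- The subgroup of `p`-th powers. -/
abbrev powSub (p : ℕ) (M : Type*) [CommGroup M] : Subgroup M := (powMonoidHom p : M →* M).range

theorem pow_mem_powSub (m : M) : m ^ p ∈ powSub p M := ⟨m, rfl⟩

theorem act_mem_powSub (act : A →* MulAut M) (a : A) {u : M} (hu : u ∈ powSub p M) : act a u ∈ powSub p M := by
  obtain ⟨m, rfl⟩ := hu
  exact ⟨act a m, by simp⟩

/-- A monomial in the elements of `O`. -/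
noncomputable def orbMon (O : Finset M) (c : M → ZMod p) [NeZero p] : M := ∏ z ∈ O, z ^ (c z).val

theorem pow_val_add {Q : Type*} [Group Q] [Fact p.Prime] {w : Q} (hw : w ^ p = 1) (a b : ZMod p) :
    w ^ (a + b).val = w ^ a.val * w ^ b.val := by
  rw [ZMod.val_add, ← pow_add]
  conv_rhs => rw [← Nat.mod_add_div (a.val + b.val) p, pow_add, pow_mul, hw, one_pow, mul_one]

theorem orbMon_act [Fact p.Prime] (act : A →* MulAut M) (a : A) (O : Finset M) (hO : ∀ a, ∀ z ∈ O, act a z ∈ O) (c : M → ZMod p) :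
    act a (orbMon O c) = orbMon O (fun z => c (act a⁻¹ z)) := by
  unfold orbMon
  rw [map_prod]
  refine Finset.prod_bij (fun z _ => act a z) (fun z hz => hO a z hz) (fun _ _ _ _ h => (act a).injective h) (fun w hw => ?_) (fun z _ => ?_)
  · refine ⟨act a⁻¹ w, hO _ w hw, ?_⟩
    rw [map_inv]
    simp
  · rw [map_pow]
    congr 2
    rw [map_inv]
    simp

variable [Finite M] [Finite A] [Fact p.Prime]

/-- **The orbit trace lemma.** -/
theorem trace_mem_pow (hA : IsPGroup p A) (act : A →* MulAut M) (O : Finset M) (hOs : ∀ a, ∀ z ∈ O, act a z ∈ O)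
    (hOt : ∀ z ∈ O, ∀ z' ∈ O, ∃ a, act a z = z') (hn : 3 ≤ O.card)
    (hcount : Nat.card (Subgroup.closure (O : Set M)) ≤ O.card * Nat.card ↥(Subgroup.closure (O : Set M) ⊓ actFixed act)) :
    ∏ z ∈ O, z ∈ powSub p M := by
  classical
  by_contra hTr
  have hp : p.Prime := Fact.out
  let π : M →* M ⧸ powSub p M := QuotientGroup.mk' _
  have hπ : ∀ m, π m = 1 ↔ m ∈ powSub p M := fun m => QuotientGroup.eq_one_iff m
  have hpw : ∀ m, (π m) ^ p = 1 := fun m => by
    rw [← map_pow]
    exact (hπ _).2 (pow_mem_powSub m)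
  have hmon : ∀ c : M → ZMod p, π (orbMon O c) = ∏ z ∈ O, (π z) ^ (c z).val := fun c => by
    unfold orbMon
    rw [map_prod]
    simp
  have hadd : ∀ c c' : M → ZMod p, π (orbMon O (c + c')) = π (orbMon O c) * π (orbMon O c') := fun c c' => by
    simp only [hmon, Pi.add_apply]
    rw [← Finset.prod_mul_distrib]
    exact Finset.prod_congr rfl fun z _ => pow_val_add (hpw z) _ _
  have hzero : π (orbMon O (0 : M → ZMod p)) = 1 := by
    simp [hmon]
  have hneg : ∀ c : M → ZMod p, π (orbMon O (-c)) = (π (orbMon O c))⁻¹ := fun c => by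
    rw [eq_inv_iff_mul_eq_one, ← hadd, neg_add_cancel, hzero]
  have hactπ : ∀ (a : A) (m : M), π m = 1 → π (act a m) = 1 := fun a m hm =>
    (hπ _).2 (act_mem_powSub act a ((hπ _).1 hm))
  -- the kernel
  let K : AddSubgroup (M → ZMod p) :=
    { carrier := {c | (∀ z, z ∉ O → c z = 0) ∧ π (orbMon O c) = 1}
      add_mem' := fun {c c'} hc hc' => ⟨fun z hz => by simp [hc.1 z hz, hc'.1 z hz], by rw [hadd, hc.2, hc'.2, one_mul]⟩
      zero_mem' := ⟨fun _ _ => rfl, hzero⟩
      neg_mem' := fun {c} hc => ⟨fun z hz => by simp [hc.1 z hz], by rw [hneg, hc.2, inv_one]⟩ }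
  have hKmem : ∀ c, c ∈ K ↔ (∀ z, z ∉ O → c z = 0) ∧ π (orbMon O c) = 1 := fun c => Iff.rfl
  have hsupp : ∀ (a : A) (c : M → ZMod p), (∀ z, z ∉ O → c z = 0) → ∀ z, z ∉ O → c (act a⁻¹ z) = 0 := by
    intro a c hc z hz
    refine hc _ fun hmem => hz ?_
    have := hOs a _ hmem
    rw [map_inv] at this
    simpa using this
  have hKact : ∀ (a : A) (c : M → ZMod p), c ∈ K → (fun z => c (act a⁻¹ z)) ∈ K := by
    intro a c hc
    refine ⟨hsupp a c hc.1, ?_⟩
    rw [← orbMon_act act a O hOs]
    exact hactπ a _ hc.2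
  have hKbot : ∀ c ∈ K, c = 0 := by
    by_contra hcon
    push_neg at hcon
    obtain ⟨c₀, hc₀, hc₀0⟩ := hcon
    have hKne : K ≠ ⊥ := fun hb => hc₀0 (by
      rw [hb] at hc₀
      exact (AddSubgroup.mem_bot).1 hc₀)
    have hcard : Nat.card K ∣ p ^ Nat.card M := by
      have h1 : Nat.card K ∣ Nat.card (M → ZMod p) := AddSubgroup.card_addSubgroup_dvd_card K
      rw [Nat.card_fun, Nat.card_zmod] at h1
      exact h1
    obtain ⟨k, -, hk⟩ := (Nat.dvd_prime_pow hp).1 hcard
    have hk0 : k ≠ 0 := by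
      rintro rfl
      rw [pow_zero] at hk
      exact hKne (AddSubgroup.eq_bot_of_card_eq K hk)
    have hdvd : p ∣ Nat.card K := by
      rw [hk]
      exact dvd_pow_self p hk0
    letI actK : MulAction A K :=
      { smul := fun a c => ⟨fun z => c.1 (act a⁻¹ z), hKact a c.1 c.2⟩
        one_smul := fun c => Subtype.ext (funext fun z => by
          show c.1 (act 1⁻¹ z) = c.1 z
          simp)
        mul_smul := fun a b c => Subtype.ext (funext fun z => by
          show c.1 (act (a * b)⁻¹ z) = c.1 (act b⁻¹ (act a⁻¹ z))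
          simp [mul_inv_rev, map_mul]) }
    have hsm : ∀ (a : A) (c : K) (z : M), (a • c).1 z = c.1 (act a⁻¹ z) := fun _ _ _ => rfl
    have h0fix : (0 : K) ∈ MulAction.fixedPoints A K := by
      intro a
      refine Subtype.ext (funext fun z => ?_)
      show (0 : M → ZMod p) (act a⁻¹ z) = 0
      rfl
    obtain ⟨b, hb, hne⟩ := hA.exists_fixed_point_of_prime_dvd_card_of_fixed_point K hdvd h0fix
    have hbne : b.1 ≠ 0 := fun h => hne (Subtype.ext h.symm)
    obtain ⟨z₀, hz₀⟩ := Function.ne_iff.1 hbne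
    have hz₀O : z₀ ∈ O := by
      by_contra hz
      exact hz₀ (b.2.1 z₀ hz)
    have hconst : ∀ z ∈ O, b.1 z = b.1 z₀ := by
      intro z hz
      obtain ⟨a, ha⟩ := hOt z₀ hz₀O z hz
      have h1 := congrFun (congrArg Subtype.val (hb a)) z
      rw [hsm, ← ha] at h1
      rw [← ha, ← h1, map_inv]
      simp
    have hb1 := b.2.2
    have hb2 : orbMon O b.1 = (∏ z ∈ O, z) ^ (b.1 z₀).val := by
      unfold orbMon
      rw [← Finset.prod_pow]
      exact Finset.prod_congr rfl fun z hz => by rw [hconst z hz]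
    rw [hb2, map_pow] at hb1
    have hcop : Nat.Coprime p (b.1 z₀).val := by
      refine (Nat.Prime.coprime_iff_not_dvd hp).2 fun hd => hz₀ ?_
      exact (ZMod.val_eq_zero _).1 (Nat.eq_zero_of_dvd_of_lt hd (ZMod.val_lt _))
    have h3 := pow_gcd_eq_one.2 ⟨hpw (∏ z ∈ O, z), hb1⟩
    rw [Nat.Coprime.gcd_eq_one hcop, pow_one] at h3
    exact hTr ((hπ _).1 h3)
  -- functions with a fixed image are constant
  have hfixc : ∀ (c : M → ZMod p) (g : M), g ∈ actFixed act → (∀ z, z ∉ O → c z = 0) → π (orbMon O c) = π g →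
      ∀ z ∈ O, ∀ z' ∈ O, c z = c z' := by
    intro c g hg hc hcg z hz z' hz'
    have hact : ∀ a, (fun w => c (act a⁻¹ w)) + (-c) = 0 := by
      intro a
      refine hKbot _ ⟨fun w hw => ?_, ?_⟩
      · show c (act a⁻¹ w) + -c w = 0
        rw [hsupp a c hc w hw, hc w hw]
        simp
      · rw [hadd, hneg, ← orbMon_act act a O hOs]
        have h1 : π (act a (orbMon O c)) = π g := by
          have h2 : π ((orbMon O c) * g⁻¹) = 1 := by rw [map_mul, map_inv, hcg, mul_inv_cancel]
          have h3 := hactπ a _ h2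
          rw [map_mul, map_inv, hg a, map_mul, map_inv, mul_inv_eq_one] at h3
          exact h3
        rw [h1, hcg, mul_inv_cancel]
    obtain ⟨a, ha⟩ := hOt z hz z' hz'
    have h1 := congrFun (hact a) z'
    simp only [Pi.add_apply, Pi.neg_apply, Pi.zero_apply] at h1
    rw [← ha, map_inv] at h1
    simp only [MulAut.inv_apply_self] at h1
    rw [← ha]
    exact (add_neg_eq_zero.1 h1)
  -- the count
  have hOne : O.Nonempty := Finset.card_pos.1 (by omega)
  obtain ⟨y, hy⟩ := hOne
  set Y := Subgroup.closure (O : Set M) with hYd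
  let ext : (↥(O.erase y) → ZMod p) → (M → ZMod p) := fun d z => if h : z ∈ O.erase y then d ⟨z, h⟩ else 0
  have hextO : ∀ d z, z ∉ O → ext d z = 0 := fun d z hz => by
    have : z ∉ O.erase y := fun h => hz (Finset.mem_of_mem_erase h)
    exact dif_neg this
  have hexty : ∀ d, ext d y = 0 := fun d => by
    have : y ∉ O.erase y := Finset.notMem_erase y O
    exact dif_neg this
  have hmonY : ∀ c : M → ZMod p, orbMon O c ∈ Y := fun c =>
    Subgroup.prod_mem _ fun z hz => Subgroup.pow_mem _ (Subgroup.subset_closure hz) _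
  let Φ : (↥(O.erase y) → ZMod p) × ↥(Y ⊓ actFixed act) → ↥Y :=
    fun q => ⟨orbMon O (ext q.1) * q.2, Y.mul_mem (hmonY _) q.2.2.1⟩
  have hΦ : Function.Injective Φ := by
    rintro ⟨d, f⟩ ⟨d', f'⟩ h
    have h1 : orbMon O (ext d) * f = orbMon O (ext d') * f' := congrArg Subtype.val h
    have h2 : π (orbMon O (ext d + -ext d')) = π ((f' : M) * (f : M)⁻¹) := by
      have h3 := congrArg π h1
      rw [map_mul, map_mul] at h3
      rw [hadd, hneg, map_mul, map_inv]
      have h4 : π (orbMon O (ext d)) = π (orbMon O (ext d')) * π f' * (π f)⁻¹ := by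
        rw [← h3]
        group
      rw [h4, mul_comm (π (orbMon O (ext d'))), mul_right_comm, mul_inv_cancel_right]
    have hg : (f' : M) * (f : M)⁻¹ ∈ actFixed act := (actFixed act).mul_mem f'.2.2 ((actFixed act).inv_mem f.2.2)
    have hconst := hfixc _ _ hg (fun z hz => by simp [hextO d z hz, hextO d' z hz]) h2
    have hdd : ext d = ext d' := by
      funext z
      by_cases hz : z ∈ O
      · have h3 := hconst z hz y hy
        simp only [Pi.add_apply, Pi.neg_apply, hexty, neg_zero, add_zero] at h3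
        exact add_neg_eq_zero.1 h3
      · rw [hextO d z hz, hextO d' z hz]
    have hd : d = d' := by
      funext ⟨z, hz⟩
      have h3 := congrFun hdd z
      have h4 : ext d z = d ⟨z, hz⟩ := dif_pos hz
      have h5 : ext d' z = d' ⟨z, hz⟩ := dif_pos hz
      rw [h4, h5] at h3
      exact h3
    subst hd
    have hf : f = f' := Subtype.ext (mul_left_cancel h1)
    rw [hf]
  have hle := Nat.card_le_card_of_injective Φ hΦ
  rw [Nat.card_prod, Nat.card_fun, Nat.card_zmod] at hle
  have hc1 : Nat.card ↥(O.erase y) = O.card - 1 := by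
    rw [Nat.card_eq_fintype_card, Fintype.card_coe, Finset.card_erase_of_mem hy]
  rw [hc1] at hle
  have hpos : 0 < Nat.card ↥(Y ⊓ actFixed act) := Nat.card_pos
  have h5 : p ^ (O.card - 1) ≤ O.card := Nat.le_of_mul_le_mul_right (hle.trans hcount) hpos
  have h6 : 2 ^ (O.card - 1) ≤ p ^ (O.card - 1) := Nat.pow_le_pow_left hp.two_le _
  have h7 : ∀ n : ℕ, 3 ≤ n → n < 2 ^ (n - 1) := by
    intro n hn
    induction n, hn using Nat.le_induction with
    | base => norm_num
    | succ n hn ih =>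
      obtain ⟨m, rfl⟩ : ∃ m, n = m + 1 := ⟨n - 1, by omega⟩
      simp only [Nat.add_sub_cancel] at ih ⊢
      rw [pow_succ]
      omega
  have h8 := h7 _ hn
  omega

omit [Finite A] in
/-- Partial products over invariant sets. -/
theorem prod_fixed_congr [Fintype A] [DecidableEq M] (act : A →* MulAut M) (U : Subgroup M) :
    ∀ (n : ℕ) (S : Finset M), S.card ≤ n → (∀ a, ∀ z ∈ S, act a z ∈ S) →
      (∀ z ∈ S, (∃ a, act a z ≠ z) → ∏ w ∈ Finset.univ.image (fun a : A => act a z), w ∈ U) →
      (∏ z ∈ S, z) * (∏ z ∈ S.filter (fun z => ∀ a, act a z = z), z)⁻¹ ∈ U := by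
  classical
  intro n
  induction n with
  | zero =>
    intro S hS _ _
    have : S = ∅ := Finset.card_eq_zero.1 (by omega)
    subst this
    simp [U.one_mem]
  | succ n ih =>
    intro S hS hinv hT
    by_cases hall : ∀ z ∈ S, ∀ a, act a z = z
    · rw [Finset.filter_true_of_mem hall, mul_inv_cancel]
      exact U.one_mem
    push_neg at hall
    obtain ⟨z, hz, a₀, ha₀⟩ := hall
    set O := Finset.univ.image (fun a : A => act a z) with hO
    have hOS : O ⊆ S := by
      intro w hw
      obtain ⟨a, -, rfl⟩ := Finset.mem_image.1 hw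
      exact hinv a z hz
    have hzO : z ∈ O := Finset.mem_image.2 ⟨1, Finset.mem_univ _, by simp⟩
    have hOnf : ∀ w ∈ O, ¬ ∀ a, act a w = w := by
      intro w hw hfix
      obtain ⟨a, -, rfl⟩ := Finset.mem_image.1 hw
      apply ha₀
      have h1 := hfix (a * a₀ * a⁻¹)
      simp only [map_mul, map_inv, MulAut.mul_apply, MulAut.inv_apply_self] at h1
      exact (act a).injective h1
    have hcard : (S \ O).card ≤ n := by
      have h1 : (S \ O).card < S.card := Finset.card_lt_card (Finset.sdiff_ssubset hOS ⟨z, hzO⟩)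
      omega
    have hinv' : ∀ a, ∀ w ∈ S \ O, act a w ∈ S \ O := by
      intro a w hw
      obtain ⟨hwS, hwO⟩ := Finset.mem_sdiff.1 hw
      refine Finset.mem_sdiff.2 ⟨hinv a w hwS, fun hmem => hwO ?_⟩
      obtain ⟨b, -, hb⟩ := Finset.mem_image.1 hmem
      refine Finset.mem_image.2 ⟨a⁻¹ * b, Finset.mem_univ _, ?_⟩
      simp only [map_mul, map_inv, MulAut.mul_apply]
      rw [hb]
      simp
    have hT' : ∀ w ∈ S \ O, (∃ a, act a w ≠ w) → ∏ v ∈ Finset.univ.image (fun a : A => act a w), v ∈ U :=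
      fun w hw => hT w (Finset.mem_sdiff.1 hw).1
    have h1 := ih (S \ O) hcard hinv' hT'
    have h2 : ∏ w ∈ S, w = (∏ w ∈ S \ O, w) * ∏ w ∈ O, w := (Finset.prod_sdiff hOS).symm
    have h3 : S.filter (fun z => ∀ a, act a z = z) = (S \ O).filter (fun z => ∀ a, act a z = z) := by
      ext w
      simp only [Finset.mem_filter, Finset.mem_sdiff]
      constructor
      · rintro ⟨hw, hf⟩
        exact ⟨⟨hw, fun hO' => hOnf w hO' hf⟩, hf⟩
      · rintro ⟨⟨hw, -⟩, hf⟩
        exact ⟨hw, hf⟩
    rw [h2, h3, mul_comm (∏ w ∈ S \ O, w), mul_assoc]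
    exact U.mul_mem (hT z hz ⟨a₀, ha₀⟩) h1

omit [Finite A] [Fact p.Prime] in
/-- An automorphism acting trivially modulo `p`-th powers, of order prime to `p`, is trivial. -/
theorem eq_one_of_trivial_mod_pow [Fact p.Prime] (hM : IsPGroup p M) (α : MulAut M) (hα : Nat.Coprime (orderOf α) p)
    (h : ∀ w, α w * w⁻¹ ∈ powSub p M) : α = 1 := by
  classical
  have hp : p.Prime := Fact.out
  set m := orderOf α with hm
  have hmpos : 0 < m := orderOf_pos α
  have hpowcong : ∀ (i : ℕ) (w : M), (α ^ i) w * w⁻¹ ∈ powSub p M := by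
    intro i w
    induction i with
    | zero => simp [Subgroup.one_mem]
    | succ i ih =>
      have h1 : (α ^ (i + 1)) w = α ((α ^ i) w) := by
        rw [pow_succ']
        rfl
      have h2 : (α ^ (i + 1)) w * w⁻¹ = (α ((α ^ i) w) * ((α ^ i) w)⁻¹) * ((α ^ i) w * w⁻¹) := by
        rw [h1]
        group
      rw [h2]
      exact Subgroup.mul_mem _ (h _) ih
  -- the norm
  let N : M → M := fun w => ∏ i ∈ Finset.range m, (α ^ i) w
  have hNfix : ∀ w, α (N w) = N w := by
    intro w
    show α (∏ i ∈ Finset.range m, (α ^ i) w) = ∏ i ∈ Finset.range m, (α ^ i) w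
    rw [map_prod]
    have h1 : ∀ i, α ((α ^ i) w) = (α ^ (i + 1)) w := fun i => by
      rw [pow_succ']
      rfl
    simp only [h1]
    have e1 := Finset.prod_range_succ (fun i => (α ^ i) w) m
    have e2 := Finset.prod_range_succ' (fun i => (α ^ i) w) m
    rw [e1] at e2
    have h2 : (α ^ m) w = (α ^ 0) w := by
      rw [hm, pow_orderOf_eq_one]
      rfl
    rw [h2] at e2
    exact (mul_right_cancel e2).symm
  have hNcong : ∀ w, N w * (w ^ m)⁻¹ ∈ powSub p M := by
    intro w
    have h1 : N w * (w ^ m)⁻¹ = ∏ i ∈ Finset.range m, ((α ^ i) w * w⁻¹) := by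
      rw [Finset.prod_mul_distrib, Finset.prod_const, Finset.card_range, inv_pow]
    rw [h1]
    exact Subgroup.prod_mem _ fun i _ => hpowcong i w
  have hdecomp : ∀ w, ∃ c u, α c = c ∧ u ∈ powSub p M ∧ w = c * u := by
    intro w
    obtain ⟨k, hk⟩ := hM w
    have hord : Nat.Coprime m (orderOf w) := by
      have h1 : orderOf w ∣ p ^ k := orderOf_dvd_of_pow_eq_one hk
      exact Nat.Coprime.coprime_dvd_right h1 (Nat.Coprime.pow_right k hα)
    obtain ⟨m', hm'⟩ := exists_pow_eq_self_of_coprime hord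
    refine ⟨(N w) ^ m', (N w * (w ^ m)⁻¹)⁻¹ ^ m', ?_, Subgroup.pow_mem _ (Subgroup.inv_mem _ (hNcong w)) _, ?_⟩
    · rw [map_pow, hNfix]
    · rw [← mul_pow]
      have : N w * (N w * (w ^ m)⁻¹)⁻¹ = w ^ m := by
        rw [mul_inv, inv_inv, ← mul_assoc, mul_inv_cancel, one_mul]
      rw [this, hm']
  have hit : ∀ (k : ℕ) (w : M), ∃ c w', α c = c ∧ w = c * w' ^ p ^ k := by
    intro k
    induction k with
    | zero =>
      intro w
      exact ⟨1, w, map_one _, by simp⟩
    | succ k ih =>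
      intro w
      obtain ⟨c, w', hc, rfl⟩ := ih w
      obtain ⟨c', u, hc', ⟨v, rfl⟩, rfl⟩ := hdecomp w'
      refine ⟨c * c' ^ p ^ k, v, ?_, ?_⟩
      · rw [map_mul, map_pow, hc, hc']
      · rw [mul_pow, mul_assoc]
        congr 2
        show (v ^ p) ^ p ^ k = _
        rw [← pow_mul, pow_succ, mul_comm p]
  obtain ⟨n, hn⟩ := IsPGroup.iff_card.1 hM
  refine MulEquiv.ext fun w => ?_
  obtain ⟨c, w', hc, rfl⟩ := hit n w
  have : w' ^ p ^ n = 1 := by
    rw [← hn]
    exact pow_card_eq_one'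
  rw [this, mul_one, hc]
  rfl

end OrbitTrace

end Cfsg.Agent.Lib.Fusion
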